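import Groth.Agent.Lib.ASTwist

/-! First cohomology of the cyclic group of order `p` acting on `k[[X]]` by a twist of
`X ↦ X u`, `u^n (1 + X^n) = 1`. -/

namespace Groth.Agent.ASCohom

open PowerSeries Groth.Agent.ASTwist

universe u

variable {k : Type u} [Field k]

/-- The first `n` coefficients. -/
noncomputable def coords (n : ℕ) : PowerSeries k →ₗ[k] (Fin n → k) :=
  LinearMap.pi fun i => coeff (i : ℕ)

theorem coords_apply (n : ℕ) (f : PowerSeries k) (i : Fin n) : coords n f i = coeff (i : ℕ) f := rfl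

theorem coords_eq_zero_iff {n : ℕ} {f : PowerSeries k} : coords n f = 0 ↔ X ^ n ∣ f := by
  rw [X_pow_dvd_iff, funext_iff]
  exact ⟨fun h d hd => h ⟨d, hd⟩, fun h i => h i i.2⟩

theorem sig_congr {n : ℕ} {u : PowerSeries k} (hu : X ^ n ∣ u - 1)
    (σ : PowerSeries k →ₐ[k] PowerSeries k) (hσ : σ X = X * u) (h : PowerSeries k) :
    X ^ (n + 1) ∣ σ h - h := by
  obtain ⟨g, hg⟩ : X ^ (n + 1) ∣ h - ((trunc (n + 1) h : Polynomial k) : PowerSeries k) := by
    rw [X_pow_dvd_iff]
    intro m hm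
    simp [coeff_trunc, hm]
  have hp : ∀ q : Polynomial k, X ^ (n + 1) ∣ σ (q : PowerSeries k) - (q : PowerSeries k) := by
    intro q
    induction q using Polynomial.induction_on' with
    | add p q hp hq =>
      rw [Polynomial.coe_add, map_add, add_sub_add_comm]
      exact dvd_add hp hq
    | monomial i c =>
      rw [← Polynomial.C_mul_X_pow_eq_monomial, Polynomial.coe_mul, Polynomial.coe_C, Polynomial.coe_pow, Polynomial.coe_X]
      rw [map_mul, map_pow, hσ, show σ (C c : PowerSeries k) = C c from σ.commutes c, ← mul_sub]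
      refine dvd_mul_of_dvd_right ((?_ : X ^ (n + 1) ∣ (X * u : PowerSeries k) - X).trans (sub_dvd_pow_sub_pow _ _ i)) _
      rw [show (X * u : PowerSeries k) - X = X * (u - 1) by ring, pow_succ']
      exact mul_dvd_mul_left _ hu
  rw [eq_add_of_sub_eq hg, map_add, map_mul, map_pow, hσ, add_sub_add_comm]
  refine dvd_add (dvd_sub ?_ (dvd_mul_right _ _)) (hp _)
  exact dvd_mul_of_dvd_left (pow_dvd_pow_of_dvd (dvd_mul_right _ _) _) _

theorem expansion {n : ℕ} {u : PowerSeries k} (hnk : (n : k) ≠ 0) (hu1 : constantCoeff u = 1)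
    (hun : u ^ n * (1 + X ^ n) = 1) (U : (PowerSeries k)ˣ) (hU : (U : PowerSeries k) = u) (e : ℤ) :
    ∃ z : PowerSeries k, ((U ^ e : (PowerSeries k)ˣ) : PowerSeries k) - 1 = X ^ n * z ∧
      ∀ d < n, coeff d z = if d = 0 then (e : k) * -(n : k)⁻¹ else 0 := by
  obtain ⟨w, hw⟩ : X ^ n ∣ u - 1 :=
    dvd_sub_one_of_pow hnk hu1 ⟨-(u ^ n), by linear_combination hun⟩
  obtain ⟨z, hz, hzw⟩ := zpow_expand U w (by rw [hU]; exact hw) e
  refine ⟨z, hz, fun d hd => ?_⟩
  have h1 : X ^ n ∣ z - C ((e : k) * -(n : k)⁻¹) := by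
    rw [map_mul, map_intCast, show z - (e : PowerSeries k) * C (-(n : k)⁻¹) = (z - (e : PowerSeries k) * w) + (e : PowerSeries k) * (w - C (-(n : k)⁻¹)) by ring]
    exact dvd_add hzw (dvd_mul_of_dvd_right (w_congr hnk hun hw) _)
  have := X_pow_dvd_iff.1 h1 d hd
  rwa [map_sub, sub_eq_zero, coeff_C] at this

/-- The standing hypotheses. -/
structure Setup (k : Type u) [Field k] where
  p : ℕ
  hp : p.Prime
  hchar : CharP k p
  n : ℕ
  hn : 0 < n
  hpn : ¬ p ∣ n
  u : PowerSeries k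
  hu1 : constantCoeff u = 1
  hun : u ^ n * (1 + X ^ n) = 1
  U : (PowerSeries k)ˣ
  hU : (U : PowerSeries k) = u
  a : ℤ
  σ : PowerSeries k →ₐ[k] PowerSeries k
  hσX : σ X = X * u
  T : PowerSeries k →ₗ[k] PowerSeries k
  hT : ∀ h, T h = ((U ^ a : (PowerSeries k)ˣ) : PowerSeries k) * σ h
  hTp : T ^ p = 1

namespace Setup

variable (S : Setup k)

theorem hnk : (S.n : k) ≠ 0 := by
  have := S.hchar
  rw [Ne, CharP.cast_eq_zero_iff k S.p]
  exact S.hpn

theorem hu : X ^ S.n ∣ S.u - 1 :=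
  dvd_sub_one_of_pow S.hnk S.hu1 ⟨-(S.u ^ S.n), by linear_combination S.hun⟩

/-- `T - 1`. -/
noncomputable def D : PowerSeries k →ₗ[k] PowerSeries k := S.T - 1

theorem D_step (i : ℕ) (f : PowerSeries k) (hf : X ^ i ∣ f) :
    X ^ (i + S.n) ∣ S.D f ∧ coeff (i + S.n) (S.D f) = ((S.a + i : ℤ) : k) * -(S.n : k)⁻¹ * coeff i f := by
  obtain ⟨g, rfl⟩ := hf
  obtain ⟨z, hz, hz0⟩ := expansion S.hnk S.hu1 S.hun S.U S.hU (S.a + i)
  obtain ⟨t, ht⟩ := sig_congr S.hu S.σ S.hσX g
  have hD : S.D (X ^ i * g) = X ^ (i + S.n) * (X * t + z * S.σ g) := by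
    show S.T (X ^ i * g) - X ^ i * g = _
    rw [zpow_add, zpow_natCast, Units.val_mul, Units.val_pow_eq_pow_val, S.hU] at hz
    rw [S.hT, map_mul, map_pow, S.hσX, pow_add]
    linear_combination (X ^ i * S.σ g) * hz + (X ^ i : PowerSeries k) * ht
  have hcc : constantCoeff (S.σ g) = constantCoeff g := by
    rw [eq_add_of_sub_eq ht]; simp
  refine ⟨⟨_, hD⟩, ?_⟩
  rw [hD, coeff_X_pow_mul', if_pos le_rfl, Nat.sub_self, coeff_X_pow_mul', if_pos le_rfl, Nat.sub_self]
  simp only [coeff_zero_eq_constantCoeff, map_add, map_mul, constantCoeff_X, zero_mul, zero_add, hcc]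
  rw [← coeff_zero_eq_constantCoeff, hz0 0 S.hn, if_pos rfl]

theorem D_pow_step (i j : ℕ) (f : PowerSeries k) (hf : X ^ i ∣ f) :
    X ^ (i + j * S.n) ∣ (S.D ^ j) f ∧ coeff (i + j * S.n) ((S.D ^ j) f) =
      (∏ l ∈ Finset.range j, ((S.a + i + l * S.n : ℤ) : k) * -(S.n : k)⁻¹) * coeff i f := by
  induction j with
  | zero => simp [hf]
  | succ j ih =>
    obtain ⟨h1, h2⟩ := S.D_step _ _ ih.1
    rw [pow_succ' S.D, Module.End.mul_apply, show i + (j + 1) * S.n = i + j * S.n + S.n by ring]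
    refine ⟨h1, ?_⟩
    rw [h2, ih.2, Finset.prod_range_succ]
    push_cast
    ring

/-- The kernel of the norm. -/
noncomputable def Z : Submodule k (PowerSeries k) := LinearMap.ker (S.D ^ (S.p - 1))

theorem geom_sum_eq : ∑ j ∈ Finset.range S.p, S.T ^ j = S.D ^ (S.p - 1) := by
  have := S.hchar
  have : Fact S.p.Prime := ⟨S.hp⟩
  have hpoly : ∑ j ∈ Finset.range S.p, (Polynomial.X : Polynomial k) ^ j = (Polynomial.X - 1) ^ (S.p - 1) := by
    refine mul_right_cancel₀ (Polynomial.X_sub_C_ne_zero (1 : k)) ?_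
    rw [map_one, geom_sum_mul, ← pow_succ, Nat.sub_add_cancel S.hp.one_le, sub_pow_char, one_pow]
  simpa [map_sum, D] using congrArg (Polynomial.aeval S.T) hpoly

theorem range_le_Z : LinearMap.range S.D ≤ S.Z := by
  have := S.hchar
  have : Fact S.p.Prime := ⟨S.hp⟩
  have hDp : S.D ^ S.p = 0 := by
    have hpoly : ((Polynomial.X : Polynomial k) - 1) ^ S.p = Polynomial.X ^ S.p - 1 := by
      rw [sub_pow_char, one_pow]
    simpa [D, S.hTp] using congrArg (Polynomial.aeval S.T) hpoly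
  rintro _ ⟨f, rfl⟩
  show (S.D ^ (S.p - 1)) (S.D f) = 0
  rw [← Module.End.mul_apply, ← pow_succ, Nat.sub_add_cancel S.hp.one_le, hDp]
  rfl

theorem lead (i : ℕ) (f : PowerSeries k) (hf : f ∈ S.Z) (hfi : X ^ i ∣ f)
    (hc : (S.p : ℤ) ∣ S.a + i - S.n) : coeff i f = 0 := by
  have := S.hchar
  have h := (S.D_pow_step i (S.p - 1) f hfi).2
  rw [LinearMap.mem_ker.1 hf, map_zero, eq_comm, mul_eq_zero] at h
  refine h.resolve_left (Finset.prod_ne_zero_iff.2 fun l hl => mul_ne_zero ?_ (neg_ne_zero.2 (inv_ne_zero S.hnk)))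
  have e : ((S.a + i + l * S.n : ℤ) : k) = ((l + 1 : ℕ) : k) * (S.n : k) := by
    have h0 : ((S.a + i - S.n : ℤ) : k) = 0 := (CharP.intCast_eq_zero_iff k S.p _).2 hc
    push_cast at h0 ⊢
    linear_combination h0
  rw [e]
  refine mul_ne_zero ?_ S.hnk
  rw [Ne, CharP.cast_eq_zero_iff k S.p]
  intro hd
  have := Nat.le_of_dvd (Nat.succ_pos _) hd
  have := Finset.mem_range.1 hl
  omega

theorem mem_range_of_dvd (f : PowerSeries k) (hf : f ∈ S.Z) (hfn : X ^ S.n ∣ f) :
    f ∈ LinearMap.range S.D := by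
  classical
  have := S.hchar
  let step : ℕ → PowerSeries k → k := fun j r =>
    coeff (j + S.n) r * (((S.a + j : ℤ) : k) * -(S.n : k)⁻¹)⁻¹
  let rr : ℕ → PowerSeries k := fun j => Nat.rec f (fun i r => r - S.D (monomial i (step i r))) j
  have hrr : ∀ j, rr j ∈ S.Z ∧ X ^ (j + S.n) ∣ rr j := by
    intro j
    induction j with
    | zero => exact ⟨hf, by rwa [zero_add]⟩
    | succ j ih =>
      show rr j - S.D _ ∈ S.Z ∧ X ^ (j + 1 + S.n) ∣ rr j - S.D _
      refine ⟨sub_mem ih.1 (S.range_le_Z ⟨_, rfl⟩), ?_⟩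
      have hm : X ^ j ∣ (monomial j (step j (rr j)) : PowerSeries k) := by
        rw [X_pow_dvd_iff]
        intro d hd
        rw [coeff_monomial, if_neg hd.ne]
      obtain ⟨h1, h2⟩ := S.D_step j _ hm
      rw [X_pow_dvd_iff]
      intro d hd
      rcases Nat.lt_or_ge d (j + S.n) with hlt | hge
      · rw [map_sub, X_pow_dvd_iff.1 ih.2 d hlt, X_pow_dvd_iff.1 h1 d hlt, sub_zero]
      · obtain rfl : d = j + S.n := by omega
        rw [map_sub, h2, coeff_monomial, if_pos rfl]
        by_cases hz : ((S.a + j : ℤ) : k) * -(S.n : k)⁻¹ = 0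
        · rw [hz, zero_mul, sub_zero]
          refine S.lead _ _ ih.1 ih.2 ?_
          rw [mul_eq_zero, or_iff_left (neg_ne_zero.2 (inv_ne_zero S.hnk)), CharP.intCast_eq_zero_iff k S.p] at hz
          push_cast
          rwa [show S.a + ((j : ℤ) + S.n) - S.n = S.a + j by ring]
        · simp only [step]
          rw [mul_left_comm, mul_inv_cancel₀ hz, mul_one, sub_self]
  refine ⟨PowerSeries.mk fun j => step j (rr j), ?_⟩
  have key : ∀ j, rr j = f - S.D ((trunc j (PowerSeries.mk fun i => step i (rr i)) : Polynomial k) : PowerSeries k) := by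
    intro j
    induction j with
    | zero => simp [rr]
    | succ j ih =>
      rw [trunc_succ, Polynomial.coe_add, map_add, Polynomial.coe_monomial, coeff_mk, ← sub_sub, ← ih]
  refine PowerSeries.ext fun d => ?_
  obtain ⟨q, hq⟩ : X ^ (d + 1) ∣ (PowerSeries.mk fun i => step i (rr i)) - ((trunc (d + 1) (PowerSeries.mk fun i => step i (rr i)) : Polynomial k) : PowerSeries k) := by
    rw [X_pow_dvd_iff]
    intro m hm
    simp [coeff_trunc, hm]
  conv_lhs => rw [eq_add_of_sub_eq hq, map_add, map_add,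
    X_pow_dvd_iff.1 (S.D_step (d + 1) _ (dvd_mul_right _ q)).1 d (by omega), zero_add]
  have := X_pow_dvd_iff.1 (hrr (d + 1)).2 d (by omega)
  have h2 := (congrArg (coeff d) (key (d + 1))).symm.trans this
  rw [map_sub, sub_eq_zero] at h2
  exact h2.symm

theorem sigma_iterate (f : PowerSeries k) : S.σ^[S.p] f = f := by
  have key : ∀ j h, (S.T ^ j) (f * h) = S.σ^[j] f * (S.T ^ j) h := by
    intro j
    induction j with
    | zero => intro h; simp
    | succ j ih =>
      intro h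
      rw [pow_succ' S.T, Module.End.mul_apply, Module.End.mul_apply, ih, Function.iterate_succ_apply', S.hT, S.hT, map_mul]
      ring
  have := key S.p 1
  simpa [S.hTp] using this.symm

theorem exists_basic (i : ℕ) (hi : i < S.n) :
    ∃ c ∈ S.Z, ∀ d < S.n + i, coeff d c = if d = i then ((S.a + i - S.n : ℤ) : k) * -(S.n : k)⁻¹ else 0 := by
  set e : ℤ := S.a + i - S.n with he
  obtain ⟨z, hz, hz0⟩ := expansion S.hnk S.hu1 S.hun S.U S.hU e
  refine ⟨X ^ i * z, ?_, fun d hd => ?_⟩
  swap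
  · rw [coeff_X_pow_mul']
    by_cases h : i ≤ d
    · rw [if_pos h, hz0 _ (by omega)]
      exact if_congr (by omega) rfl rfl
    · rw [if_neg h, if_neg (by omega)]
  set m := S.n - i with hm
  let T' : PowerSeries k →ₗ[k] PowerSeries k :=
    LinearMap.mulLeft k ((S.U ^ e : (PowerSeries k)ˣ) : PowerSeries k) ∘ₗ S.σ.toLinearMap
  have hT' : ∀ h, T' h = ((S.U ^ e : (PowerSeries k)ˣ) : PowerSeries k) * S.σ h := fun h => rfl
  have hinter : ∀ h, T' (X ^ m * h) = X ^ m * S.T h := by
    intro h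
    rw [hT', S.hT, show S.a = e + (m : ℤ) by omega, zpow_add, zpow_natCast, Units.val_mul,
      Units.val_pow_eq_pow_val, S.hU, map_mul, map_pow, S.hσX]
    ring
  have hiter : ∀ j h, (T' ^ j) (X ^ m * h) = X ^ m * (S.T ^ j) h := by
    intro j
    induction j with
    | zero => intro h; simp
    | succ j ih => intro h; rw [pow_succ' T', pow_succ' S.T, Module.End.mul_apply, Module.End.mul_apply, ih, hinter]
  have hsemi : ∀ j f h, (T' ^ j) (f * h) = S.σ^[j] f * (T' ^ j) h := by
    intro j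
    induction j with
    | zero => intro f h; simp
    | succ j ih =>
      intro f h
      rw [pow_succ' T', Module.End.mul_apply, Module.End.mul_apply, ih, Function.iterate_succ_apply', hT', hT', map_mul]
      ring
  have hT'p : (T' ^ S.p) 1 = 1 := by
    refine mul_left_cancel₀ (pow_ne_zero m (X_ne_zero : (X : PowerSeries k) ≠ 0)) ?_
    have h1 := hiter S.p 1
    rw [hsemi, sigma_iterate, S.hTp] at h1
    simpa using h1
  show (S.D ^ (S.p - 1)) (X ^ i * z) = 0
  refine mul_left_cancel₀ (pow_ne_zero m (X_ne_zero : (X : PowerSeries k) ≠ 0)) ?_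
  rw [← S.geom_sum_eq, LinearMap.sum_apply, Finset.mul_sum, mul_zero]
  have hXc : X ^ m * (X ^ i * z) = T' 1 - 1 := by
    rw [← mul_assoc, ← pow_add, show m + i = S.n by omega, ← hz, hT', map_one, mul_one]
  rw [Finset.sum_congr rfl fun j _ => (hiter j (X ^ i * z)).symm.trans (congrArg (T' ^ j) hXc)]
  rw [Finset.sum_congr rfl fun j _ => show (T' ^ j) (T' 1 - 1) = (T' ^ (j + 1)) 1 - (T' ^ j) 1 by
    rw [map_sub, pow_succ T', Module.End.mul_apply]]
  rw [Finset.sum_range_sub (fun j => (T' ^ j) 1), hT'p, pow_zero, Module.End.one_apply, sub_self]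

theorem coords_mem_range_iff (f : PowerSeries k) (hf : f ∈ S.Z) :
    coords S.n f = 0 ↔ f ∈ LinearMap.range S.D := by
  rw [coords_eq_zero_iff]
  refine ⟨S.mem_range_of_dvd f hf, ?_⟩
  rintro ⟨h, rfl⟩
  have := (S.D_step 0 h (by simp)).1
  rwa [zero_add] at this

/-- The indices `i < n` with `a + i` not congruent to `n` modulo `p`. -/
def idx : Finset (Fin S.n) := Finset.univ.filter fun i => ¬ (S.p : ℤ) ∣ S.a + i - S.n

theorem mem_idx (i : Fin S.n) : i ∈ S.idx ↔ ¬ (S.p : ℤ) ∣ S.a + i - S.n := by simp [idx]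

theorem decompose :
    ∃ c : Fin S.n → PowerSeries k, (∀ i, c i ∈ S.Z) ∧
      (∀ i : Fin S.n, ∀ d < S.n + i, coeff d (c i) = if d = (i : ℕ) then ((S.a + i - S.n : ℤ) : k) * -(S.n : k)⁻¹ else 0) ∧
      ∀ f ∈ S.Z, ∃ (r : Fin S.n → k) (h : PowerSeries k), f = (∑ i ∈ S.idx, r i • c i) + S.D h := by
  classical
  have := S.hchar
  choose c hc1 hc2 using fun i : Fin S.n => S.exists_basic i i.2
  refine ⟨c, hc1, hc2, fun f hf => ?_⟩
  let r : Fin S.n → k := fun i => coeff (i : ℕ) f * (((S.a + i - S.n : ℤ) : k) * -(S.n : k)⁻¹)⁻¹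
  set f' := f - ∑ i ∈ S.idx, r i • c i with hf'
  have hZ : f' ∈ S.Z := sub_mem hf (sum_mem fun i _ => S.Z.smul_mem _ (hc1 i))
  have hd : ∀ N ≤ S.n, X ^ N ∣ f' := by
    intro N hN
    induction N with
    | zero => simp
    | succ d ih =>
      have ih' := ih (by omega)
      rw [X_pow_dvd_iff]
      intro e he
      rcases Nat.lt_or_ge e d with h | h
      · exact X_pow_dvd_iff.1 ih' e h
      · obtain rfl : e = d := by omega
        by_cases hS : (S.p : ℤ) ∣ S.a + e - S.n
        · exact S.lead e f' hZ ih' hS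
        · have hmem : (⟨e, by omega⟩ : Fin S.n) ∈ S.idx := (S.mem_idx _).2 hS
          rw [hf', map_sub, map_sum, Finset.sum_eq_single (⟨e, by omega⟩ : Fin S.n) (fun j _ hj => ?_) (fun h => absurd hmem h)]
          · rw [map_smul, hc2 _ e (by simp; omega), if_pos rfl, smul_eq_mul]
            simp only [r]
            rw [inv_mul_cancel_right₀, sub_self]
            refine mul_ne_zero ?_ (neg_ne_zero.2 (inv_ne_zero S.hnk))
            rwa [Ne, CharP.intCast_eq_zero_iff k S.p]
          · rw [map_smul, hc2 j e (by omega), if_neg (fun h => hj (Fin.ext h.symm)), smul_zero]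
  obtain ⟨h, hh⟩ := S.mem_range_of_dvd f' hZ (hd _ le_rfl)
  exact ⟨r, h, by rw [hh, hf']; abel⟩

theorem map_coords_Z :
    S.Z.map (coords S.n) = Submodule.span k ((fun i : Fin S.n => (Pi.single i 1 : Fin S.n → k)) '' S.idx) := by
  classical
  have := S.hchar
  obtain ⟨c, hc1, hc2, hc3⟩ := S.decompose
  have hcc : ∀ i, coords S.n (c i) = (((S.a + i - S.n : ℤ) : k) * -(S.n : k)⁻¹) • (Pi.single i 1 : Fin S.n → k) := by
    intro i
    funext j
    rw [coords_apply, hc2 i j (by omega), Pi.smul_apply, Pi.single_apply]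
    simp [Fin.ext_iff]
  refine le_antisymm ?_ (Submodule.span_le.2 ?_)
  · rintro _ ⟨f, hf, rfl⟩
    obtain ⟨r, h, rfl⟩ := hc3 f hf
    rw [map_add, (S.coords_mem_range_iff _ (S.range_le_Z ⟨h, rfl⟩)).2 ⟨h, rfl⟩, add_zero, map_sum]
    refine sum_mem fun i hi => ?_
    rw [map_smul, hcc]
    exact Submodule.smul_mem _ _ (Submodule.smul_mem _ _ (Submodule.subset_span ⟨i, hi, rfl⟩))
  · rintro _ ⟨i, hi, rfl⟩
    refine ⟨((((S.a + i - S.n : ℤ) : k) * -(S.n : k)⁻¹)⁻¹) • c i, S.Z.smul_mem _ (hc1 i), ?_⟩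
    rw [map_smul, hcc, smul_smul, inv_mul_cancel₀, one_smul]
    refine mul_ne_zero ?_ (neg_ne_zero.2 (inv_ne_zero S.hnk))
    rw [Ne, CharP.intCast_eq_zero_iff k S.p]
    exact (S.mem_idx i).1 hi

end Setup

theorem finrank_span_single {n : ℕ} (s : Finset (Fin n)) :
    Module.finrank k (Submodule.span k ((fun i : Fin n => (Pi.single i 1 : Fin n → k)) '' s)) = s.card := by
  classical
  have h : LinearIndependent k (fun i : (s : Set (Fin n)) => (Pi.single (i : Fin n) 1 : Fin n → k)) := by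
    have := (Pi.basisFun k (Fin n)).linearIndependent.comp (fun i : (s : Set (Fin n)) => (i : Fin n)) Subtype.val_injective
    convert this using 1
    funext i
    simp
  have := finrank_span_eq_card h
  rw [show (fun i : Fin n => (Pi.single i 1 : Fin n → k)) '' (s : Set (Fin n)) = Set.range (fun i : (s : Set (Fin n)) => (Pi.single (i : Fin n) 1 : Fin n → k)) from Set.image_eq_range _ _, this]
  simp

/-! ### Cocycles of a cyclic group -/

section Cocycle

variable {G : Type u} [Group G] [Finite G] (g : G) (hg : ∀ x : G, x ∈ Subgroup.zpowers g)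
  {V : Type u} [AddCommGroup V] [Module k V] (ρ : Representation k G V)

theorem cocycle_pow (x : groupCohomology.cocycles₁ (Rep.of ρ)) (j : ℕ) :
    x.1 (g ^ j) = ∑ i ∈ Finset.range j, (ρ g ^ i) (x.1 g) := by
  induction j with
  | zero => simpa using groupCohomology.cocycles₁_map_one x
  | succ j ih =>
    rw [pow_succ g, Finset.sum_range_succ, ← ih]
    have := (groupCohomology.mem_cocycles₁_iff x.1).1 x.2 (g ^ j) g
    rw [show x.1 (g ^ j * g) = (ρ (g ^ j)) (x.1 g) + x.1 (g ^ j) from this, map_pow, add_comm]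

/-- Evaluation of a cocycle at `g`. -/
noncomputable def ev : groupCohomology.cocycles₁ (Rep.of ρ) →ₗ[k] V where
  toFun x := x.1 g
  map_add' _ _ := rfl
  map_smul' _ _ := rfl

include hg in
theorem exists_pow (x : G) : ∃ j : ℕ, g ^ j = x :=
  (Submonoid.mem_powers_iff _ _).1 (mem_powers_iff_mem_zpowers.2 (hg x))

include hg in
theorem range_ev (p : ℕ) (hp : Nat.card G = p) :
    LinearMap.range (ev g ρ) = LinearMap.ker (∑ i ∈ Finset.range p, ρ g ^ i) := by
  classical
  have ho : orderOf g = p := (orderOf_eq_card_of_forall_mem_zpowers hg).trans hp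
  ext v
  constructor
  · rintro ⟨x, rfl⟩
    rw [LinearMap.mem_ker, LinearMap.sum_apply]
    have := cocycle_pow g ρ x p
    rw [← ho, pow_orderOf_eq_one] at this
    rw [← ho]
    exact this.symm.trans (groupCohomology.cocycles₁_map_one x)
  · intro hv
    rw [LinearMap.mem_ker, LinearMap.sum_apply] at hv
    choose j hj using exists_pow g hg
    let F : ℕ → V := fun m => ∑ i ∈ Finset.range m, (ρ g ^ i) v
    have hadd : ∀ a b, F (a + b) = (ρ g ^ a) (F b) + F a := by
      intro a b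
      simp only [F]
      rw [Finset.sum_range_add, map_sum, add_comm]
      simp only [pow_add, Module.End.mul_apply]
    have hper : ∀ a q, F (a + p * q) = F a := by
      intro a q
      induction q with
      | zero => simp
      | succ q ih =>
        rw [show a + p * (q + 1) = (a + p * q) + p by ring, hadd, ih, show F p = 0 from hv, map_zero, zero_add]
    have hcongr : ∀ a b, g ^ a = g ^ b → F a = F b := by
      intro a b h
      rw [pow_eq_pow_iff_modEq, ho] at h
      have ha := hper (a % p) (a / p)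
      have hb := hper (b % p) (b / p)
      rw [Nat.mod_add_div] at ha hb
      rw [ha, hb, show a % p = b % p from h]
    refine ⟨⟨fun x => F (j x), (groupCohomology.mem_cocycles₁_iff _).2 fun x y => ?_⟩, ?_⟩
    · show F (j (x * y)) = ρ x (F (j y)) + F (j x)
      rw [hcongr (j (x * y)) (j x + j y) (by rw [pow_add, hj, hj, hj]), hadd, ← map_pow, hj]
    · show F (j g) = v
      rw [hcongr (j g) 1 (by rw [hj, pow_one])]
      simp [F]

include hg in
theorem mem_coboundaries_iff (x : groupCohomology.cocycles₁ (Rep.of ρ)) :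
    x.1 ∈ groupCohomology.coboundaries₁ (Rep.of ρ) ↔ ev g ρ x ∈ LinearMap.range (ρ g - 1) := by
  constructor
  · rintro ⟨m, hm⟩
    exact ⟨m, congrFun hm g⟩
  · rintro ⟨m, hm⟩
    refine ⟨m, funext fun y => ?_⟩
    obtain ⟨j, rfl⟩ := exists_pow g hg y
    rw [cocycle_pow g ρ x j]
    show ρ (g ^ j) m - m = _
    rw [map_pow, show x.1 g = ρ g m - m from hm.symm]
    rw [Finset.sum_congr rfl fun i _ => show (ρ g ^ i) (ρ g m - m) = (ρ g ^ (i + 1)) m - (ρ g ^ i) m by
      rw [map_sub, pow_succ (ρ g), Module.End.mul_apply], Finset.sum_range_sub (fun i => (ρ g ^ i) m)]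
    simp

include hg in
theorem finrank_range_H1 {W : Type u} [AddCommGroup W] [Module k W] [Module.Finite k W]
    {P : Type u} [AddCommGroup P] [Module k P]
    (Φ : P →ₗ[k] groupCohomology.cocycles₁ (Rep.of ρ)) (Ψ : V →ₗ[k] W)
    (hΨ : ∀ x : groupCohomology.cocycles₁ (Rep.of ρ), Ψ (ev g ρ x) = 0 ↔ ev g ρ x ∈ LinearMap.range (ρ g - 1)) :
    Module.Finite k (LinearMap.range ((groupCohomology.H1π (Rep.of ρ)).hom ∘ₗ Φ)) ∧
      Module.finrank k (LinearMap.range ((groupCohomology.H1π (Rep.of ρ)).hom ∘ₗ Φ)) =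
        Module.finrank k (LinearMap.range (Ψ ∘ₗ ev g ρ ∘ₗ Φ)) := by
  set A := (groupCohomology.H1π (Rep.of ρ)).hom ∘ₗ Φ
  set B := Ψ ∘ₗ ev g ρ ∘ₗ Φ
  have hk : LinearMap.ker A = LinearMap.ker B := by
    ext y
    rw [LinearMap.mem_ker, LinearMap.mem_ker, LinearMap.comp_apply, LinearMap.comp_apply, LinearMap.comp_apply,
      hΨ, ← mem_coboundaries_iff g hg]
    exact groupCohomology.H1π_eq_zero_iff (Φ y)
  let e : LinearMap.range A ≃ₗ[k] LinearMap.range B :=
    A.quotKerEquivRange.symm.trans ((Submodule.quotEquivOfEq _ _ hk).trans B.quotKerEquivRange)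
  exact ⟨Module.Finite.equiv e.symm, e.finrank_eq⟩

end Cocycle

theorem ediv_sub_one {p : ℕ} (hp : 0 < p) (x : ℤ) :
    x / (p : ℤ) - (x - 1) / (p : ℤ) = if (p : ℤ) ∣ x then 1 else 0 := by
  have h := Int.emod_add_mul_ediv x p
  have h0 := Int.emod_nonneg x (show (p : ℤ) ≠ 0 by omega)
  have h1 := Int.emod_lt_of_pos x (show (0 : ℤ) < p by omega)
  split_ifs with hd
  · rw [Int.emod_eq_zero_of_dvd hd, zero_add] at h
    have : (x - 1) / (p : ℤ) = x / p - 1 :=
      ((Int.ediv_emod_unique (a := x - 1) (b := (p : ℤ)) (r := (p : ℤ) - 1) (q := x / p - 1)) (by omega)).2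
        ⟨by linear_combination h, by omega, by omega⟩ |>.1
    omega
  · have hne : x % (p : ℤ) ≠ 0 := fun e => hd (Int.dvd_of_emod_eq_zero e)
    have : (x - 1) / (p : ℤ) = x / p :=
      ((Int.ediv_emod_unique (a := x - 1) (b := (p : ℤ)) (r := x % p - 1) (q := x / p)) (by omega)).2
        ⟨by linear_combination h, by omega, by omega⟩ |>.1
    omega

theorem card_range_filter {p : ℕ} (hp : 0 < p) (c : ℤ) (n : ℕ) :
    (((Finset.range n).filter fun i : ℕ => (p : ℤ) ∣ c - i).card : ℤ) = c / (p : ℤ) - (c - n) / (p : ℤ) := by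
  induction n with
  | zero => simp
  | succ n ih =>
    have := ediv_sub_one hp (c - n)
    rw [Finset.range_add_one, Finset.filter_insert, show c - ((n + 1 : ℕ) : ℤ) = c - n - 1 by push_cast; ring]
    split_ifs with hd
    · rw [if_pos hd] at this
      rw [Finset.card_insert_of_notMem (by simp), Nat.cast_succ, ih]
      omega
    · rw [if_neg hd] at this
      omega

end Groth.Agent.ASCohom
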