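import Mathlib

/-! The substitution `X ↦ X u` on `k[[X]]` with `u^n (1 + X^n) = 1` in characteristic `p`. -/

namespace Groth.Agent.ASTwist

open PowerSeries

universe u

variable {k : Type u} [Field k]

theorem exists_root {n : ℕ} (hn : (n : k) ≠ 0) (v : PowerSeries k) (hv : constantCoeff v = 0) :
    ∃ r : PowerSeries k, r ^ n = 1 + v ∧ constantCoeff r = 1 := by
  set P : PowerSeries k := (1 + X) ^ n - 1 with hP
  have hP0 : constantCoeff P = 0 := by simp [hP]
  have hP1 : coeff 1 P = n := by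
    simp [hP, coeff_one_pow]
  let : Invertible (coeff 1 P) := invertibleOfNonzero (by rw [hP1]; exact hn)
  set Q := substInv P with hQ
  have hsQ : HasSubst Q := HasSubst.substInv P
  have hroot : (1 + Q) ^ n = 1 + X := by
    have h := subst_substInv_right P hP0
    rw [← coe_substAlgHom hsQ, hP, map_sub, map_pow, map_add, map_one, substAlgHom_X, sub_eq_iff_eq_add] at h
    rw [h, add_comm]
  have hsv : HasSubst v := HasSubst.of_constantCoeff_zero' hv
  refine ⟨substAlgHom hsv (1 + Q), by rw [← map_pow, hroot, map_add, map_one, substAlgHom_X], ?_⟩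
  obtain ⟨w, hw⟩ := X_dvd_iff.2 (show constantCoeff Q = 0 from constantCoeff_substInv P)
  simp [hw, substAlgHom_X, hv]

theorem root_unique {n : ℕ} (hn : (n : k) ≠ 0) {a b : PowerSeries k} (ha : constantCoeff a = 1)
    (hb : constantCoeff b = 1) (h : a ^ n = b ^ n) : a = b := by
  have hz := geom_sum₂_mul a b n
  rw [h, sub_self] at hz
  rcases mul_eq_zero.1 hz with h' | h'
  · have := congrArg constantCoeff h'
    simp [map_sum, ha, hb] at this
    exact absurd this hn
  · exact sub_eq_zero.1 h'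

theorem dvd_sub_one_of_pow {n N : ℕ} (hn : (n : k) ≠ 0) {a : PowerSeries k} (ha : constantCoeff a = 1)
    (h : X ^ N ∣ a ^ n - 1) : X ^ N ∣ a - 1 := by
  rw [← geom_sum_mul] at h
  have hu : IsUnit (∑ i ∈ Finset.range n, a ^ i) := by
    rw [isUnit_iff_constantCoeff, map_sum]
    simp [ha, hn]
  exact (IsUnit.dvd_mul_left hu).1 h

variable {n : ℕ} {u : PowerSeries k}

theorem subst_sub_self_dvd (hu : X ^ n ∣ u - 1) (hs : HasSubst (X * u : PowerSeries k)) (h : PowerSeries k) :
    X ^ n ∣ substAlgHom hs h - h := by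
  obtain ⟨g, hg⟩ : X ^ n ∣ h - ((trunc n h : Polynomial k) : PowerSeries k) := by
    rw [X_pow_dvd_iff]
    intro m hm
    simp [coeff_trunc, hm]
  have hp : ∀ q : Polynomial k, X ^ n ∣ substAlgHom hs (q : PowerSeries k) - (q : PowerSeries k) := by
    intro q
    induction q using Polynomial.induction_on' with
    | add p q hp hq =>
      rw [Polynomial.coe_add, map_add, add_sub_add_comm]
      exact dvd_add hp hq
    | monomial i c =>
      rw [← Polynomial.C_mul_X_pow_eq_monomial, Polynomial.coe_mul, Polynomial.coe_C, Polynomial.coe_pow, Polynomial.coe_X]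
      rw [map_mul, map_pow, substAlgHom_X, show substAlgHom hs (C c : PowerSeries k) = C c from (substAlgHom hs).commutes c, ← mul_sub]
      refine dvd_mul_of_dvd_right ((?_ : X ^ n ∣ (X * u : PowerSeries k) - X).trans (sub_dvd_pow_sub_pow _ _ i)) _
      rw [show (X * u : PowerSeries k) - X = X * (u - 1) by ring]
      exact dvd_mul_of_dvd_right hu _
  rw [eq_add_of_sub_eq hg, map_add, map_mul, map_pow, substAlgHom_X, add_sub_add_comm]
  refine dvd_add (dvd_sub ?_ (dvd_mul_right _ _)) (hp _)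
  exact dvd_mul_of_dvd_left (pow_dvd_pow_of_dvd (dvd_mul_right _ _) n) _

theorem zpow_expand (U : (PowerSeries k)ˣ) (w : PowerSeries k) (hw : (U : PowerSeries k) - 1 = X ^ n * w) (e : ℤ) :
    ∃ z : PowerSeries k, ((U ^ e : (PowerSeries k)ˣ) : PowerSeries k) - 1 = X ^ n * z ∧ X ^ n ∣ z - (e : PowerSeries k) * w := by
  induction e using Int.induction_on with
  | zero => exact ⟨0, by simp, by simp⟩
  | succ i ih =>
    obtain ⟨z, hz, z', hz'⟩ := ih
    refine ⟨z * U + w, ?_, z' + z * w, ?_⟩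
    · rw [zpow_add_one, Units.val_mul]
      linear_combination (U : PowerSeries k) * hz + hw
    · push_cast at hz' ⊢
      linear_combination hz' + z * hw
  | pred i ih =>
    obtain ⟨z, hz, z', hz'⟩ := ih
    refine ⟨(z - w) * ((U⁻¹ : (PowerSeries k)ˣ) : PowerSeries k), ?_, z' - (z - w) * w * ((U⁻¹ : (PowerSeries k)ˣ) : PowerSeries k), ?_⟩
    · rw [zpow_sub_one, Units.val_mul]
      linear_combination ((U⁻¹ : (PowerSeries k)ˣ) : PowerSeries k) * hz - ((U⁻¹ : (PowerSeries k)ˣ) : PowerSeries k) * hw + (U.inv_mul : ((U⁻¹ : (PowerSeries k)ˣ) : PowerSeries k) * U = 1)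
    · push_cast at hz' ⊢
      linear_combination hz' - (z - w) * ((U⁻¹ : (PowerSeries k)ˣ) : PowerSeries k) * hw + (z - w) * (U.inv_mul : ((U⁻¹ : (PowerSeries k)ˣ) : PowerSeries k) * U = 1)

/-- The `1`-jet `w` of `u` is congruent to `-1/n` modulo `X^n`. -/
theorem w_congr (hn : (n : k) ≠ 0) (hun : u ^ n * (1 + X ^ n) = 1) {w : PowerSeries k}
    (hw : u - 1 = X ^ n * w) : X ^ n ∣ w - C (-(n : k)⁻¹) := by
  have h1 : u ^ n - 1 = X ^ n * (w * ∑ i ∈ Finset.range n, u ^ i) := by
    rw [← geom_sum_mul, hw]; ring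
  have h2 : w * ∑ i ∈ Finset.range n, u ^ i = -(u ^ n) := by
    refine mul_left_cancel₀ (pow_ne_zero n (X_ne_zero : (X : PowerSeries k) ≠ 0)) ?_
    linear_combination hun - h1
  have h3 : X ^ n ∣ (∑ i ∈ Finset.range n, u ^ i) - (n : PowerSeries k) := by
    rw [show (n : PowerSeries k) = ∑ i ∈ Finset.range n, 1 by simp, ← Finset.sum_sub_distrib]
    refine Finset.dvd_sum fun i _ => ?_
    have h := sub_dvd_pow_sub_pow u 1 i
    rw [one_pow] at h
    exact (Dvd.intro w hw.symm).trans h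
  obtain ⟨a, ha⟩ := h3
  have hC : C ((n : k)⁻¹) * (n : PowerSeries k) = 1 := by
    rw [← map_natCast (C (R := k)), ← map_mul, inv_mul_cancel₀ hn, map_one]
  refine ⟨C ((n : k)⁻¹) * (-(w * a) - w * ∑ i ∈ Finset.range n, u ^ i), ?_⟩
  rw [map_neg]
  linear_combination (-(w : PowerSeries k)) * hC + C ((n : k)⁻¹) * h2 - C ((n : k)⁻¹) * w * ha - C ((n : k)⁻¹) * h1

end Groth.Agent.ASTwist
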