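import Groth.Agent.Lib.DVRVal.Extend
import Groth.Agent.Lib.GaPts.Basic
import Groth.Agent.Lib.AlgGrpBasic19.Basic
import Groth.Prelude.Def_GmPts
import Mathlib.RingTheory.Polynomial.UniqueFactorization
import Mathlib.RingTheory.Localization.Away.Basic

/-!
# Fixed points of `𝔾_a` and `𝔾_m` on proper schemes

The limit point of the orbit map of a rational point is fixed.
-/

set_option autoImplicit false
set_option linter.style.haveILetI false
set_option backward.isDefEq.respectTransparency.types false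
universe u

open CategoryTheory Limits MonoidalCategory CartesianMonoidalCategory MonObj AlgebraicGeometry
  TopologicalSpace Polynomial

noncomputable section

namespace Groth.Agent.FixLine19

variable {k : Type u} [Field k]

/-- An affine `k`-scheme. -/
abbrev sp (R : Type u) [CommRing R] [Algebra k R] : Over (Spec (CommRingCat.of k)) :=
  Over.mk (Spec.map (CommRingCat.ofHom (algebraMap k R)))

/-- An element as a global function. -/
abbrev el {R : Type u} [CommRing R] [Algebra k R] (r : R) : Γ((sp (k := k) R).left, ⊤) :=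
  (Scheme.ΓSpecIso (CommRingCat.of R)).inv.hom r

/-- The structure map `k → Γ(T)`. -/
abbrev str (T : Over (Spec (CommRingCat.of k))) : k →+* Γ(T.left, ⊤) :=
  ((Scheme.ΓSpecIso (CommRingCat.of k)).inv ≫ T.hom.appTop).hom

/-- The morphism to an affine scheme of a ring map. -/
def toSp (T : Over (Spec (CommRingCat.of k))) {R : Type u} [CommRing R] [Algebra k R]
    (φ : R →+* Γ(T.left, ⊤)) (hφ : φ.comp (algebraMap k R) = str T) : T ⟶ sp R :=
  Over.homMk (T.left.toSpecΓ ≫ Spec.map (CommRingCat.ofHom φ)) (by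
    show (_ ≫ _) ≫ Spec.map (CommRingCat.ofHom (algebraMap k R)) = T.hom
    rw [Category.assoc, ← Spec.map_comp, ← CommRingCat.ofHom_comp, hφ]
    show T.left.toSpecΓ ≫ Spec.map ((Scheme.ΓSpecIso _).inv ≫ T.hom.appTop) = T.hom
    rw [Spec.map_comp, ← Scheme.toSpecΓ_naturality_assoc, toSpecΓ_SpecMap_ΓSpecIso_inv,
      Category.comp_id])

theorem toSp_el (T : Over (Spec (CommRingCat.of k))) {R : Type u} [CommRing R] [Algebra k R]
    (φ : R →+* Γ(T.left, ⊤)) (hφ : φ.comp (algebraMap k R) = str T) (r : R) :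
    (toSp T φ hφ).left.appTop (el r) = φ r := by
  show (T.left.toSpecΓ ≫ Spec.map (CommRingCat.ofHom φ)).appTop
    ((Scheme.ΓSpecIso (CommRingCat.of R)).inv.hom r) = φ r
  have h : (Scheme.ΓSpecIso (CommRingCat.of R)).inv ≫
      (T.left.toSpecΓ ≫ Spec.map (CommRingCat.ofHom φ)).appTop = CommRingCat.ofHom φ := by
    rw [Scheme.Hom.comp_appTop, Scheme.toSpecΓ_appTop, ← Scheme.ΓSpecIso_inv_naturality_assoc,
      Iso.inv_hom_id, Category.comp_id]
  exact ConcreteCategory.congr_hom h r

/-- The morphism of an algebra map. -/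
def spMap {R R' : Type u} [CommRing R] [Algebra k R] [CommRing R'] [Algebra k R'] (φ : R →ₐ[k] R') :
    sp (k := k) R' ⟶ sp R :=
  Over.homMk (Spec.map (CommRingCat.ofHom φ.toRingHom)) (by
    show _ ≫ Spec.map _ = Spec.map _
    rw [← Spec.map_comp, ← CommRingCat.ofHom_comp]
    exact congrArg (fun r => Spec.map (CommRingCat.ofHom r)) φ.comp_algebraMap)

theorem spMap_el {R R' : Type u} [CommRing R] [Algebra k R] [CommRing R'] [Algebra k R']
    (φ : R →ₐ[k] R') (r : R) : (spMap φ).left.appTop (el r) = el (k := k) (φ r) :=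
  (ConcreteCategory.congr_hom (Scheme.ΓSpecIso_inv_naturality (CommRingCat.ofHom φ.toRingHom)) r).symm

theorem el_comm (T : Over (Spec (CommRingCat.of k))) {R : Type u} [CommRing R] [Algebra k R]
    (u : T ⟶ sp R) (c : k) : u.left.appTop (el (algebraMap k R c)) = str T c := by
  have h : (Scheme.ΓSpecIso (CommRingCat.of k)).inv ≫ T.hom.appTop =
      CommRingCat.ofHom (algebraMap k R) ≫ (Scheme.ΓSpecIso (CommRingCat.of R)).inv ≫ u.left.appTop := by
    rw [← Over.w u, Scheme.Hom.comp_appTop, Scheme.ΓSpecIso_inv_naturality_assoc]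
    rfl
  exact (ConcreteCategory.congr_hom h c).symm

/-- Morphisms to the affine line agree when the coordinates do. -/
theorem hom_ext_poly {T : Over (Spec (CommRingCat.of k))} (u v : T ⟶ sp (k := k) k[X])
    (h : u.left.appTop (el X) = v.left.appTop (el X)) : u = v := by
  refine Over.OverMorphism.ext ?_
  haveI : IsAffine (sp (k := k) k[X]).left := inferInstanceAs (IsAffine (Spec (CommRingCat.of k[X])))
  apply ext_of_isAffine
  rw [← cancel_epi (Scheme.ΓSpecIso (CommRingCat.of k[X])).inv]
  ext1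
  refine Polynomial.ringHom_ext (fun c => ?_) h
  exact (el_comm T u c).trans (el_comm T v c).symm

section Generic

variable {G W : Over (Spec (CommRingCat.of k))} [GrpObj G] [IsSeparated W.hom]

/-- A limit of translates is fixed. -/
theorem isFixedPt_of_data (a : AlgGrp.Action G W) (x₀ : 𝟙_ (Over (Spec (CommRingCat.of k))) ⟶ W)
    {L A M M₀ : Over (Spec (CommRingCat.of k))} [IsReduced M.left] (j : L ⟶ A) (g₀ : L ⟶ G)
    (ψ : A ⟶ W) (hψ : j ≫ ψ = lift g₀ (toUnit L ≫ x₀) ≫ a.act) (g : M ⟶ G) (α β : M ⟶ A)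
    (i : M₀ ⟶ M) [IsDominant i.left] (α₀ β₀ : M₀ ⟶ L) (hα : i ≫ α = α₀ ≫ j) (hβ : i ≫ β = β₀ ≫ j)
    (hmul : β₀ ≫ g₀ = (i ≫ g) * (α₀ ≫ g₀)) (z : 𝟙_ (Over (Spec (CommRingCat.of k))) ⟶ A)
    (hσ : ∀ (T : Over (Spec (CommRingCat.of k))) (v : T ⟶ G), ∃ σ : T ⟶ M,
      σ ≫ g = v ∧ σ ≫ α = toUnit T ≫ z ∧ σ ≫ β = toUnit T ≫ z) :
    a.IsFixedPt (z ≫ ψ) := by
  have key : lift g (α ≫ ψ) ≫ a.act = β ≫ ψ := by
    refine Over.OverMorphism.ext (ext_of_isDominant_of_isSeparated W.hom ?_ i.left ?_)
    · rw [Over.w, Over.w]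
    · have e : i ≫ lift g (α ≫ ψ) ≫ a.act = i ≫ β ≫ ψ := by
        rw [comp_lift_assoc, reassoc_of% hα, reassoc_of% hβ, hψ, comp_lift_assoc,
          ← AlgGrpBasic19.act_mul, comp_lift_assoc, ← hmul, ← Category.assoc, ← Category.assoc β₀,
          comp_toUnit, comp_toUnit]
      exact congrArg CommaMorphism.left e
  intro T v
  obtain ⟨σ, h1, h2, h3⟩ := hσ T v
  have e := congrArg (σ ≫ ·) key
  simp only [comp_lift_assoc, h1, reassoc_of% h2, reassoc_of% h3] at e
  exact e

end Generic

/-- A map from the punctured affine line to a proper scheme extends. -/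
theorem exists_extend {W : Over (Spec (CommRingCat.of k))} [IsProper W.hom]
    (h : sp (k := k) (Localization.Away (Polynomial.X : k[X])) ⟶ W) :
    ∃ ψ : sp (k := k) k[X] ⟶ W, spMap (IsScalarTower.toAlgHom k k[X] _) ≫ ψ = h := by
  set L := Localization.Away (Polynomial.X : k[X])
  let j : (sp (k := k) L).left ⟶ (sp (k := k) k[X]).left := (spMap (IsScalarTower.toAlgHom k k[X] L)).left
  haveI : IsOpenImmersion j := IsOpenImmersion.of_isLocalization (Polynomial.X : k[X])
  haveI : IsReduced (sp (k := k) k[X]).left := inferInstanceAs (IsReduced (Spec (CommRingCat.of k[X])))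
  haveI : IsIntegral (sp (k := k) k[X]).left := inferInstanceAs (IsIntegral (Spec (CommRingCat.of k[X])))
  haveI : Nonempty (sp (k := k) L).left := by
    have hle : Submonoid.powers (Polynomial.X : k[X]) ≤ nonZeroDivisors k[X] :=
      powers_le_nonZeroDivisors_of_noZeroDivisors Polynomial.X_ne_zero
    haveI : Nontrivial L := (IsLocalization.injective L hle).nontrivial
    exact inferInstanceAs (Nonempty (Spec (CommRingCat.of L)))
  let A := (sp (k := k) k[X])
  let V : A.left.Opens := j.opensRange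
  have hV : Dense (V : Set A.left) :=
    V.isOpen.dense ⟨j (Classical.arbitrary _), Classical.arbitrary _, rfl⟩
  let s₀ : V.toScheme ⟶ pullback W.hom A.hom :=
    j.isoOpensRange.inv ≫ pullback.lift h.left j ((Over.w h).trans
      (Over.w (spMap (IsScalarTower.toAlgHom k k[X] L))).symm)
  have hs₀ : s₀ ≫ pullback.snd W.hom A.hom = V.ι := by
    simp only [s₀, Category.assoc]
    rw [pullback.lift_snd]
    exact j.isoOpensRange_inv_comp
  have hval : ∀ y : A.left, IsDomain (A.left.presheaf.stalk y) ∧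
      ∀ [IsDomain (A.left.presheaf.stalk y)], ValuationRing (A.left.presheaf.stalk y) := fun y => by
    let p : PrimeSpectrum k[X] := y
    let e := (StructureSheaf.stalkIso (R := CommRingCat.of k[X]) p)
    haveI : IsDomain (Localization.AtPrime p.asIdeal) :=
      IsLocalization.isDomain_localization (Ideal.primeCompl_le_nonZeroDivisors p.asIdeal)
    haveI : IsPrincipalIdealRing (Localization.AtPrime p.asIdeal) := ⟨fun I => by
      obtain ⟨g, hg⟩ := (IsPrincipalIdealRing.principal (I.comap (algebraMap k[X] (Localization.AtPrime p.asIdeal))))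
      refine ⟨algebraMap k[X] (Localization.AtPrime p.asIdeal) g, ?_⟩
      rw [← IsLocalization.map_comap p.asIdeal.primeCompl (Localization.AtPrime p.asIdeal) I]
      refine (congrArg _ hg).trans ?_
      rw [Ideal.submodule_span_eq, Ideal.map_span, Set.image_singleton]⟩
    let ee : A.left.presheaf.stalk y ≃+* Localization.AtPrime p.asIdeal := e.toRingEquiv.symm
    refine ⟨MulEquiv.isDomain _ ee.toMulEquiv, ?_⟩
    intro _
    haveI : IsLocalRing (A.left.presheaf.stalk y) := inferInstance
    haveI : IsPrincipalIdealRing (A.left.presheaf.stalk y) :=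
      IsPrincipalIdealRing.of_surjective ee.symm.toRingHom ee.symm.surjective
    infer_instance
  haveI : IsLocallyNoetherian A.left := inferInstanceAs (IsLocallyNoetherian (Spec (CommRingCat.of k[X])))
  obtain ⟨U, hVU, s, hs, hsV, hU⟩ := DVRVal.exists_extend_section (pullback.snd W.hom A.hom)
    (pullback.snd W.hom A.hom).isClosedMap (fun _ => True) (fun y _ => hval y) V hV s₀ hs₀
  obtain rfl : U = ⊤ := top_le_iff.mp fun y _ => hU y trivial
  let ψ : A.left ⟶ W.left := A.left.topIso.inv ≫ s ≫ pullback.fst W.hom A.hom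
  have hψw : ψ ≫ W.hom = A.hom := by
    simp only [ψ, Category.assoc, pullback.condition]
    rw [reassoc_of% hs]
    simp
  refine ⟨Over.homMk ψ hψw, Over.OverMorphism.ext ?_⟩
  show j ≫ ψ = h.left
  have hj : j ≫ A.left.topIso.inv = j.isoOpensRange.hom ≫ A.left.homOfLE hVU := by
    rw [← cancel_mono (⊤ : A.left.Opens).ι, Category.assoc, Category.assoc, Scheme.homOfLE_ι,
      Scheme.Hom.isoOpensRange_hom_ι]
    show j ≫ A.left.topIso.inv ≫ A.left.topIso.hom = j
    rw [Iso.inv_hom_id, Category.comp_id]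
  have hsV' : A.left.homOfLE hVU ≫ s ≫ pullback.fst W.hom A.hom = j.isoOpensRange.inv ≫ h.left := by
    rw [reassoc_of% hsV]
    simp only [s₀, Category.assoc, pullback.lift_fst]
  simp only [ψ]
  rw [reassoc_of% hj, hsV', Iso.hom_inv_id_assoc]

variable {G W : Over (Spec (CommRingCat.of k))} [GrpObj G] [IsProper W.hom]

/-- The coordinate ring of the plane. -/
abbrev P2 (k : Type u) [Field k] : Type u := Polynomial (Polynomial k)

theorem dominant_spMap {R R' : Type u} [CommRing R] [Algebra k R] [CommRing R'] [Algebra k R']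
    (φ : R →ₐ[k] R') (hφ : Function.Injective φ) : IsDominant (spMap φ).left := by
  constructor
  show DenseRange (PrimeSpectrum.comap φ.toRingHom)
  rw [PrimeSpectrum.denseRange_comap_iff_ker_le_nilRadical]
  intro r hr
  rw [hφ (hr.trans (map_zero φ).symm)]
  exact zero_mem _

variable {K L R : Type u} [CommRing K] [CommRing L] [CommRing R]

/-- The algebra map out of the punctured line. -/
def awayHom (R : Type u) [CommRing R] [Algebra k R] (u : R) (hu : IsUnit u) :
    Localization.Away (Polynomial.X : k[X]) →ₐ[k] R :=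
  IsLocalization.liftAlgHom (M := Submonoid.powers (Polynomial.X : k[X])) (f := aeval u) (fun y => by
    obtain ⟨n, hn⟩ := y.2
    rw [show (y : k[X]) = Polynomial.X ^ n from hn.symm, map_pow, aeval_X]
    exact hu.pow n)

theorem awayHom_algebraMap (R : Type u) [CommRing R] [Algebra k R] (u : R) (hu : IsUnit u) (p : k[X]) :
    awayHom R u hu (algebraMap k[X] (Localization.Away (Polynomial.X : k[X])) p) = aeval u p :=
  IsLocalization.lift_eq _ p

theorem hmul_hom {G' T : Over (Spec (CommRingCat.of k))} [GrpObj G'] (e : G' ⟶ G) [IsMonHom e]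
    (x y : T ⟶ G') : (x * y) ≫ e = (x ≫ e) * (y ≫ e) :=
  MonObj.mul_comp x y e

set_option maxHeartbeats 1000000 in
/-- The additive group has a fixed point on a proper scheme with a rational point. -/
theorem exists_fixedPt_Ga (e : Red.Ga (Spec (CommRingCat.of k)) ⟶ G) [IsMonHom e] [IsIso e]
    (a : AlgGrp.Action G W) (x₀ : 𝟙_ (Over (Spec (CommRingCat.of k))) ⟶ W) :
    ∃ x : 𝟙_ (Over (Spec (CommRingCat.of k))) ⟶ W, a.IsFixedPt x := by
  let B := Localization.Away (Polynomial.X : k[X])
  let g₀ : sp (k := k) B ⟶ G := GaPts.ptOfFn (el (IsLocalization.Away.invSelf (Polynomial.X : k[X]))) ≫ e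
  obtain ⟨ψ, hψ⟩ := exists_extend (lift g₀ (toUnit _ ≫ x₀) ≫ a.act)
  let t : P2 k := C X
  let s : P2 k := X
  let f : P2 k := 1 + t * s
  have hf : f ≠ 0 := fun h => by
    have := congrArg (fun p => Polynomial.coeff p 0) h
    simp [f, t, s] at this
  let M := Localization.Away f
  let F := FractionRing (P2 k)
  have hMle : Submonoid.powers f ≤ nonZeroDivisors (P2 k) :=
    powers_le_nonZeroDivisors_of_noZeroDivisors hf
  haveI : IsDomain M := IsLocalization.isDomain_localization hMle
  haveI : IsReduced (sp (k := k) M).left := inferInstanceAs (IsReduced (Spec (CommRingCat.of M)))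
  let tM : M := algebraMap (P2 k) M t
  let sM : M := algebraMap (P2 k) M s
  let w : M := IsLocalization.Away.invSelf f
  have hw : (1 + tM * sM) * w = 1 := by
    have := IsLocalization.Away.mul_invSelf (S := M) f
    simpa [f, tM, sM] using this
  have hs0 : algebraMap (P2 k) F s ≠ 0 := by
    rw [Ne, IsFractionRing.to_map_eq_zero_iff]
    exact Polynomial.X_ne_zero
  have hfF : algebraMap (P2 k) F f ≠ 0 := by rwa [Ne, IsFractionRing.to_map_eq_zero_iff]
  let iF : M →ₐ[k] F := IsLocalization.liftAlgHom (M := Submonoid.powers f)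
    (f := IsScalarTower.toAlgHom k (P2 k) F) (fun y => by
      refine IsUnit.mk0 _ ?_
      show algebraMap (P2 k) F y ≠ 0
      rw [Ne, IsFractionRing.to_map_eq_zero_iff]
      exact nonZeroDivisors.ne_zero (hMle y.2))
  have hiF : ∀ p, iF (algebraMap (P2 k) M p) = algebraMap (P2 k) F p := fun p => IsLocalization.lift_eq _ p
  have hiFinj : Function.Injective iF := by
    rw [injective_iff_map_eq_zero]
    intro m hm
    obtain ⟨p, q, rfl⟩ := IsLocalization.exists_mk'_eq (Submonoid.powers f) m
    have h1 : iF (IsLocalization.mk' M p q) * algebraMap (P2 k) F q = algebraMap (P2 k) F p := by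
      rw [← hiF, ← hiF, ← map_mul, IsLocalization.mk'_spec]
    rw [hm, zero_mul] at h1
    rw [IsLocalization.mk'_eq_zero_iff]
    refine ⟨1, ?_⟩
    rw [OneMemClass.coe_one, _root_.one_mul]
    exact (IsFractionRing.to_map_eq_zero_iff (K := F)).mp h1.symm
  haveI := dominant_spMap iF hiFinj
  let sF : F := iF sM
  have hsF : IsUnit sF := IsUnit.mk0 _ (by simpa [sF, sM, hiF] using hs0)
  have hwF : IsUnit (iF w) := IsUnit.of_mul_eq_one (iF (1 + tM * sM)) (by
    rw [← map_mul, mul_comm, hw, map_one])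
  have hsF' : IsUnit (iF (sM * w)) := by rw [map_mul]; exact hsF.mul hwF
  let z : 𝟙_ (Over (Spec (CommRingCat.of k))) ⟶ sp (k := k) k[X] :=
    toSp _ ((str _).comp (evalRingHom 0)) (by ext c; simp)
  refine ⟨z ≫ ψ, isFixedPt_of_data a x₀ (spMap (IsScalarTower.toAlgHom k k[X] B)) g₀ ψ hψ
    (GaPts.ptOfFn (el tM) ≫ e) (spMap (aeval sM)) (spMap (aeval (sM * w)))
    (spMap iF) (spMap (awayHom F sF hsF)) (spMap (awayHom F (iF (sM * w)) hsF')) ?_ ?_ ?_ z ?_⟩
  · refine hom_ext_poly _ _ ?_
    simp only [Over.comp_left, Scheme.Hom.comp_appTop, CommRingCat.comp_apply, spMap_el,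
      IsScalarTower.coe_toAlgHom', aeval_X, sF]
    exact congrArg el ((awayHom_algebraMap _ _ _ _).trans (aeval_X _)).symm
  · refine hom_ext_poly _ _ ?_
    simp only [Over.comp_left, Scheme.Hom.comp_appTop, CommRingCat.comp_apply, spMap_el,
      IsScalarTower.coe_toAlgHom', aeval_X]
    exact congrArg el ((awayHom_algebraMap _ _ _ _).trans (aeval_X _)).symm
  · simp only [g₀, ← Category.assoc, ← hmul_hom, GaPts.ptOfFn_comp, ← GaPts.ptOfFn_add, spMap_el]
    congr 2
    show el _ = el _ + el _
    rw [← map_add]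
    congr 1
    have hinv : ∀ (u : F) (hu : IsUnit u),
        u * awayHom F u hu (IsLocalization.Away.invSelf (Polynomial.X : k[X])) = 1 := fun u hu => by
      have h := congrArg (awayHom F u hu)
        (IsLocalization.Away.mul_invSelf (S := B) (Polynomial.X : k[X]))
      rw [map_mul, map_one, awayHom_algebraMap, aeval_X] at h
      exact h
    refine hsF'.mul_left_cancel ?_
    rw [hinv, mul_add]
    refine hsF.mul_left_cancel ?_
    rw [_root_.mul_one, mul_add, mul_left_comm sF (iF (sM * w)) (awayHom F sF hsF _), hinv, _root_.mul_one]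
    show iF sM = _
    rw [← map_mul, ← map_mul, ← map_add]
    congr 1
    calc sM = sM * ((1 + tM * sM) * w) := by rw [hw, _root_.mul_one]
      _ = _ := by ring
  · intro T v
    let v' : Γ(T.left, ⊤) := Red.gaFn (v ≫ inv e)
    let φ₀ : P2 k →+* Γ(T.left, ⊤) := eval₂RingHom (eval₂RingHom (str T) v') 0
    have hφf : IsUnit (φ₀ f) := by simp [φ₀, f, t, s]
    let φ : M →+* Γ(T.left, ⊤) := IsLocalization.Away.lift f hφf
    have hφ : ∀ p, φ (algebraMap (P2 k) M p) = φ₀ p := fun p => IsLocalization.Away.lift_eq f hφf p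
    have hφk : φ.comp (algebraMap k M) = str T := by
      ext c
      rw [RingHom.comp_apply, IsScalarTower.algebraMap_apply k (P2 k) M, hφ]
      simp [φ₀]
    refine ⟨toSp T φ hφk, ?_, ?_, ?_⟩
    · rw [← Category.assoc, GaPts.ptOfFn_comp, toSp_el, hφ]
      rw [← IsIso.eq_comp_inv, ← GaPts.gaFn_eq_iff, GaPts.gaFn_ptOfFn]
      simp [φ₀, t, v']
    · refine hom_ext_poly _ _ ?_
      simp only [Over.comp_left, Scheme.Hom.comp_appTop, CommRingCat.comp_apply, z]
      rw [spMap_el, toSp_el, toSp_el, RingHom.comp_apply, coe_evalRingHom, eval_X, map_zero, map_zero]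
      simp [sM, tM, hφ, φ₀, s]
    · refine hom_ext_poly _ _ ?_
      simp only [Over.comp_left, Scheme.Hom.comp_appTop, CommRingCat.comp_apply, z]
      rw [spMap_el, toSp_el, toSp_el, RingHom.comp_apply, coe_evalRingHom, eval_X, map_zero, map_zero]
      simp [sM, tM, hφ, φ₀, s]

set_option maxHeartbeats 1000000 in
/-- The multiplicative group has a fixed point on a proper scheme with a rational point. -/
theorem exists_fixedPt_Gm (e : Red.Gm (Spec (CommRingCat.of k)) ⟶ G) [IsMonHom e] [IsIso e]
    (a : AlgGrp.Action G W) (x₀ : 𝟙_ (Over (Spec (CommRingCat.of k))) ⟶ W) :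
    ∃ x : 𝟙_ (Over (Spec (CommRingCat.of k))) ⟶ W, a.IsFixedPt x := by
  let B := Localization.Away (Polynomial.X : k[X])
  have hXB : IsUnit (el (k := k) (algebraMap k[X] B X)) :=
    (IsLocalization.Away.algebraMap_isUnit (S := B) (Polynomial.X : k[X])).map
      (Scheme.ΓSpecIso (CommRingCat.of B)).inv.hom
  let g₀ : sp (k := k) B ⟶ G := GmPts.ptOfUnit hXB.unit ≫ e
  obtain ⟨ψ, hψ⟩ := exists_extend (lift g₀ (toUnit _ ≫ x₀) ≫ a.act)
  let t : P2 k := C X
  let s : P2 k := X
  have ht : t ≠ 0 := by simp [t]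
  let M := Localization.Away t
  let F := FractionRing (P2 k)
  have hMle : Submonoid.powers t ≤ nonZeroDivisors (P2 k) :=
    powers_le_nonZeroDivisors_of_noZeroDivisors ht
  haveI : IsDomain M := IsLocalization.isDomain_localization hMle
  haveI : IsReduced (sp (k := k) M).left := inferInstanceAs (IsReduced (Spec (CommRingCat.of M)))
  let tM : M := algebraMap (P2 k) M t
  let sM : M := algebraMap (P2 k) M s
  have htM : IsUnit (el (k := k) tM) :=
    (IsLocalization.Away.algebraMap_isUnit (S := M) t).map (Scheme.ΓSpecIso (CommRingCat.of M)).inv.hom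
  let iF : M →ₐ[k] F := IsLocalization.liftAlgHom (M := Submonoid.powers t)
    (f := IsScalarTower.toAlgHom k (P2 k) F) (fun y => by
      refine IsUnit.mk0 _ ?_
      show algebraMap (P2 k) F y ≠ 0
      rw [Ne, IsFractionRing.to_map_eq_zero_iff]
      exact nonZeroDivisors.ne_zero (hMle y.2))
  have hiF : ∀ p, iF (algebraMap (P2 k) M p) = algebraMap (P2 k) F p := fun p => IsLocalization.lift_eq _ p
  have hiFinj : Function.Injective iF := by
    rw [injective_iff_map_eq_zero]
    intro m hm
    obtain ⟨p, q, rfl⟩ := IsLocalization.exists_mk'_eq (Submonoid.powers t) m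
    have h1 : iF (IsLocalization.mk' M p q) * algebraMap (P2 k) F q = algebraMap (P2 k) F p := by
      rw [← hiF, ← hiF, ← map_mul, IsLocalization.mk'_spec]
    rw [hm, zero_mul] at h1
    rw [IsLocalization.mk'_eq_zero_iff]
    refine ⟨1, ?_⟩
    rw [OneMemClass.coe_one, _root_.one_mul]
    exact (IsFractionRing.to_map_eq_zero_iff (K := F)).mp h1.symm
  haveI := dominant_spMap iF hiFinj
  have hsF : IsUnit (iF sM) := IsUnit.mk0 _ (by
    rw [hiF, Ne, IsFractionRing.to_map_eq_zero_iff]; exact Polynomial.X_ne_zero)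
  have hsF' : IsUnit (iF (tM * sM)) := by
    rw [map_mul]
    exact (IsUnit.mk0 _ (by rw [hiF, Ne, IsFractionRing.to_map_eq_zero_iff]; exact ht)).mul hsF
  let z : 𝟙_ (Over (Spec (CommRingCat.of k))) ⟶ sp (k := k) k[X] :=
    toSp _ ((str _).comp (evalRingHom 0)) (by ext c; simp)
  refine ⟨z ≫ ψ, isFixedPt_of_data a x₀ (spMap (IsScalarTower.toAlgHom k k[X] B)) g₀ ψ hψ
    (GmPts.ptOfUnit htM.unit ≫ e) (spMap (aeval sM)) (spMap (aeval (tM * sM)))
    (spMap iF) (spMap (awayHom F (iF sM) hsF)) (spMap (awayHom F (iF (tM * sM)) hsF')) ?_ ?_ ?_ z ?_⟩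
  · refine hom_ext_poly _ _ ?_
    simp only [Over.comp_left, Scheme.Hom.comp_appTop, CommRingCat.comp_apply, spMap_el,
      IsScalarTower.coe_toAlgHom', aeval_X]
    exact congrArg el ((awayHom_algebraMap _ _ _ _).trans (aeval_X _)).symm
  · refine hom_ext_poly _ _ ?_
    simp only [Over.comp_left, Scheme.Hom.comp_appTop, CommRingCat.comp_apply, spMap_el,
      IsScalarTower.coe_toAlgHom', aeval_X]
    exact congrArg el ((awayHom_algebraMap _ _ _ _).trans (aeval_X _)).symm
  · simp only [g₀, ← Category.assoc, ← hmul_hom, GmPts.ptOfUnit_comp, ← GmPts.ptOfUnit_mul]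
    congr 2
    ext1
    show (spMap (awayHom F (iF (tM * sM)) hsF')).left.appTop (el (algebraMap k[X] B X)) =
      (spMap iF).left.appTop (el tM) * (spMap (awayHom F (iF sM) hsF)).left.appTop (el (algebraMap k[X] B X))
    rw [spMap_el, spMap_el, spMap_el]
    refine Eq.trans ?_ (map_mul _ _ _)
    refine congrArg el ((awayHom_algebraMap _ _ _ _).trans ?_)
    rw [awayHom_algebraMap _ _ _ _, aeval_X, aeval_X, map_mul]
  · intro T v
    let v' := GmPts.unitOfPt (v ≫ inv e)
    let φ₀ : P2 k →+* Γ(T.left, ⊤) := eval₂RingHom (eval₂RingHom (str T) (v' : Γ(T.left, ⊤))) 0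
    have hφt : IsUnit (φ₀ t) := by simp [φ₀, t]
    let φ : M →+* Γ(T.left, ⊤) := IsLocalization.Away.lift t hφt
    have hφ : ∀ p, φ (algebraMap (P2 k) M p) = φ₀ p := fun p => IsLocalization.Away.lift_eq t hφt p
    have hφk : φ.comp (algebraMap k M) = str T := by
      ext c
      rw [RingHom.comp_apply, IsScalarTower.algebraMap_apply k (P2 k) M, hφ]
      simp [φ₀]
    refine ⟨toSp T φ hφk, ?_, ?_, ?_⟩
    · rw [← Category.assoc, GmPts.ptOfUnit_comp, ← IsIso.eq_comp_inv]
      refine Eq.trans ?_ (GmPts.ptOfUnit_unitOfPt _)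
      congr 1
      ext1
      show (toSp T φ hφk).left.appTop (el tM) = _
      rw [toSp_el, hφ]
      simp [φ₀, t, v']
    · refine hom_ext_poly _ _ ?_
      simp only [Over.comp_left, Scheme.Hom.comp_appTop, CommRingCat.comp_apply, z]
      rw [spMap_el, toSp_el, toSp_el, RingHom.comp_apply, coe_evalRingHom, eval_X, map_zero, map_zero]
      simp [sM, tM, hφ, φ₀, s]
    · refine hom_ext_poly _ _ ?_
      simp only [Over.comp_left, Scheme.Hom.comp_appTop, CommRingCat.comp_apply, z]
      rw [spMap_el, toSp_el, toSp_el, RingHom.comp_apply, coe_evalRingHom, eval_X, map_zero, map_zero]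
      simp [sM, tM, hφ, φ₀, s]

end Groth.Agent.FixLine19
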