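import Groth.Prelude.Def_MoreMor
import Mathlib.AlgebraicGeometry.Morphisms.UniversallyOpen
import Mathlib.AlgebraicGeometry.Morphisms.UniversallyInjective
import Mathlib.AlgebraicGeometry.Morphisms.UniversallyClosed
import Mathlib.AlgebraicGeometry.Morphisms.QuasiSeparated

set_option backward.isDefEq.respectTransparency.types false

/-!
Elementary facts about thickenings: surjective-first cancellation and mono-last cancellation.
-/

namespace Groth.Agent.Thick4

open AlgebraicGeometry CategoryTheory Limits MorphismProperty

universe u

variable {X Y Z : Scheme.{u}}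

/-- A base-change-stable property descends along post-composition with a monomorphism. -/
theorem of_comp_mono {P : MorphismProperty Scheme.{u}} [P.IsStableUnderBaseChange] (f : X ⟶ Y)
    (g : Y ⟶ Z) [Mono g] (h : P (f ≫ g)) : P f :=
  P.of_isPullback (show IsPullback (𝟙 X) f (f ≫ g) g from
    ⟨⟨by simp⟩, ⟨PullbackCone.IsLimit.mk _ (fun s => s.fst)
      (fun s => by simp)
      (fun s => by rw [← cancel_mono g]; simpa using s.condition)
      (fun s m h1 _ => by simpa using h1)⟩⟩) h

theorem quasiCompact_of_comp_surjective (f : X ⟶ Y) (g : Y ⟶ Z) [Surjective f]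
    [QuasiCompact (f ≫ g)] : QuasiCompact g := by
  refine ⟨fun U hU hU' => ?_⟩
  have h := QuasiCompact.isCompact_preimage (f := f ≫ g) U hU hU'
  have := h.image f.continuous
  rwa [Scheme.Hom.comp_base, TopCat.coe_comp, Set.preimage_comp,
    Set.image_preimage_eq _ f.surjective] at this

theorem universallyInjective_of_comp_surjective (f : X ⟶ Y) (g : Y ⟶ Z) [Surjective f]
    [UniversallyInjective (f ≫ g)] : UniversallyInjective g := by
  refine ⟨fun Y' Z' a b g' H => ?_⟩
  let f' := pullback.snd f a
  have hs : Function.Surjective f' := (inferInstance : Surjective f').surj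
  have : Function.Injective (f' ≫ g') :=
    UniversallyInjective.universally_injective (f := f ≫ g) _ _ _
      ((IsPullback.of_hasPullback f a).flip.paste_horiz H)
  rw [Scheme.Hom.comp_base, TopCat.coe_comp] at this
  exact this.of_comp_right hs

theorem universallyOpen_of_comp_surjective (f : X ⟶ Y) (g : Y ⟶ Z) [Surjective f]
    [UniversallyOpen (f ≫ g)] : UniversallyOpen g := by
  refine ⟨fun Y' Z' a b g' H U hU => ?_⟩
  let f' := pullback.snd f a
  have hs : Function.Surjective f' := (inferInstance : Surjective f').surj
  have : IsOpenMap (f' ≫ g') :=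
    UniversallyOpen.universally_isOpenMap (f := f ≫ g) _ _ _
      ((IsPullback.of_hasPullback f a).flip.paste_horiz H)
  have h2 := this _ (hU.preimage f'.continuous)
  rwa [Scheme.Hom.comp_base, TopCat.coe_comp, Set.image_comp,
    Set.image_preimage_eq _ hs] at h2

theorem quasiSeparated_of_comp_surjective (f : X ⟶ Y) (g : Y ⟶ Z) [Surjective f] [QuasiCompact f]
    [QuasiSeparated (f ≫ g)] : QuasiSeparated g := by
  constructor
  have h1 : QuasiCompact (pullback.diagonal (f ≫ g) ≫
      pullback.map (f ≫ g) (f ≫ g) g g f f (𝟙 Z) (by simp) (by simp)) := by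
    have : QuasiCompact (pullback.map (f ≫ g) (f ≫ g) g g f f (𝟙 Z) (by simp) (by simp)) := by
      exact MorphismProperty.pullbackMap (P := @QuasiCompact) ‹_› ‹_› rfl rfl
    infer_instance
  have e : f ≫ pullback.diagonal g = pullback.diagonal (f ≫ g) ≫
      pullback.map (f ≫ g) (f ≫ g) g g f f (𝟙 Z) (by simp) (by simp) := by
    apply pullback.hom_ext
    · simp only [Category.assoc, pullback.diagonal_fst, Category.comp_id]
      erw [pullback.lift_fst, pullback.diagonal_fst_assoc]
    · simp only [Category.assoc, pullback.diagonal_snd, Category.comp_id]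
      erw [pullback.lift_snd, pullback.diagonal_snd_assoc]
  rw [← e] at h1
  exact quasiCompact_of_comp_surjective f _

/-- A thickening (surjective closed immersion) is universally open. -/
theorem universallyOpen_of_surjective_closedImmersion (i : X ⟶ Y) [IsClosedImmersion i]
    [Surjective i] : UniversallyOpen i := by
  refine ⟨fun Y' Z' a b i' H => ?_⟩
  have h1 : IsClosedImmersion i' := MorphismProperty.of_isPullback H.flip ‹_›
  have h2 : Surjective i' := MorphismProperty.of_isPullback H.flip ‹_›
  exact ((i'.isClosedEmbedding.isEmbedding.toHomeomorphOfSurjective h2.surj)).isOpenMap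

end Groth.Agent.Thick4
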