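import Groth.Prelude.Def_MoreMor
import Groth.Agent.Lib.Thick4
import Mathlib.AlgebraicGeometry.ZariskisMainTheorem
import Mathlib.AlgebraicGeometry.Morphisms.QuasiFinite
import Groth.Agent.Lib.EffCartier.Comap
import Mathlib.AlgebraicGeometry.Morphisms.FormallyUnramified
import Mathlib.AlgebraicGeometry.Morphisms.FiniteType
import Mathlib.RingTheory.Unramified.Basic
import Mathlib.RingTheory.TensorProduct.Quotient
import Mathlib.RingTheory.Kaehler.Basic
import Mathlib.RingTheory.Nakayama

set_option backward.isDefEq.respectTransparency.types false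

/-!
Formal unramifiedness is insensitive to thickenings of the base.
-/

namespace Groth.Agent.ThickUnr4

open TensorProduct

universe u

section ring

variable {R B : Type u} [CommRing R] [CommRing B] [Algebra R B] (I : Ideal R)

/-- If the reduction of `B` modulo `I` is formally unramified then `Ω = IΩ`. -/
theorem top_le_smul (h : Algebra.FormallyUnramified (R ⧸ I) ((R ⧸ I) ⊗[R] B)) :
    (⊤ : Submodule B Ω[B⁄R]) ≤ (I.map (algebraMap R B)) • ⊤ := by
  haveI : Algebra.FormallyUnramified R ((R ⧸ I) ⊗[R] B) :=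
    Algebra.FormallyUnramified.comp R (R ⧸ I) _
  set J : Ideal B := I.map (algebraMap R B) with hJ
  haveI hC : Algebra.FormallyUnramified R (B ⧸ J) :=
    Algebra.FormallyUnramified.of_equiv
      ((Algebra.TensorProduct.comm R (R ⧸ I) B).trans
        ((Algebra.TensorProduct.quotIdealMapEquivTensorQuot B I).restrictScalars R).symm)
  let N := Ω[B⁄R] ⧸ (J • (⊤ : Submodule B Ω[B⁄R]))
  let D : Derivation R B N :=
    (Submodule.mkQ _).compDer (KaehlerDifferential.D R B)
  have hJ0 : ∀ x ∈ J, D x = 0 := by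
    intro x hx
    induction hx using Submodule.span_induction with
    | mem y hy => obtain ⟨r, _, rfl⟩ := hy; exact D.map_algebraMap r
    | zero => exact D.map_zero
    | add a b _ _ ha hb => simp [ha, hb]
    | smul b y hy ih =>
      rw [smul_eq_mul, D.leibniz, ih, smul_zero, zero_add]
      show y • ((Submodule.mkQ _) (KaehlerDifferential.D R B b)) = 0
      rw [← map_smul]
      exact (Submodule.Quotient.mk_eq_zero _).2 (Submodule.smul_mem_smul hy Submodule.mem_top)
  haveI : IsScalarTower B (B ⧸ J) N :=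
    ⟨fun b x m => by
      obtain ⟨x, rfl⟩ := Ideal.Quotient.mk_surjective x
      obtain ⟨m, rfl⟩ := Submodule.mkQ_surjective _ m
      show Submodule.Quotient.mk ((b * x) • m) = Submodule.Quotient.mk (b • x • m)
      rw [mul_smul]⟩
  haveI : IsScalarTower R (B ⧸ J) N :=
    ⟨fun r x m => by
      rw [← algebraMap_smul B r x, smul_assoc, algebraMap_smul]⟩
  let D' : Derivation R (B ⧸ J) N :=
    { toLinearMap := (J.restrictScalars R).liftQ D.toLinearMap (fun x hx => hJ0 x hx)
      map_one_eq_zero' := D.map_one_eq_zero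
      leibniz' := fun x y => by
        obtain ⟨x, rfl⟩ := Ideal.Quotient.mk_surjective x
        obtain ⟨y, rfl⟩ := Ideal.Quotient.mk_surjective y
        exact D.leibniz x y }
  have h0 : D' = 0 := by
    rw [← D'.liftKaehlerDifferential_comp]
    ext x
    simp [Subsingleton.elim (KaehlerDifferential.D R (B ⧸ J) x) 0]
  rw [← KaehlerDifferential.span_range_derivation, Submodule.span_le]
  rintro _ ⟨b, rfl⟩
  rw [KaehlerDifferential.span_range_derivation]
  have hb : D b = 0 := by
    exact DFunLike.congr_fun h0 (Ideal.Quotient.mk J b)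
  exact (Submodule.Quotient.mk_eq_zero _).1 hb

theorem formallyUnramified_of_isNilpotent (h : Algebra.FormallyUnramified (R ⧸ I) ((R ⧸ I) ⊗[R] B))
    (hI : IsNilpotent I) : Algebra.FormallyUnramified R B := by
  obtain ⟨n, hn⟩ := hI
  have h1 := top_le_smul I h
  set J : Ideal B := I.map (algebraMap R B) with hJ
  have hn' : J ^ n = ⊥ := by rw [hJ, ← Ideal.map_pow, hn]; simp
  have h2 : ∀ k, (⊤ : Submodule B Ω[B⁄R]) ≤ J ^ k • ⊤ := by
    intro k
    induction k with
    | zero => simp
    | succ k ih =>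
      rw [pow_succ, Submodule.mul_smul]
      exact ih.trans (Submodule.smul_mono le_rfl h1)
  rw [Algebra.formallyUnramified_iff]
  refine subsingleton_of_forall_eq 0 fun x => ?_
  simpa [hn'] using h2 n (Submodule.mem_top (x := x))

theorem formallyUnramified_of_le_nilradical [Algebra.FiniteType R B]
    (h : Algebra.FormallyUnramified (R ⧸ I) ((R ⧸ I) ⊗[R] B))
    (hI : I ≤ nilradical R) : Algebra.FormallyUnramified R B := by
  have h1 := top_le_smul I h
  have hJ : I.map (algebraMap R B) ≤ Ideal.jacobson ⊥ := by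
    rw [Ideal.map_le_iff_le_comap]
    intro x hx
    have : IsNilpotent (algebraMap R B x) := (mem_nilradical.1 (hI hx)).map _
    rw [Ideal.mem_comap, Ideal.jacobson_bot]
    exact nilradical_le_jacobson B (mem_nilradical.2 this)
  rw [Algebra.formallyUnramified_iff]
  refine subsingleton_of_forall_eq 0 fun x => ?_
  have := Submodule.eq_bot_of_le_smul_of_le_jacobson_bot _ _ (Module.Finite.fg_top) h1 hJ
  simpa [this] using Submodule.mem_top (R := B) (x := x)

end ring

section scheme

open AlgebraicGeometry CategoryTheory Limits MorphismProperty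

variable {X' Y Y' : Scheme.{u}}

theorem isPullback_comp_mono {A B C D E : Scheme.{u}} {a : A ⟶ B} {b : A ⟶ C} {c : B ⟶ D}
    {d : C ⟶ D} (h : IsPullback a b c d) (i : D ⟶ E) [Mono i] :
    IsPullback a b (c ≫ i) (d ≫ i) :=
  ⟨⟨by rw [reassoc_of% h.w]⟩, ⟨PullbackCone.isLimitOfCompMono c d i h.cone h.isLimit⟩⟩

theorem formallyUnramified_of_thickening (f' : X' ⟶ Y') (iY : Y ⟶ Y') [IsClosedImmersion iY]
    [Surjective iY] (h : FormallyUnramified (pullback.snd f' iY))
    (hc : LocallyOfFiniteType f' ∨ IsNilpotent iY.ker) : FormallyUnramified f' := by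
  rw [HasRingHomProperty.iff_appLE (P := @FormallyUnramified)]
  intro U V e
  set φ := f'.appLE U.1 V.1 e
  algebraize [φ.hom]
  let ψ := iY.app U.1
  have hU' : IsAffineOpen (iY ⁻¹ᵁ U.1) := U.2.preimage iY
  let I := RingHom.ker ψ.hom
  have hψ : Function.Surjective ψ.hom := iY.app_surjective U.1 U.2
  let e₀ : (Γ(Y', U.1) ⧸ I) ≃+* Γ(Y, iY ⁻¹ᵁ U.1) := RingHom.quotientKerEquivOfSurjective hψ
  let θ : Γ(Y, iY ⁻¹ᵁ U.1) ⟶ CommRingCat.of (Γ(Y', U.1) ⧸ I) := e₀.symm.toCommRingCatIso.hom
  let q : Γ(Y', U.1) ⟶ CommRingCat.of (Γ(Y', U.1) ⧸ I) := CommRingCat.ofHom (algebraMap _ _)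
  have hθ : ψ ≫ θ = q := by
    ext x
    show e₀.symm (ψ.hom x) = Ideal.Quotient.mk I x
    rw [e₀.symm_apply_eq]; rfl
  let s : Spec (CommRingCat.of (Γ(Y', U.1) ⧸ I)) ⟶ Y := Spec.map θ ≫ hU'.fromSpec
  have hs : s ≫ iY = Spec.map q ≫ U.2.fromSpec := by
    rw [← hθ, Spec.map_comp, Category.assoc, Category.assoc]
    congr 1
    rw [← IsAffineOpen.SpecMap_appLE_fromSpec iY U.2 hU' le_rfl]
    simp [ψ, Scheme.Hom.app_eq_appLE]
  have sq := isPullback_SpecMap_of_isPushout _ _ _ _
    (CommRingCat.isPushout_tensorProduct Γ(Y', U.1) (Γ(Y', U.1) ⧸ I) Γ(X', V.1))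
  have sq2 : IsPullback (Spec.map (CommRingCat.ofHom (Algebra.TensorProduct.includeRight
      (R := Γ(Y', U.1)) (A := Γ(Y', U.1) ⧸ I) (B := Γ(X', V.1))).toRingHom))
      (Spec.map (CommRingCat.ofHom Algebra.TensorProduct.includeLeftRingHom))
      (V.2.fromSpec ≫ f') (s ≫ iY) := by
    rw [hs, ← IsAffineOpen.SpecMap_appLE_fromSpec f' U.2 V.2 e]
    exact isPullback_comp_mono sq.flip U.2.fromSpec
  have hsnd : FormallyUnramified (pullback.snd (V.2.fromSpec ≫ f') iY) := by
    rw [← pullbackRightPullbackFstIso_inv_snd_snd f' iY V.2.fromSpec]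
    rw [MorphismProperty.cancel_left_of_respectsIso (P := @FormallyUnramified)]
    haveI : IsOpenImmersion (pullback.snd V.2.fromSpec (pullback.fst f' iY)) := inferInstance
    exact MorphismProperty.comp_mem _ _ _ inferInstance h
  have hP : FormallyUnramified (Spec.map (CommRingCat.ofHom
      (Algebra.TensorProduct.includeLeftRingHom (R := Γ(Y', U.1)) (A := Γ(Y', U.1) ⧸ I)
        (B := Γ(X', V.1))))) := by
    have sq3 := IsPullback.of_right
      (h₁₁ := pullback.lift (Spec.map (CommRingCat.ofHom (Algebra.TensorProduct.includeRight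
      (R := Γ(Y', U.1)) (A := Γ(Y', U.1) ⧸ I) (B := Γ(X', V.1))).toRingHom))
        (Spec.map (CommRingCat.ofHom Algebra.TensorProduct.includeLeftRingHom) ≫ s)
        (by rw [Category.assoc]; exact sq2.w))
      (v₁₁ := Spec.map (CommRingCat.ofHom Algebra.TensorProduct.includeLeftRingHom))
      (v₁₂ := pullback.snd (V.2.fromSpec ≫ f') iY) (h₂₁ := s)
      ?_ (pullback.lift_snd _ _ _)
      (IsPullback.of_hasPullback (V.2.fromSpec ≫ f') iY)
    · exact MorphismProperty.of_isPullback sq3 hsnd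
    · simpa [pullback.lift_fst] using sq2
  rw [HasRingHomProperty.Spec_iff (P := @FormallyUnramified)] at hP
  have hP' : Algebra.FormallyUnramified (Γ(Y', U.1) ⧸ I) ((Γ(Y', U.1) ⧸ I) ⊗[Γ(Y', U.1)] Γ(X', V.1)) :=
    RingHom.formallyUnramified_algebraMap.1 hP
  show φ.hom.FormallyUnramified
  rw [← RingHom.algebraMap_toAlgebra φ.hom, RingHom.formallyUnramified_algebraMap]
  rcases hc with hc | ⟨n, hn⟩
  · have : φ.hom.FiniteType := HasRingHomProperty.appLE (P := @LocallyOfFiniteType) f' hc U V e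
    haveI : Algebra.FiniteType Γ(Y', U.1) Γ(X', V.1) := this
    refine formallyUnramified_of_le_nilradical I hP' ?_
    haveI hq : Surjective (Spec.map q) := by
      haveI : Surjective (pullback.snd iY U.2.fromSpec) := inferInstance
      refine ⟨fun p => ?_⟩
      obtain ⟨y, hy⟩ := iY.surjective (U.2.fromSpec p)
      have hy' : y ∈ Set.range s := by
        show y ∈ Set.range (Spec.map θ ≫ hU'.fromSpec)
        rw [Scheme.Hom.comp_base, TopCat.coe_comp,
          Set.range_comp, (Scheme.Hom.surjective (Spec.map θ)).range_eq, Set.image_univ,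
          IsAffineOpen.range_fromSpec]
        show iY y ∈ U.1
        rw [hy]
        exact (U.2.range_fromSpec).le ⟨p, rfl⟩
      obtain ⟨z, rfl⟩ := hy'
      refine ⟨z, U.2.fromSpec.isOpenEmbedding.injective ?_⟩
      rw [← Scheme.Hom.comp_apply, ← hs, Scheme.Hom.comp_apply, hy]
    intro x hx
    rw [nilradical_eq_sInf, Submodule.mem_sInf]
    intro p hp
    obtain ⟨z, hz⟩ := hq.surj ⟨p, hp⟩
    have : (Spec.map q z).asIdeal = p := by rw [hz]
    rw [← this]
    show algebraMap Γ(Y', U.1) (Γ(Y', U.1) ⧸ I) x ∈ z.asIdeal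
    rw [Ideal.Quotient.algebraMap_eq, Ideal.Quotient.eq_zero_iff_mem.2 hx]
    exact z.asIdeal.zero_mem
  · refine formallyUnramified_of_isNilpotent I hP' ⟨n, ?_⟩
    have : iY.ker.ideal U = I := Scheme.Hom.ker_apply iY U
    rw [← this]
    have hn2 : (iY.ker ^ n).ideal U = ⊥ := by rw [hn]; rfl
    show _ = ⊥
    rw [← hn2]
    clear hn2 hn
    induction n with
    | zero => simp
    | succ k ih => rw [pow_succ, pow_succ, Scheme.IdealSheafData.ideal_mul, Pi.mul_apply, ← ih]

theorem ideal_pow {X : Scheme.{u}} (I : X.IdealSheafData) (n : ℕ) (U : X.affineOpens) :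
    (I ^ n).ideal U = I.ideal U ^ n := by
  induction n with
  | zero => simp
  | succ k ih => rw [pow_succ, pow_succ, Scheme.IdealSheafData.ideal_mul, Pi.mul_apply, ← ih]

theorem isNilpotent_comap {X Y : Scheme.{u}} (f : X ⟶ Y) (I : Y.IdealSheafData)
    (h : IsNilpotent I) : IsNilpotent (I.comap f) := by
  obtain ⟨n, hn⟩ := h
  refine ⟨n, ?_⟩
  let P := {p : X.affineOpens × Y.affineOpens // p.1.1 ≤ f ⁻¹ᵁ p.2.1}
  have hP : ⨆ p : P, p.1.1.1 = ⊤ := by
    rw [eq_top_iff]
    intro x _
    obtain ⟨_, ⟨U, hU, rfl⟩, hxU, -⟩ :=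
      Y.isBasis_affineOpens.exists_subset_of_mem_open (Set.mem_univ (f x)) isOpen_univ
    obtain ⟨_, ⟨V, hV, rfl⟩, hxV, hVU⟩ :=
      X.isBasis_affineOpens.exists_subset_of_mem_open hxU (f ⁻¹ᵁ U).isOpen
    exact TopologicalSpace.Opens.mem_iSup.2 ⟨⟨⟨⟨V, hV⟩, ⟨U, hU⟩⟩, hVU⟩, hxV⟩
  refine Scheme.IdealSheafData.ext_of_iSup_eq_top (fun p : P => p.1.1) hP fun p => ?_
  rw [ideal_pow, Groth.Agent.EffCartier.comap_ideal I f p.1.2 p.1.1 p.2, ← Ideal.map_pow,
    ← ideal_pow, hn]
  exact Ideal.map_bot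

variable {X : Scheme.{u}}

theorem formallyUnramified_iff {iX : X ⟶ X'} {iY : Y ⟶ Y'} {f : X ⟶ Y} {f' : X' ⟶ Y'}
    (hc : IsPullback iX f f' iY) [IsClosedImmersion iY]
    [Surjective iY] (hc' : LocallyOfFiniteType f' ∨ IsNilpotent iY.ker) :
    FormallyUnramified f ↔ FormallyUnramified f' := by
  refine ⟨fun h => formallyUnramified_of_thickening f' iY ?_ hc', fun h => ?_⟩
  · rw [← hc.isoPullback_inv_snd, MorphismProperty.cancel_left_of_respectsIso (P := @FormallyUnramified)]
    exact h
  · exact MorphismProperty.of_isPullback hc h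

theorem mono_of_isIso_diagonal {A B : Scheme.{u}} (g : A ⟶ B) [IsIso (pullback.diagonal g)] :
    Mono g :=
  pullback.isIso_diagonal_iff g |>.1 inferInstance

theorem mono_iff_lft {iX : X ⟶ X'} {iY : Y ⟶ Y'} {f : X ⟶ Y} {f' : X' ⟶ Y'}
    (hc : IsPullback iX f f' iY) [IsClosedImmersion iY]
    [Surjective iY] [LocallyOfFiniteType f'] : Mono f ↔ Mono f' := by
  refine ⟨fun h => ?_, fun h => ?_⟩
  · have hf : FormallyUnramified f := by
      haveI : IsIso (pullback.diagonal f) := (pullback.isIso_diagonal_iff f).2 h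
      infer_instance
    haveI := (formallyUnramified_iff hc (.inl ‹_›)).1 hf
    haveI : Surjective iX := MorphismProperty.of_isPullback hc.flip ‹Surjective iY›
    haveI : UniversallyInjective (iX ≫ f') := by
      rw [hc.w]; exact MorphismProperty.comp_mem _ f iY inferInstance inferInstance
    haveI := Thick4.universallyInjective_of_comp_surjective iX f'
    haveI : Surjective (pullback.diagonal f') :=
      (UniversallyInjective.iff_diagonal f').1 inferInstance
    haveI : IsOpenImmersion (pullback.diagonal f') := inferInstance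
    haveI : IsIso (pullback.diagonal f') := by
      haveI : Epi (pullback.diagonal f').base :=
        (TopCat.epi_iff_surjective _).2 (pullback.diagonal f').surjective
      exact IsOpenImmersion.isIso _
    exact mono_of_isIso_diagonal f'
  · exact MorphismProperty.of_isPullback (P := MorphismProperty.monomorphisms Scheme) hc h

theorem mono_iff_nilpotent {iX : X ⟶ X'} {iY : Y ⟶ Y'} {f : X ⟶ Y} {f' : X' ⟶ Y'}
    (hc : IsPullback iX f f' iY) [IsClosedImmersion iY]
    [Surjective iY] (hn : IsNilpotent iY.ker) : Mono f ↔ Mono f' := by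
  refine ⟨fun h => ?_, fun h => ?_⟩
  · have hf : FormallyUnramified f := by
      haveI : IsIso (pullback.diagonal f) := (pullback.isIso_diagonal_iff f).2 h
      infer_instance
    haveI := (formallyUnramified_iff hc (.inr hn)).1 hf
    refine ⟨fun {Z} g₁ g₂ hg => ?_⟩
    let g := g₁ ≫ f'
    refine FormallyUnramified.hom_ext (pullback.fst g iY) ?_ f' ?_ hg
    · rw [Scheme.IdealSheafData.ker_fst_of_isClosedImmersion]
      exact isNilpotent_comap g _ hn
    · have w₁ : (pullback.fst g iY ≫ g₁) ≫ f' = pullback.snd g iY ≫ iY := by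
        rw [Category.assoc]; exact pullback.condition
      have w₂ : (pullback.fst g iY ≫ g₂) ≫ f' = pullback.snd g iY ≫ iY := by
        rw [Category.assoc, ← hg]; exact pullback.condition
      rw [← hc.lift_fst _ _ w₁, ← hc.lift_fst _ _ w₂]
      congr 1
      rw [← cancel_mono f, hc.lift_snd, hc.lift_snd]
  · exact MorphismProperty.of_isPullback (P := MorphismProperty.monomorphisms Scheme) hc h

theorem isClosedImmersion_iff_lft {iX : X ⟶ X'} {iY : Y ⟶ Y'} {f : X ⟶ Y} {f' : X' ⟶ Y'}
    (hc : IsPullback iX f f' iY) [IsClosedImmersion iY]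
    [Surjective iY] [LocallyOfFiniteType f'] : IsClosedImmersion f ↔ IsClosedImmersion f' := by
  refine ⟨fun h => ?_, fun h => MorphismProperty.of_isPullback hc h⟩
  haveI : Mono f' := (mono_iff_lft hc).1 inferInstance
  haveI : Surjective iX := MorphismProperty.of_isPullback hc.flip ‹Surjective iY›
  haveI : UniversallyClosed (iX ≫ f') := by rw [hc.w]; infer_instance
  haveI := UniversallyClosed.of_comp_surjective iX f'
  haveI : IsSeparated f' := by
    haveI : IsIso (pullback.diagonal f') := (pullback.isIso_diagonal_iff f').2 inferInstance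
    exact ⟨inferInstance⟩
  exact (IsClosedImmersion.iff_isProper_and_mono f').2 ⟨{}, inferInstance⟩

theorem isImmersion_iff_lft {iX : X ⟶ X'} {iY : Y ⟶ Y'} {f : X ⟶ Y} {f' : X' ⟶ Y'}
    (hc : IsPullback iX f f' iY) [IsClosedImmersion iY]
    [Surjective iY] [LocallyOfFiniteType f'] : IsImmersion f ↔ IsImmersion f' := by
  refine ⟨fun h => ?_, fun h => MorphismProperty.of_isPullback hc h⟩
  haveI : Surjective iX := MorphismProperty.of_isPullback hc.flip ‹Surjective iY›
  have hr : Set.range f' = iY '' Set.range f := by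
    rw [← Set.range_comp, ← TopCat.coe_comp, ← Scheme.Hom.comp_base, ← hc.w, Scheme.Hom.comp_base,
      TopCat.coe_comp, iX.surjective.range_comp]
  have hlc : IsLocallyClosed (Set.range f') := by
    rw [hr]
    exact f.isLocallyClosed_range.image iY.isClosedEmbedding.isInducing
      iY.isClosedEmbedding.isClosed_range.isLocallyClosed
  let U : Y'.Opens := ⟨coborder (Set.range f'), hlc.isOpen_coborder⟩
  let f'' : X' ⟶ U.toScheme := IsOpenImmersion.lift U.ι f' (by
    rw [U.range_ι]; exact subset_coborder)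
  have hf'' : f'' ≫ U.ι = f' := IsOpenImmersion.lift_fac _ _ _
  let g : X ⟶ (iY ⁻¹ᵁ U).toScheme := IsOpenImmersion.lift (iY ⁻¹ᵁ U).ι f (by
    rw [Scheme.Opens.range_ι]
    rintro _ ⟨x, rfl⟩
    show iY (f x) ∈ coborder _
    exact subset_coborder (hr.ge ⟨_, ⟨x, rfl⟩, rfl⟩))
  have hg : g ≫ (iY ⁻¹ᵁ U).ι = f := IsOpenImmersion.lift_fac _ _ _
  have sq : IsPullback iX g f'' (iY ∣_ U) := by
    refine IsPullback.of_bot ?_ ?_ (isPullback_morphismRestrict iY U)
    · rw [hg, hf'']; exact hc
    · rw [← cancel_mono U.ι, Category.assoc, hf'', Category.assoc, morphismRestrict_ι,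
        reassoc_of% hg, hc.w]
  haveI : LocallyOfFiniteType f'' := by
    haveI : LocallyOfFiniteType (f'' ≫ U.ι) := by rw [hf'']; infer_instance
    exact locallyOfFiniteType_of_comp f'' U.ι
  haveI : Surjective (iY ∣_ U) :=
    MorphismProperty.of_isPullback (isPullback_morphismRestrict iY U).flip ‹Surjective iY›
  haveI : IsImmersion g := by
    haveI : IsImmersion (g ≫ (iY ⁻¹ᵁ U).ι) := by rw [hg]; exact h
    exact IsImmersion.of_comp g (iY ⁻¹ᵁ U).ι
  haveI : IsClosedImmersion g := by
    refine IsClosedImmersion.of_isPreimmersion g ?_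
    have : Set.range g = (fun z : (iY ⁻¹ᵁ U).toScheme => iY ((iY ⁻¹ᵁ U).ι z)) ⁻¹' Set.range f' := by
      ext z
      refine ⟨?_, ?_⟩
      · rintro ⟨x, rfl⟩
        refine hr.ge ⟨_, ⟨x, rfl⟩, ?_⟩
        rw [← hg]; rfl
      · intro hz
        obtain ⟨_, ⟨x, rfl⟩, hx⟩ := hr.le hz
        refine ⟨x, (iY ⁻¹ᵁ U).ι.isOpenEmbedding.injective ?_⟩
        rw [← Scheme.Hom.comp_apply, hg]
        exact iY.isClosedEmbedding.injective hx
    rw [this]
    obtain ⟨C, hC, hCe⟩ := isClosed_induced_iff.1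
      (isClosed_preimage_val_coborder (s := Set.range f'))
    have h2 : (fun z : (iY ⁻¹ᵁ U).toScheme => iY ((iY ⁻¹ᵁ U).ι z)) ⁻¹' Set.range f' =
        (fun z : (iY ⁻¹ᵁ U).toScheme => iY ((iY ⁻¹ᵁ U).ι z)) ⁻¹' C := by
      ext z
      have hzU : iY ((iY ⁻¹ᵁ U).ι z) ∈ coborder (Set.range f') := z.2
      exact (Set.ext_iff.1 hCe ⟨_, hzU⟩).symm
    rw [h2]
    exact hC.preimage (iY.continuous.comp (iY ⁻¹ᵁ U).ι.continuous)
  haveI := (isClosedImmersion_iff_lft sq).1 inferInstance
  rw [← hf'']
  infer_instance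

theorem locallyQuasiFinite_iff_lft {iX : X ⟶ X'} {iY : Y ⟶ Y'} {f : X ⟶ Y} {f' : X' ⟶ Y'}
    (hc : IsPullback iX f f' iY) [IsClosedImmersion iY]
    [Surjective iY] [LocallyOfFiniteType f'] : LocallyQuasiFinite f ↔ LocallyQuasiFinite f' := by
  refine ⟨fun h => ?_, fun h => MorphismProperty.of_isPullback hc h⟩
  haveI : Surjective iX := MorphismProperty.of_isPullback hc.flip ‹Surjective iY›
  haveI : IsClosedImmersion iX := MorphismProperty.of_isPullback hc.flip ‹IsClosedImmersion iY›
  haveI : LocallyQuasiFinite (iX ≫ f') := by rw [hc.w]; infer_instance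
  refine locallyQuasiFinite_iff_isDiscrete_preimage_singleton.2 fun y => ?_
  have h1 := ((iX ≫ f').isDiscrete_preimage_singleton y).image iX.isClosedEmbedding.isInducing
  rwa [Scheme.Hom.comp_base, TopCat.coe_comp, Set.preimage_comp,
    Set.image_preimage_eq _ iX.surjective] at h1

end scheme

end Groth.Agent.ThickUnr4
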