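import Groth.Agent.Lib.ThickUnr4
import Groth.Agent.Lib.EffCartier.Comap
import Groth.Agent.Lib.AlgSpDescent.DeformRing
import Groth.Agent.Lib.AlgSpDescent.NilpotentRing
import Mathlib.RingTheory.FinitePresentation
import Mathlib.LinearAlgebra.TensorProduct.RightExactness

set_option backward.isDefEq.respectTransparency.types false

/-!
Deformations of morphisms of schemes flat over a thickened base.
-/

namespace Groth.Agent.Deform4

open TensorProduct

universe u

section ring

/-- A pointwise form of `ker_le_smul_of_flat`. -/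
theorem mem_smul_ker_of_flat {A C P M : Type u} [CommRing A] [CommRing C] [Algebra A C]
    [AddCommGroup P] [AddCommGroup M] [Module C P] [Module C M] [Module A P] [Module A M]
    [IsScalarTower A C P] [IsScalarTower A C M] [Module.Flat A M] (J : Ideal A)
    (π : P →ₗ[C] M) (hπ : Function.Surjective π) {x : P} (hx : π x = 0)
    (hxJ : x ∈ J.map (algebraMap A C) • (⊤ : Submodule C P)) :
    x ∈ J.map (algebraMap A C) • LinearMap.ker π := by
  have hx' : x ∈ J • Submodule.span A (Set.range (id : P → P)) := by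
    rw [Set.range_id, Submodule.span_univ]
    exact AlgSpDescent.mem_smul_of_mem_map_smul J hxJ
  obtain ⟨a, ha, hsum⟩ := (Submodule.mem_ideal_smul_span_iff_exists_sum J (id : P → P) x).1 hx'
  have hrel : ∑ k : a.support, a k • π k = 0 := by
    have : π (∑ k : a.support, a k • (k : P)) = 0 := by
      rw [Finset.univ_eq_attach, Finset.sum_attach a.support (fun k => a k • k)]
      change π (a.sum fun i c => c • id i) = 0
      rw [hsum]
      exact hx
    simpa only [map_sum, LinearMap.map_smul_of_tower] using this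
  obtain ⟨r, b, y, hy, hb⟩ := Module.Flat.isTrivialRelation_of_sum_smul_eq_zero hrel
  choose z hz using fun i => hπ (y i)
  have hexp : x = ∑ k : a.support, a k • ((k : P) - ∑ i, b k i • z i) := by
    simp only [smul_sub, Finset.sum_sub_distrib, Finset.smul_sum, smul_smul]
    rw [Finset.sum_comm (f := fun (k : a.support) i => (a k * b k i) • z i)]
    simp only [← Finset.sum_smul, hb, zero_smul, Finset.sum_const_zero, sub_zero]
    rw [Finset.univ_eq_attach, Finset.sum_attach a.support (fun k => a k • k)]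
    exact hsum.symm
  rw [hexp]
  refine Submodule.sum_mem _ fun k _ => ?_
  rw [← algebraMap_smul C (a k)]
  refine Submodule.smul_mem_smul (Ideal.mem_map_of_mem _ (ha _)) ?_
  rw [LinearMap.mem_ker, map_sub, show π k = ∑ i, b k i • y i from hy k, map_sum]
  simp only [LinearMap.map_smul_of_tower, hz, sub_self]

variable {B C : Type u} [CommRing B] [CommRing C] [Algebra B C]

/-- Finite type descends from a nilpotent quotient, tensor form. -/
theorem finiteType_of_tensor (J : Ideal B) (hJ : IsNilpotent J)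
    (h : Algebra.FiniteType (B ⧸ J) ((B ⧸ J) ⊗[B] C)) : Algebra.FiniteType B C := by
  obtain ⟨m, hm⟩ := hJ
  haveI : Algebra.FiniteType B ((B ⧸ J) ⊗[B] C) :=
    Algebra.FiniteType.trans (S := B ⧸ J) inferInstance h
  have hC : Algebra.FiniteType B (C ⧸ J.map (algebraMap B C)) :=
    Algebra.FiniteType.equiv ‹_›
      ((Algebra.TensorProduct.comm B (B ⧸ J) C).trans
        ((Algebra.TensorProduct.quotIdealMapEquivTensorQuot C J).restrictScalars B).symm)
  refine RingHom.finiteType_algebraMap.1 (AlgSpDescent.finiteType_of_nilpotent (J := J) (m := m) ?_ ?_)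
  · rw [← Ideal.map_pow, hm]; exact Ideal.map_bot
  · refine RingHom.FiniteType.of_comp_finiteType (f := Ideal.Quotient.mk J) ?_
    exact RingHom.finiteType_algebraMap.2 hC

theorem ker_includeRight (J : Ideal B) :
    RingHom.ker (Algebra.TensorProduct.includeRight : C →ₐ[B] (B ⧸ J) ⊗[B] C) =
      J.map (algebraMap B C) := by
  ext x
  rw [RingHom.mem_ker, ← Ideal.Quotient.eq_zero_iff_mem,
    ← map_eq_zero_iff _ (((Algebra.TensorProduct.quotIdealMapEquivTensorQuot C J).restrictScalars B).trans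
      (Algebra.TensorProduct.comm B C (B ⧸ J))).injective]
  rfl

/-- Finite presentation descends from a nilpotent quotient, given a finitely presented cover. -/
theorem fp_of_surjective_of_tensor {A B C P : Type u} [CommRing A] [CommRing B] [CommRing C]
    [CommRing P] [Algebra A B] [Algebra A C] [Algebra A P] [Algebra B C] [Algebra B P] [Algebra P C]
    [IsScalarTower A B C] [IsScalarTower A B P] [IsScalarTower B P C] [IsScalarTower A P C]
    [Module.Flat A C] [Algebra.FinitePresentation B P]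
    (hπ : Function.Surjective (algebraMap P C)) (I : Ideal A) (hI : IsNilpotent I)
    (h : Algebra.FinitePresentation (B ⧸ I.map (algebraMap A B))
      ((B ⧸ I.map (algebraMap A B)) ⊗[B] C)) : Algebra.FinitePresentation B C := by
  classical
  obtain ⟨m, hm⟩ := hI
  let J := I.map (algebraMap A B)
  let π : P →ₐ[B] C := IsScalarTower.toAlgHom B P C
  let ρ : P →ₐ[B] (B ⧸ J) ⊗[B] P := Algebra.TensorProduct.includeRight
  let K : Ideal P := LinearMap.ker (Algebra.linearMap P C)
  let πb := Algebra.TensorProduct.map (AlgHom.id (B ⧸ J) (B ⧸ J)) π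
  have hπb : Function.Surjective πb := by
    intro z
    induction z using TensorProduct.induction_on with
    | zero => exact ⟨0, map_zero _⟩
    | tmul a c => obtain ⟨p, rfl⟩ := hπ c; exact ⟨a ⊗ₜ p, rfl⟩
    | add a b ha hb =>
      obtain ⟨a', rfl⟩ := ha; obtain ⟨b', rfl⟩ := hb; exact ⟨a' + b', map_add _ _ _⟩
  have hfg : (RingHom.ker πb.toRingHom).FG :=
    Algebra.FinitePresentation.ker_fG_of_surjective πb hπb
  have hfun : ⇑πb = ⇑(Algebra.TensorProduct.map (AlgHom.id B (B ⧸ J)) π) := rfl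
  have hker : RingHom.ker πb.toRingHom = K.map ρ := by
    have h2 := Algebra.TensorProduct.lTensor_ker (A := B ⧸ J) π hπ
    refine Ideal.ext fun z => ?_
    have h3 := Ideal.ext_iff.1 h2 z
    rw [RingHom.mem_ker] at h3 ⊢
    rw [show πb.toRingHom z = πb z from rfl, hfun]
    exact h3
  have hρ : Function.Surjective ρ :=
    TensorProduct.mk_surjective B P (B ⧸ J) Ideal.Quotient.mk_surjective
  rw [hker] at hfg
  obtain ⟨s, hs⟩ := hfg
  have hmem : ∀ y ∈ s, ∃ x ∈ K, ρ x = y :=
    fun y hy => (Ideal.mem_map_iff_of_surjective ρ hρ).1 (hs ▸ Ideal.subset_span hy)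
  choose l hlK hl using hmem
  let K₀ : Ideal P := Ideal.span (Set.range fun y : s => l y y.2)
  have hK₀K : K₀ ≤ K := by
    refine Ideal.span_le.2 ?_; rintro _ ⟨y, rfl⟩; exact hlK _ y.2
  have hK₀map : K.map ρ ≤ K₀.map ρ := by
    rw [← hs]
    refine Ideal.span_le.2 fun y hy => ?_
    rw [SetLike.mem_coe, ← hl y hy]
    exact Ideal.mem_map_of_mem _ (Ideal.subset_span ⟨⟨y, hy⟩, rfl⟩)
  have step : K ≤ K₀ ⊔ I.map (algebraMap A P) • K := by
    intro x hx
    obtain ⟨k, hk, hkx⟩ := (Ideal.mem_map_iff_of_surjective ρ hρ).1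
      (hK₀map (Ideal.mem_map_of_mem _ hx))
    have h1 : x - k ∈ J.map (algebraMap B P) := by
      rw [← ker_includeRight, RingHom.mem_ker, map_sub, hkx, sub_self]
    rw [Ideal.map_map, ← IsScalarTower.algebraMap_eq] at h1
    refine Submodule.mem_sup.2 ⟨k, hk, x - k, ?_, add_sub_cancel _ _⟩
    refine mem_smul_ker_of_flat I (Algebra.linearMap P C) hπ ?_ ?_
    · exact LinearMap.mem_ker.1 (K.sub_mem hx (hK₀K hk))
    · rwa [smul_eq_mul, Ideal.mul_top]
  have hpow : ∀ k : ℕ, K ≤ K₀ ⊔ (I.map (algebraMap A P)) ^ k • K := by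
    intro k
    induction k with
    | zero => simp
    | succ k ih =>
      refine ih.trans (sup_le le_sup_left ?_)
      rw [pow_succ, Submodule.mul_smul]
      refine (smul_mono_right _ step).trans ?_
      rw [Submodule.smul_sup]
      exact sup_le (le_sup_of_le_left Submodule.smul_le_right) le_sup_right
  have hK : K ≤ K₀ := by
    have := hpow m
    rw [← Ideal.map_pow, hm] at this
    simpa using this
  refine Algebra.FinitePresentation.of_surjective (f := π) hπ ?_
  rw [show RingHom.ker π.toRingHom = K₀ from le_antisymm hK hK₀K]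
  exact ⟨Finset.univ.image fun y : s => l y y.2, by simp [K₀]⟩

/-- Finite presentation descends from a nilpotent quotient for algebras flat over a base. -/
theorem finitePresentation_of_tensor {A : Type u} [CommRing A] [Algebra A B] [Algebra A C]
    [IsScalarTower A B C] [Module.Flat A C] (I : Ideal A) (hI : IsNilpotent I)
    (h : Algebra.FinitePresentation (B ⧸ I.map (algebraMap A B))
      ((B ⧸ I.map (algebraMap A B)) ⊗[B] C)) : Algebra.FinitePresentation B C := by
  obtain ⟨m, hm⟩ := hI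
  have hJ : IsNilpotent (I.map (algebraMap A B)) :=
    ⟨m, by rw [← Ideal.map_pow, hm]; exact Ideal.map_bot⟩
  haveI : Algebra.FiniteType B C := finiteType_of_tensor _ hJ inferInstance
  obtain ⟨n, π, hπ⟩ := Algebra.FiniteType.iff_quotient_mvPolynomial''.1 ‹Algebra.FiniteType B C›
  letI : Algebra (MvPolynomial (Fin n) B) C := π.toAlgebra
  haveI : IsScalarTower B (MvPolynomial (Fin n) B) C :=
    IsScalarTower.of_algebraMap_eq' π.comp_algebraMap.symm
  haveI : IsScalarTower A (MvPolynomial (Fin n) B) C := IsScalarTower.of_algebraMap_eq' (by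
    rw [IsScalarTower.algebraMap_eq A B C, IsScalarTower.algebraMap_eq A B (MvPolynomial (Fin n) B),
      ← RingHom.comp_assoc, ← IsScalarTower.algebraMap_eq B (MvPolynomial (Fin n) B) C])
  exact fp_of_surjective_of_tensor (P := MvPolynomial (Fin n) B) hπ I ⟨m, hm⟩ h

end ring

section scheme

open AlgebraicGeometry CategoryTheory Limits MorphismProperty

variable {X X' Y Y' S S' : Scheme.{u}}

/-- The base change to the closed subscheme, in a chart, in tensor form. -/
theorem chart_baseChange {P : MorphismProperty Scheme.{u}}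
    {Q : ∀ {R S : Type u} [CommRing R] [CommRing S], (R →+* S) → Prop} [HasRingHomProperty P Q]
    [P.IsStableUnderBaseChange] [P.Respects @IsOpenImmersion]
    (f' : X' ⟶ Y') (iY : Y ⟶ Y') [IsClosedImmersion iY] (h : P (pullback.snd f' iY))
    (U : Y'.affineOpens) (V : X'.affineOpens) (e : V.1 ≤ f' ⁻¹ᵁ U.1) :
    letI := (f'.appLE U V e).hom.toAlgebra
    Q (algebraMap (Γ(Y', U.1) ⧸ RingHom.ker (iY.app U.1).hom)
      ((Γ(Y', U.1) ⧸ RingHom.ker (iY.app U.1).hom) ⊗[Γ(Y', U.1)] Γ(X', V.1))) := by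
  letI := (f'.appLE U V e).hom.toAlgebra
  let ψ := iY.app U.1
  have hU' : IsAffineOpen (iY ⁻¹ᵁ U.1) := U.2.preimage iY
  let I := RingHom.ker ψ.hom
  have hψ : Function.Surjective ψ.hom := iY.app_surjective U.1 U.2
  let e₀ : (Γ(Y', U.1) ⧸ I) ≃+* Γ(Y, iY ⁻¹ᵁ U.1) := RingHom.quotientKerEquivOfSurjective hψ
  let θ : Γ(Y, iY ⁻¹ᵁ U.1) ⟶ CommRingCat.of (Γ(Y', U.1) ⧸ I) := e₀.symm.toCommRingCatIso.hom
  let q : Γ(Y', U.1) ⟶ CommRingCat.of (Γ(Y', U.1) ⧸ I) := CommRingCat.ofHom (algebraMap _ _)
  have hθ : ψ ≫ θ = q := by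
    ext x
    show e₀.symm (ψ.hom x) = Ideal.Quotient.mk I x
    rw [e₀.symm_apply_eq]; rfl
  let s : Spec (CommRingCat.of (Γ(Y', U.1) ⧸ I)) ⟶ Y := Spec.map θ ≫ hU'.fromSpec
  have hs : s ≫ iY = Spec.map q ≫ U.2.fromSpec := by
    rw [← hθ, Spec.map_comp, Category.assoc, Category.assoc]
    congr 1
    rw [← IsAffineOpen.SpecMap_appLE_fromSpec iY U.2 hU' le_rfl]
    simp [ψ, Scheme.Hom.app_eq_appLE]
  have sq := isPullback_SpecMap_of_isPushout _ _ _ _
    (CommRingCat.isPushout_tensorProduct Γ(Y', U.1) (Γ(Y', U.1) ⧸ I) Γ(X', V.1))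
  have sq2 : IsPullback (Spec.map (CommRingCat.ofHom (Algebra.TensorProduct.includeRight
      (R := Γ(Y', U.1)) (A := Γ(Y', U.1) ⧸ I) (B := Γ(X', V.1))).toRingHom))
      (Spec.map (CommRingCat.ofHom Algebra.TensorProduct.includeLeftRingHom))
      (V.2.fromSpec ≫ f') (s ≫ iY) := by
    rw [hs, ← IsAffineOpen.SpecMap_appLE_fromSpec f' U.2 V.2 e]
    exact ThickUnr4.isPullback_comp_mono sq.flip U.2.fromSpec
  have hsnd : P (pullback.snd (V.2.fromSpec ≫ f') iY) := by
    rw [← pullbackRightPullbackFstIso_inv_snd_snd f' iY V.2.fromSpec,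
      MorphismProperty.cancel_left_of_respectsIso P]
    exact MorphismProperty.RespectsLeft.precomp (Q := @IsOpenImmersion)
      (pullback.snd V.2.fromSpec (pullback.fst f' iY)) inferInstance _ h
  have sq3 := IsPullback.of_right
    (h₁₁ := pullback.lift (Spec.map (CommRingCat.ofHom (Algebra.TensorProduct.includeRight
    (R := Γ(Y', U.1)) (A := Γ(Y', U.1) ⧸ I) (B := Γ(X', V.1))).toRingHom))
      (Spec.map (CommRingCat.ofHom Algebra.TensorProduct.includeLeftRingHom) ≫ s)
      (by rw [Category.assoc]; exact sq2.w))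
    (v₁₁ := Spec.map (CommRingCat.ofHom Algebra.TensorProduct.includeLeftRingHom))
    (v₁₂ := pullback.snd (V.2.fromSpec ≫ f') iY) (h₂₁ := s)
    (by simpa [pullback.lift_fst] using sq2) (pullback.lift_snd _ _ _)
    (IsPullback.of_hasPullback (V.2.fromSpec ≫ f') iY)
  exact (HasRingHomProperty.Spec_iff (P := P)).1 (MorphismProperty.of_isPullback sq3 hsnd)

/-- The kernel of a base change of a closed immersion on affine charts. -/
theorem ker_app_of_isPullback {iY : Y ⟶ Y'} {g : Y ⟶ S} {g' : Y' ⟶ S'} {iS : S ⟶ S'}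
    [IsClosedImmersion iS] (hc : IsPullback iY g g' iS) (U : S'.affineOpens) (V : Y'.affineOpens)
    (e : V.1 ≤ g' ⁻¹ᵁ U.1) :
    RingHom.ker (iY.app V.1).hom =
      (RingHom.ker (iS.app U.1).hom).map (g'.appLE U V e).hom := by
  haveI : IsClosedImmersion iY := MorphismProperty.of_isPullback hc.flip ‹IsClosedImmersion iS›
  rw [← Scheme.Hom.ker_apply iY V, ← Scheme.Hom.ker_apply iS U,
    ← Groth.Agent.EffCartier.comap_ideal iS.ker g' U V e,
    ← Scheme.IdealSheafData.ker_fst_of_isClosedImmersion, ← hc.isoPullback_hom_fst,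
    Scheme.Hom.ker_comp_of_isIso]

/-- A property local on source and target can be checked on triples of charts. -/
theorem of_charts {P : MorphismProperty Scheme.{u}}
    {Q : ∀ {R S : Type u} [CommRing R] [CommRing S], (R →+* S) → Prop} [HasRingHomProperty P Q]
    [P.Respects @IsOpenImmersion] (f' : X' ⟶ Y') (g' : Y' ⟶ S')
    (H : ∀ (U : S'.affineOpens) (V : Y'.affineOpens) (W : X'.affineOpens)
      (_ : V.1 ≤ g' ⁻¹ᵁ U.1) (e₂ : W.1 ≤ f' ⁻¹ᵁ V.1), Q (f'.appLE V W e₂).hom) : P f' := by
  refine (IsZariskiLocalAtSource.iff_exists_resLE (P := P)).mpr fun x => ?_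
  obtain ⟨_, ⟨U, hU, rfl⟩, hxU, -⟩ :=
    S'.isBasis_affineOpens.exists_subset_of_mem_open (Set.mem_univ (g' (f' x))) isOpen_univ
  obtain ⟨_, ⟨V, hV, rfl⟩, hxV, e₁⟩ :=
    Y'.isBasis_affineOpens.exists_subset_of_mem_open hxU (g' ⁻¹ᵁ U).isOpen
  obtain ⟨_, ⟨W, hW, rfl⟩, hxW, e₂⟩ :=
    X'.isBasis_affineOpens.exists_subset_of_mem_open hxV (f' ⁻¹ᵁ V).isOpen
  refine ⟨V, W, hxW, e₂, ?_⟩
  have hQ := H ⟨U, hU⟩ ⟨V, hV⟩ ⟨W, hW⟩ e₁ e₂
  haveI : IsAffine (Scheme.Opens.toScheme V) := hV
  haveI : IsAffine (Scheme.Opens.toScheme W) := hW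
  haveI : (RingHom.toMorphismProperty Q).RespectsIso :=
    RingHom.toMorphismProperty_respectsIso_iff.mp (HasRingHomProperty.isLocal_ringHomProperty P).respectsIso
  rw [HasRingHomProperty.iff_of_isAffine (P := P)]
  exact (MorphismProperty.arrow_mk_iso_iff (RingHom.toMorphismProperty Q)
    (arrowResLEAppIso f' V W e₂)).mpr hQ

variable {iX : X ⟶ X'} {iY : Y ⟶ Y'} {iS : S ⟶ S'} {f : X ⟶ Y} {f' : X' ⟶ Y'} {g : Y ⟶ S}
  {g' : Y' ⟶ S'}

theorem isPullback_deform (hcX : IsPullback iX (f ≫ g) (f' ≫ g') iS) (hcY : IsPullback iY g g' iS)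
    (w : iX ≫ f' = f ≫ iY) : IsPullback iX f f' iY :=
  IsPullback.of_bot hcX w hcY

theorem ker_le_nilradical [IsClosedImmersion iS] [Surjective iS] (U : S'.affineOpens) :
    RingHom.ker (iS.app U.1).hom ≤ nilradical Γ(S', U.1) := by
  intro x hx
  have hb : S'.basicOpen x = ⊥ := by
    have h0 : iS ⁻¹ᵁ S'.basicOpen x = ⊥ := by
      rw [Scheme.preimage_basicOpen]
      rw [show iS.app U.1 x = 0 from hx]
      simp
    ext y
    simp only [TopologicalSpace.Opens.coe_bot, Set.mem_empty_iff_false, iff_false]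
    intro hy
    obtain ⟨z, rfl⟩ := iS.surjective y
    have : z ∈ iS ⁻¹ᵁ S'.basicOpen x := hy
    rw [h0] at this
    exact this
  exact mem_nilradical.2 (((Scheme.isNilpotent_iff_basicOpen_eq_bot_of_isCompact U.2.isCompact x).2 hb))

end scheme

end Groth.Agent.Deform4
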