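import Groth.Agent.Lib.SectionCompOpen4
import Groth.Agent.Lib.Descend19.Flat
import Groth.Agent.Lib.Unibr4.GoDown
import Groth.Agent.Lib.FibDim14.BaseChange
import Groth.Agent.Lib.AbRigid.SmoothGI

/-!
# Components along a section of flat morphisms of finite presentation (EGA IV 15.6.5)
-/

universe u

open CategoryTheory CategoryTheory.Limits AlgebraicGeometry Topology TopologicalSpace IsLocalRing

set_option backward.isDefEq.respectTransparency.types false
set_option linter.style.haveILetI false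

namespace Groth.Agent.SectionCompFlat4

open MoreMor (sectionComponents)

/-- Geometric reducedness descends along field extensions. -/
theorem isGeomReducedAt_of_ext {k k' : Type u} [Field k] [Field k'] (φ : k →+* k') {F F' : Scheme.{u}}
    {g : F ⟶ Spec (CommRingCat.of k)} {g' : F' ⟶ Spec (CommRingCat.of k')} {pr : F' ⟶ F}
    (sq : IsPullback pr g' g (Spec.map (CommRingCat.ofHom φ))) (w : F')
    (hw : FBase.IsGeomReducedAt g' w) : FBase.IsGeomReducedAt g (pr w) := by
  intro K _ _ z hz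
  obtain ⟨ζ, hζ₁, hζ₂⟩ := Scheme.Pullback.exists_preimage_pullback (f := FBase.bcπ g K) (g := pr) z w hz
  let T := pullback (FBase.bcπ g K) pr
  let Ω := T.residueField ζ
  let ρ : Spec (CommRingCat.of Ω) ⟶ T := T.fromSpecResidueField ζ
  obtain ⟨a, ha⟩ := Spec.map_surjective (ρ ≫ pullback.fst (FBase.bcπ g K) pr ≫ FBase.bcStr g K)
  obtain ⟨b, hb⟩ := Spec.map_surjective (ρ ≫ pullback.snd (FBase.bcπ g K) pr ≫ g')
  letI : Algebra K Ω := a.hom.toAlgebra
  letI : Algebra k' Ω := b.hom.toAlgebra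
  let tK : Spec (CommRingCat.of Ω) ⟶ Spec (CommRingCat.of K) := Spec.map (CommRingCat.ofHom (algebraMap K Ω))
  let tk' : Spec (CommRingCat.of Ω) ⟶ Spec (CommRingCat.of k') := Spec.map (CommRingCat.ofHom (algebraMap k' Ω))
  let sK : Spec (CommRingCat.of K) ⟶ Spec (CommRingCat.of k) := Spec.map (CommRingCat.ofHom (algebraMap k K))
  have htK : tK = ρ ≫ pullback.fst (FBase.bcπ g K) pr ≫ FBase.bcStr g K := ha
  have htk' : tk' = ρ ≫ pullback.snd (FBase.bcπ g K) pr ≫ g' := hb
  have hcomp : tK ≫ sK = tk' ≫ Spec.map (CommRingCat.ofHom φ) := by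
    rw [htK, htk', Category.assoc, Category.assoc, Category.assoc, Category.assoc,
      show FBase.bcStr g K ≫ sK = FBase.bcπ g K ≫ g from pullback.condition.symm, ← sq.w,
      ← Category.assoc (pullback.fst (FBase.bcπ g K) pr), pullback.condition, Category.assoc]
  let e : FBase.bc g' Ω ⟶ FBase.bc g K :=
    pullback.lift (FBase.bcπ g' Ω ≫ pr) (FBase.bcStr g' Ω ≫ tK) (by
      rw [Category.assoc, Category.assoc, hcomp, sq.w, ← Category.assoc, ← Category.assoc]
      congr 1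
      exact pullback.condition)
  let τ : Spec (CommRingCat.of Ω) ⟶ FBase.bc g' Ω :=
    pullback.lift (ρ ≫ pullback.snd (FBase.bcπ g K) pr) (𝟙 _) (by rw [Category.id_comp, Category.assoc]; exact hb.symm)
  let z₀ : Spec (CommRingCat.of Ω) := closedPoint Ω
  have hτw : FBase.bcπ g' Ω (τ z₀) = w := by
    rw [← Scheme.Hom.comp_apply,
      show τ ≫ FBase.bcπ g' Ω = ρ ≫ pullback.snd (FBase.bcπ g K) pr from pullback.lift_fst _ _ _,
      Scheme.Hom.comp_apply, Scheme.fromSpecResidueField_apply, hζ₂]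
  have hτe : τ ≫ e = ρ ≫ pullback.fst (FBase.bcπ g K) pr := by
    apply pullback.hom_ext
    · refine (Category.assoc τ e (FBase.bcπ g K)).trans (Eq.trans ?_
        (Category.assoc ρ (pullback.fst (FBase.bcπ g K) pr) (FBase.bcπ g K)).symm)
      rw [show e ≫ FBase.bcπ g K = FBase.bcπ g' Ω ≫ pr from pullback.lift_fst _ _ _, ← Category.assoc,
        show τ ≫ FBase.bcπ g' Ω = ρ ≫ pullback.snd (FBase.bcπ g K) pr from pullback.lift_fst _ _ _, Category.assoc]
      exact congrArg (ρ ≫ ·) pullback.condition.symm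
    · refine (Category.assoc τ e (FBase.bcStr g K)).trans (Eq.trans ?_
        (Category.assoc ρ (pullback.fst (FBase.bcπ g K) pr) (FBase.bcStr g K)).symm)
      rw [show e ≫ FBase.bcStr g K = FBase.bcStr g' Ω ≫ tK from pullback.lift_snd _ _ _, ← Category.assoc,
        show τ ≫ FBase.bcStr g' Ω = 𝟙 _ from pullback.lift_snd _ _ _, Category.id_comp]
      exact htK
  have hez : e (τ z₀) = z := by
    rw [← Scheme.Hom.comp_apply, hτe, Scheme.Hom.comp_apply, Scheme.fromSpecResidueField_apply, hζ₁]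
  have hbig : IsPullback (FBase.bcπ g' Ω ≫ pr) (FBase.bcStr g' Ω) g (tK ≫ sK) := by
    rw [hcomp]
    exact (IsPullback.of_hasPullback _ _).paste_horiz sq
  have he : IsPullback e (FBase.bcStr g' Ω) (FBase.bcStr g K) tK :=
    IsPullback.of_right (h₁₁ := e) (h₁₂ := FBase.bcπ g K)
      (by rw [show e ≫ FBase.bcπ g K = FBase.bcπ g' Ω ≫ pr from pullback.lift_fst _ _ _]; exact hbig)
      (pullback.lift_snd _ _ _) (IsPullback.of_hasPullback g sK)
  haveI : Flat tK := by
    rw [HasRingHomProperty.Spec_iff (P := @Flat)]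
    exact RingHom.flat_algebraMap_iff.mpr inferInstance
  haveI : Flat e := MorphismProperty.of_isPullback (P := @Flat) he.flip inferInstance
  have hflat : (e.stalkMap (τ z₀)).hom.Flat := Flat.stalkMap e (τ z₀)
  have h1 := hw Ω (τ z₀) hτw
  rw [← hez]
  algebraize [(e.stalkMap (τ z₀)).hom]
  haveI : IsLocalHom (algebraMap ((FBase.bc g K).presheaf.stalk (e (τ z₀))) ((FBase.bc g' Ω).presheaf.stalk (τ z₀))) :=
    inferInstanceAs (IsLocalHom (e.stalkMap (τ z₀)).hom)
  haveI : Module.FaithfullyFlat ((FBase.bc g K).presheaf.stalk (e (τ z₀))) ((FBase.bc g' Ω).presheaf.stalk (τ z₀)) :=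
    Module.FaithfullyFlat.of_flat_of_isLocalHom
  exact isReduced_of_injective (algebraMap ((FBase.bc g K).presheaf.stalk (e (τ z₀))) ((FBase.bc g' Ω).presheaf.stalk (τ z₀)))
    (FaithfulSMul.algebraMap_injective _ _)

variable {X Y : Scheme.{u}}

/-- Geometric reducedness of fibres descends along base change. -/
theorem isGeomReducedAt_of_baseChange (f : X ⟶ Y) {X' Y' : Scheme.{u}} {p : X' ⟶ X} {f' : X' ⟶ Y'} {h : Y' ⟶ Y}
    (hsq : IsPullback p f' f h) (x' : X')
    (hred : FBase.IsGeomReducedAt (f'.fiberToSpecResidueField (f' x')) (f'.asFiber x')) :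
    FBase.IsGeomReducedAt (f.fiberToSpecResidueField (f (p x'))) (f.asFiber (p x')) := by
  obtain ⟨pr, hpr, sq⟩ := FibDim14.exists_fibre_square hsq (f' x')
  have h1 := isGeomReducedAt_of_ext _ sq _ hred
  have key : ∀ y, y = f (p x') → ∀ w : f.fiber y, f.fiberι y w = p x' →
      FBase.IsGeomReducedAt (f.fiberToSpecResidueField y) w →
      FBase.IsGeomReducedAt (f.fiberToSpecResidueField (f (p x'))) (f.asFiber (p x')) := by
    rintro _ rfl w hw h
    rwa [(f.fiberι (f (p x'))).isEmbedding.injective (hw.trans (f.fiberι_asFiber _).symm)] at h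
  exact key (h (f' x')) (by rw [← Scheme.Hom.comp_apply, ← hsq.w, Scheme.Hom.comp_apply]) (pr (f'.asFiber x'))
    (by rw [hpr, f'.fiberι_asFiber]) h1

theorem mem_comp_iff {X' Y' : Scheme.{u}} {f : X ⟶ Y} {g : Y ⟶ X} (hg : g ≫ f = 𝟙 Y) {f' : X' ⟶ Y'} {p : X' ⟶ X}
    {h : Y' ⟶ Y} (hsq : IsPullback p f' f h) {g' : Y' ⟶ X'} (hg' : g' ≫ f' = 𝟙 Y') (hgp : g' ≫ p = h ≫ g) (y' : Y')
    (x' : X') :
    x' ∈ connectedComponentIn (f' ⁻¹' {y'}) (g' y') ↔
      p x' ∈ connectedComponentIn (f ⁻¹' {h y'}) (g (h y')) ∧ f' x' = y' := by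
  have he := Set.ext_iff.1 (SectionCompConn4.sectionComponents_baseChange hg hsq hg' hgp) x'
  change x' ∈ connectedComponentIn (f' ⁻¹' {f' x'}) (g' (f' x')) ↔
    p x' ∈ connectedComponentIn (f ⁻¹' {f (p x')}) (g (f (p x'))) at he
  rw [show f (p x') = h (f' x') by rw [← Scheme.Hom.comp_apply, hsq.w, Scheme.Hom.comp_apply]] at he
  constructor
  · intro hx
    obtain rfl : f' x' = y' := connectedComponentIn_subset (f' ⁻¹' {y'}) (g' y') hx
    exact ⟨he.1 hx, rfl⟩
  · rintro ⟨hx, rfl⟩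
    exact he.2 hx

/-- EGA IV 15.6.5. -/
theorem subset_interior_affine {A : CommRingCat.{u}} (u : X ⟶ Spec A) (t : Spec A ⟶ X) (ht : t ≫ u = 𝟙 _)
    [LocallyOfFinitePresentation u] [QuasiCompact u] [QuasiSeparated u] [Flat u] {y : Spec A}
    (hred : ∀ c ∈ connectedComponentIn (u ⁻¹' {y}) (t y),
      FBase.IsGeomReducedAt (u.fiberToSpecResidueField (u c)) (u.asFiber c)) :
    connectedComponentIn (u ⁻¹' {y}) (t y) ⊆ interior (sectionComponents u t) := by
  let c := ConsH13.approxCone A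
  have hc : IsLimit c := ConsH13.isLimitApproxCone A
  haveI : CompactSpace X := QuasiCompact.compactSpace_of_compactSpace u
  haveI : QuasiSeparatedSpace X := quasiSeparatedSpace_of_quasiSeparated u
  haveI : LocallyOfFinitePresentation (Y := c.pt) u := ‹LocallyOfFinitePresentation u›
  obtain ⟨i, X₀, u₀, qX, h1, h2, h3, h4⟩ := LimH13.hasModel_of_finitePresentation hc (X := X) (u : X ⟶ c.pt)
  haveI := h1; haveI := h2; haveI := h3
  haveI : IsIso (𝟙 c.pt) := IsIso.id _
  let t' : c.pt ⟶ X := t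
  let u' : X ⟶ c.pt := u
  have ht' : t' ≫ u' = 𝟙 c.pt := ht
  obtain ⟨j, φ, fj, sS, sX, e1, e2, e3, e4, e5, e6⟩ :=
    LimH13.exists_hom_descend hc i (𝟙 ((ConsH13.approxDiagram A).obj i)) u₀ (c.π.app i) (𝟙 c.pt) (IsPullback.of_vert_isIso ⟨by simp⟩) qX u' h4 t' ht'
  let uj := pullback.snd u₀ ((ConsH13.approxDiagram A).map φ)
  let sj : (ConsH13.approxDiagram A).obj j ⟶ pullback u₀ ((ConsH13.approxDiagram A).map φ) := inv (pullback.snd (𝟙 ((ConsH13.approxDiagram A).obj i)) ((ConsH13.approxDiagram A).map φ)) ≫ fj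
  have hsj : sj ≫ uj = 𝟙 _ := by rw [Category.assoc, e1, IsIso.inv_hom_id]
  have sqX : IsPullback sX u uj (c.π.app j) :=
    IsPullback.of_right (by rw [e4]; exact Eq.subst (motive := fun z => IsPullback qX u u₀ z) (c.w φ).symm h4) e5 (IsPullback.of_hasPullback _ _)
  have hts : t ≫ sX = c.π.app j ≫ sj := by
    have h : sS = c.π.app j ≫ inv (pullback.snd (𝟙 ((ConsH13.approxDiagram A).obj i)) ((ConsH13.approxDiagram A).map φ)) := by
      rw [← cancel_mono (pullback.snd (𝟙 ((ConsH13.approxDiagram A).obj i)) ((ConsH13.approxDiagram A).map φ)), e3, Category.assoc, IsIso.inv_hom_id, Category.comp_id]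
      exact Category.id_comp (c.π.app j)
    show t' ≫ sX = c.π.app j ≫ sj
    rw [← e6, h]
    exact Category.assoc _ _ _
  let F := Over.forget j
  let c' : Cone (F ⋙ (ConsH13.approxDiagram A)) := c.whisker F
  have hc' : IsLimit c' := (Functor.Initial.isLimitWhiskerEquiv F c).symm hc
  haveI : ∀ k, IsAffineHom ((Descend.overT (ConsH13.approxDiagram A) j).app k) := fun k => inferInstanceAs (IsAffineHom ((ConsH13.approxDiagram A).map k.hom))
  haveI : CompactSpace ↥(pullback u₀ ((ConsH13.approxDiagram A).map φ)) :=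
    QuasiCompact.compactSpace_of_compactSpace (pullback.fst u₀ ((ConsH13.approxDiagram A).map φ))
  haveI : Flat u' := ‹Flat u›
  have hq : ∀ k, c'.π.app k ≫ (Descend.overT (ConsH13.approxDiagram A) j).app k = c.π.app j := fun k => c.w k.hom
  obtain ⟨k, hk⟩ := Descend19.exists_flat (f := uj) (D := F ⋙ (ConsH13.approxDiagram A)) (t := Descend.overT (ConsH13.approxDiagram A) j) (q := c.π.app j) hc'
    hq (g := u') sqX
  let R := (ConsH13.subFunctor A).obj k.left.unop
  let ψ : Spec R ⟶ (ConsH13.approxDiagram A).obj j := (ConsH13.approxDiagram A).map k.hom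
  let X₁ := pullback uj ψ
  let u₁ : X₁ ⟶ Spec R := pullback.snd uj ψ
  haveI : Flat u₁ := hk
  let s₁ : Spec R ⟶ X₁ :=
    pullback.lift (ψ ≫ sj) (𝟙 _) (by rw [Category.assoc, hsj, Category.comp_id, Category.id_comp])
  have hs₁ : s₁ ≫ u₁ = 𝟙 _ := pullback.lift_snd _ _ _
  let π : Spec A ⟶ Spec R := c.π.app k.left
  have hπ : π ≫ ψ = c.π.app j := c.w k.hom
  let q : X ⟶ X₁ := pullback.lift sX (u ≫ π) (by rw [Category.assoc, hπ]; exact sqX.w)
  have sq₁ : IsPullback q u u₁ π :=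
    IsPullback.of_right (by rw [pullback.lift_fst, hπ]; exact sqX) (pullback.lift_snd _ _ _)
      (IsPullback.of_hasPullback uj ψ)
  have hts₁ : t ≫ q = π ≫ s₁ := by
    apply pullback.hom_ext
    · rw [Category.assoc, Category.assoc, pullback.lift_fst, pullback.lift_fst, hts, ← hπ]
      exact Category.assoc π ψ sj
    · rw [Category.assoc, Category.assoc, pullback.lift_snd, pullback.lift_snd, ← Category.assoc, ht, Category.id_comp,
        Category.comp_id]
  haveI : IsNoetherianRing R := inferInstance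
  haveI : IsLocallyNoetherian (Spec R) := inferInstance
  haveI : LocallyOfFinitePresentation uj := MorphismProperty.pullback_snd _ _ inferInstance
  haveI : LocallyOfFinitePresentation u₁ := MorphismProperty.pullback_snd _ _ inferInstance
  have hy : ∀ c₀ ∈ connectedComponentIn (u₁ ⁻¹' {π y}) (s₁ (π y)), EGA43.IsUnivOpenAt u₁ c₀ ∧
      FBase.IsGeomReducedAt (u₁.fiberToSpecResidueField (u₁ c₀)) (u₁.asFiber c₀) := by
    intro c₀ hc₀
    refine ⟨Unibr4.isUnivOpenAt_of_universallyOpen u₁ c₀, ?_⟩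
    have hfc : u₁ c₀ = π y := connectedComponentIn_subset (u₁ ⁻¹' {π y}) (s₁ (π y)) hc₀
    obtain ⟨c, hqc, huc⟩ : ∃ c, q c = c₀ ∧ u c = y := by
      obtain ⟨w, hw1, hw2⟩ := Scheme.Pullback.exists_preimage_pullback (f := u₁) (g := π) c₀ y hfc
      refine ⟨sq₁.isoPullback.inv w, ?_, ?_⟩
      · rw [← Scheme.Hom.comp_apply, sq₁.isoPullback_inv_fst, hw1]
      · rw [← Scheme.Hom.comp_apply, sq₁.isoPullback_inv_snd, hw2]
    have hcC := (mem_comp_iff hs₁ sq₁ ht hts₁ y c).2 ⟨hqc ▸ hc₀, huc⟩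
    have h := isGeomReducedAt_of_baseChange u₁ sq₁ c (hred c hcC)
    rw [hqc] at h
    exact h
  intro x hx
  have h := SectionCompOpen4.subset_interior u₁ hs₁ hy ((mem_comp_iff hs₁ sq₁ ht hts₁ y x).1 hx).1
  rw [SectionCompConn4.sectionComponents_baseChange hs₁ sq₁ ht hts₁]
  exact preimage_interior_subset_interior_preimage q.continuous h

/-- EGA IV 15.6.5. -/
theorem subset_interior (f : X ⟶ Y) [LocallyOfFinitePresentation f] [QuasiCompact f] [QuasiSeparated f] [Flat f]
    {g : Y ⟶ X} (hg : g ≫ f = 𝟙 Y) {y : Y}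
    (hred : ∀ c ∈ connectedComponentIn (f ⁻¹' {y}) (g y),
      FBase.IsGeomReducedAt (f.fiberToSpecResidueField (f c)) (f.asFiber c)) :
    connectedComponentIn (f ⁻¹' {y}) (g y) ⊆ interior (sectionComponents f g) := by
  obtain ⟨V, hV, hyV, -⟩ := exists_isAffineOpen_mem_and_subset (X := Y) (x := y) (U := ⊤) trivial
  let j := hV.fromSpec
  let p := hV.primeIdealOf ⟨y, hyV⟩
  have hp : j p = y := hV.fromSpec_primeIdealOf ⟨y, hyV⟩
  let u := pullback.snd f j
  let g' := pullback.fst f j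
  let t : Spec Γ(Y, V) ⟶ pullback f j :=
    pullback.lift (j ≫ g) (𝟙 _) (by rw [Category.assoc, hg, Category.comp_id, Category.id_comp])
  have ht : t ≫ u = 𝟙 _ := pullback.lift_snd _ _ _
  have hsq := IsPullback.of_hasPullback f j
  intro x hx
  have hfx : f x = y := connectedComponentIn_subset (f ⁻¹' {y}) (g y) hx
  obtain ⟨x', hx', hx'p⟩ := Scheme.Pullback.exists_preimage_pullback (f := f) (g := j) x p (hfx.trans hp.symm)
  have hxC : x' ∈ connectedComponentIn (u ⁻¹' {p}) (t p) :=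
    (mem_comp_iff hg hsq ht (pullback.lift_fst _ _ _) p x').2 ⟨by
      show g' x' ∈ connectedComponentIn (f ⁻¹' {j p}) (g (j p))
      rw [hp, show g' x' = x from hx']
      exact hx, hx'p⟩
  have h := subset_interior_affine u t ht (y := p) (fun c hc => ?_) hxC
  · rw [SectionCompConn4.sectionComponents_baseChange hg hsq ht (pullback.lift_fst _ _ _)] at h
    have h2 : g' x' ∈ interior (sectionComponents f g) := by
      rw [mem_interior_iff_mem_nhds] at h ⊢
      exact Filter.mem_of_superset (g'.isOpenEmbedding.isOpenMap.image_mem_nhds h) (Set.image_preimage_subset _ _)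
    rwa [show g' x' = x from hx'] at h2
  · have hc' := ((mem_comp_iff hg hsq ht (pullback.lift_fst _ _ _) p c).1 hc).1
    rw [hp] at hc'
    exact FlatUnivOpen4.isGeomReducedAt_baseChange f hsq c (hred _ hc')

/-- Fibres of smooth morphisms are geometrically reduced. -/
theorem isGeomReducedAt_of_geometricallyReduced {k : Type u} [Field k] {F : Scheme.{u}}
    (g : F ⟶ Spec (CommRingCat.of k)) [GeometricallyReduced g] (x : F) : FBase.IsGeomReducedAt g x := by
  intro K _ _ z _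
  haveI : IsReduced (FBase.bc g K) := GeometricallyReduced.geometrically_isReduced (f := g) _ _ _ (IsPullback.of_hasPullback _ _)
  infer_instance

theorem isCompact_inter_preimage [IsAffine Y] (f : X ⟶ Y) (U₁ : X.Opens) (hU₁ : IsCompact (U₁ : Set X))
    {W : Set Y} (hW : IsOpen W) (hWc : IsCompact W) : IsCompact ((U₁ : Set X) ∩ f ⁻¹' W) := by
  haveI : CompactSpace (U₁ : Scheme.{u}) := isCompact_iff_compactSpace.1 hU₁
  haveI : QuasiCompact (U₁.ι ≫ f) := (HasAffineProperty.iff_of_isAffine (P := @QuasiCompact)).2 inferInstance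
  have h := (QuasiCompact.isCompact_preimage (f := U₁.ι ≫ f) W hW hWc).image U₁.ι.continuous
  rwa [show U₁.ι '' ((U₁.ι ≫ f) ⁻¹' W) = (U₁ : Set X) ∩ f ⁻¹' W from ?_] at h
  ext v
  exact ⟨fun ⟨v, hv, e⟩ => e ▸ ⟨v.2, hv⟩, fun ⟨hv, hvW⟩ => ⟨⟨v, hv⟩, hvW, rfl⟩⟩

theorem isOpen_of_smooth_affine [IsAffine Y] [QuasiSeparatedSpace X] (f : X ⟶ Y) [Smooth f] {g : Y ⟶ X}
    (hg : g ≫ f = 𝟙 Y) : IsOpen (sectionComponents f g) := by
  rw [isOpen_iff_mem_nhds]
  intro x hx
  set y := f x with hy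
  obtain ⟨U₁, hU₁c, hgU₁, hxU₁⟩ := SectionCompOpen4.exists_qc_open f hg (show x ∈ connectedComponentIn (f ⁻¹' {y}) (g y) from hx)
  let V : Y.Opens := g ⁻¹ᵁ U₁
  let U : X.Opens := U₁ ⊓ f ⁻¹ᵁ V
  have hgU : ∀ z ∈ V, g z ∈ U := fun z hz => ⟨hz, show f (g z) ∈ V by rw [SectionCompConn4.apply_section hg]; exact hz⟩
  let f₁ : (U : Scheme.{u}) ⟶ (V : Scheme.{u}) := IsOpenImmersion.lift V.ι (U.ι ≫ f) (by
    rintro _ ⟨v, rfl⟩
    rw [Scheme.Opens.range_ι]
    exact v.2.2)
  have hf₁ : f₁ ≫ V.ι = U.ι ≫ f := IsOpenImmersion.lift_fac _ _ _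
  let g₁ : (V : Scheme.{u}) ⟶ (U : Scheme.{u}) := IsOpenImmersion.lift U.ι (V.ι ≫ g) (by
    rintro _ ⟨z, rfl⟩
    rw [Scheme.Opens.range_ι]
    exact hgU z.1 z.2)
  have hg₁' : g₁ ≫ U.ι = V.ι ≫ g := IsOpenImmersion.lift_fac _ _ _
  have hg₁ : g₁ ≫ f₁ = 𝟙 _ := by
    rw [← cancel_mono V.ι, Category.assoc, hf₁, ← Category.assoc, hg₁', Category.assoc, hg, Category.comp_id,
      Category.id_comp]
  have hval : ∀ v : (U : Scheme.{u}), (f₁ v).1 = f v.1 := fun v => congrArg (fun q => q v) hf₁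
  have hgval : ∀ z : (V : Scheme.{u}), (g₁ z).1 = g z.1 := fun z => congrArg (fun q => q z) hg₁'
  haveI : Smooth (f ∣_ V) := MorphismProperty.of_isPullback (isPullback_morphismRestrict f V).flip inferInstance
  haveI : Smooth f₁ := by
    rw [show f₁ = X.homOfLE (inf_le_right : U ≤ f ⁻¹ᵁ V) ≫ (f ∣_ V) from by
      rw [← cancel_mono V.ι, hf₁, Category.assoc, morphismRestrict_ι, Scheme.homOfLE_ι_assoc]]
    infer_instance
  haveI : QuasiSeparatedSpace (U : Scheme.{u}) := QuasiSeparatedSpace.of_isOpenEmbedding U.ι.isOpenEmbedding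
  haveI : QuasiSeparated f₁ := QuasiSeparated.of_quasiSeparatedSpace f₁
  haveI : QuasiCompact f₁ := by
    refine ⟨fun W hW hWc => ?_⟩
    rw [U.ι.isEmbedding.isInducing.isCompact_iff]
    have hW' : IsOpen (V.ι '' W) := V.ι.isOpenEmbedding.isOpenMap W hW
    have hWc' : IsCompact (V.ι '' W) := hWc.image V.ι.continuous
    -- intersect the quasi-compact `U₁` with the preimage of the quasi-compact `W`
    rw [show U.ι '' (f₁ ⁻¹' W) = (U₁ : Set X) ∩ f ⁻¹' (V.ι '' W) from ?_]
    · exact isCompact_inter_preimage f U₁ hU₁c hW' hWc'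
    · ext v
      constructor
      · rintro ⟨v, hv, rfl⟩
        exact ⟨v.2.1, f₁ v, hv, hval v⟩
      · rintro ⟨hvU, w, hw, hwv⟩
        have hvV : f v ∈ V := by rw [← hwv]; exact w.2
        refine ⟨⟨v, hvU, hvV⟩, ?_, rfl⟩
        show f₁ ⟨v, hvU, hvV⟩ ∈ W
        rwa [show f₁ ⟨v, hvU, hvV⟩ = w from Subtype.ext ((hval ⟨v, hvU, hvV⟩).trans hwv.symm)]
  have hUy : f ⁻¹' {y} ∩ (U : Set X) = f ⁻¹' {y} ∩ (U₁ : Set X) := by
    ext v
    exact ⟨fun h => ⟨h.1, h.2.1⟩, fun h => ⟨h.1, h.2, show f v ∈ V by rw [show f v = y from h.1]; exact hgU₁⟩⟩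
  have hcomp : ∀ v : (U : Scheme.{u}),
      U.ι '' connectedComponentIn (f₁ ⁻¹' {f₁ v}) (g₁ (f₁ v)) =
        connectedComponentIn (f ⁻¹' {f v.1} ∩ (U : Set X)) (g (f v.1)) := by
    intro v
    rw [SectionCompOpen4.image_connectedComponentIn U.ι.isEmbedding
      (show g₁ (f₁ v) ∈ f₁ ⁻¹' {f₁ v} from SectionCompConn4.apply_section hg₁ _)]
    rw [show U.ι (g₁ (f₁ v)) = g (f v.1) by show (g₁ (f₁ v)).1 = _; rw [hgval, hval]]
    refine congrArg (fun S => connectedComponentIn S (g (f v.1))) (Set.ext fun z => ⟨?_, fun ⟨hz, hzU⟩ => ?_⟩)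
    · rintro ⟨z, hz, rfl⟩
      refine ⟨?_, z.2⟩
      show f z.1 = f v.1
      rw [← hval, ← hval, show f₁ z = f₁ v from hz]
    · exact ⟨⟨z, hzU⟩, Subtype.ext (by rw [hval, hval]; exact hz), rfl⟩
  rw [← hUy] at hxU₁
  let x₁ : (U : Scheme.{u}) := ⟨x, (connectedComponentIn_subset _ _ hxU₁).2⟩
  have hx₁ : x₁ ∈ connectedComponentIn (f₁ ⁻¹' {f₁ x₁}) (g₁ (f₁ x₁)) := by
    obtain ⟨v, hv, hvx⟩ := (hcomp x₁).ge hxU₁
    exact U.ι.isEmbedding.injective (show U.ι v = U.ι x₁ from hvx) ▸ hv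
  have h := subset_interior f₁ hg₁ (y := f₁ x₁) (fun c _ => by
    haveI := AbRigid.geometricallyReduced_of_smooth f₁
    haveI : GeometricallyReduced (f₁.fiberToSpecResidueField (f₁ c)) :=
      show GeometricallyReduced (pullback.snd f₁ ((V : Scheme.{u}).fromSpecResidueField (f₁ c))) from inferInstance
    exact @isGeomReducedAt_of_geometricallyReduced _ _ _ _ this _) hx₁
  refine Filter.mem_of_superset (U.ι.isOpenEmbedding.isOpenMap.image_mem_nhds (mem_interior_iff_mem_nhds.1 h)) ?_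
  rintro _ ⟨v, hv, rfl⟩
  exact connectedComponentIn_mono _ Set.inter_subset_left ((hcomp v).le ⟨v, hv, rfl⟩)

/-- The union of the components along a section of a smooth morphism is open. -/
theorem isOpen_of_smooth [QuasiSeparatedSpace X] (f : X ⟶ Y) [Smooth f] {g : Y ⟶ X} (hg : g ≫ f = 𝟙 Y) :
    IsOpen (sectionComponents f g) := by
  rw [isOpen_iff_mem_nhds]
  intro x hx
  obtain ⟨V, hV, hxV, -⟩ := exists_isAffineOpen_mem_and_subset (X := Y) (x := f x) (U := ⊤) trivial
  let j := hV.fromSpec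
  let p := hV.primeIdealOf ⟨f x, hxV⟩
  let g' := pullback.fst f j
  let t : Spec Γ(Y, V) ⟶ pullback f j :=
    pullback.lift (j ≫ g) (𝟙 _) (by rw [Category.assoc, hg, Category.comp_id, Category.id_comp])
  haveI : Smooth (pullback.snd f j) := MorphismProperty.pullback_snd _ _ inferInstance
  haveI : QuasiSeparatedSpace ↥(pullback f j) := QuasiSeparatedSpace.of_isOpenEmbedding g'.isOpenEmbedding
  have ht : t ≫ pullback.snd f j = 𝟙 _ := pullback.lift_snd _ _ _
  have hE := SectionCompConn4.sectionComponents_baseChange hg (IsPullback.of_hasPullback f j) ht (pullback.lift_fst _ _ _)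
  have h := isOpen_of_smooth_affine (pullback.snd f j) ht
  rw [hE] at h
  obtain ⟨x', hx', -⟩ := Scheme.Pullback.exists_preimage_pullback (f := f) (g := j) x p (hV.fromSpec_primeIdealOf ⟨f x, hxV⟩).symm
  have h2 := g'.isOpenEmbedding.isOpenMap.image_mem_nhds (h.mem_nhds (show g' x' ∈ sectionComponents f g by
    rw [show g' x' = x from hx']; exact hx))
  rw [show g' x' = x from hx'] at h2
  exact Filter.mem_of_superset h2 (Set.image_preimage_subset _ _)

end Groth.Agent.SectionCompFlat4
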