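import Groth.Agent.Lib.FibGenSch4

universe u

open CategoryTheory AlgebraicGeometry Topology TopologicalSpace

set_option backward.isDefEq.respectTransparency.types false

namespace Groth.Agent.FibGen4

variable {X S : Scheme.{u}} (f : X ⟶ S)

theorem dim_fiber_le_iff (s : S) (c : WithBot ℕ∞) :
    topologicalKrullDim (f.fiber s) ≤ c ↔ ∀ x, f x = s → FlatMor.fibreDimAt f x ≤ c := by
  rw [IsHomeomorph.topologicalKrullDim_eq _ (f.fiberHomeo s).isHomeomorph, TopDimLib.dim_eq_iSup_localDim,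
    iSup_le_iff]
  constructor
  · intro h x hx
    subst hx
    rw [FibDim14.fibreDimAt_eq_localDim_preimage]
    exact h ⟨x, rfl⟩
  · rintro h ⟨x, rfl : f x = s⟩
    rw [← FibDim14.fibreDimAt_eq_localDim_preimage]
    exact h x rfl

theorem lt_dim_fiber_iff (s : S) (c : WithBot ℕ∞) :
    c < topologicalKrullDim (f.fiber s) ↔ ∃ x, f x = s ∧ c < FlatMor.fibreDimAt f x := by
  rw [← not_le, dim_fiber_le_iff]
  push Not
  simp

variable [LocallyOfFiniteType f]

theorem fibreDimAt_ne_bot (x : X) : FlatMor.fibreDimAt f x ≠ ⊥ := by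
  obtain ⟨x', -, -, h, -⟩ := FibDim14.exists_fibreDimAt_eq f x
  rw [h]
  exact WithBot.coe_ne_bot

theorem fibreDimAt_ne_top (x : X) : FlatMor.fibreDimAt f x ≠ (⊤ : WithBot ℕ∞) := by
  obtain ⟨x', -, -, h, -⟩ := FibDim14.exists_fibreDimAt_eq f x
  rw [h]
  exact fun e => ENat.coe_ne_top _ (WithBot.coe_injective e)

end Groth.Agent.FibGen4
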