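import Groth.Agent.Lib.Depth.CM
import Groth.Agent.Lib.RegLoc.Basic
import Groth.Agent.Lib.FlatDepth.Fibre
import Groth.Agent.Lib.FlatH4.LocCrit
import Groth.Prelude.Def_EGA4b
import Mathlib.RingTheory.Ideal.Quotient.Operations
import Mathlib.LinearAlgebra.TensorProduct.Quotient

/-!
# Miracle flatness
-/

universe u

open IsLocalRing TensorProduct

namespace Groth.Agent.Miracle4

theorem withBot_le_add_one {a b : WithBot ℕ∞} {n : ℕ} (h : a ≤ b + 1) {c : WithBot ℕ∞}
    (hb : b ≤ c + n) : a ≤ c + (n + 1 : ℕ) := by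
  refine h.trans ?_
  rw [Nat.cast_add, Nat.cast_one, ← add_assoc]
  exact add_le_add_left hb 1

theorem main : ∀ (n : ℕ) (A B M : Type u) [CommRing A] [IsRegularLocalRing A] [CommRing B]
    [IsNoetherianRing B] [IsLocalRing B] [Algebra A B] [IsLocalHom (algebraMap A B)]
    [AddCommGroup M] [Module B M] [Module A M] [IsScalarTower A B M] [Module.Finite B M],
    (maximalIdeal A).spanFinrank = n →
      Module.supportDim B M ≤ Module.supportDim B (EGA4.FibMod A B M) + n ∧
      (LocCoh.IsCohenMacaulayModule B M →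
        Module.supportDim B M = Module.supportDim B (EGA4.FibMod A B M) + n → Module.Flat A M) := by
  intro n
  induction n with
  | zero =>
    intro A B M _ _ _ _ _ _ _ _ _ _ _ _ hn
    have hm : maximalIdeal A = ⊥ :=
      (Submodule.spanFinrank_eq_zero_iff_eq_bot (IsNoetherian.noetherian _)).1 hn
    have hI : EGA4.mB A B = ⊥ := by rw [EGA4.mB, hm, Ideal.map_bot]
    refine ⟨le_of_eq ?_, fun _ _ => ?_⟩
    · rw [Nat.cast_zero, add_zero]
      exact Module.supportDim_eq_of_equiv (Submodule.quotEquivOfEqBot _ (by rw [hI, Submodule.bot_smul])).symm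
    · letI : Field A := (IsLocalRing.isField_iff_maximalIdeal_eq.2 hm).toField
      infer_instance
  | succ n ih =>
    intro A B M _ _ _ _ _ _ _ _ _ _ _ _ hn
    obtain ⟨x, hx, hx2⟩ : ∃ x ∈ maximalIdeal A, x ∉ maximalIdeal A ^ 2 := by
      by_contra hcon
      push Not at hcon
      have hle : maximalIdeal A ≤ maximalIdeal A • maximalIdeal A :=
        fun z hz => by rw [smul_eq_mul, ← pow_two]; exact hcon z hz
      have := Submodule.eq_bot_of_le_smul_of_le_jacobson_bot (maximalIdeal A) (maximalIdeal A)
        (IsNoetherian.noetherian _) hle (maximalIdeal_le_jacobson _)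
      rw [this, Submodule.spanFinrank_bot] at hn
      omega
    obtain ⟨hreg, hfin⟩ := RegLoc.quotient_span_singleton hx hx2
    have hn' : (maximalIdeal (A ⧸ Ideal.span ({x} : Set A))).spanFinrank = n := by omega
    let y := algebraMap A B x
    have hy : y ∈ maximalIdeal B := map_nonunit (algebraMap A B) x hx
    let I : Ideal A := Ideal.span {x}
    let J : Ideal B := Ideal.span {y}
    have hIJ : I.map (algebraMap A B) = J := by rw [Ideal.map_span, Set.image_singleton]
    haveI : Nontrivial (B ⧸ J) := Ideal.Quotient.nontrivial_iff.2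
      (ne_top_of_le_ne_top (maximalIdeal.isMaximal B).ne_top ((Ideal.span_singleton_le_iff_mem _).2 hy))
    haveI : IsLocalRing (B ⧸ J) := IsLocalRing.of_surjective' _ Ideal.Quotient.mk_surjective
    letI : Algebra (A ⧸ I) (B ⧸ J) :=
      (Ideal.quotientMap J (algebraMap A B) (Ideal.map_le_iff_le_comap.1 hIJ.le)).toAlgebra
    haveI : IsLocalHom (Ideal.Quotient.mk J) := IsLocalHom.of_surjective _ Ideal.Quotient.mk_surjective
    haveI hloc : IsLocalHom (Ideal.Quotient.mk I) := IsLocalHom.of_surjective _ Ideal.Quotient.mk_surjective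
    haveI : IsLocalHom (algebraMap (A ⧸ I) (B ⧸ J)) := ⟨fun a ha => by
      obtain ⟨a, rfl⟩ := Ideal.Quotient.mk_surjective a
      refine (IsUnit.map _ ?_)
      refine (isUnit_map_iff (algebraMap A B) a).1 ?_
      exact (isUnit_map_iff (Ideal.Quotient.mk J) (algebraMap A B a)).1 ha⟩
    let M' := M ⧸ J • (⊤ : Submodule B M)
    haveI : Module.Finite (B ⧸ J) M' := Module.Finite.of_restrictScalars_finite B _ _
    letI : Module (A ⧸ I) M' := Module.compHom M' (algebraMap (A ⧸ I) (B ⧸ J))
    haveI : IsScalarTower (A ⧸ I) (B ⧸ J) M' := IsScalarTower.of_algebraMap_smul fun _ _ => rfl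
    haveI : IsScalarTower A (A ⧸ I) M' := IsScalarTower.of_algebraMap_smul fun a m => by
      obtain ⟨m, rfl⟩ := Submodule.mkQ_surjective _ m
      show (Ideal.Quotient.mk J (algebraMap A B a)) • (Submodule.Quotient.mk m : M') = _
      rw [Submodule.mkQ_apply, ← Submodule.Quotient.mk_smul, ← algebraMap_smul B a m]
      rfl
    obtain ⟨hbound, hflat⟩ := @ih (A ⧸ I) (B ⧸ J) M' _ hreg _ _ _ _ _ _ _ _ _ _ hn'
    -- the closed fibre does not change
    have hJm : J ≤ EGA4.mB A B := hIJ ▸ Ideal.map_mono ((Ideal.span_singleton_le_iff_mem _).2 hx)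
    have hmap : EGA4.mB (A ⧸ I) (B ⧸ J) = (EGA4.mB A B).map (Ideal.Quotient.mk J) := by
      have hmax : (maximalIdeal A).map (Ideal.Quotient.mk I) = maximalIdeal (A ⧸ I) :=
        ((Ideal.map_eq_top_or_isMaximal_of_surjective _ Ideal.Quotient.mk_surjective inferInstance).resolve_left
          fun h => (maximalIdeal.isMaximal A).ne_top (top_le_iff.1 (by
            rw [← Ideal.comap_top (f := Ideal.Quotient.mk I), ← h,
              Ideal.comap_map_of_surjective _ Ideal.Quotient.mk_surjective, ← RingHom.ker_eq_comap_bot,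
              Ideal.mk_ker]
            exact sup_le le_rfl ((Ideal.span_singleton_le_iff_mem _).2 hx)))) |> IsLocalRing.eq_maximalIdeal
      rw [EGA4.mB, ← hmax, EGA4.mB, Ideal.map_map, Ideal.map_map]
      rfl
    have hfib : Module.supportDim B (EGA4.FibMod A B M) =
        Module.supportDim (B ⧸ J) (EGA4.FibMod (A ⧸ I) (B ⧸ J) M') := by
      rw [← FlatDepth.supportDim_eq_of_surjective (A := B) (EGA4.FibMod (A ⧸ I) (B ⧸ J) M')
        Ideal.Quotient.mk_surjective]
      let T : Submodule B M := EGA4.mB A B • ⊤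
      have hT : (EGA4.mB (A ⧸ I) (B ⧸ J) • (⊤ : Submodule (B ⧸ J) M')).restrictScalars B =
          T.map (J • (⊤ : Submodule B M)).mkQ := by
        rw [Submodule.map_smul'', Submodule.map_top, Submodule.range_mkQ, hmap,
          ← Ideal.Quotient.algebraMap_eq, Ideal.smul_restrictScalars, Submodule.restrictScalars_top]
      exact Module.supportDim_eq_of_equiv
        (((Submodule.Quotient.restrictScalarsEquiv B
          (EGA4.mB (A ⧸ I) (B ⧸ J) • (⊤ : Submodule (B ⧸ J) M'))).symm ≪≫ₗ Submodule.quotEquivOfEq _ _ hT ≪≫ₗ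
          Submodule.quotientQuotientEquivQuotient (J • (⊤ : Submodule B M)) T (Submodule.smul_mono_left hJm)).symm)
    have hM' : Module.supportDim (B ⧸ J) M' = Module.supportDim B M' :=
      (FlatDepth.supportDim_eq_of_surjective (A := B) M' Ideal.Quotient.mk_surjective).symm
    have e : QuotSMulTop y M ≃ₗ[B] M' :=
      Submodule.quotEquivOfEq _ _ (Submodule.ideal_span_singleton_smul y ⊤).symm
    have hle : Module.supportDim B M ≤ Module.supportDim B M' + 1 := by
      rw [← Module.supportDim_eq_of_equiv e]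
      exact Module.supportDim_le_supportDim_quotSMulTop_succ hy
    rw [← hfib, hM'] at hbound
    refine ⟨withBot_le_add_one hle hbound, fun hCM heq => ?_⟩
    haveI := DepthLib.nontrivial_of_isCohenMacaulayModule hCM
    obtain ⟨d, hd⟩ := DepthLib.exists_supportDim_eq_natCast (R := B) (M := M)
    have hM'le : Module.supportDim B M' + 1 ≤ Module.supportDim B M := by
      refine le_trans (add_le_add_left hbound 1) (le_of_eq ?_)
      rw [heq, Nat.cast_add, Nat.cast_one, add_assoc]
    have hyreg : IsSMulRegular M y := by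
      refine (isSMulRegular_iff_ker_lsmul_eq_bot M y).2 ?_
      by_contra hne
      obtain ⟨m, hm, hm0⟩ := Submodule.exists_mem_ne_zero_of_ne_bot hne
      obtain ⟨p, hp, hyp⟩ : ∃ p ∈ associatedPrimes B M, y ∈ p := by
        have hmem : y ∈ {r : B | ∃ m : M, m ≠ 0 ∧ r • m = 0} := ⟨m, hm0, hm⟩
        rw [← biUnion_associatedPrimes_eq_zero_divisors] at hmem
        simpa using hmem
      haveI := IsAssociatedPrime.isPrime hp
      have h1 := DepthLib.ringKrullDim_quotient_eq_of_mem_associatedPrimes hCM hp
      have hsupp : (⟨p, inferInstance⟩ : PrimeSpectrum B) ∈ Module.support B M' := by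
        rw [Module.support_quotient]
        exact ⟨DepthLib.mem_support_of_mem_associatedPrimes hp,
          (PrimeSpectrum.mem_zeroLocus _ _).2 ((Ideal.span_singleton_le_iff_mem _).2 hyp)⟩
      have h2 := DepthLib.ringKrullDim_quotient_le_supportDim hsupp
      rw [h1] at h2
      have h3 := (add_le_add_left h2 1).trans hM'le
      rw [hd] at h3
      have h4 : d + 1 ≤ d := by exact_mod_cast h3
      omega
    have hM'eq : Module.supportDim (B ⧸ J) M' =
        Module.supportDim (B ⧸ J) (EGA4.FibMod (A ⧸ I) (B ⧸ J) M') + n := by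
      rw [hM', ← hfib]
      refine le_antisymm hbound ?_
      refine DepthLib.withBot_add_coe_cancel 1 ?_
      refine le_trans (le_of_eq ?_) hle
      rw [heq, Nat.cast_add, Nat.cast_one, add_assoc]
    have hCM' : LocCoh.IsCohenMacaulayModule (B ⧸ J) M' := by
      have h1 := (DepthLib.isCohenMacaulayModule_quotSMulTop_iff hy hyreg).2 hCM
      unfold LocCoh.IsCohenMacaulayModule at h1 ⊢
      rw [hM', ← FlatDepth.depth_eq_of_surjective (A := B) M' Ideal.Quotient.mk_surjective,
        ← Module.supportDim_eq_of_equiv e, h1]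
      rw [LocCoh.depth, LocCoh.depth, DepthLib.idealDepth_congr e]
    haveI := hflat hCM' hM'eq
    refine FlatH4.flat_of_le_jacobson (S := B) I ?_ ?_ ?_
    · rw [hIJ]
      exact ((Ideal.span_singleton_le_iff_mem _).2 hy).trans (maximalIdeal_le_jacobson _)
    · haveI := RegLoc.isDomain A
      have hx0 : x ≠ 0 := fun h => hx2 (h ▸ zero_mem _)
      rw [injective_iff_map_eq_zero]
      intro z hz
      have hform : ∀ z : M ⊗[A] I, ∃ m : M, z = m ⊗ₜ ⟨x, Ideal.mem_span_singleton_self x⟩ := by
        intro z
        induction z using TensorProduct.induction_on with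
        | zero => exact ⟨0, by rw [zero_tmul]⟩
        | tmul m a =>
          obtain ⟨c, hc⟩ := Ideal.mem_span_singleton'.1 a.2
          refine ⟨c • m, ?_⟩
          rw [smul_tmul]
          congr 1
          exact Subtype.ext hc.symm
        | add a b ha hb =>
          obtain ⟨ma, ha'⟩ := ha
          obtain ⟨mb, hb'⟩ := hb
          exact ⟨ma + mb, by rw [add_tmul, ha', hb']⟩
      obtain ⟨m, rfl⟩ := hform z
      have h1 : x • m = 0 := by
        have := congrArg (TensorProduct.rid A M) hz
        simpa using this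
      rw [hyreg (show y • m = y • 0 by rw [smul_zero, algebraMap_smul, h1]), zero_tmul]
    · let T : Submodule A M := I • ⊤
      have hT : T = (J • (⊤ : Submodule B M)).restrictScalars A := by
        rw [← hIJ, Ideal.smul_restrictScalars, Submodule.restrictScalars_top]
      let e₁ : (A ⧸ I) ⊗[A] M ≃ₗ[A] M' :=
        TensorProduct.quotTensorEquivQuotSMul M I ≪≫ₗ Submodule.quotEquivOfEq _ _ hT ≪≫ₗ
          Submodule.Quotient.restrictScalarsEquiv A _
      refine Module.Flat.of_linearEquiv (M := M') ?_
      exact { e₁ with map_smul' := (e₁.toLinearMap.extendScalarsOfSurjective Ideal.Quotient.mk_surjective).map_smul }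

/-- Miracle flatness, module version. -/
theorem flat_of_supportDim_eq {A B : Type u} [CommRing A] [IsRegularLocalRing A] [CommRing B]
    [IsNoetherianRing B] [IsLocalRing B] [Algebra A B] [IsLocalHom (algebraMap A B)]
    {M : Type u} [AddCommGroup M] [Module B M] [Module A M] [IsScalarTower A B M] [Module.Finite B M]
    (hCM : LocCoh.IsCohenMacaulayModule B M)
    (hdim : Module.supportDim B M = ringKrullDim A + Module.supportDim B (EGA4.FibMod A B M)) :
    Module.Flat A M := by
  refine (main _ A B M rfl).2 hCM ?_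
  rw [hdim, add_comm, IsRegularLocalRing.spanFinrank_maximalIdeal]

/-- Miracle flatness. -/
theorem flat_of_ringKrullDim_eq {A B : Type u} [CommRing A] [IsRegularLocalRing A] [CommRing B]
    [LocCoh.IsCohenMacaulayLocalRing B] [Algebra A B] [IsLocalHom (algebraMap A B)]
    (hdim : ringKrullDim B = ringKrullDim A +
      ringKrullDim (B ⧸ (maximalIdeal A).map (algebraMap A B))) :
    Module.Flat A B := by
  refine flat_of_supportDim_eq LocCoh.IsCohenMacaulayLocalRing.supportDim_eq_depth ?_
  rw [Module.supportDim_self_eq_ringKrullDim, hdim, ← Module.supportDim_quotient_eq_ringKrullDim]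
  congr 1
  exact Module.supportDim_eq_of_equiv (Submodule.quotEquivOfEq _ _ (by rw [smul_eq_mul, Ideal.mul_top]))

end Groth.Agent.Miracle4
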