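import Groth.Agent.Lib.FibDim14.Semicont

/-!
# Quasi-finite maps to affine space at a point
-/

universe u

open CategoryTheory AlgebraicGeometry Topology TopologicalSpace TensorProduct Order Groth.Agent.FibDim14

set_option backward.isDefEq.respectTransparency.types false

namespace Groth.Agent.QFAffine4

theorem exists_qfAt_spec {A B : CommRingCat.{u}} (φ : A ⟶ B) (hφ : φ.hom.FiniteType)
    (x : Spec B) {n : ℕ}
    (hn : topologicalKrullDim ((Spec.map φ) ⁻¹' {Spec.map φ x} : Set (Spec B)) ≤ (n : WithBot ℕ∞)) :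
    letI := φ.hom.toAlgebra
    ∃ (m : ℕ) (b : Fin m → B), m ≤ n ∧
      (Spec.map (CommRingCat.ofHom (MvPolynomial.aeval (R := A) b).toRingHom)).QuasiFiniteAt x := by
  letI : Algebra A B := φ.hom.toAlgebra
  haveI : Algebra.FiniteType A B := hφ
  haveI hlft : LocallyOfFiniteType (Spec.map φ) := (HasRingHomProperty.Spec_iff (P := @LocallyOfFiniteType)).2 hφ
  let p : PrimeSpectrum A := PrimeSpectrum.comap (algebraMap A B) x
  let H := PrimeSpectrum.preimageHomeomorphFiber A B p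
  haveI : Nontrivial (p.asIdeal.Fiber B) := (H ⟨x, rfl⟩).nontrivial
  have hdim : ringKrullDim (p.asIdeal.Fiber B) ≤ (n : WithBot ℕ∞) := by
    rw [← PrimeSpectrum.topologicalKrullDim_eq_ringKrullDim, ← IsHomeomorph.topologicalKrullDim_eq _ H.isHomeomorph]
    exact hn
  obtain ⟨m, b, hm, hint⟩ := exists_fibre_normalization p hdim
  let ψ : MvPolynomial (Fin m) A →ₐ[A] B := MvPolynomial.aeval b
  let ψK : MvPolynomial (Fin m) p.asIdeal.ResidueField →ₐ[p.asIdeal.ResidueField] p.asIdeal.Fiber B :=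
    MvPolynomial.aeval fun i => ((1 : p.asIdeal.ResidueField) ⊗ₜ[A] b i : p.asIdeal.Fiber B)
  let a : Spec B ⟶ Spec (CommRingCat.of (MvPolynomial (Fin m) A)) := Spec.map (CommRingCat.ofHom ψ.toRingHom)
  let aK := Spec.map (CommRingCat.ofHom ψK.toRingHom)
  let π : Spec (CommRingCat.of (MvPolynomial (Fin m) A)) ⟶ Spec A :=
    Spec.map (CommRingCat.ofHom (algebraMap A (MvPolynomial (Fin m) A)))
  have haπ : a ≫ π = Spec.map φ := by
    rw [← Spec.map_comp]
    exact congrArg Spec.map (CommRingCat.hom_ext (RingHom.ext fun t => ψ.commutes t))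
  haveI : LocallyOfFiniteType π := (HasRingHomProperty.Spec_iff (P := @LocallyOfFiniteType)).2
    (RingHom.finiteType_algebraMap.2 inferInstance)
  haveI : LocallyOfFiniteType (a ≫ π) := haπ ▸ hlft
  haveI : LocallyOfFiniteType a := locallyOfFiniteType_of_comp a π
  have hsq : (Algebra.TensorProduct.includeRight : B →ₐ[A] p.asIdeal.Fiber B).toRingHom.comp ψ.toRingHom =
      ψK.toRingHom.comp (MvPolynomial.map (algebraMap A p.asIdeal.ResidueField)) := by
    refine MvPolynomial.ringHom_ext (fun t => ?_) fun i => ?_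
    · simp [ψ, ψK, IsScalarTower.algebraMap_apply A p.asIdeal.ResidueField (p.asIdeal.Fiber B)]
    · simp [ψ, ψK]
  have hfin : ψK.toRingHom.Finite :=
    RingHom.finite_iff_isIntegral_and_finiteType.2 ⟨hint, by
      letI := ψK.toRingHom.toAlgebra
      haveI : IsScalarTower p.asIdeal.ResidueField (MvPolynomial (Fin m) p.asIdeal.ResidueField) (p.asIdeal.Fiber B) :=
        IsScalarTower.of_algHom ψK
      exact Algebra.FiniteType.of_restrictScalars_finiteType p.asIdeal.ResidueField _ _⟩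
  haveI : IsFinite aK := (IsFinite.SpecMap_iff _).2 hfin
  let z : Spec (CommRingCat.of (p.asIdeal.Fiber B)) := H ⟨x, rfl⟩
  let ι : Spec (CommRingCat.of (p.asIdeal.Fiber B)) → Spec B :=
    PrimeSpectrum.comap (Algebra.TensorProduct.includeRight : B →ₐ[A] p.asIdeal.Fiber B).toRingHom
  have hι : IsEmbedding ι := isEmbedding_fibre p
  have hzx : ι z = x := congrArg Subtype.val (H.symm_apply_apply ⟨x, rfl⟩)
  have hcomm : ∀ w, a (ι w) = PrimeSpectrum.comap (MvPolynomial.map (algebraMap A p.asIdeal.ResidueField)) (aK w) :=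
    fun w => congrArg (fun f => PrimeSpectrum.comap f w) hsq
  have hzero : FlatMor.fibreDimAt a x = 0 := by
    rw [← fibreDimAt_eq_zero aK z, fibreDimAt_eq_localDim_preimage, fibreDimAt_eq_localDim_preimage]
    let e : (aK ⁻¹' {aK z} : Set (Spec (CommRingCat.of (p.asIdeal.Fiber B)))) → Spec B := fun w => ι w.1
    symm
    refine localDim_of_range (T := a ⁻¹' {a x}) (e := e) (hι.comp IsEmbedding.subtypeVal) ?_ ⟨z, rfl⟩ hzx rfl
    ext y
    constructor
    · rintro ⟨⟨w, hw⟩, rfl⟩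
      show a (ι w) = a x
      rw [← hzx, hcomm, hcomm, show aK w = aK z from hw]
    · intro hy
      have hy : a y = a x := hy
      have hp : PrimeSpectrum.comap (algebraMap A B) y = p := by
        have h1 := congrArg π hy
        rw [← Scheme.Hom.comp_apply, ← Scheme.Hom.comp_apply, haπ] at h1
        exact h1
      let w : Spec (CommRingCat.of (p.asIdeal.Fiber B)) := H ⟨y, hp⟩
      have hwy : ι w = y := congrArg Subtype.val (H.symm_apply_apply ⟨y, hp⟩)
      refine ⟨⟨w, injective_comap_map p m ?_⟩, hwy⟩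
      rw [← hcomm, ← hcomm, hwy, hzx, hy]
  exact ⟨m, b, hm, (fibreDimAt_eq_zero_iff a x).1 hzero⟩

theorem exists_chart_qfAt {X S : Scheme.{u}} (f : X ⟶ S) [LocallyOfFiniteType f] (x : X) {n : ℕ}
    (hx : FlatMor.fibreDimAt f x ≤ (n : WithBot ℕ∞)) :
    ∃ (V : S.Opens) (hV : IsAffineOpen V) (U : X.Opens) (hU : IsAffineOpen U) (hUV : U ≤ f ⁻¹ᵁ V)
      (hxU : x ∈ U),
      letI := (f.appLE V U hUV).hom.toAlgebra
      ∃ (m : ℕ) (b : Fin m → Γ(X, U)), m ≤ n ∧
        (Spec.map (CommRingCat.ofHom (MvPolynomial.aeval (R := Γ(S, V)) b).toRingHom)).QuasiFiniteAt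
          (hU.primeIdealOf ⟨x, hxU⟩) := by
  have hx' := hx
  rw [fibreDimAt_eq_localDim_preimage] at hx'
  obtain ⟨W, hW⟩ := TopDimLib.exists_localDim_eq (X := (f ⁻¹' {f x} : Set X)) ⟨x, rfl⟩
  obtain ⟨O, hO, hOW⟩ := isOpen_induced_iff.1 W.1.isOpen
  have hxO : x ∈ O := by
    have hxW : (⟨x, rfl⟩ : (f ⁻¹' {f x} : Set X)) ∈ (W.1 : Set (f ⁻¹' {f x} : Set X)) := W.2
    rw [← hOW] at hxW
    exact hxW
  obtain ⟨V, hV, hfxV, -⟩ := exists_isAffineOpen_mem_and_subset (U := (⊤ : S.Opens)) (x := f x) trivial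
  obtain ⟨U, hU, hxU, hUO⟩ := exists_isAffineOpen_mem_and_subset (U := (⟨O, hO⟩ ⊓ f ⁻¹ᵁ V : X.Opens)) (x := x) ⟨hxO, hfxV⟩
  have hUV : U ≤ f ⁻¹ᵁ V := fun y hy => (hUO hy).2
  let φ := f.appLE V U hUV
  have hcomp : hU.fromSpec ≫ f = Spec.map φ ≫ hV.fromSpec := (IsAffineOpen.SpecMap_appLE_fromSpec f hV hU hUV).symm
  have hφ : φ.hom.FiniteType := f.finiteType_appLE hV hU hUV
  haveI : LocallyOfFiniteType (Spec.map φ) := (HasRingHomProperty.Spec_iff (P := @LocallyOfFiniteType)).2 hφ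
  let z : Spec Γ(X, U) := hU.primeIdealOf ⟨x, hxU⟩
  have hz : hU.fromSpec z = x := hU.fromSpec_primeIdealOf ⟨x, hxU⟩
  have hlift : ∀ t, f (hU.fromSpec t) = hV.fromSpec (Spec.map φ t) := fun t => by
    rw [← Scheme.Hom.comp_apply, hcomp, Scheme.Hom.comp_apply]
  have hbound : topologicalKrullDim ((Spec.map φ) ⁻¹' {Spec.map φ z} : Set _) ≤ (n : WithBot ℕ∞) := by
    refine le_trans ?_ (hW.le.trans hx')
    let T : Set _ := (Spec.map φ) ⁻¹' {Spec.map φ z}
    have hmemF : ∀ t : T, hU.fromSpec t.1 ∈ f ⁻¹' {f x} := fun t => by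
      show f (hU.fromSpec t.1) = f x
      rw [← hz, hlift, hlift, show Spec.map φ t.1 = Spec.map φ z from t.2]
    have hmemW : ∀ t : T, (⟨_, hmemF t⟩ : (f ⁻¹' {f x} : Set X)) ∈ (W.1 : Set (f ⁻¹' {f x} : Set X)) := fun t => by
      rw [← hOW]
      have hm : hU.fromSpec t.1 ∈ Set.range hU.fromSpec := Set.mem_range_self t.1
      rw [hU.range_fromSpec] at hm
      exact (hUO hm).1
    exact IsInducing.topologicalKrullDim_le
      (f := fun t : T => (⟨⟨_, hmemF t⟩, hmemW t⟩ : (W.1 : Set (f ⁻¹' {f x} : Set X))))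
      (IsInducing.of_comp (by fun_prop) (continuous_subtype_val.comp continuous_subtype_val)
        (hU.fromSpec.isEmbedding.isInducing.comp IsInducing.subtypeVal))
  exact ⟨V, hV, U, hU, hUV, hxU, exists_qfAt_spec φ hφ z hbound⟩

end Groth.Agent.QFAffine4
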