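import Groth.Agent.Lib.EquiDim4
import Groth.Agent.Lib.QFAffine4
import Groth.Agent.Lib.Miracle4
import Groth.Agent.Lib.FlatDepth.FibreStalk
import Groth.Agent.Lib.FlatH4.FibreCritScheme
import Groth.Agent.Lib.Slice.Saturation
import Groth.Agent.Lib.SmoothReg17.Basic
import Groth.Agent.Lib.SMT.CMBasic
import Groth.Agent.Lib.Depth.CM
import Groth.Prelude.Def_MoreMor
import Mathlib.RingTheory.Ideal.AssociatedPrime.Finiteness

/-!
# Fibres with Cohen–Macaulay local rings are equidimensional at the point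
-/

universe u

open CategoryTheory AlgebraicGeometry Order Topology TopologicalSpace Groth.Agent.FibDim14 Groth.Agent.VarDim

set_option backward.isDefEq.respectTransparency.types false

namespace Groth.Agent.CMEquiDim4

theorem sdim_eq_localDim {k : Type u} [Field k] {Z : Scheme.{u}} (q : Z ⟶ Spec (CommRingCat.of k))
    [LocallyOfFiniteType q] {z z' : Z} (hcm : LocCoh.IsCohenMacaulayLocalRing (Z.presheaf.stalk z))
    (h : z' ⤳ z) (hmax : ∀ w, w ⤳ z' → w = z') :
    FlatMor.localDim Z z = (sdim q z' : WithBot ℕ∞) := by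
  haveI : IsLocallyNoetherian Z := LocallyOfFiniteType.isLocallyNoetherian q
  obtain ⟨b, hb⟩ := ENat.ne_top_iff_exists.1 (DimF18.coheight_ne_top z)
  obtain ⟨w, hw, -, hd, hall⟩ := DimF18.exists_localDim_eq_sdim q z
  refine le_antisymm ?_ (by rw [hd]; exact_mod_cast hall z' h)
  rw [DimF18.localDim_eq q hb.symm]
  haveI := hcm
  let R := Z.presheaf.stalk z
  let ι := Z.fromSpecStalk z
  obtain ⟨p, hp⟩ : ∃ p, ι p = z' := by
    have : z' ∈ Set.range ι := by rw [Scheme.range_fromSpecStalk]; exact h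
    exact this
  have hpmin : p.asIdeal ∈ minimalPrimes R := by
    refine ⟨⟨p.2, bot_le⟩, fun Q hQ hQp => ?_⟩
    let Q' : Spec R := ⟨Q, hQ.1⟩
    have h1 := hmax (ι Q') (hp ▸ ((PrimeSpectrum.le_iff_specializes Q' p).1 hQp).map ι.continuous)
    have h2 : Q' = p := ι.isEmbedding.injective (h1.trans hp.symm)
    exact (congrArg PrimeSpectrum.asIdeal h2).ge
  haveI := p.2
  have hass : p.asIdeal ∈ associatedPrimes R R := by
    refine Module.associatedPrimes.minimalPrimes_annihilator_subset_associatedPrimes R R ?_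
    rw [Module.annihilator_eq_bot.2 inferInstance]
    exact hpmin
  have hdim := DepthLib.ringKrullDim_quotient_eq_of_mem_associatedPrimes
    LocCoh.IsCohenMacaulayLocalRing.supportDim_eq_depth hass
  rw [Module.supportDim_self_eq_ringKrullDim, ringKrullDim_stalk_eq_coheight, ← hb] at hdim
  have hle : (b : WithBot ℕ∞) ≤ Order.krullDim (PrimeSpectrum (R ⧸ p.asIdeal)) := hdim.ge
  obtain ⟨l, hl⟩ := (Order.le_krullDim_iff).1 hle
  let g : PrimeSpectrum (R ⧸ p.asIdeal) → ℕ :=
    fun Q => sdim q (ι (PrimeSpectrum.comap (Ideal.Quotient.mk p.asIdeal) Q))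
  have hanti : StrictAnti g := by
    intro Q Q' hQ
    have h1 : PrimeSpectrum.comap (Ideal.Quotient.mk p.asIdeal) Q ⤳
        PrimeSpectrum.comap (Ideal.Quotient.mk p.asIdeal) Q' :=
      (PrimeSpectrum.le_iff_specializes _ _).1 (Ideal.comap_mono hQ.le)
    exact sdim_lt_of_specializes q (h1.map ι.continuous) fun e => hQ.ne
      (PrimeSpectrum.comap_injective_of_surjective _ Ideal.Quotient.mk_surjective (ι.isEmbedding.injective e))
  have hchain : ∀ (l : LTSeries (PrimeSpectrum (R ⧸ p.asIdeal))), g l.last + l.length ≤ g l.head := by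
    intro l
    induction l using RelSeries.inductionOn with
    | singleton Q => simp
    | cons l Q hQ ih =>
      rw [RelSeries.last_cons, RelSeries.head_cons, RelSeries.cons_length]
      have := hanti hQ
      omega
  have h1 := hchain l
  have h2 : g l.head ≤ sdim q z' := by
    have hle : (p.asIdeal : Ideal R) ≤ l.head.asIdeal.comap (Ideal.Quotient.mk p.asIdeal) := fun a ha => by
      show Ideal.Quotient.mk p.asIdeal a ∈ l.head.asIdeal
      rw [Ideal.Quotient.eq_zero_iff_mem.2 ha]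
      exact zero_mem _
    rcases eq_or_lt_of_le hle with e | e
    · show sdim q (ι _) ≤ _
      rw [show PrimeSpectrum.comap (Ideal.Quotient.mk p.asIdeal) l.head = p from PrimeSpectrum.ext e.symm, hp]
    · have h3 := sdim_lt_of_specializes q (((PrimeSpectrum.le_iff_specializes _ _).1 hle).map ι.continuous)
        (fun h4 => e.ne (congrArg (fun P : PrimeSpectrum R => P.asIdeal)
          (show p = PrimeSpectrum.comap (Ideal.Quotient.mk p.asIdeal) l.head from ι.isEmbedding.injective h4)))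
      rw [hp] at h3
      exact h3.le
  have h3 : sdim q z ≤ g l.last := by
    have hs : ι (PrimeSpectrum.comap (Ideal.Quotient.mk p.asIdeal) l.last) ⤳ z := by
      have hm : ι (PrimeSpectrum.comap (Ideal.Quotient.mk p.asIdeal) l.last) ∈ Set.range ι := ⟨_, rfl⟩
      rw [Scheme.range_fromSpecStalk] at hm
      exact hm
    by_cases e : ι (PrimeSpectrum.comap (Ideal.Quotient.mk p.asIdeal) l.last) = z
    · show _ ≤ sdim q (ι _)
      rw [e]
    · exact (sdim_lt_of_specializes q hs e).le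
  exact_mod_cast (by omega : sdim q z + b ≤ sdim q z')

/-- A maximal point of the fibre above a point with Cohen–Macaulay fibre ring has the maximal
residual degree. -/
theorem fibreDimAt_eq_of_isCM {X S : Scheme.{u}} (f : X ⟶ S) [LocallyOfFiniteType f] {x x' : X}
    (hcm : LocCoh.IsCohenMacaulayLocalRing ((f.fiber (f x)).presheaf.stalk (f.asFiber x)))
    (h : x' ⤳ x) (he : f x' = f x) : FlatMor.fibreDimAt f x' = FlatMor.fibreDimAt f x := by
  obtain ⟨y, hy, hey, hmax, hd⟩ := FibGen4.exists_isMaxFib f x'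
  rw [← hd, FibGen4.fibreDimAt_eq_rd_of_isMaxFib f hmax]
  obtain ⟨w, hw, hwx⟩ := exists_fiber_pt f (hy.trans h) (hey.trans he)
  have := sdim_eq_localDim (toPt f (f x)) hcm hwx
    ((isMaxFib_fiberι f (f x) w).1 (hw.symm ▸ hmax))
  rw [FlatMor.fibreDimAt, this, ← rd_fiberι, hw]

theorem exists_stalk_dim {k : Type u} [Field k] {Z : Scheme.{u}} (q : Z ⟶ Spec (CommRingCat.of k))
    [LocallyOfFiniteType q] (z : Z) :
    ∃ b : ℕ, ringKrullDim (Z.presheaf.stalk z) = (b : WithBot ℕ∞) ∧
      FlatMor.localDim Z z = ((sdim q z + b : ℕ) : WithBot ℕ∞) := by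
  haveI : IsLocallyNoetherian Z := LocallyOfFiniteType.isLocallyNoetherian q
  obtain ⟨b, hb⟩ := ENat.ne_top_iff_exists.1 (DimF18.coheight_ne_top z)
  refine ⟨b, ?_, DimF18.localDim_eq q hb.symm⟩
  rw [ringKrullDim_stalk_eq_coheight, ← hb]
  rfl

theorem isPullback_fibMap {X Y S : Scheme.{u}} (a : X ⟶ Y) (g : Y ⟶ S) (s : S) :
    IsPullback ((a ≫ g).fiberι s) (fibMap a g s) a (g.fiberι s) := by
  have hb : IsPullback ((a ≫ g).fiberι s) (fibMap a g s ≫ g.fiberToSpecResidueField s) (a ≫ g)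
      (S.fromSpecResidueField s) := by
    rw [show fibMap a g s ≫ g.fiberToSpecResidueField s = (a ≫ g).fiberToSpecResidueField s from
      Limits.pullback.lift_snd _ _ _]
    exact IsPullback.of_hasPullback _ _
  exact IsPullback.of_bot hb (Limits.pullback.lift_fst _ _ _).symm
    (IsPullback.of_hasPullback _ _)

/-- A map to affine space over the base which is quasi-finite at a point where the fibre is
Cohen–Macaulay of dimension `m` is flat there. -/
theorem flat_of_isCM {X S : Scheme.{u}} {A : Type u} [CommRing A] {m : ℕ}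
    (a : X ⟶ Spec (CommRingCat.of (MvPolynomial (Fin m) A))) [LocallyOfFiniteType a]
    (π : Spec (CommRingCat.of (MvPolynomial (Fin m) A)) ⟶ S) [Smooth π]
    [LocallyOfFinitePresentation (a ≫ π)]
    (hdim : ∀ y, FlatMor.fibreDimAt π y = (m : WithBot ℕ∞))
    (x : X) (hflat : ((a ≫ π).stalkMap x).hom.Flat) (hqf : a.QuasiFiniteAt x)
    (hcm : LocCoh.IsCohenMacaulayLocalRing (((a ≫ π).fiber ((a ≫ π) x)).presheaf.stalk ((a ≫ π).asFiber x)))
    (hd : FlatMor.fibreDimAt (a ≫ π) x = (m : WithBot ℕ∞)) :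
    (a.stalkMap x).hom.Flat := by
  set s := (a ≫ π) x with hs
  let F := fibMap a π s
  let z := (a ≫ π).asFiber x
  have hzx : (a ≫ π).fiberι s z = x := (a ≫ π).fiberι_asFiber x
  have hFz : π.fiberι s (F z) = a x := by rw [fiberι_fibMap, hzx]
  haveI : LocallyOfFiniteType (π.fiberToSpecResidueField s) := MorphismProperty.pullback_snd _ _ inferInstance
  haveI : Smooth (toPt π s) := MorphismProperty.pullback_snd _ _ ‹Smooth π›
  haveI : LocallyOfFiniteType F :=
    MorphismProperty.of_isPullback (isPullback_fibMap a π s) ‹LocallyOfFiniteType a›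
  haveI : IsRegularLocalRing ((π.fiber s).presheaf.stalk (F z)) :=
    SmoothReg17.isRegularLocalRing_stalk (toPt π s) (F z)
  haveI := hcm
  have hF0 : FlatMor.fibreDimAt F z = 0 := by
    rw [fibreDimAt_baseChange (isPullback_fibMap a π s), hzx, (fibreDimAt_eq_zero_iff a x).2 hqf]
  obtain ⟨b, hb, hb'⟩ := exists_stalk_dim (toPt (a ≫ π) s) z
  obtain ⟨c, hc, hc'⟩ := exists_stalk_dim (toPt π s) (F z)
  have e1 : b + rd (a ≫ π) x = m := by
    rw [show FlatMor.localDim ((a ≫ π).fiber s) z = FlatMor.fibreDimAt (a ≫ π) x from rfl, hd] at hb'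
    have h1 : m = sdim (toPt (a ≫ π) s) z + b := by exact_mod_cast hb'
    rw [← rd_fiberι, hzx] at h1
    omega
  have e2 : c + rd π (a x) = m := by
    have h0 : FlatMor.localDim (π.fiber s) (F z) = (m : WithBot ℕ∞) := by
      rw [← hdim (a x), fibreDimAt_eq_localDim_preimage]
      exact localDim_of_range (π.fiberι s).isEmbedding (π.range_fiberι s) (F z) hFz rfl
    rw [h0] at hc'
    have h1 : m = sdim (toPt π s) (F z) + c := by exact_mod_cast hc'
    rw [← rd_fiberι, hFz] at h1
    omega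
  have e3 : rd a x = 0 := by
    have h1 := rd_le_fibreDimAt a (specializes_rfl (x := x)) rfl
    rw [(fibreDimAt_eq_zero_iff a x).2 hqf] at h1
    exact Nat.le_zero.1 (by exact_mod_cast h1)
  have e4 : b = c := by rw [rd_comp a π x] at e1; omega
  have hflatF : (F.stalkMap z).hom.Flat := by
    algebraize [(F.stalkMap z).hom]
    haveI : IsLocalHom (algebraMap ((π.fiber s).presheaf.stalk (F z)) (((a ≫ π).fiber s).presheaf.stalk z)) :=
      F.toLRSHom.prop z
    refine Miracle4.flat_of_ringKrullDim_eq ?_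
    obtain ⟨e₀⟩ := FlatDepth.nonempty_fiberStalkEquiv F z
    have hfz : ringKrullDim (CInt.fiberStalk F z) = 0 := by
      obtain ⟨n, hn, hn'⟩ := exists_stalk_dim (toPt F (F z)) (F.asFiber z)
      rw [show FlatMor.localDim (F.fiber (F z)) (F.asFiber z) = FlatMor.fibreDimAt F z from rfl, hF0] at hn'
      have : n = 0 := by
        have h1 : (0 : ℕ) = sdim (toPt F (F z)) (F.asFiber z) + n := by exact_mod_cast hn'
        omega
      exact hn.trans (by rw [this]; rfl)
    have h5 : ringKrullDim ((((a ≫ π).fiber s).presheaf.stalk z) ⧸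
        (IsLocalRing.maximalIdeal ((π.fiber s).presheaf.stalk (F z))).map (algebraMap _ _)) = 0 :=
      (ringKrullDim_eq_of_ringEquiv e₀).trans hfz
    rw [h5, add_zero, hb, hc, e4]
  have hF' : FlatH4.fibreMapAt' a π (S.fromSpecResidueField s) = F := by
    apply Limits.pullback.hom_ext
    · rw [FlatH4.fibreMapAt']
      exact (Limits.pullback.lift_fst _ _ _).trans (Limits.pullback.lift_fst _ _ _).symm
    · rw [FlatH4.fibreMapAt']
      refine (Limits.pullback.lift_snd _ _ _).trans ((Category.comp_id _).trans ?_)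
      exact (Limits.pullback.lift_snd _ _ _).symm
  have h := FlatH4.flat_of_flat_fibreMapAt' a π (S.fromSpecResidueField s) z
    (FlatH4.flat_stalkMap_of_eq (a ≫ π) hzx.symm hflat) (by rw [hF']; exact hflatF)
  exact FlatH4.flat_stalkMap_of_eq a hzx h

theorem isCM_fibre_of_eq {X S : Scheme.{u}} {f g : X ⟶ S} (hfg : f = g) {x : X}
    (h : LocCoh.IsCohenMacaulayLocalRing ((f.fiber (f x)).presheaf.stalk (f.asFiber x))) :
    LocCoh.IsCohenMacaulayLocalRing ((g.fiber (g x)).presheaf.stalk (g.asFiber x)) := by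
  subst hfg; exact h

theorem isCM_stalk_of_eq {Z : Scheme.{u}} {z z' : Z} (hz : z = z')
    (h : LocCoh.IsCohenMacaulayLocalRing (Z.presheaf.stalk z)) :
    LocCoh.IsCohenMacaulayLocalRing (Z.presheaf.stalk z') := by
  subst hz; exact h

theorem isCM_fibre_openImmersion_comp {W X S : Scheme.{u}} (j : W ⟶ X) [IsOpenImmersion j] (f : X ⟶ S) (w : W)
    (h : LocCoh.IsCohenMacaulayLocalRing ((f.fiber (f (j w))).presheaf.stalk (f.asFiber (j w)))) :
    LocCoh.IsCohenMacaulayLocalRing (((j ≫ f).fiber ((j ≫ f) w)).presheaf.stalk ((j ≫ f).asFiber w)) := by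
  haveI : IsOpenImmersion (fibMap j f ((j ≫ f) w)) :=
    MorphismProperty.of_isPullback (isPullback_fibMap j f ((j ≫ f) w)) ‹IsOpenImmersion j›
  have hpt : fibMap j f ((j ≫ f) w) ((j ≫ f).asFiber w) = f.asFiber (j w) := by
    refine (f.fiberι (f (j w))).isEmbedding.injective ?_
    rw [f.fiberι_asFiber]
    refine (fiberι_fibMap j f ((j ≫ f) w) _).trans ?_
    rw [(j ≫ f).fiberι_asFiber]
  exact SMT.isCM_of_ringEquiv
    (asIso ((fibMap j f ((j ≫ f) w)).stalkMap ((j ≫ f).asFiber w))).commRingCatIsoToRingEquiv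
    (isCM_stalk_of_eq hpt.symm h)

theorem flat_localized_of_flat_stalkMap_SpecMap {A B : CommRingCat.{u}} (φ : A ⟶ B) (z : Spec B)
    (h : ((Spec.map φ).stalkMap z).hom.Flat) :
    letI := φ.hom.toAlgebra; Module.Flat A (LocalizedModule z.asIdeal.primeCompl B) := by
  algebraize [φ.hom]
  have h' := (RingHom.Flat.respectsIso.arrow_mk_iso_iff (Scheme.arrowStalkMapSpecIso φ z)).1 h
  algebraize [Localization.localRingHom (PrimeSpectrum.comap φ.hom z).asIdeal z.asIdeal φ.hom rfl]
  haveI : IsScalarTower A (Localization.AtPrime (PrimeSpectrum.comap φ.hom z).asIdeal)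
      (Localization.AtPrime z.asIdeal) :=
    .of_algebraMap_eq fun x => (Localization.localRingHom_to_map _ _ _ rfl x).symm
  haveI : Module.Flat A (Localization.AtPrime z.asIdeal) :=
    Module.Flat.trans A (Localization.AtPrime (PrimeSpectrum.comap φ.hom z).asIdeal) _
  exact Module.Flat.of_linearEquiv
    ((IsLocalizedModule.iso z.asIdeal.primeCompl
      (Algebra.linearMap B (Localization.AtPrime z.asIdeal))).restrictScalars A)

/-- Near a point where `f` is flat with Cohen–Macaulay fibre the fibre dimension is constant. -/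
theorem exists_nhd_fibreDimAt_eq {X S : Scheme.{u}} (f : X ⟶ S) [LocallyOfFinitePresentation f]
    {x : X} (h : MoreMor.IsCMAt f x) :
    ∃ W : X.Opens, x ∈ W ∧ ∀ z ∈ W, FlatMor.fibreDimAt f z = FlatMor.fibreDimAt f x := by
  obtain ⟨hflat, hcm⟩ := h
  suffices ∃ (W : X.Opens) (n : ℕ), x ∈ W ∧ ∀ z ∈ W, FlatMor.fibreDimAt f z = (n : WithBot ℕ∞) by
    obtain ⟨W, n, hW, h⟩ := this
    exact ⟨W, hW, fun z hz => (h z hz).trans (h x hW).symm⟩
  obtain ⟨x', -, -, hd, -⟩ := exists_fibreDimAt_eq f x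
  set d := rd f x'
  obtain ⟨V, hV, U, hU, hUV, hxU, H⟩ := QFAffine4.exists_chart_qfAt f x hd.le
  let φ := f.appLE V U hUV
  letI : Algebra Γ(S, V) Γ(X, U) := φ.hom.toAlgebra
  obtain ⟨m, b, hm, hqf⟩ := H
  haveI : Algebra.FinitePresentation Γ(S, V) Γ(X, U) := f.finitePresentation_appLE hV hU hUV
  let C := CommRingCat.of (MvPolynomial (Fin m) Γ(S, V))
  let ψ : C ⟶ Γ(X, U) := CommRingCat.ofHom (MvPolynomial.aeval (R := Γ(S, V)) b).toRingHom
  let a : Spec Γ(X, U) ⟶ Spec C := Spec.map ψ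
  let π₀ : Spec C ⟶ Spec Γ(S, V) :=
    Spec.map (CommRingCat.ofHom (algebraMap Γ(S, V) (MvPolynomial (Fin m) Γ(S, V))))
  let π : Spec C ⟶ S := π₀ ≫ hV.fromSpec
  have haπ₀ : a ≫ π₀ = Spec.map φ := by
    rw [← Spec.map_comp]
    exact congrArg Spec.map (CommRingCat.hom_ext (RingHom.ext fun t => (MvPolynomial.aeval b).commutes t))
  have haπ : a ≫ π = hU.fromSpec ≫ f := by
    show a ≫ π₀ ≫ hV.fromSpec = _
    rw [← Category.assoc, haπ₀]
    exact IsAffineOpen.SpecMap_appLE_fromSpec f hV hU hUV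
  haveI : Smooth π₀ := (HasRingHomProperty.Spec_iff (P := @Smooth)).2
    (RingHom.smooth_algebraMap.2 (⟨inferInstance, inferInstance⟩ : Algebra.Smooth Γ(S, V) (MvPolynomial (Fin m) Γ(S, V))))
  haveI : Smooth π := inferInstance
  letI : Algebra (MvPolynomial (Fin m) Γ(S, V)) Γ(X, U) := (MvPolynomial.aeval (R := Γ(S, V)) b).toRingHom.toAlgebra
  haveI : IsScalarTower Γ(S, V) (MvPolynomial (Fin m) Γ(S, V)) Γ(X, U) :=
    IsScalarTower.of_algebraMap_eq fun r => ((MvPolynomial.aeval (R := Γ(S, V)) b).commutes r).symm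
  haveI : Algebra.FinitePresentation (MvPolynomial (Fin m) Γ(S, V)) Γ(X, U) :=
    Algebra.FinitePresentation.of_restrict_scalars_finitePresentation Γ(S, V) _ _
  haveI : LocallyOfFinitePresentation a := (HasRingHomProperty.Spec_iff (P := @LocallyOfFinitePresentation)).2
    (RingHom.finitePresentation_algebraMap.2 inferInstance)
  haveI : LocallyOfFinitePresentation (a ≫ π) := haπ ▸ inferInstance
  have hπdim : ∀ y, FlatMor.fibreDimAt π y = (m : WithBot ℕ∞) := fun y => by
    rw [fibreDimAt_comp_lqf]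
    exact FibGen4.fibreDimAt_affineSpace m y
  let P : Spec Γ(X, U) := hU.primeIdealOf ⟨x, hxU⟩
  have hP : hU.fromSpec P = x := hU.fromSpec_primeIdealOf ⟨x, hxU⟩
  have hdP : FlatMor.fibreDimAt (a ≫ π) P = (d : WithBot ℕ∞) := by
    simp only [haπ]
    rw [fibreDimAt_etale_comp, hP, hd]
  have hmd : m = d := by
    refine le_antisymm hm ?_
    have h1 := fibreDimAt_comp_le a π P
    rw [(fibreDimAt_eq_zero_iff a P).2 hqf, zero_add, hπdim, hdP] at h1
    exact_mod_cast h1
  have hflatP : ((a ≫ π).stalkMap P).hom.Flat := by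
    refine Slice.flat_stalkMap_congr haπ.symm P ?_
    rw [FlatH4.flat_stalkMap_comp_left_iff]
    exact FlatH4.flat_stalkMap_of_eq f hP.symm hflat
  have hcmP : LocCoh.IsCohenMacaulayLocalRing (((a ≫ π).fiber ((a ≫ π) P)).presheaf.stalk ((a ≫ π).asFiber P)) :=
    isCM_fibre_of_eq haπ.symm (isCM_fibre_openImmersion_comp hU.fromSpec f P (hP.symm ▸ hcm))
  have hflata := flat_of_isCM a π hπdim P hflatP hqf hcmP (by rw [hdP, hmd])
  let O : Set (Spec Γ(X, U)) := {t | a.QuasiFiniteAt t} ∩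
    {t | Module.Flat (MvPolynomial (Fin m) Γ(S, V)) (LocalizedModule t.asIdeal.primeCompl Γ(X, U))}
  have hO : IsOpen O := (a.isOpen_quasiFiniteAt).inter (FlatH4.isOpen_flat_localized (M := Γ(X, U)))
  have hflatalg : Module.Flat (MvPolynomial (Fin m) Γ(S, V)) (LocalizedModule P.asIdeal.primeCompl Γ(X, U)) :=
    flat_localized_of_flat_stalkMap_SpecMap ψ P hflata
  refine ⟨hU.fromSpec ''ᵁ ⟨O, hO⟩, m, ⟨P, ⟨hqf, hflatalg⟩, hP⟩, ?_⟩
  rintro _ ⟨t, ⟨ht1, ht2⟩, rfl⟩
  refine (fibreDimAt_etale_comp hU.fromSpec f t).symm.trans ?_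
  simp only [← haπ]
  rw [fibreDimAt_comp_eq a π (goDown_of_flat_stalk a t (FibGen4.flat_stalkMap_SpecMap ψ t ht2)),
    (fibreDimAt_eq_zero_iff a t).2 ht1, zero_add, hπdim]

end Groth.Agent.CMEquiDim4
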