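import Groth.Agent.Lib.CMEquiDim4
import Mathlib.AlgebraicGeometry.AffineSpace

/-!
# Cohen–Macaulay points: flat quasi-finite maps to affine space
-/

universe u

open CategoryTheory AlgebraicGeometry Order Topology TopologicalSpace Groth.Agent.FibDim14 Groth.Agent.VarDim

set_option backward.isDefEq.respectTransparency.types false

namespace Groth.Agent.CMEquiDim4

instance smooth_affineSpace {n : Type u} [Finite n] (S : Scheme.{u}) : Smooth (𝔸(n; S) ↘ S) :=
  MorphismProperty.pullback_fst _ _ <| by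
  have := Limits.isIso_of_isTerminal specULiftZIsTerminal.{u} Limits.terminalIsTerminal (Limits.terminal.from _)
  rw [← Limits.terminal.comp_from (Spec.map (CommRingCat.ofHom MvPolynomial.C)),
    MorphismProperty.cancel_right_of_respectsIso (P := @Smooth),
    HasRingHomProperty.Spec_iff (P := @Smooth), RingHom.Smooth]
  convert! (⟨inferInstance, inferInstance⟩ : Algebra.Smooth (ULift ℤ) (MvPolynomial n (ULift ℤ)))
  exact Algebra.algebra_ext _ _ fun _ ↦ rfl

/-- At a point where `f` is flat with Cohen–Macaulay fibre there is a chart with a map to affine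
space over the base, quasi-finite, with flatness at the point. -/
theorem exists_flat_qf_toAffineSpace_dim {X S : Scheme.{u}} (f : X ⟶ S) [LocallyOfFinitePresentation f]
    {x : X} (h : MoreMor.IsCMAt f x) :
    ∃ (n : ℕ) (W : X.Opens) (hxW : x ∈ W) (g : (W : Scheme.{u}) ⟶ 𝔸(ULift.{u} (Fin n); S)),
      g ≫ (𝔸(ULift.{u} (Fin n); S) ↘ S) = W.ι ≫ f ∧ LocallyQuasiFinite g ∧
        (g.stalkMap ⟨x, hxW⟩).hom.Flat ∧ FlatMor.fibreDimAt f x = (n : WithBot ℕ∞) := by
  obtain ⟨hflat, hcm⟩ := h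
  obtain ⟨x', -, -, hd, -⟩ := exists_fibreDimAt_eq f x
  set d := rd f x'
  obtain ⟨V, hV, U, hU, hUV, hxU, H⟩ := QFAffine4.exists_chart_qfAt f x hd.le
  let φ := f.appLE V U hUV
  letI : Algebra Γ(S, V) Γ(X, U) := φ.hom.toAlgebra
  obtain ⟨m, b, hm, hqf⟩ := H
  haveI : Algebra.FinitePresentation Γ(S, V) Γ(X, U) := f.finitePresentation_appLE hV hU hUV
  let C := CommRingCat.of (MvPolynomial (Fin m) Γ(S, V))
  let ψ : C ⟶ Γ(X, U) := CommRingCat.ofHom (MvPolynomial.aeval (R := Γ(S, V)) b).toRingHom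
  let a : Spec Γ(X, U) ⟶ Spec C := Spec.map ψ
  let π₀ : Spec C ⟶ Spec Γ(S, V) :=
    Spec.map (CommRingCat.ofHom (algebraMap Γ(S, V) (MvPolynomial (Fin m) Γ(S, V))))
  let π : Spec C ⟶ S := π₀ ≫ hV.fromSpec
  have haπ₀ : a ≫ π₀ = Spec.map φ := by
    rw [← Spec.map_comp]
    exact congrArg Spec.map (CommRingCat.hom_ext (RingHom.ext fun t => (MvPolynomial.aeval b).commutes t))
  have haπ : a ≫ π = hU.fromSpec ≫ f := by
    show a ≫ π₀ ≫ hV.fromSpec = _
    rw [← Category.assoc, haπ₀]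
    exact IsAffineOpen.SpecMap_appLE_fromSpec f hV hU hUV
  haveI : Smooth π₀ := (HasRingHomProperty.Spec_iff (P := @Smooth)).2
    (RingHom.smooth_algebraMap.2 (⟨inferInstance, inferInstance⟩ : Algebra.Smooth Γ(S, V) (MvPolynomial (Fin m) Γ(S, V))))
  haveI : Smooth π := inferInstance
  letI : Algebra (MvPolynomial (Fin m) Γ(S, V)) Γ(X, U) := (MvPolynomial.aeval (R := Γ(S, V)) b).toRingHom.toAlgebra
  haveI : IsScalarTower Γ(S, V) (MvPolynomial (Fin m) Γ(S, V)) Γ(X, U) :=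
    IsScalarTower.of_algebraMap_eq fun r => ((MvPolynomial.aeval (R := Γ(S, V)) b).commutes r).symm
  haveI : Algebra.FinitePresentation (MvPolynomial (Fin m) Γ(S, V)) Γ(X, U) :=
    Algebra.FinitePresentation.of_restrict_scalars_finitePresentation Γ(S, V) _ _
  haveI : LocallyOfFinitePresentation a := (HasRingHomProperty.Spec_iff (P := @LocallyOfFinitePresentation)).2
    (RingHom.finitePresentation_algebraMap.2 inferInstance)
  haveI : LocallyOfFinitePresentation (a ≫ π) := haπ ▸ inferInstance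
  have hπdim : ∀ y, FlatMor.fibreDimAt π y = (m : WithBot ℕ∞) := fun y => by
    rw [fibreDimAt_comp_lqf]
    exact FibGen4.fibreDimAt_affineSpace m y
  let P : Spec Γ(X, U) := hU.primeIdealOf ⟨x, hxU⟩
  have hP : hU.fromSpec P = x := hU.fromSpec_primeIdealOf ⟨x, hxU⟩
  have hdP : FlatMor.fibreDimAt (a ≫ π) P = (d : WithBot ℕ∞) := by
    simp only [haπ]
    rw [fibreDimAt_etale_comp, hP, hd]
  have hmd : m = d := by
    refine le_antisymm hm ?_
    have h1 := fibreDimAt_comp_le a π P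
    rw [(fibreDimAt_eq_zero_iff a P).2 hqf, zero_add, hπdim, hdP] at h1
    exact_mod_cast h1
  have hflatP : ((a ≫ π).stalkMap P).hom.Flat := by
    refine Slice.flat_stalkMap_congr haπ.symm P ?_
    rw [FlatH4.flat_stalkMap_comp_left_iff]
    exact FlatH4.flat_stalkMap_of_eq f hP.symm hflat
  have hcmP : LocCoh.IsCohenMacaulayLocalRing (((a ≫ π).fiber ((a ≫ π) P)).presheaf.stalk ((a ≫ π).asFiber P)) :=
    isCM_fibre_of_eq haπ.symm (isCM_fibre_openImmersion_comp hU.fromSpec f P (hP.symm ▸ hcm))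
  have hflata := flat_of_isCM a π hπdim P hflatP hqf hcmP (by rw [hdP, hmd])
  let O : Set (Spec Γ(X, U)) := {t | a.QuasiFiniteAt t} ∩
    {t | Module.Flat (MvPolynomial (Fin m) Γ(S, V)) (LocalizedModule t.asIdeal.primeCompl Γ(X, U))}
  have hO : IsOpen O := (a.isOpen_quasiFiniteAt).inter (FlatH4.isOpen_flat_localized (M := Γ(X, U)))
  have hflatalg : Module.Flat (MvPolynomial (Fin m) Γ(S, V)) (LocalizedModule P.asIdeal.primeCompl Γ(X, U)) :=
    flat_localized_of_flat_stalkMap_SpecMap ψ P hflata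
  let W : X.Opens := hU.fromSpec ''ᵁ ⟨O, hO⟩
  have hxW : x ∈ W := ⟨P, ⟨hqf, hflatalg⟩, hP⟩
  let e := MvPolynomial.renameEquiv Γ(S, V) (Equiv.ulift.{u, 0} (α := Fin m))
  let j₁ : Spec C ⟶ Spec (CommRingCat.of (MvPolynomial (ULift.{u} (Fin m)) Γ(S, V))) :=
    Spec.map (CommRingCat.ofHom e.toRingHom)
  haveI : IsIso (CommRingCat.ofHom e.toRingHom) := e.toRingEquiv.toCommRingCatIso.isIso_hom
  haveI : IsOpenImmersion (AffineSpace.map (ULift.{u} (Fin m)) hV.fromSpec) :=
    MorphismProperty.of_isPullback (AffineSpace.isPullback_map hV.fromSpec).flip (inferInstance : IsOpenImmersion hV.fromSpec)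
  let j : Spec C ⟶ 𝔸(ULift.{u} (Fin m); S) :=
    j₁ ≫ (AffineSpace.SpecIso (ULift.{u} (Fin m)) Γ(S, V)).inv ≫ AffineSpace.map (ULift.{u} (Fin m)) hV.fromSpec
  have hj : j ≫ (𝔸(ULift.{u} (Fin m); S) ↘ S) = π := by
    simp only [j, Category.assoc, AffineSpace.map_over, AffineSpace.SpecIso_inv_over_assoc]
    show _ = π₀ ≫ hV.fromSpec
    rw [← Category.assoc]
    congr 1
    rw [← Spec.map_comp]
    refine congrArg Spec.map (CommRingCat.hom_ext (RingHom.ext fun t => ?_))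
    exact MvPolynomial.rename_C _ t
  let O' : (Spec Γ(X, U)).Opens := ⟨O, hO⟩
  have hι : IsOpenImmersion (O'.ι ≫ hU.fromSpec) := inferInstance
  have hrange : Set.range (O'.ι ≫ hU.fromSpec) = (W : Set X) := by
    rw [Scheme.Hom.comp_base, TopCat.coe_comp, Set.range_comp, Scheme.Opens.range_ι]
    rfl
  let k : (W : Scheme.{u}) ⟶ (O' : Scheme.{u}) :=
    IsOpenImmersion.lift (O'.ι ≫ hU.fromSpec) W.ι (by rw [hrange, Scheme.Opens.range_ι])
  have hk : k ≫ O'.ι ≫ hU.fromSpec = W.ι := IsOpenImmersion.lift_fac _ _ _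
  haveI : IsOpenImmersion k := by
    haveI : IsOpenImmersion (k ≫ (O'.ι ≫ hU.fromSpec)) := hk.symm ▸ inferInstance
    exact IsOpenImmersion.of_comp k (O'.ι ≫ hU.fromSpec)
  haveI : IsOpenImmersion j := inferInstance
  haveI : LocallyQuasiFinite (O'.ι ≫ a) := by
    rw [← Scheme.Hom.quasiFiniteLocus_eq_top_iff, eq_top_iff]
    intro t _
    show (O'.ι ≫ a).QuasiFiniteAt t
    rw [Scheme.Hom.quasiFiniteAt_comp_iff_of_isOpenImmersion]
    exact t.2.1
  refine ⟨m, W, hxW, k ≫ O'.ι ≫ a ≫ j, ?_, ?_, ?_, by rw [hd, hmd]⟩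
  · simp only [Category.assoc, hj]
    rw [haπ, reassoc_of% hk]
  · rw [← Category.assoc O'.ι]
    infer_instance
  · have hpt : O'.ι (k ⟨x, hxW⟩) = P := by
      apply hU.fromSpec.isOpenEmbedding.injective
      rw [hP, ← Scheme.Hom.comp_apply, ← Scheme.Hom.comp_apply, hk]
      rfl
    rw [FlatH4.flat_stalkMap_comp_left_iff, FlatH4.flat_stalkMap_comp_left_iff,
      FlatH4.flat_stalkMap_comp_right_iff]
    exact FlatH4.flat_stalkMap_of_eq a hpt.symm hflata

/-- At a point where `f` is flat with Cohen–Macaulay fibre there is a chart with a map to affine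
space over the base, quasi-finite, with flatness at the point. -/
theorem exists_flat_qf_toAffineSpace {X S : Scheme.{u}} (f : X ⟶ S) [LocallyOfFinitePresentation f]
    {x : X} (h : MoreMor.IsCMAt f x) :
    ∃ (n : ℕ) (W : X.Opens) (hxW : x ∈ W) (g : (W : Scheme.{u}) ⟶ 𝔸(ULift.{u} (Fin n); S)),
      g ≫ (𝔸(ULift.{u} (Fin n); S) ↘ S) = W.ι ≫ f ∧ LocallyQuasiFinite g ∧
        (g.stalkMap ⟨x, hxW⟩).hom.Flat := by
  obtain ⟨n, W, hxW, g, h1, h2, h3, -⟩ := exists_flat_qf_toAffineSpace_dim f h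
  exact ⟨n, W, hxW, g, h1, h2, h3⟩

end Groth.Agent.CMEquiDim4
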