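import Groth.Agent.Lib.FibRing4
import Mathlib.RingTheory.DiscreteValuationRing.Basic
import Mathlib.RingTheory.TensorProduct.Quotient
import Mathlib.AlgebraicGeometry.Morphisms.FiniteType

/-!
# Connected generic fibre over a discrete valuation ring (EGA IV 15.5.3)
-/

universe u

open CategoryTheory CategoryTheory.Limits AlgebraicGeometry Topology TensorProduct

set_option backward.isDefEq.respectTransparency.types false

namespace Groth.Agent.DvrConn4

variable {A : Type u} [CommRing A]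

theorem isReduced_quotient_of_fiber {B : Type u} [CommRing B] [Algebra A B] (m : PrimeSpectrum A) [m.asIdeal.IsMaximal]
    [_root_.IsReduced (m.asIdeal.Fiber B)] : _root_.IsReduced (B ⧸ m.asIdeal.map (algebraMap A B)) := by
  let e₁ := (Algebra.TensorProduct.quotIdealMapEquivTensorQuot B m.asIdeal).toRingEquiv
  let r : (A ⧸ m.asIdeal) ≃ₐ[A] m.asIdeal.ResidueField :=
    AlgEquiv.ofBijective (IsScalarTower.toAlgHom A (A ⧸ m.asIdeal) m.asIdeal.ResidueField)
      m.asIdeal.bijective_algebraMap_quotient_residueField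
  let e₂ := ((Algebra.TensorProduct.congr (AlgEquiv.refl : B ≃ₐ[A] B) r).trans
    (Algebra.TensorProduct.comm A B m.asIdeal.ResidueField)).toRingEquiv
  exact isReduced_of_injective (e₁.trans e₂).toRingHom (e₁.trans e₂).injective

theorem mem_minimalPrimes_of_forall {B : Type u} [CommRing B] {π : B}
    (hgen : ∀ Q : PrimeSpectrum B, ∃ P : PrimeSpectrum B, P.asIdeal ≤ Q.asIdeal ∧ π ∉ P.asIdeal)
    {z : B} {k : ℕ} (hz : π ^ k * z = 0) : z ∈ nilradical B := by
  rw [nilradical_eq_sInf, Submodule.mem_sInf]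
  intro q hq
  obtain ⟨P, hle, hP⟩ := hgen ⟨q, hq⟩
  exact hle ((P.2.mem_or_mem (hz ▸ zero_mem _ : π ^ k * z ∈ P.asIdeal)).resolve_left
    fun h => hP (P.2.mem_of_pow_mem k h))

/-- A clopen subset of the generic part lifts to an idempotent modulo the nilradical. -/
theorem exists_lift_idempotent {B : Type u} [CommRing B] {π : B} [_root_.IsReduced (B ⧸ Ideal.span {π})]
    (hgen : ∀ Q : PrimeSpectrum B, ∃ P : PrimeSpectrum B, P.asIdeal ≤ Q.asIdeal ∧ π ∉ P.asIdeal)
    {U : Set (PrimeSpectrum B)}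
    (hU : IsClopen (PrimeSpectrum.comap (algebraMap B (Localization.Away π)) ⁻¹' U)) :
    ∃ c : B, c * c - c ∈ nilradical B ∧ ∀ q : PrimeSpectrum B, π ∉ q.asIdeal → (q ∈ U ↔ c ∉ q.asIdeal) := by
  obtain ⟨e, he, heU⟩ := PrimeSpectrum.exists_idempotent_basicOpen_eq_of_isClopen hU
  obtain ⟨n, c, hc⟩ := IsLocalization.Away.surj π e
  have h0 : c * c - π ^ n * c ∈ nilradical B := by
    obtain ⟨⟨_, k, rfl⟩, hk⟩ := (IsLocalization.map_eq_zero_iff (Submonoid.powers π) (Localization.Away π)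
      (c * c - π ^ n * c)).1 (by
      rw [map_sub, map_mul, map_mul, map_pow, ← hc, mul_mul_mul_comm, he.eq, sub_eq_zero]
      ring)
    exact mem_minimalPrimes_of_forall hgen hk
  have hmem : ∀ q : PrimeSpectrum B, π ∉ q.asIdeal → (q ∈ U ↔ c ∉ q.asIdeal) := by
    intro q hq
    obtain ⟨q', rfl⟩ := (PrimeSpectrum.localization_away_comap_range (Localization.Away π) π).ge hq
    rw [← Set.mem_preimage, heU]
    show e ∉ q'.asIdeal ↔ algebraMap B (Localization.Away π) c ∉ q'.asIdeal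
    rw [← hc, Ideal.mul_unit_mem_iff_mem _ ((IsLocalization.Away.algebraMap_isUnit π).pow n)]
  clear hc heU he
  induction n generalizing c with
  | zero => exact ⟨c, by simpa using h0, hmem⟩
  | succ n ih =>
    obtain ⟨c', rfl⟩ : ∃ c', c = π * c' := by
      refine Ideal.mem_span_singleton.1 (Ideal.Quotient.eq_zero_iff_mem.1
        (IsReduced.eq_zero (Ideal.Quotient.mk (Ideal.span {π}) c) ?_))
      obtain ⟨N, hN⟩ := h0
      refine ⟨2 * N, ?_⟩
      have h1 := congrArg (Ideal.Quotient.mk (Ideal.span {π})) hN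
      rw [map_pow, map_sub, map_mul, map_mul, map_pow, map_zero, Ideal.Quotient.mk_singleton_self,
        zero_pow n.succ_ne_zero, zero_mul, sub_zero, ← pow_two, ← pow_mul] at h1
      exact h1
    refine ih c' ?_ fun q hq => (hmem q hq).trans
      ⟨fun h h' => h (Ideal.mul_mem_left _ _ h'), fun h h' => h ((q.2.mem_or_mem h').resolve_left hq)⟩
    rw [nilradical_eq_sInf, Submodule.mem_sInf] at h0 ⊢
    intro q hq
    obtain ⟨P, hle, hP⟩ := hgen ⟨q, hq⟩
    have h1 := h0 P.asIdeal P.2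
    rw [show π * c' * (π * c') - π ^ (n + 1) * (π * c') = π ^ 2 * (c' * c' - π ^ n * c') by ring] at h1
    exact hle ((P.2.mem_or_mem h1).resolve_left fun h => hP (P.2.mem_of_pow_mem 2 h))

variable [IsDomain A] [IsDiscreteValuationRing A] {X : Scheme.{u}}

/-- EGA IV 15.5.3: open over a DVR, connected with reduced special fibre, has connected generic fibre. -/
theorem preconnectedSpace_generic (f : X ⟶ Spec (CommRingCat.of A)) (hopen : IsOpenMap f.base)
    [PreconnectedSpace X] (a b : ↥(Spec (CommRingCat.of A))) (ha : IsClosed ({a} : Set ↥(Spec (CommRingCat.of A))))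
    (hb : ∀ z : ↥(Spec (CommRingCat.of A)), b ⤳ z) (hred : AlgebraicGeometry.IsReduced (f.fiber a)) :
    PreconnectedSpace ↥(f.fiber b) := by
  obtain ⟨π, hπ⟩ := IsDiscreteValuationRing.exists_irreducible A
  have hbbot : (b : PrimeSpectrum A).asIdeal = ⊥ :=
    eq_bot_iff.2 ((PrimeSpectrum.le_iff_specializes (b : PrimeSpectrum A) ⟨⊥, Ideal.isPrime_bot⟩).2 (hb _))
  haveI hamax : (a : PrimeSpectrum A).asIdeal.IsMaximal := (PrimeSpectrum.isClosed_singleton_iff_isMaximal _).1 ha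
  have hamk : (a : PrimeSpectrum A).asIdeal = Ideal.span {π} :=
    (IsLocalRing.eq_maximalIdeal hamax).trans hπ.maximalIdeal_eq
  have hfib : ∀ z : ↥(Spec (CommRingCat.of A)), π ∉ (z : PrimeSpectrum A).asIdeal ↔ z = b := by
    intro z
    refine ⟨fun h => PrimeSpectrum.ext ?_, fun h => h ▸ hbbot ▸ fun h0 => hπ.ne_zero (Ideal.mem_bot.1 h0)⟩
    rw [hbbot]
    by_contra hne
    refine h ?_
    rw [IsLocalRing.eq_maximalIdeal (IsPrime.to_maximal_ideal hne), hπ.maximalIdeal_eq]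
    exact Ideal.mem_span_singleton_self π
  -- affine charts
  have hchart : ∀ x : X, ∃ (B : CommRingCat.{u}) (j : Spec B ⟶ X), IsOpenImmersion j ∧ x ∈ Set.range j := fun x => by
    obtain ⟨W, hW, hxW, -⟩ := exists_isAffineOpen_mem_and_subset (X := X) (x := x) (U := ⊤) trivial
    exact ⟨_, hW.fromSpec, inferInstance, _, hW.fromSpec_primeIdealOf ⟨x, hxW⟩⟩
  suffices h : _root_.IsPreconnected (f ⁻¹' ({b} : Set ↥(Spec (CommRingCat.of A)))) by
    haveI := Subtype.preconnectedSpace h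
    refine ⟨?_⟩
    rw [← (Scheme.Hom.fiberHomeo f b).symm.surjective.range_eq]
    exact isPreconnected_range (Scheme.Hom.fiberHomeo f b).symm.continuous
  rw [isPreconnected_iff_subset_of_disjoint]
  intro u v hu hv huv hdisj
  by_contra hcon
  rw [not_or, Set.not_subset, Set.not_subset] at hcon
  obtain ⟨⟨x₁, hx₁, hx₁u⟩, ⟨x₂, hx₂, hx₂v⟩⟩ := hcon
  have hdense : ∀ O : Set X, IsOpen O → O.Nonempty → (O ∩ f ⁻¹' {b}).Nonempty := by
    rintro O hO ⟨o, ho⟩
    obtain ⟨o', ho', hfo⟩ := (hb (f o)).mem_open (hopen O hO) ⟨o, ho, rfl⟩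
    exact ⟨o', ho', hfo⟩
  let S := f ⁻¹' ({b} : Set ↥(Spec (CommRingCat.of A)))
  have hcl : ∀ x, x ∈ closure (u ∩ S) ∨ x ∈ closure (v ∩ S) := by
    intro x
    by_contra h
    rw [not_or] at h
    obtain ⟨z, ⟨hz1, hz2⟩, hz⟩ := hdense ((closure (u ∩ S))ᶜ ∩ (closure (v ∩ S))ᶜ)
      (isClosed_closure.isOpen_compl.inter isClosed_closure.isOpen_compl) ⟨x, h.1, h.2⟩
    rcases huv hz with hzu | hzv
    · exact hz1 (subset_closure ⟨hzu, hz⟩)
    · exact hz2 (subset_closure ⟨hzv, hz⟩)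
  obtain ⟨x, -, hxu, hxv⟩ := (isPreconnected_closed_iff.1 PreconnectedSpace.isPreconnected_univ)
    (closure (u ∩ S)) (closure (v ∩ S)) isClosed_closure isClosed_closure (fun x _ => hcl x)
    ⟨x₂, trivial, subset_closure ⟨(huv hx₂).resolve_right hx₂v, hx₂⟩⟩
    ⟨x₁, trivial, subset_closure ⟨(huv hx₁).resolve_left hx₁u, hx₁⟩⟩
  obtain ⟨B, j, hj, w, rfl⟩ := hchart x
  obtain ⟨φ, hφ⟩ := Spec.map_surjective (j ≫ f)
  letI : Algebra A B := φ.hom.toAlgebra
  haveI hfr : _root_.IsReduced ((a : PrimeSpectrum A).asIdeal.Fiber B) :=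
    FibRing4.isReduced_fiberRing (A := A) (B := B) f j (𝟙 _) (by rw [Category.comp_id]; exact hφ.symm) a hred
  let π' : B := φ.hom π
  haveI : _root_.IsReduced (B ⧸ Ideal.span {π'}) := by
    have h := isReduced_quotient_of_fiber (A := A) (B := B) a
    rw [hamk, Ideal.map_span, Set.image_singleton] at h
    exact h
  have hfj : ∀ q : PrimeSpectrum B, π' ∉ q.asIdeal ↔ j q ∈ S := fun q => by
    show _ ↔ f (j q) = b
    rw [← hfib, ← Scheme.Hom.comp_apply, ← hφ]
    rfl
  have hgen : ∀ Q : PrimeSpectrum B, ∃ P : PrimeSpectrum B, P.asIdeal ≤ Q.asIdeal ∧ π' ∉ P.asIdeal := by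
    intro Q
    obtain ⟨P, hP, hPQ⟩ := Ideal.exists_minimalPrimes_le (I := (⊥ : Ideal B)) (J := Q.asIdeal) bot_le
    refine ⟨⟨P, hP.1.1⟩, hPQ, fun hπP => ?_⟩
    obtain ⟨g, hgP, hg⟩ : ∃ g : B, g ∉ P ∧ IsNilpotent (g * π') := by
      haveI := hP.1.1
      by_contra hcon
      let M := P.primeCompl ⊔ Submonoid.powers π'
      have h0 : Disjoint ((⊥ : Ideal B) : Set B) (M : Set B) := by
        rw [Set.disjoint_left]
        intro x hx hxM
        obtain ⟨g, hg, _, ⟨n, rfl⟩, hgx⟩ := Submonoid.mem_sup.1 hxM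
        refine hcon ⟨g, hg, n + 1, ?_⟩
        rw [Ideal.mem_bot.1 hx] at hgx
        rw [mul_pow, pow_succ g, pow_succ π', show g ^ n * g * (π' ^ n * π') = g ^ n * π' * (g * π' ^ n) by ring, hgx,
          mul_zero]
      obtain ⟨q, hq, -, hdis⟩ := Ideal.exists_le_prime_disjoint (⊥ : Ideal B) M h0
      have hqP : q ≤ P := fun y hy => by_contra fun hyP =>
        Set.disjoint_left.1 hdis hy (Submonoid.mem_sup_left hyP)
      exact Set.disjoint_left.1 hdis (hP.2 ⟨hq, bot_le⟩ hqP hπP) (Submonoid.mem_sup_right ⟨1, pow_one _⟩)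
    obtain ⟨o, ⟨q, hq, rfl⟩, ho⟩ := hdense (j '' (PrimeSpectrum.basicOpen g : Set (PrimeSpectrum B)))
      (j.isOpenEmbedding.isOpenMap _ (PrimeSpectrum.basicOpen g).2) ⟨_, ⟨⟨P, hP.1.1⟩, hgP, rfl⟩⟩
    exact ((q : PrimeSpectrum B).2.mem_or_mem (nilradical_le_prime (q : PrimeSpectrum B).asIdeal (mem_nilradical.2 hg))).elim hq ((hfj q).2 ho)
  obtain ⟨c, hc, hmem⟩ := exists_lift_idempotent (U := j ⁻¹' u) hgen (by
    constructor
    · rw [← isOpen_compl_iff]
      have h : (PrimeSpectrum.comap (algebraMap B (Localization.Away π')) ⁻¹' (j ⁻¹' u))ᶜ =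
          PrimeSpectrum.comap (algebraMap B (Localization.Away π')) ⁻¹' (j ⁻¹' v) := by
        ext q
        have hqS : j (PrimeSpectrum.comap (algebraMap B (Localization.Away π')) q) ∈ S :=
          (hfj _).1 ((PrimeSpectrum.localization_away_comap_range (Localization.Away π') π').le ⟨q, rfl⟩)
        exact ⟨fun h => (huv hqS).resolve_left h, fun hqv hqu => hdisj.le ⟨hqS, hqu, hqv⟩⟩
      rw [h]
      exact (hv.preimage j.continuous).preimage (PrimeSpectrum.continuous_comap (algebraMap B (Localization.Away π')))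
    · exact (hu.preimage j.continuous).preimage (PrimeSpectrum.continuous_comap (algebraMap B (Localization.Away π'))))
  by_cases hcw : c ∈ (w : PrimeSpectrum B).asIdeal
  · have h1c : (1 - c) ∉ (w : PrimeSpectrum B).asIdeal := fun h =>
      (w : PrimeSpectrum B).2.ne_top ((Ideal.eq_top_iff_one _).2 (by simpa using Ideal.add_mem _ h hcw))
    obtain ⟨_, ⟨q, hq, rfl⟩, hqu, hqS⟩ := mem_closure_iff.1 hxu _
      (j.isOpenEmbedding.isOpenMap _ (PrimeSpectrum.basicOpen (1 - c)).2) ⟨w, h1c, rfl⟩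
    refine (hmem q ((hfj q).2 hqS)).1 hqu ?_
    have h2 : c * (1 - c) ∈ (q : PrimeSpectrum B).asIdeal := by
      rw [show c * (1 - c) = -(c * c - c) by ring]
      exact neg_mem (nilradical_le_prime (q : PrimeSpectrum B).asIdeal hc)
    exact ((q : PrimeSpectrum B).2.mem_or_mem h2).resolve_right hq
  · obtain ⟨_, ⟨q, hq, rfl⟩, hqv, hqS⟩ := mem_closure_iff.1 hxv _
      (j.isOpenEmbedding.isOpenMap _ (PrimeSpectrum.basicOpen c).2) ⟨w, hcw, rfl⟩
    exact hdisj.le ⟨hqS, (hmem q ((hfj q).2 hqS)).2 hq, hqv⟩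

end Groth.Agent.DvrConn4
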