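import Groth.Agent.Lib.FlatH4.FibreCritFP
import Groth.Agent.Lib.FlatH4.FlatLocusFP
import Mathlib.RingTheory.Localization.BaseChange
import Mathlib.RingTheory.LocalRing.ResidueField.Basic

/-!
# Flatness over affine space at a point over the generic point of a fibre
-/

namespace Groth.Agent.FibGen4

open TensorProduct

universe u

/-- Over a prime `J`, localised at `J` everything killed by `J` is a vector space, so tensoring is
exact after localisation. -/
theorem fibFlat_of_isPrime {S T : Type u} [CommRing S] [CommRing T] [Algebra S T]
    (J : Ideal S) [J.IsPrime] (P : Ideal T) (hP : P.comap (algebraMap S T) = J) :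
    FlatH4.FibFlat S T J P := by
  intro N N' _ _ _ _ hN hN' g hg x hx
  let SJ := Localization.AtPrime J
  let m := IsLocalRing.maximalIdeal SJ
  let M := LocalizedModule J.primeCompl N
  let M' := LocalizedModule J.primeCompl N'
  let l : N →ₗ[S] M := LocalizedModule.mkLinearMap J.primeCompl N
  let l' : N' →ₗ[S] M' := LocalizedModule.mkLinearMap J.primeCompl N'
  have htor : ∀ {L : Type u} [AddCommGroup L] [Module S L], Module.IsTorsionBySet S L (J : Set S) →
      Module.IsTorsionBySet SJ (LocalizedModule J.primeCompl L) (m : Set SJ) := by
    intro L _ _ hL z ⟨y, hy⟩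
    show y • z = 0
    rw [SetLike.mem_coe, show m = J.map (algebraMap S SJ) from
      (Localization.AtPrime.map_eq_maximalIdeal).symm] at hy
    induction hy using Submodule.span_induction with
    | mem y hy =>
      obtain ⟨j, hj, rfl⟩ := hy
      induction z using LocalizedModule.induction_on with
      | h n s =>
        rw [algebraMap_smul, LocalizedModule.smul'_mk,
          show j • n = 0 from @hL n ⟨j, hj⟩, LocalizedModule.zero_mk]
    | zero => exact zero_smul _ _
    | add a b _ _ ha hb => rw [add_smul, ha, hb, add_zero]
    | smul a b _ hb => rw [smul_eq_mul, mul_smul, hb, smul_zero]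
  letI := (htor hN).module
  letI := (htor hN').module
  haveI : IsScalarTower SJ (SJ ⧸ m) M := (htor hN).isScalarTower
  haveI : IsScalarTower SJ (SJ ⧸ m) M' := (htor hN').isScalarTower
  letI : Field (SJ ⧸ m) := Ideal.Quotient.field m
  let g₀ : M →ₗ[SJ] M' := LocalizedModule.map J.primeCompl g
  let g₁ : M →ₗ[SJ ⧸ m] M' := g₀.extendScalarsOfSurjective Ideal.Quotient.mk_surjective
  have hg₁ : Function.Injective g₁ := LocalizedModule.map_injective J.primeCompl g hg
  obtain ⟨r, hr⟩ := LinearMap.exists_leftInverse_of_injective g₁ (LinearMap.ker_eq_bot.2 hg₁)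
  let r' : M' →ₗ[S] M := (r.restrictScalars SJ).restrictScalars S
  have hl : (r'.comp l').comp g = l := LinearMap.ext fun n => by
    have h1 : g₁ (l n) = l' (g n) := LocalizedModule.map_mk (S := J.primeCompl) g n 1
    show r (l' (g n)) = l n
    rw [← h1]
    exact LinearMap.congr_fun hr (l n)
  have hlx : l.lTensor T x = 0 := by
    rw [← hl, LinearMap.lTensor_comp_apply, hx, map_zero]
  have hcl : (AlgebraTensorModule.rTensor S T l) (TensorProduct.comm S T N x) = 0 := by
    have := congrArg (TensorProduct.comm S T M) hlx
    rw [map_zero] at this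
    refine Eq.trans ?_ this
    clear this hlx hx
    induction x using TensorProduct.induction_on with
    | zero => simp
    | tmul a b => rfl
    | add a b ha hb => simp only [map_add, ha, hb]
  haveI : IsLocalizedModule J.primeCompl l := localizedModuleIsLocalizedModule _
  obtain ⟨c, hc⟩ := (IsLocalizedModule.eq_zero_iff J.primeCompl
    (AlgebraTensorModule.rTensor S T l)).1 hcl
  refine ⟨algebraMap S T c, fun h => c.2 (hP ▸ h), ?_⟩
  apply (TensorProduct.comm S T N).injective
  rw [algebraMap_smul, map_smul, map_zero]
  exact hc

variable {R B : Type u} [CommRing R] [CommRing B] [Algebra R B]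

/-- A flat algebra is flat over affine space at a point lying over the generic point of the fibre. -/
theorem flat_localized_of_comap_eq_map_C [Algebra.FinitePresentation R B] [Module.Flat R B]
    (P : Ideal B) [P.IsPrime] {n : ℕ} (b : Fin n → B)
    (hP : P.comap (MvPolynomial.aeval (R := R) b).toRingHom = (P.under R).map MvPolynomial.C) :
    letI := (MvPolynomial.aeval (R := R) b).toRingHom.toAlgebra
    Module.Flat (MvPolynomial (Fin n) R) (LocalizedModule P.primeCompl B) := by
  letI := (MvPolynomial.aeval (R := R) b).toRingHom.toAlgebra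
  haveI : IsScalarTower R (MvPolynomial (Fin n) R) B :=
    IsScalarTower.of_algebraMap_eq fun r => ((MvPolynomial.aeval (R := R) b).commutes r).symm
  haveI : Module.Flat R (LocalizedModule P.primeCompl B) :=
    Module.Flat.trans R B (LocalizedModule P.primeCompl B)
  have hJ : ((P.comap (algebraMap R B)).map (algebraMap R (MvPolynomial (Fin n) R))) =
      P.comap (algebraMap (MvPolynomial (Fin n) R) B) := by
    rw [RingHom.algebraMap_toAlgebra, hP]
    rfl
  refine FlatH4.flat_localized_of_fibFlat_fp (A := R) P ?_
  rw [hJ]
  exact fibFlat_of_isPrime _ P rfl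

end Groth.Agent.FibGen4
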