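import Mathlib.RingTheory.ZariskisMainTheorem
import Mathlib.RingTheory.NoetherNormalization
import Mathlib.RingTheory.LocalRing.ResidueField.Fiber
import Mathlib.RingTheory.Ideal.GoingUp
import Mathlib.RingTheory.Valuation.ValuationRing

/-!
Quasi-finite charts at generic points of fibres.
-/

namespace Groth.Agent.QFChart4

open MvPolynomial

universe u

/-- Denominators in a residue field. -/
theorem exists_mul_eq {A : Type u} [CommRing A] (p : Ideal A) [p.IsPrime] (k : p.ResidueField) :
    ∃ s ∉ p, ∃ r : A, k * algebraMap A p.ResidueField s = algebraMap A p.ResidueField r := by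
  obtain ⟨a, ⟨b, hb⟩, rfl⟩ := IsLocalization.exists_mk'_eq (S := p.ResidueField) (nonZeroDivisors (A ⧸ p)) k
  obtain ⟨r, rfl⟩ := Ideal.Quotient.mk_surjective a
  obtain ⟨s, rfl⟩ := Ideal.Quotient.mk_surjective b
  refine ⟨s, fun h => nonZeroDivisors.ne_zero hb (Ideal.Quotient.eq_zero_iff_mem.2 h), r, ?_⟩
  exact IsLocalization.mk'_spec (M := nonZeroDivisors (A ⧸ p)) p.ResidueField _ ⟨_, hb⟩

variable {R B : Type u} [CommRing R] [CommRing B] [Algebra R B] [Algebra.FiniteType R B]

/-- An element outside `P` which lies in all other minimal primes of the fibre. -/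
theorem exists_isolating (P : Ideal B) [P.IsPrime]
    (hmin : ∀ Q : Ideal B, Q.IsPrime → Q.under R = P.under R → Q ≤ P → Q = P) :
    ∃ g ∉ P, ∀ Q : Ideal B, Q.IsPrime → Q.under R = P.under R → g ∉ Q → P ≤ Q := by
  classical
  set p := P.under R
  haveI : IsNoetherianRing (p.Fiber B) :=
    Algebra.FiniteType.isNoetherianRing p.ResidueField (p.Fiber B)
  let e := PrimeSpectrum.primesOverOrderIsoFiber R B p
  let S := {q : PrimeSpectrum (p.Fiber B) | q.asIdeal ∈ minimalPrimes (p.Fiber B)}
  have hS : S.Finite :=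
    (minimalPrimes.finite_of_isNoetherianRing (p.Fiber B)).preimage
      (fun a _ b _ h => PrimeSpectrum.ext h)
  have key : ∀ q ∈ hS.toFinset, ∃ a ∉ P, (e.symm q).1 = P ∨ a ∈ (e.symm q).1 := by
    intro q _
    haveI := (e.symm q).2.1
    by_cases h : (e.symm q).1 ≤ P
    · exact ⟨1, P.one_notMem, .inl (hmin _ inferInstance (e.symm q).2.2.over.symm h)⟩
    · obtain ⟨a, ha, haP⟩ := SetLike.not_le_iff_exists.1 h
      exact ⟨a, haP, .inr ha⟩
  choose a haP ha using key
  refine ⟨∏ q ∈ hS.toFinset.attach, a q q.2, fun hmem => ?_, fun Q hQ hQp hgQ => ?_⟩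
  · obtain ⟨q, _, hq⟩ := (Ideal.IsPrime.prod_mem_iff (p := P)).1 hmem
    exact haP q q.2 hq
  · haveI : Q.LiesOver p := ⟨hQp.symm⟩
    let q := e ⟨Q, hQ, this⟩
    obtain ⟨m, hm, hmq⟩ := Ideal.exists_minimalPrimes_le (J := q.asIdeal) (bot_le : ⊥ ≤ q.asIdeal)
    haveI := Ideal.minimalPrimes_isPrime hm
    let m' : PrimeSpectrum (p.Fiber B) := ⟨m, inferInstance⟩
    have hle : (e.symm m').1 ≤ Q := by
      have h1 : e.symm m' ≤ e.symm q := e.symm.monotone hmq
      rw [OrderIso.symm_apply_apply] at h1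
      exact h1
    have hm' : m' ∈ hS.toFinset := hS.mem_toFinset.2 hm
    rcases ha m' hm' with h | h
    · rwa [h] at hle
    · exact absurd (Ideal.prod_mem (I := Q) (Finset.mem_attach _ ⟨m', hm'⟩) (hle h)) hgQ

/-- At a generic point of a fibre there is a map from a polynomial ring, quasi-finite there and
sending the point to the generic point of the fibre of affine space. -/
theorem exists_qf_chart (P : Ideal B) [P.IsPrime]
    (hmin : ∀ Q : Ideal B, Q.IsPrime → Q.under R = P.under R → Q ≤ P → Q = P) :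
    ∃ (n : ℕ) (b : Fin n → B),
      letI := (aeval (R := R) b).toRingHom.toAlgebra
      Algebra.QuasiFiniteAt (MvPolynomial (Fin n) R) P ∧
        P.comap (aeval (R := R) b).toRingHom = (P.under R).map C := by
  classical
  obtain ⟨g, hg, hgQ⟩ := exists_isolating P hmin
  set p := P.under R with hp
  haveI : P.LiesOver p := ⟨rfl⟩
  let L := FractionRing (B ⧸ P)
  let φ : B →+* L := (algebraMap (B ⧸ P) L).comp (Ideal.Quotient.mk P)
  have hφ : ∀ x, φ x = 0 ↔ x ∈ P := fun x => by
    simp [φ, Ideal.Quotient.eq_zero_iff_mem]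
  letI : Algebra p.ResidueField L :=
    (Ideal.ResidueField.lift p (φ.comp (algebraMap R B))
      (fun r hr => (hφ _).2 hr)
      (fun r hr => IsUnit.mk0 _ (fun h => hr ((hφ _).1 h)))).toAlgebra
  have hKL : ∀ r : R, algebraMap p.ResidueField L (algebraMap R p.ResidueField r) =
      φ (algebraMap R B r) := fun r => by
    rw [RingHom.algebraMap_toAlgebra]
    exact Ideal.ResidueField.lift_algebraMap _ _ _ _ _
  obtain ⟨T, hT⟩ := ‹Algebra.FiniteType R B›.out
  let D := Algebra.adjoin p.ResidueField (φ '' (T : Set B))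
  haveI : Algebra.FiniteType p.ResidueField D :=
    ⟨(Subalgebra.fg_top D).2 (Subalgebra.fg_adjoin_finset (T.image φ) |> fun h => by simpa [D] using h)⟩
  have hφD : ∀ x, φ x ∈ D := by
    intro x
    have hx : x ∈ Algebra.adjoin R (T : Set B) := by rw [hT]; trivial
    induction hx using Algebra.adjoin_induction with
    | mem y hy => exact Algebra.subset_adjoin ⟨y, hy, rfl⟩
    | algebraMap r => rw [← hKL]; exact D.algebraMap_mem _
    | add a b _ _ ha hb => rw [map_add]; exact D.add_mem ha hb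
    | mul a b _ _ ha hb => rw [map_mul]; exact D.mul_mem ha hb
  have hfrac : ∀ y ∈ D, ∃ s ∉ p, ∃ x, y * φ (algebraMap R B s) = φ x := by
    intro y hy
    induction hy using Algebra.adjoin_induction with
    | mem y hy =>
      obtain ⟨x, _, rfl⟩ := hy
      exact ⟨1, p.primeCompl.one_mem, x, by simp⟩
    | algebraMap k =>
      obtain ⟨s, hs, r, h⟩ := exists_mul_eq p k
      exact ⟨s, hs, algebraMap R B r, by rw [← hKL, ← hKL, ← map_mul, h]⟩
    | add a b _ _ ha hb =>
      obtain ⟨s, hs, x, hx⟩ := ha; obtain ⟨t, ht, z, hz⟩ := hb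
      refine ⟨s * t, p.primeCompl.mul_mem hs ht, x * algebraMap R B t + z * algebraMap R B s, ?_⟩
      simp only [map_mul, map_add, ← hx, ← hz]; ring
    | mul a b _ _ ha hb =>
      obtain ⟨s, hs, x, hx⟩ := ha; obtain ⟨t, ht, z, hz⟩ := hb
      refine ⟨s * t, p.primeCompl.mul_mem hs ht, x * z, ?_⟩
      simp only [map_mul, ← hx, ← hz]; ring
  obtain ⟨n, t, htinj, htfin⟩ := exists_finite_inj_algHom_of_fg p.ResidueField D
  choose s hs b hb using fun i => hfrac _ (t (X i)).2
  refine ⟨n, b, ?_⟩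
  letI := (aeval (R := R) b).toRingHom.toAlgebra
  haveI : IsScalarTower R (MvPolynomial (Fin n) R) B :=
    IsScalarTower.of_algebraMap_eq fun r => ((aeval (R := R) b).commutes r).symm
  -- rescaled normalisation
  let c : Fin n → p.ResidueField := fun i => algebraMap R p.ResidueField (s i)
  have hc : ∀ i, c i ≠ 0 := fun i h => hs i (Ideal.algebraMap_residueField_eq_zero.1 h)
  let σ : MvPolynomial (Fin n) p.ResidueField →ₐ[p.ResidueField] MvPolynomial (Fin n) p.ResidueField :=
    aeval fun i => C (c i) * X i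
  let τ : MvPolynomial (Fin n) p.ResidueField →ₐ[p.ResidueField] MvPolynomial (Fin n) p.ResidueField :=
    aeval fun i => C (c i)⁻¹ * X i
  have hστ : σ.comp τ = AlgHom.id _ _ := by
    ext i
    simp [σ, τ, ← mul_assoc, ← C_mul, inv_mul_cancel₀ (hc i)]
  have hτσ : τ.comp σ = AlgHom.id _ _ := by
    ext i
    simp [σ, τ, ← mul_assoc, ← C_mul, mul_inv_cancel₀ (hc i)]
  let e : MvPolynomial (Fin n) p.ResidueField →ₐ[p.ResidueField] D := t.comp σ
  have heinj : Function.Injective e := by
    refine htinj.comp (Function.LeftInverse.injective (g := τ) fun z => ?_)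
    exact AlgHom.congr_fun hτσ z
  have hefin : e.Finite := by
    refine AlgHom.Finite.comp htfin (AlgHom.Finite.of_surjective σ fun z => ⟨τ z, ?_⟩)
    exact AlgHom.congr_fun hστ z
  have hdiag : ∀ a : MvPolynomial (Fin n) R,
      φ (aeval (R := R) b a) = (e (MvPolynomial.map (algebraMap R p.ResidueField) a) : L) := by
    intro a
    induction a using MvPolynomial.induction_on with
    | C r =>
      rw [MvPolynomial.map_C, aeval_C, ← MvPolynomial.algebraMap_eq, AlgHom.commutes]
      exact (hKL r).symm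
    | add a a' ha ha' => simp [ha, ha']
    | mul_X a i ha =>
      rw [map_mul, map_mul, map_mul, map_mul, MulMemClass.coe_mul, ha, MvPolynomial.map_X, aeval_X]
      congr 1
      rw [← hb i, ← hKL]
      have : e (X i) = algebraMap p.ResidueField D (c i) * t (X i) := by
        show t (σ (X i)) = _
        rw [show σ (X i) = C (c i) * X i from aeval_X _ i, map_mul, ← MvPolynomial.algebraMap_eq,
          AlgHom.commutes]
      rw [this, MulMemClass.coe_mul]
      exact mul_comm _ _
  have hPA : P.comap (aeval (R := R) b).toRingHom = p.map C := by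
    ext a
    rw [Ideal.mem_comap, ← hφ]
    change φ (aeval (R := R) b a) = 0 ↔ _
    rw [hdiag, ZeroMemClass.coe_eq_zero, map_eq_zero_iff _ heinj, ← RingHom.mem_ker,
      MvPolynomial.ker_map, Ideal.ker_algebraMap_residueField]
  refine ⟨?_, hPA⟩
  haveI : Algebra.FiniteType (MvPolynomial (Fin n) R) B :=
    Algebra.FiniteType.of_restrictScalars_finiteType R (MvPolynomial (Fin n) R) B
  refine (Algebra.quasiFiniteAt_iff_isOpen_singleton_fiber (R := MvPolynomial (Fin n) R)
    (⟨P, ‹_›⟩ : PrimeSpectrum B)).2 ?_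
  refine isOpen_induced_iff.2 ⟨PrimeSpectrum.basicOpen g, (PrimeSpectrum.basicOpen g).2, ?_⟩
  ext ⟨Q, hQA⟩
  simp only [Set.mem_preimage, Set.mem_singleton_iff, Subtype.mk.injEq]
  refine ⟨fun hQg => ?_, fun h => ?_⟩
  swap
  · subst h
    exact hg
  have hQA' : Q.asIdeal.comap (aeval (R := R) b).toRingHom = p.map C := by
    rw [← hPA]
    exact congrArg PrimeSpectrum.asIdeal hQA
  have hQp : Q.asIdeal.under R = p := by
    have := congrArg (Ideal.comap (C : R →+* MvPolynomial (Fin n) R)) hQA'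
    rw [Ideal.comap_comap, show (aeval (R := R) b).toRingHom.comp C = algebraMap R B from
      RingHom.ext fun r => (aeval (R := R) b).commutes r] at this
    rw [← hPA, Ideal.comap_comap, show (aeval (R := R) b).toRingHom.comp C = algebraMap R B from
      RingHom.ext fun r => (aeval (R := R) b).commutes r] at this
    exact this
  have hPQ : P ≤ Q.asIdeal := hgQ _ Q.2 hQp hQg
  show Q = ⟨P, ‹_›⟩
  refine PrimeSpectrum.ext (le_antisymm ?_ hPQ)
  -- extend `Q` to a prime of `D` lying over zero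
  have hwd : ∀ s' ∉ p, ∀ x s'' x', s'' ∉ p → φ x * φ (algebraMap R B s'') = φ x' * φ (algebraMap R B s') →
      x' ∈ Q.asIdeal → x ∈ Q.asIdeal := by
    intro s' _ x s'' x' hs'' h hx'
    rw [← map_mul, ← map_mul, ← sub_eq_zero, ← map_sub, hφ] at h
    have h2 := Q.asIdeal.add_mem (hPQ h) (Q.asIdeal.mul_mem_right (algebraMap R B s') hx')
    rw [sub_add_cancel] at h2
    exact (Q.2.mem_or_mem h2).resolve_right fun h3 => hs'' (hQp ▸ h3)
  let Q' : Ideal D :=
    { carrier := {y | ∃ s' ∉ p, ∃ x ∈ Q.asIdeal, (y : L) * φ (algebraMap R B s') = φ x}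
      zero_mem' := ⟨1, p.primeCompl.one_mem, 0, Q.asIdeal.zero_mem, by simp⟩
      add_mem' := by
        rintro y z ⟨s', hs', x, hx, h⟩ ⟨t', ht', w, hw, h'⟩
        refine ⟨s' * t', p.primeCompl.mul_mem hs' ht', x * algebraMap R B t' + w * algebraMap R B s',
          Q.asIdeal.add_mem (Q.asIdeal.mul_mem_right _ hx) (Q.asIdeal.mul_mem_right _ hw), ?_⟩
        simp only [map_mul, map_add, ← h, ← h', AddMemClass.coe_add]; ring
      smul_mem' := by
        rintro z y ⟨s', hs', x, hx, h⟩
        obtain ⟨t', ht', w, h'⟩ := hfrac _ z.2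
        refine ⟨s' * t', p.primeCompl.mul_mem hs' ht', w * x, Q.asIdeal.mul_mem_left _ hx, ?_⟩
        simp only [smul_eq_mul, map_mul, ← h, ← h', MulMemClass.coe_mul]; ring }
  haveI : Q'.IsPrime := by
    refine ⟨fun h => ?_, fun {y z} hyz => ?_⟩
    · obtain ⟨s', hs', x, hx, h1⟩ := (h ▸ Submodule.mem_top : (1 : D) ∈ Q')
      rw [OneMemClass.coe_one, one_mul, ← sub_eq_zero, ← map_sub, hφ] at h1
      have := Q.asIdeal.add_mem (hPQ h1) hx
      rw [sub_add_cancel] at this
      exact hs' (hQp ▸ this)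
    · obtain ⟨s', hs', x, hx, h⟩ := hyz
      obtain ⟨s₁, hs₁, x₁, h₁⟩ := hfrac _ y.2
      obtain ⟨s₂, hs₂, x₂, h₂⟩ := hfrac _ z.2
      have : x₁ * x₂ ∈ Q.asIdeal := hwd (s₁ * s₂) (p.primeCompl.mul_mem hs₁ hs₂) _ s' x hs' (by
        rw [MulMemClass.coe_mul] at h
        simp only [map_mul, ← h₁, ← h₂, ← h]; ring) hx
      rcases Q.2.mem_or_mem this with h3 | h3
      · exact .inl ⟨s₁, hs₁, x₁, h3, h₁⟩
      · exact .inr ⟨s₂, hs₂, x₂, h3, h₂⟩
  have hclear : ∀ f : MvPolynomial (Fin n) p.ResidueField, ∃ s' ∉ p, ∃ a : MvPolynomial (Fin n) R,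
      MvPolynomial.map (algebraMap R p.ResidueField) a = C (algebraMap R p.ResidueField s') * f := by
    intro f
    induction f using MvPolynomial.induction_on with
    | C k =>
      obtain ⟨s', hs', r, h⟩ := exists_mul_eq p k
      exact ⟨s', hs', C r, by rw [MvPolynomial.map_C, ← C_mul, mul_comm, h]⟩
    | add f f' hf hf' =>
      obtain ⟨s', hs', a, ha⟩ := hf; obtain ⟨t', ht', a', ha'⟩ := hf'
      refine ⟨s' * t', p.primeCompl.mul_mem hs' ht', C t' * a + C s' * a', ?_⟩
      simp only [map_add, map_mul, MvPolynomial.map_C, ha, ha', C_mul]; ring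
    | mul_X f i hf =>
      obtain ⟨s', hs', a, ha⟩ := hf
      exact ⟨s', hs', a * X i, by rw [map_mul, MvPolynomial.map_X, ha, mul_assoc]⟩
  letI := e.toRingHom.toAlgebra
  haveI : Module.Finite (MvPolynomial (Fin n) p.ResidueField) D := hefin
  haveI : Algebra.IsIntegral (MvPolynomial (Fin n) p.ResidueField) D := Algebra.IsIntegral.of_finite _ _
  have h0 : Q'.comap e.toRingHom = ⊥ := by
    rw [eq_bot_iff]
    intro f hf
    obtain ⟨s', hs', a, ha⟩ := hclear f
    obtain ⟨t', ht', x, hx, hfx⟩ := hf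
    have haQ : a ∈ p.map (C : R →+* MvPolynomial (Fin n) R) := by
      rw [← hQA']
      refine hwd 1 p.primeCompl.one_mem _ t' (x * algebraMap R B s') ht' ?_
        (Q.asIdeal.mul_mem_right _ hx)
      change φ (aeval (R := R) b a) * _ = _
      rw [hdiag, ha, map_one, map_one, mul_one, map_mul, map_mul, ← hKL s', MulMemClass.coe_mul, ← hfx]
      rw [← MvPolynomial.algebraMap_eq, AlgHom.commutes]
      rw [Subalgebra.coe_algebraMap]
      show _ * (↑(e f) : L) * _ = _
      change _ = ((e.toRingHom f : D) : L) * _ * _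
      rw [AlgHom.toRingHom_eq_coe, RingHom.coe_coe]
      ring
    have : MvPolynomial.map (algebraMap R p.ResidueField) a = 0 := by
      rw [← RingHom.mem_ker, MvPolynomial.ker_map, Ideal.ker_algebraMap_residueField]
      exact haQ
    rw [ha, mul_eq_zero] at this
    refine (Ideal.mem_bot).2 (this.resolve_left fun h => ?_)
    rw [map_eq_zero_iff _ (C_injective _ _)] at h
    exact hs' (Ideal.algebraMap_residueField_eq_zero.1 h)
  have hQ' : Q' = ⊥ := Ideal.eq_bot_of_comap_eq_bot h0
  intro x hx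
  rw [← hφ]
  have : (⟨φ x, hφD x⟩ : D) ∈ Q' := ⟨1, p.primeCompl.one_mem, x, hx, by simp⟩
  rw [hQ', Ideal.mem_bot] at this
  exact congrArg Subtype.val this

/-- A prime of a polynomial ring over a valuation ring inside `pR[X]` is extended from the base. -/
theorem eq_map_C_of_le [IsDomain R] [ValuationRing R] {n : ℕ} (p : Ideal R)
    (Q : Ideal (MvPolynomial (Fin n) R)) [Q.IsPrime] (h : Q ≤ p.map C) (hp : p ≠ ⊤) :
    Q = (Q.comap C).map C := by
  classical
  refine le_antisymm (fun f hf => ?_) (Ideal.map_comap_le)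
  by_cases hf0 : f = 0
  · simp [hf0]
  have hex : ∀ s : Finset (Fin n →₀ ℕ), s.Nonempty → ∃ m ∈ s, ∀ m' ∈ s, f.coeff m ∣ f.coeff m' := by
    intro s hs
    induction s using Finset.induction with
    | empty => exact absurd hs (by simp)
    | insert a s _ ih =>
      by_cases hne : s.Nonempty
      · obtain ⟨m, hm, hdiv⟩ := ih hne
        rcases ValuationRing.dvd_total (f.coeff a) (f.coeff m) with h' | h'
        · refine ⟨a, Finset.mem_insert_self a s, fun m' hm' => ?_⟩
          rcases Finset.mem_insert.1 hm' with rfl | hm'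
          · exact dvd_rfl
          · exact h'.trans (hdiv m' hm')
        · refine ⟨m, Finset.mem_insert_of_mem hm, fun m' hm' => ?_⟩
          rcases Finset.mem_insert.1 hm' with rfl | hm'
          · exact h'
          · exact hdiv m' hm'
      · rw [Finset.not_nonempty_iff_eq_empty] at hne
        subst hne
        exact ⟨a, by simp, fun m' hm' => by simp_all⟩
  obtain ⟨m, hm, hdiv⟩ := hex f.support (Finset.nonempty_iff_ne_empty.2 (by simpa using hf0))
  have hdvd : C (f.coeff m) ∣ f := by
    rw [C_dvd_iff_dvd_coeff]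
    intro m'
    by_cases hm' : m' ∈ f.support
    · exact hdiv m' hm'
    · simp [MvPolynomial.notMem_support_iff.1 hm']
  obtain ⟨f₀, hf₀⟩ := hdvd
  have hc0 : f.coeff m ≠ 0 := MvPolynomial.mem_support_iff.1 hm
  have h1 : f₀.coeff m = 1 := by
    have := congrArg (MvPolynomial.coeff m) hf₀
    rw [coeff_C_mul] at this
    exact mul_left_cancel₀ hc0 (by rw [mul_one]; exact this.symm)
  have hf₀Q : f₀ ∉ Q := fun hmem => by
    have := MvPolynomial.mem_map_C_iff.1 (h hmem) m
    rw [h1] at this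
    exact hp ((Ideal.eq_top_iff_one _).2 this)
  have hcQ : C (f.coeff m) ∈ Q := (‹Q.IsPrime›.mem_or_mem (hf₀ ▸ hf)).resolve_right hf₀Q
  rw [hf₀]
  exact Ideal.mul_mem_right _ _ (Ideal.mem_map_of_mem C hcQ)

end Groth.Agent.QFChart4
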