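import Groth.Agent.Lib.FibDim14.Semicont
import Groth.Agent.Lib.FibGen4
import Groth.Agent.Lib.QFChart4

/-!
# Fibre dimension near a generic point of a fibre of a flat morphism
-/

universe u

open CategoryTheory AlgebraicGeometry Topology TopologicalSpace Groth.Agent.FibDim14

set_option backward.isDefEq.respectTransparency.types false

namespace Groth.Agent.FibGen4

variable {X S : Scheme.{u}} (f : X ⟶ S) [LocallyOfFiniteType f]

theorem fibreDimAt_eq_rd_of_isMaxFib {x : X} (h : IsMaxFib f x) :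
    FlatMor.fibreDimAt f x = (rd f x : WithBot ℕ∞) := by
  obtain ⟨x', h1, h2, h3, -⟩ := exists_fibreDimAt_eq f x
  rwa [h x' h1 h2] at h3

/-- A generization in the fibre which is a generic point of a component of maximal dimension. -/
theorem exists_isMaxFib (x : X) :
    ∃ x', x' ⤳ x ∧ f x' = f x ∧ IsMaxFib f x' ∧ FlatMor.fibreDimAt f x' = FlatMor.fibreDimAt f x := by
  obtain ⟨x', h1, h2, h3, h4⟩ := exists_fibreDimAt_eq f x
  have hmax : IsMaxFib f x' := fun y hy he => by
    by_contra hne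
    have := rd_lt_of_specializes f hy hne he
    have := h4 y (hy.trans h1) (he.trans h2)
    omega
  exact ⟨x', h1, h2, hmax, (fibreDimAt_eq_rd_of_isMaxFib f hmax).trans h3.symm⟩

theorem fibreDimAt_affineSpace {A : Type u} [CommRing A] (m : ℕ)
    (q : Spec (CommRingCat.of (MvPolynomial (Fin m) A))) :
    FlatMor.fibreDimAt (Spec.map (CommRingCat.ofHom (algebraMap A (MvPolynomial (Fin m) A)))) q =
      (m : WithBot ℕ∞) := by
  refine le_antisymm (fibreDimAt_affineSpace_le m q) ?_
  set π := Spec.map (CommRingCat.ofHom (algebraMap A (MvPolynomial (Fin m) A)))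
  haveI : LocallyOfFiniteType π := (HasRingHomProperty.Spec_iff (P := @LocallyOfFiniteType)).2
    (RingHom.finiteType_algebraMap.2 inferInstance)
  let p : PrimeSpectrum A := PrimeSpectrum.comap (algebraMap A (MvPolynomial (Fin m) A)) q
  have hdim : topologicalKrullDim (π ⁻¹' {π q} : Set _) = (m : WithBot ℕ∞) := by
    rw [← VarDim.ringKrullDim_mvPolynomial p.asIdeal.ResidueField m,
      ← ringKrullDim_eq_of_ringEquiv (MvPolynomial.algebraTensorAlgEquiv A _ (σ := Fin m)).toRingEquiv,
      ← PrimeSpectrum.topologicalKrullDim_eq_ringKrullDim]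
    exact IsHomeomorph.topologicalKrullDim_eq _
      (PrimeSpectrum.preimageHomeomorphFiber A (MvPolynomial (Fin m) A) p).isHomeomorph
  rw [← hdim, TopDimLib.dim_eq_iSup_localDim]
  refine iSup_le fun ⟨z, hz⟩ => ?_
  have hz' : π z = π q := hz
  obtain ⟨η, hη, hηz, hmax, hd⟩ := exists_isMaxFib π z
  obtain ⟨η', hη', hη'q, hmax', hd'⟩ := exists_isMaxFib π q
  haveI : (p.asIdeal.map (MvPolynomial.C : A →+* MvPolynomial (Fin m) A)).IsPrime := by
    rw [show p.asIdeal.map (MvPolynomial.C : A →+* MvPolynomial (Fin m) A) =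
      RingHom.ker (MvPolynomial.map (Ideal.Quotient.mk p.asIdeal)) by rw [MvPolynomial.ker_map, Ideal.mk_ker]]
    exact RingHom.ker_isPrime _
  let g : Spec (CommRingCat.of (MvPolynomial (Fin m) A)) :=
    ⟨p.asIdeal.map MvPolynomial.C, inferInstance⟩
  have hg : π g = π q := by
    refine PrimeSpectrum.ext (Ideal.ext fun a => ?_)
    refine ⟨fun ha => ?_, fun ha => Ideal.mem_map_of_mem _ ha⟩
    have := (MvPolynomial.mem_map_C_iff (I := p.asIdeal)).1 ha 0
    simp at this
    exact this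
  have key : ∀ w, IsMaxFib π w → π w = π q → w = g := by
    intro w hw hwq
    refine (hw g ?_ (hg.trans hwq.symm)).symm
    refine (PrimeSpectrum.le_iff_specializes g w).1 (Ideal.map_le_iff_le_comap.2 ?_)
    exact (congrArg PrimeSpectrum.asIdeal hwq).ge
  have e1 := key η hmax (hηz.trans hz')
  have e2 := key η' hmax' hη'q
  rw [← hd', e2, ← e1, hd, fibreDimAt_eq_localDim_preimage]
  have aux : ∀ (T : Set _) (hT : T = π ⁻¹' {π q}) (hzT : z ∈ T),
      FlatMor.localDim (π ⁻¹' {π q} : Set _) ⟨z, hz⟩ ≤ FlatMor.localDim T ⟨z, hzT⟩ := by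
    rintro T rfl hzT
    exact le_rfl
  exact aux (π ⁻¹' {π z}) (by rw [hz']) rfl

theorem quasiFiniteAt_SpecMap {A B : CommRingCat.{u}} (φ : A ⟶ B) (hφ : φ.hom.FiniteType)
    (z : Spec B) (h : φ.hom.QuasiFiniteAt z.asIdeal) : (Spec.map φ).QuasiFiniteAt z := by
  algebraize [φ.hom]
  haveI : LocallyOfFiniteType (Spec.map φ) := (HasRingHomProperty.Spec_iff (P := @LocallyOfFiniteType)).2 hφ
  rw [Scheme.Hom.quasiFiniteAt_iff_isOpen_singleton_asFiber, ← ((Spec.map φ).fiberHomeo _).isOpen_image]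
  simp only [Set.image_singleton, Scheme.Hom.asFiber, Homeomorph.apply_symm_apply]
  exact (Algebra.quasiFiniteAt_iff_isOpen_singleton_fiber (R := A) z).1 h

theorem flat_stalkMap_SpecMap {A B : CommRingCat.{u}} (φ : A ⟶ B) (z : Spec B)
    (h : letI := φ.hom.toAlgebra; Module.Flat A (LocalizedModule z.asIdeal.primeCompl B)) :
    ((Spec.map φ).stalkMap z).hom.Flat := by
  refine (RingHom.Flat.respectsIso.arrow_mk_iso_iff (Scheme.arrowStalkMapSpecIso φ z)).2 ?_
  algebraize [φ.hom]
  algebraize [Localization.localRingHom (PrimeSpectrum.comap φ.hom z).asIdeal z.asIdeal φ.hom rfl]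
  haveI : IsScalarTower A (Localization.AtPrime (PrimeSpectrum.comap φ.hom z).asIdeal)
      (Localization.AtPrime z.asIdeal) :=
    .of_algebraMap_eq fun x => (Localization.localRingHom_to_map _ _ _ rfl x).symm
  haveI : Module.Flat A (Localization.AtPrime z.asIdeal) :=
    Module.Flat.of_linearEquiv
      ((IsLocalizedModule.iso z.asIdeal.primeCompl
        (Algebra.linearMap B (Localization.AtPrime z.asIdeal))).symm.restrictScalars A)
  show Module.Flat _ _
  rw [Module.flat_iff_of_isLocalization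
    (S := Localization.AtPrime (PrimeSpectrum.comap φ.hom z).asIdeal)
    (p := (PrimeSpectrum.comap φ.hom z).asIdeal.primeCompl)]
  infer_instance

/-- Near a generic point of a fibre of a flat morphism of finite presentation the fibre dimension
is constant. -/
theorem exists_nhd_fibreDimAt_eq [Flat f] [LocallyOfFinitePresentation f] {x : X}
    (hx : IsMaxFib f x) :
    ∃ W : X.Opens, x ∈ W ∧ ∀ z ∈ W, FlatMor.fibreDimAt f z = FlatMor.fibreDimAt f x := by
  suffices ∃ (W : X.Opens) (n : ℕ), x ∈ W ∧ ∀ z ∈ W, FlatMor.fibreDimAt f z = (n : WithBot ℕ∞) by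
    obtain ⟨W, n, hW, h⟩ := this
    exact ⟨W, hW, fun z hz => (h z hz).trans (h x hW).symm⟩
  obtain ⟨V, hV, hfxV, -⟩ := exists_isAffineOpen_mem_and_subset (U := (⊤ : S.Opens)) (x := f x) trivial
  obtain ⟨U, hU, hxU, hUV⟩ := exists_isAffineOpen_mem_and_subset (U := f ⁻¹ᵁ V) (x := x) hfxV
  have hUV : U ≤ f ⁻¹ᵁ V := hUV
  let A := Γ(S, V)
  let B := Γ(X, U)
  let φ := f.appLE V U hUV
  have hcomp : hU.fromSpec ≫ f = Spec.map φ ≫ hV.fromSpec :=
    (IsAffineOpen.SpecMap_appLE_fromSpec f hV hU hUV).symm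
  letI : Algebra A B := φ.hom.toAlgebra
  haveI : Algebra.FinitePresentation A B := f.finitePresentation_appLE hV hU hUV
  haveI : Module.Flat A B := (HasRingHomProperty.iff_appLE (P := @Flat)).1 ‹_› ⟨V, hV⟩ ⟨U, hU⟩ hUV
  haveI : LocallyOfFiniteType (Spec.map φ) :=
    (HasRingHomProperty.Spec_iff (P := @LocallyOfFiniteType)).2 (f.finiteType_appLE hV hU hUV)
  let P : Spec B := hU.primeIdealOf ⟨x, hxU⟩
  have hP : hU.fromSpec P = x := hU.fromSpec_primeIdealOf ⟨x, hxU⟩
  have hlift : ∀ t, f (hU.fromSpec t) = hV.fromSpec (Spec.map φ t) := fun t => by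
    rw [← Scheme.Hom.comp_apply, hcomp, Scheme.Hom.comp_apply]
  haveI : P.asIdeal.IsPrime := P.2
  obtain ⟨n, b, hqf, hbP⟩ := QFChart4.exists_qf_chart (R := A) P.asIdeal fun Q hQ hQA hQP => by
    let q : Spec B := ⟨Q, hQ⟩
    have h1 : hU.fromSpec q ⤳ x :=
      hP ▸ ((PrimeSpectrum.le_iff_specializes q P).1 hQP).map hU.fromSpec.continuous
    have h2 : f (hU.fromSpec q) = f x := by
      rw [← hP, hlift, hlift]
      exact congrArg hV.fromSpec (PrimeSpectrum.ext hQA)
    exact congrArg PrimeSpectrum.asIdeal (hU.fromSpec.isOpenEmbedding.injective ((hx _ h1 h2).trans hP.symm))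
  let C := CommRingCat.of (MvPolynomial (Fin n) A)
  let ψ : C ⟶ B := CommRingCat.ofHom (MvPolynomial.aeval (R := A) b).toRingHom
  let a : Spec B ⟶ Spec C := Spec.map ψ
  let π : Spec C ⟶ Spec A := Spec.map (CommRingCat.ofHom (algebraMap A (MvPolynomial (Fin n) A)))
  have haπ : a ≫ π = Spec.map φ := by
    rw [← Spec.map_comp]
    exact congrArg Spec.map (CommRingCat.hom_ext (RingHom.ext fun t => (MvPolynomial.aeval b).commutes t))
  haveI : LocallyOfFiniteType π := (HasRingHomProperty.Spec_iff (P := @LocallyOfFiniteType)).2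
    (RingHom.finiteType_algebraMap.2 inferInstance)
  letI : Algebra (MvPolynomial (Fin n) A) B := (MvPolynomial.aeval (R := A) b).toRingHom.toAlgebra
  haveI : IsScalarTower A (MvPolynomial (Fin n) A) B :=
    IsScalarTower.of_algebraMap_eq fun r => ((MvPolynomial.aeval (R := A) b).commutes r).symm
  haveI : Algebra.FinitePresentation (MvPolynomial (Fin n) A) B :=
    Algebra.FinitePresentation.of_restrict_scalars_finitePresentation A _ B
  have hψ : ψ.hom.FiniteType :=
    (Algebra.FiniteType.of_restrictScalars_finiteType A (MvPolynomial (Fin n) A) B)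
  haveI : LocallyOfFiniteType a := (HasRingHomProperty.Spec_iff (P := @LocallyOfFiniteType)).2 hψ
  let O : Set (Spec B) := {t | a.QuasiFiniteAt t} ∩
    {t | Module.Flat (MvPolynomial (Fin n) A) (LocalizedModule t.asIdeal.primeCompl B)}
  have hO : IsOpen O := (a.isOpen_quasiFiniteAt).inter (FlatH4.isOpen_flat_localized (M := B))
  refine ⟨hU.fromSpec ''ᵁ ⟨O, hO⟩, n, ⟨P, ⟨?_, ?_⟩, hP⟩, ?_⟩
  · exact quasiFiniteAt_SpecMap ψ hψ P hqf
  · exact flat_localized_of_comap_eq_map_C P.asIdeal b hbP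
  rintro _ ⟨t, ⟨ht1, ht2⟩, rfl⟩
  haveI : Etale hU.fromSpec := inferInstance
  refine (fibreDimAt_etale_comp hU.fromSpec f t).symm.trans ?_
  simp only [hcomp]
  rw [fibreDimAt_comp_lqf]
  simp only [← haπ]
  rw [fibreDimAt_comp_eq a π (goDown_of_flat_stalk a t (flat_stalkMap_SpecMap ψ t ht2)),
    (fibreDimAt_eq_zero_iff a t).2 ht1, zero_add, fibreDimAt_affineSpace]

/-- On generizations of a generic point of a fibre the fibre dimension is constant. -/
theorem fibreDimAt_eq_of_specializes [Flat f] [LocallyOfFinitePresentation f] {x x' : X}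
    (hx : IsMaxFib f x) (h : x' ⤳ x) : FlatMor.fibreDimAt f x' = FlatMor.fibreDimAt f x := by
  obtain ⟨W, hxW, hW⟩ := exists_nhd_fibreDimAt_eq f hx
  exact hW x' (h.mem_open W.2 hxW)

end Groth.Agent.FibGen4
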