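import Groth.Agent.Lib.FibDim14.Comp
import Groth.Agent.Lib.GeomRed18.Scheme
import Groth.Agent.Lib.DivDesc12.Fibre
import Groth.Prelude.Def_FDesc

/-!
# Generic points of geometrically reduced fibres
-/

universe u

open CategoryTheory Limits AlgebraicGeometry IsLocalRing Topology Groth.Agent.FibDim14

set_option backward.isDefEq.respectTransparency.types false

namespace Groth.Agent.GeomRedRes4

attribute [local instance] Curv2.stalkAlgebra

theorem spec_stalkMap {k : Type u} [Field k] {F : Scheme.{u}} [F.Over (Spec (CommRingCat.of k))] (z : F) :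
    Spec.map (CommRingCat.ofHom (Curv2.stalkMap k F z)) = F.fromSpecStalk z ≫ (F ↘ Spec (CommRingCat.of k)) := by
  have hf : F ↘ Spec (CommRingCat.of k) =
      F.toSpecΓ ≫ Spec.map ((Scheme.ΓSpecIso (CommRingCat.of k)).inv ≫ (F ↘ Spec (CommRingCat.of k)).appTop) := by
    rw [Spec.map_comp, ← Scheme.toSpecΓ_naturality_assoc, toSpecΓ_SpecMap_ΓSpecIso_inv, Category.comp_id]
  rw [hf, ← Category.assoc, Scheme.fromSpecStalk_toSpecΓ, ← Spec.map_comp]
  rfl

variable {X Y : Scheme.{u}} (f : X ⟶ Y)

/-- Geometric reducedness at a point of a fibre passes to its generizations. -/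
theorem isGeomReducedAt_of_specializes {y : Y} {z z' : f.fiber y} (h : z' ⤳ z)
    (hz : FBase.IsGeomReducedAt (f.fiberToSpecResidueField y) z) :
    FBase.IsGeomReducedAt (f.fiberToSpecResidueField y) z' := by
  letI : (f.fiber y).Over (Spec (CommRingCat.of ↑(Y.residueField y))) := ⟨f.fiberToSpecResidueField y⟩
  exact GeomRed.isGeomReducedAt_of_specializes (k := ↑(Y.residueField y)) h hz

/-- The local ring of a geometrically reduced fibre is reduced. -/
theorem isReduced_stalk {y : Y} {z : f.fiber y} (hz : FBase.IsGeomReducedAt (f.fiberToSpecResidueField y) z) :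
    _root_.IsReduced ((f.fiber y).presheaf.stalk z) := by
  let k := ↑(Y.residueField y)
  letI : (f.fiber y).Over (Spec (CommRingCat.of k)) := ⟨f.fiberToSpecResidueField y⟩
  haveI := (GeomRed.isGeomReducedAt_iff (k := k) z).1 hz
  haveI := GeomRed.isReduced_tensor_field k k ((f.fiber y).presheaf.stalk z)
  exact isReduced_of_injective (Algebra.TensorProduct.rid k k ((f.fiber y).presheaf.stalk z)).symm
    (AlgEquiv.injective _)

variable [LocallyOfFiniteType f]

/-- At a maximal point of a reduced fibre the maximal ideal comes from the base. -/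
theorem map_maximalIdeal_eq {x : X} (hx : IsMaxFib f x)
    (hred : _root_.IsReduced ((f.fiber (f x)).presheaf.stalk (f.asFiber x))) :
    (maximalIdeal (Y.presheaf.stalk (f x))).map (f.stalkMap x).hom = maximalIdeal (X.presheaf.stalk x) ∧
      IsField ((f.fiber (f x)).presheaf.stalk (f.asFiber x)) := by
  let z := f.asFiber x
  have hfield : IsField ((f.fiber (f x)).presheaf.stalk z) := by
    haveI : Ring.KrullDimLE 0 ((f.fiber (f x)).presheaf.stalk z) := by
      refine Ring.KrullDimLE.mk₀ fun I hI => ?_
      let q : PrimeSpectrum ((f.fiber (f x)).presheaf.stalk z) := ⟨I, hI⟩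
      have h1 : (f.fiber (f x)).fromSpecStalk z (q : Spec _) ⤳ z :=
        (Scheme.range_fromSpecStalk (X := f.fiber (f x)) (x := z)).le ⟨_, rfl⟩
      have h2 : (f.fiber (f x)).fromSpecStalk z (q : Spec _) = z := by
        refine (isMaxFib_fiberι f (f x) z).1 ?_ _ h1
        rw [f.fiberι_asFiber]
        exact hx
      have h3 : (q : Spec ((f.fiber (f x)).presheaf.stalk z)) = closedPoint _ :=
        ((f.fiber (f x)).fromSpecStalk z).isEmbedding.injective (h2.trans Scheme.fromSpecStalk_closedPoint.symm)
      have h4 : I = maximalIdeal _ := congrArg PrimeSpectrum.asIdeal h3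
      rw [h4]
      exact maximalIdeal.isMaximal _
    exact Ring.KrullDimLE.isField_of_isReduced
  refine ⟨?_, hfield⟩
  haveI : IsLocalHom (f.stalkMap x).hom := inferInstanceAs (IsLocalHom (f.stalkMap x).hom)
  refine le_antisymm ?_ ?_
  · exact ((local_hom_TFAE (f.stalkMap x).hom).out 0 2 (a := IsLocalHom (f.stalkMap x).hom)).mp ‹_›
  have key : ∀ (w : X), f.fiberι (f x) z = w → ∀ h : f w ⤳ f x,
      maximalIdeal (X.presheaf.stalk w) ≤ (maximalIdeal (Y.presheaf.stalk (f x))).map (DivDesc12.σ f w h) := by
    rintro _ rfl h b hb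
    refine (DivDesc12.stalkMap_fiberι_eq_zero_iff f x rfl (specializes_of_eq rfl) z (f.fiberι_asFiber x) b).1 ?_
    by_contra hne
    obtain ⟨c, hc⟩ := hfield.mul_inv_cancel hne
    exact hb (isUnit_of_map_unit _ b (IsUnit.of_mul_eq_one c hc))
  have h1 : DivDesc12.σ f x (specializes_of_eq rfl) = (f.stalkMap x).hom := RingHom.ext fun a => by
    show f.stalkMap x (DivDesc12.sp _ a) = _
    rw [DivDesc12.sp_self]
  rw [← h1]
  exact key x (f.fiberι_asFiber x) _

/-- The residue field extension at a geometrically reduced maximal point of a fibre is geometrically reduced. -/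
theorem isGeometricallyReduced_residueField {x : X} (hx : IsMaxFib f x)
    (hred : FBase.IsGeomReducedAt (f.fiberToSpecResidueField (f x)) (f.asFiber x)) :
    letI := (f.residueFieldMap x).hom.toAlgebra
    Algebra.IsGeometricallyReduced (Y.residueField (f x)) (X.residueField x) := by
  suffices key : ∀ (w : X), f.fiberι (f x) (f.asFiber x) = w →
      ∀ α : Y.residueField (f x) ⟶ X.residueField w,
        Spec.map α ≫ Y.fromSpecResidueField (f x) = X.fromSpecResidueField w ≫ f →
        letI := α.hom.toAlgebra
        Algebra.IsGeometricallyReduced (Y.residueField (f x)) (X.residueField w) from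
    key x (f.fiberι_asFiber x) (f.residueFieldMap x) (Scheme.Hom.SpecMap_residueFieldMap_fromSpecResidueField f x)
  rintro _ rfl α hα
  letI := α.hom.toAlgebra
  let k := ↑(Y.residueField (f x))
  let F := f.fiber (f x)
  let z : F := f.asFiber x
  letI : F.Over (Spec (CommRingCat.of k)) := ⟨f.fiberToSpecResidueField (f x)⟩
  haveI := (GeomRed.isGeomReducedAt_iff (k := k) z).1 hred
  let ι := f.fiberι (f x)
  have hfield := (map_maximalIdeal_eq f hx (isReduced_stalk f hred)).2
  have hres : Function.Bijective (F.residue z).hom := by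
    refine ⟨?_, F.residue_surjective z⟩
    letI := hfield.toField
    exact RingHom.injective _
  let e := RingEquiv.ofBijective _ hres
  have hcomm : α ≫ ι.residueFieldMap z = CommRingCat.ofHom (Curv2.stalkMap k F z) ≫ F.residue z := by
    apply Spec.map_injective
    rw [← cancel_mono (Y.fromSpecResidueField (f x)), Spec.map_comp, Category.assoc, hα,
      Scheme.Hom.SpecMap_residueFieldMap_fromSpecResidueField_assoc, Spec.map_comp, Category.assoc, spec_stalkMap,
      f.fiber_fac]
    simp only [Scheme.fromSpecResidueField, Category.assoc]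
    rfl
  let φ : ↑(X.residueField (ι z)) →ₐ[k] ↑(F.presheaf.stalk z) :=
    { e.symm.toRingHom.comp (ι.residueFieldMap z).hom with
      commutes' := fun a => by
        apply e.injective
        show e (e.symm ((ι.residueFieldMap z).hom (α.hom a))) = (F.residue z).hom (Curv2.stalkMap k F z a)
        rw [e.apply_symm_apply]
        exact congrArg (fun q : Y.residueField (f x) ⟶ F.residueField z => q.hom a) hcomm }
  exact Algebra.IsGeometricallyReduced.of_injective φ (RingHom.injective φ.toRingHom)

end Groth.Agent.GeomRedRes4
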