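import Mathlib.RingTheory.Unramified.LocalStructure
import Mathlib.RingTheory.Unramified.LocalRing
import Mathlib.FieldTheory.Separable
import Mathlib.FieldTheory.IntermediateField.Adjoin.Algebra
import Mathlib.RingTheory.LocalRing.ResidueField.Ideal
import Mathlib.RingTheory.AlgebraicIndependent.Basic

/-!
# A chart to affine space, unramified at a separably generated generic point of a fibre
-/

universe u

open MvPolynomial IsLocalRing

namespace Groth.Agent.SepChart4

theorem isUnramifiedAt_aeval {A B k L : Type u} [CommRing A] [CommRing B] [Algebra A B]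
    [Algebra.FiniteType A B] [Field k] [Field L] [Algebra A k] [Algebra B L] [Algebra k L] [Algebra A L]
    [IsScalarTower A k L] [IsScalarTower A B L]
    (P : Ideal B) [P.IsPrime] (hP : RingHom.ker (algebraMap B L) = P)
    (hk : ∀ c : k, ∃ a e : A, algebraMap A k e ≠ 0 ∧ c * algebraMap A k e = algebraMap A k a)
    (hL : ∀ z : L, ∃ a e : B, algebraMap B L e ≠ 0 ∧ z * algebraMap B L e = algebraMap B L a)
    (S : Type u) [CommRing S] [Algebra B S] [IsLocalization.AtPrime S P] [IsLocalRing S]
    (hfield : (RingHom.ker (algebraMap A k)).map ((algebraMap B S).comp (algebraMap A B)) = maximalIdeal S)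
    {n : ℕ} (b : Fin n → B) (hind : AlgebraicIndependent k fun i => algebraMap B L (b i))
    (hsep : Algebra.IsSeparable (IntermediateField.adjoin k (Set.range fun i => algebraMap B L (b i))) L) :
    P.comap (aeval (R := A) b).toRingHom = (RingHom.ker (algebraMap A k)).map C ∧
      letI := (aeval (R := A) b).toRingHom.toAlgebra
      Algebra.IsUnramifiedAt (MvPolynomial (Fin n) A) P := by
  have hdiag : ∀ g : MvPolynomial (Fin n) A,
      algebraMap B L (aeval b g) = aeval (fun i => algebraMap B L (b i)) (map (algebraMap A k) g) := by
    intro g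
    rw [aeval_map_algebraMap]
    exact (comp_aeval_apply b (IsScalarTower.toAlgHom A B L) g).symm ▸ rfl
  have hcomap : P.comap (aeval (R := A) b).toRingHom = (RingHom.ker (algebraMap A k)).map C := by
    rw [← MvPolynomial.ker_map]
    ext g
    rw [Ideal.mem_comap, ← hP, RingHom.mem_ker, RingHom.mem_ker]
    show algebraMap B L (aeval b g) = 0 ↔ _
    rw [hdiag, map_eq_zero_iff _ hind]
  refine ⟨hcomap, ?_⟩
  let R := MvPolynomial (Fin n) A
  letI : Algebra R B := (aeval (R := A) b).toRingHom.toAlgebra
  haveI : IsScalarTower A R B := IsScalarTower.of_algebraMap_eq fun r => ((aeval (R := A) b).commutes r).symm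
  haveI : Algebra.FiniteType R B := Algebra.FiniteType.of_restrictScalars_finiteType A R B
  let q := P.under R
  haveI : P.LiesOver q := ⟨rfl⟩
  letI := Localization.AtPrime.algebraOfLiesOver q P
  rw [Algebra.isUnramifiedAt_iff_map_eq R q P]
  refine ⟨?_, ?_⟩
  · -- the residue fields
    let ψ : P.ResidueField →+* L := Ideal.ResidueField.lift P (algebraMap B L) hP.ge
      (fun e he => IsUnit.mk0 _ fun h0 => he (hP ▸ (RingHom.mem_ker.2 h0)))
    have hψ : ∀ e : B, ψ (algebraMap B _ e) = algebraMap B L e := fun e =>
      Ideal.ResidueField.lift_algebraMap _ _ _ _ e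
    have hψs : Function.Surjective ψ := fun z => by
      obtain ⟨a, e, he, h⟩ := hL z
      exact ⟨algebraMap B _ a / algebraMap B _ e, by rw [map_div₀, hψ, hψ, div_eq_iff he, h]⟩
    let F' : Subfield L := (ψ.comp (algebraMap q.ResidueField P.ResidueField)).fieldRange
    have hF : ∀ g : R, algebraMap B L (aeval b g) ∈ F' := fun g =>
      ⟨algebraMap R q.ResidueField g, by
        rw [RingHom.comp_apply, ← IsScalarTower.algebraMap_apply R q.ResidueField P.ResidueField,
          IsScalarTower.algebraMap_apply R B P.ResidueField, hψ]
        rfl⟩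
    let K0 : IntermediateField k L := Subfield.toIntermediateField F' fun c => by
      obtain ⟨a, e, he, h⟩ := hk c
      have ha : algebraMap A L a ∈ F' := by
        simpa [← IsScalarTower.algebraMap_apply A B L] using hF (C a)
      have he' : algebraMap A L e ∈ F' := by
        simpa [← IsScalarTower.algebraMap_apply A B L] using hF (C e)
      have he0 : algebraMap A L e ≠ 0 := by
        rw [IsScalarTower.algebraMap_apply A k L]
        exact (map_ne_zero _).2 he
      have hc : algebraMap k L c = algebraMap A L a / algebraMap A L e := by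
        rw [eq_div_iff he0, IsScalarTower.algebraMap_apply A k L, IsScalarTower.algebraMap_apply A k L,
          ← map_mul, h]
      exact hc ▸ div_mem ha he'
    have hle : IntermediateField.adjoin k (Set.range fun i => algebraMap B L (b i)) ≤ K0 := by
      rw [IntermediateField.adjoin_le_iff]
      rintro _ ⟨i, rfl⟩
      have := hF (X i)
      rwa [aeval_X] at this
    letI := (IntermediateField.inclusion hle).toRingHom.toAlgebra
    haveI : IsScalarTower (IntermediateField.adjoin k (Set.range fun i => algebraMap B L (b i))) K0 L :=
      IsScalarTower.of_algebraMap_eq fun _ => rfl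
    haveI : Algebra.IsSeparable K0 L := ⟨fun z => IsSeparable.tower_top K0 (hsep.isSeparable _ z)⟩
    let e₂ : L ≃+* P.ResidueField := (RingEquiv.ofBijective ψ ⟨ψ.injective, hψs⟩).symm
    have hF' : ∀ z : K0, ∃ w : q.ResidueField, ψ (algebraMap q.ResidueField P.ResidueField w) = (z : L) :=
      fun z => z.2
    let χ : q.ResidueField →+* K0 :=
      (ψ.comp (algebraMap q.ResidueField P.ResidueField)).codRestrict K0.toSubalgebra.toSubring fun w => ⟨w, rfl⟩
    have hχ : Function.Bijective χ := ⟨RingHom.injective _, fun z => by
      obtain ⟨w, hw⟩ := hF' z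
      exact ⟨w, Subtype.ext hw⟩⟩
    refine Algebra.IsSeparable.of_equiv_equiv (RingEquiv.ofBijective χ hχ).symm e₂ ?_
    refine RingHom.ext fun z => ?_
    apply ψ.injective
    show ψ (algebraMap q.ResidueField P.ResidueField ((RingEquiv.ofBijective χ hχ).symm z)) =
      ψ ((RingEquiv.ofBijective ψ ⟨ψ.injective, hψs⟩).symm (z : L))
    rw [show ψ ((RingEquiv.ofBijective ψ ⟨ψ.injective, hψs⟩).symm (z : L)) = (z : L) from
      (RingEquiv.ofBijective ψ ⟨ψ.injective, hψs⟩).apply_symm_apply _]
    exact congrArg Subtype.val ((RingEquiv.ofBijective χ hχ).apply_symm_apply z)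
  · -- the maximal ideal
    let e := (IsLocalization.algEquiv P.primeCompl S (Localization.AtPrime P)).toRingEquiv
    have h1 : (algebraMap R (Localization.AtPrime P)).comp C =
        (e : S →+* Localization.AtPrime P).comp ((algebraMap B S).comp (algebraMap A B)) := by
      ext a
      show algebraMap R (Localization.AtPrime P) (C a) = e (algebraMap B S (algebraMap A B a))
      rw [IsScalarTower.algebraMap_apply R B (Localization.AtPrime P)]
      show algebraMap B _ (aeval b (C a)) = _
      rw [aeval_C]
      exact ((IsLocalization.algEquiv P.primeCompl S (Localization.AtPrime P)).commutes _).symm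
    rw [show q = (RingHom.ker (algebraMap A k)).map C from hcomap, Ideal.map_map, h1, ← Ideal.map_map, hfield]
    exact IsLocalRing.map_ringEquiv_maximalIdeal e

end Groth.Agent.SepChart4
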