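import Groth.Agent.Lib.OpenEt4
import Groth.Agent.Lib.SepChart4
import Groth.Agent.Lib.GeomRedRes4
import Groth.Agent.Lib.FlatDepth.GenericSmooth
import Groth.Agent.Lib.AlgSpDescent.RedNoeth
import Groth.Agent.Lib.FibGenSch4

/-!
# Flatness at universally open generic points of geometrically reduced fibres (EGA IV 15.2.2)
-/

universe u

open CategoryTheory Limits AlgebraicGeometry Topology IsLocalRing Groth.Agent.FibDim14

set_option backward.isDefEq.respectTransparency.types false

namespace Groth.Agent.FlatUnivOpen4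

/-- A point with reduced local ring on a locally Noetherian scheme has a reduced affine neighbourhood. -/
theorem exists_reduced_nhd {Y : Scheme.{u}} [IsLocallyNoetherian Y] (y : Y)
    (hy : _root_.IsReduced (Y.presheaf.stalk y)) :
    ∃ V : Y.Opens, IsAffineOpen V ∧ y ∈ V ∧ _root_.IsReduced Γ(Y, V) := by
  classical
  obtain ⟨U, hU, hyU, -⟩ := exists_isAffineOpen_mem_and_subset (X := Y) (x := y) (U := ⊤) trivial
  haveI : IsNoetherianRing Γ(Y, U) := IsLocallyNoetherian.component_noetherian ⟨U, hU⟩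
  letI : Algebra Γ(Y, U) (Y.presheaf.stalk y) := (Y.presheaf.germ U y hyU).hom.toAlgebra
  haveI : IsLocalization.AtPrime (Y.presheaf.stalk y) (hU.primeIdealOf ⟨y, hyU⟩).asIdeal :=
    hU.isLocalization_stalk ⟨y, hyU⟩
  let p := (hU.primeIdealOf ⟨y, hyU⟩).asIdeal
  obtain ⟨T, hT⟩ := (inferInstance : IsNoetherian Γ(Y, U) Γ(Y, U)).noetherian (nilradical Γ(Y, U))
  have hk : ∀ t ∈ T, ∃ s ∉ p, s * t = 0 := by
    intro t ht
    have htn : IsNilpotent t := mem_nilradical.1 (hT ▸ Submodule.subset_span ht)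
    obtain ⟨s, hs⟩ := (IsLocalization.map_eq_zero_iff p.primeCompl (Y.presheaf.stalk y) t).1
      (htn.map (algebraMap Γ(Y, U) (Y.presheaf.stalk y))).eq_zero
    exact ⟨s, s.2, hs⟩
  choose s hsp hst using hk
  let c := ∏ t ∈ T.attach, s t t.2
  have hcp : c ∉ p := fun h => by
    obtain ⟨t, _, ht⟩ := (Ideal.IsPrime.prod_mem_iff (p := p)).1 h
    exact hsp _ _ ht
  have hc : ∀ a ∈ nilradical Γ(Y, U), c * a = 0 := by
    intro a ha
    rw [← hT] at ha
    refine Submodule.span_induction (fun t ht => ?_) (mul_zero c) (fun _ _ _ _ h h' => by rw [mul_add, h, h', add_zero])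
      (fun r _ _ h => by rw [smul_eq_mul, mul_left_comm, h, mul_zero]) ha
    show c * t = 0
    rw [show c = s t ht * ∏ u ∈ T.attach.erase ⟨t, ht⟩, s u u.2 from
      (Finset.mul_prod_erase T.attach (fun u => s u u.2) (Finset.mem_attach _ ⟨t, ht⟩)).symm,
      mul_right_comm, hst, zero_mul]
  haveI := hU.isLocalization_basicOpen c
  refine ⟨Y.basicOpen c, hU.basicOpen c, ?_, ⟨fun z hz => ?_⟩⟩
  · rw [Scheme.mem_basicOpen _ c y hyU]
    exact IsLocalization.map_units (Y.presheaf.stalk y) (⟨c, hcp⟩ : p.primeCompl)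
  obtain ⟨a, w, rfl⟩ := IsLocalization.exists_mk'_eq (Submonoid.powers c) z
  rw [IsLocalization.mk'_eq_zero_iff]
  obtain ⟨m, hm⟩ := hz
  rw [← IsLocalization.mk'_pow, IsLocalization.mk'_eq_zero_iff] at hm
  obtain ⟨⟨_, j, rfl⟩, hj⟩ := hm
  refine ⟨⟨c * c ^ j, j + 1, pow_succ' c j⟩, ?_⟩
  show c * c ^ j * a = 0
  rw [mul_assoc]
  refine hc _ (mem_nilradical.2 ⟨m + 1, ?_⟩)
  rw [mul_pow, pow_succ' a m, show (c ^ j) ^ (m + 1) = (c ^ j) ^ m * c ^ j from pow_succ _ m]
  calc (c ^ j) ^ m * c ^ j * (a * a ^ m) = (c ^ j) ^ m * a * (c ^ j * a ^ m) := by ring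
    _ = 0 := by rw [show c ^ j * a ^ m = 0 from hj, mul_zero]

/-- A separating transcendence basis. -/
theorem exists_sepBasis (k L : Type u) [Field k] [Field L] [Algebra k L] [Algebra.EssFiniteType k L]
    [Algebra.IsGeometricallyReduced k L] :
    ∃ s : Finset L, AlgebraicIndependent k ((↑) : s → L) ∧
      Algebra.IsSeparable (IntermediateField.adjoin k (s : Set L)) L := by
  obtain _ | ⟨p, hp, hpk⟩ := CharP.exists' k
  · obtain ⟨s, hs, hsep⟩ := exists_isTranscendenceBasis_and_isSeparable_of_perfectField k L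
    exact ⟨s, hs.1, hsep⟩
  haveI : ExpChar k p := .prime hp.out
  obtain ⟨s, hs, hsep⟩ := exists_isTranscendenceBasis_and_isSeparable_of_linearIndepOn_pow_of_essFiniteType
    p hp.out (fun t ht => FlatDepth.linearIndepOn_pow_of_geomReduced (k := k) (K := L) p hp.out t ht)
  exact ⟨s, hs.1, hsep⟩

variable {X Y : Scheme.{u}} (f : X ⟶ Y) [LocallyOfFiniteType f]

/-- The smooth chart at a generic point of a fibre. -/
theorem smooth_chart_at_generic [IsLocallyNoetherian Y] (ξ : X) (hmax : IsMaxFib f ξ)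
    (hred : FBase.IsGeomReducedAt (f.fiberToSpecResidueField (f ξ)) (f.asFiber ξ))
    (hopen : EGA43.IsUnivOpenAt f ξ) {V : Y.Opens} (hV : IsAffineOpen V) (hyV : f ξ ∈ V)
    (hAred : _root_.IsReduced Γ(Y, V)) :
    (f.stalkMap ξ).hom.Flat ∧ _root_.IsReduced (X.presheaf.stalk ξ) ∧
      ∃ (C : Type u) (_ : CommRing C) (_ : Algebra Γ(Y, V) C) (_ : Algebra.Smooth Γ(Y, V) C) (Q : Ideal C)
        (_ : Q.IsPrime), Q.comap (algebraMap Γ(Y, V) C) = (hV.primeIdealOf ⟨f ξ, hyV⟩).asIdeal ∧
          Nonempty (Localization.AtPrime Q ≃+* X.presheaf.stalk ξ) := by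
  classical
  let k := Y.residueField (f ξ)
  let L := X.residueField ξ
  letI : Algebra k L := (f.residueFieldMap ξ).hom.toAlgebra
  haveI := GeomRedRes4.isGeometricallyReduced_residueField f hmax hred
  have hfield := (GeomRedRes4.map_maximalIdeal_eq f hmax (GeomRedRes4.isReduced_stalk f hred)).1
  -- the residue extension is finitely generated
  haveI : Algebra.EssFiniteType k L := by
    have h1 : (Y.residue (f ξ) ≫ f.residueFieldMap ξ).hom.EssFiniteType := by
      rw [Scheme.residue_residueFieldMap]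
      exact (LocallyOfFiniteType.stalkMap f ξ).comp
        (RingHom.FiniteType.of_surjective _ (X.residue_surjective ξ)).essFiniteType
    exact RingHom.essFiniteType_algebraMap.1
      (show (f.residueFieldMap ξ).hom.EssFiniteType from RingHom.EssFiniteType.of_comp _ h1)
  obtain ⟨s, hind, hsep⟩ := exists_sepBasis k L
  -- lifts of the separating basis
  have hlift : ∀ z : L, ∃ (O : X.Opens) (hO : ξ ∈ O) (a : Γ(X, O)),
      X.residue ξ (X.presheaf.germ O ξ hO a) = z := fun z => by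
    obtain ⟨a, rfl⟩ := X.residue_surjective ξ z
    obtain ⟨O, hO, a, rfl⟩ := X.presheaf.exists_germ_eq a
    exact ⟨O, hO, a, rfl⟩
  choose O hO a ha using hlift
  obtain ⟨U, hU, hξU, hUle⟩ := exists_isAffineOpen_mem_and_subset (X := X) (x := ξ)
    (U := (f ⁻¹ᵁ V) ⊓ s.inf O) ⟨hyV, by
      show ξ ∈ ((s.inf O : X.Opens) : Set X)
      rw [TopologicalSpace.Opens.coe_finset_inf, Finset.inf_eq_iInf]
      exact Set.mem_iInter₂.2 fun z _ => hO z⟩
  have e : U ≤ f ⁻¹ᵁ V := fun z hz => (hUle hz).1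
  have hUO : ∀ z ∈ s, U ≤ O z := fun z hz w hw => (Finset.inf_le hz : s.inf O ≤ O z) (hUle hw).2
  let n := s.card
  let v : Fin n → L := fun i => (s.equivFin.symm i : L)
  let b : Fin n → Γ(X, U) := fun i => X.presheaf.map (homOfLE (hUO _ (s.equivFin.symm i).2)).op (a (v i))
  let A := Γ(Y, V)
  let B := Γ(X, U)
  letI : Algebra A B := (f.appLE V U e).hom.toAlgebra
  haveI : Algebra.FiniteType A B := f.finiteType_appLE hV hU e
  letI : Algebra A k := ((Y.residue (f ξ)).hom.comp (Y.presheaf.germ V (f ξ) hyV).hom).toAlgebra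
  letI : Algebra B L := ((X.residue ξ).hom.comp (X.presheaf.germ U ξ hξU).hom).toAlgebra
  letI : Algebra A L := ((algebraMap B L).comp (algebraMap A B)).toAlgebra
  haveI : IsScalarTower A B L := IsScalarTower.of_algebraMap_eq fun _ => rfl
  have hgerm : f.appLE V U e ≫ X.presheaf.germ U ξ hξU = Y.presheaf.germ V (f ξ) hyV ≫ f.stalkMap ξ := by
    rw [Scheme.Hom.germ_stalkMap, Scheme.Hom.appLE, Category.assoc, TopCat.Presheaf.germ_res]
  haveI : IsScalarTower A k L := IsScalarTower.of_algebraMap_eq fun t => by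
    show X.residue ξ (X.presheaf.germ U ξ hξU (f.appLE V U e t)) =
      f.residueFieldMap ξ (Y.residue (f ξ) (Y.presheaf.germ V (f ξ) hyV t))
    have h1 := congrArg (fun q : A ⟶ X.presheaf.stalk ξ => q t) hgerm
    have h2 := congrArg (fun q : Y.presheaf.stalk (f ξ) ⟶ L => q (Y.presheaf.germ V (f ξ) hyV t))
      (Scheme.residue_residueFieldMap f ξ)
    exact (congrArg (X.residue ξ) h1).trans h2.symm
  letI algBS : Algebra B (X.presheaf.stalk ξ) := (X.presheaf.germ U ξ hξU).hom.toAlgebra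
  haveI : IsLocalization.AtPrime (X.presheaf.stalk ξ) (hU.primeIdealOf ⟨ξ, hξU⟩).asIdeal :=
    hU.isLocalization_stalk ⟨ξ, hξU⟩
  letI algAS : Algebra A (Y.presheaf.stalk (f ξ)) := (Y.presheaf.germ V (f ξ) hyV).hom.toAlgebra
  haveI : IsLocalization.AtPrime (Y.presheaf.stalk (f ξ)) (hV.primeIdealOf ⟨f ξ, hyV⟩).asIdeal :=
    hV.isLocalization_stalk ⟨f ξ, hyV⟩
  let P := (hU.primeIdealOf ⟨ξ, hξU⟩).asIdeal
  let p₀ := (hV.primeIdealOf ⟨f ξ, hyV⟩).asIdeal
  have hP : RingHom.ker (algebraMap B L) = P := by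
    ext t
    show X.residue ξ (algebraMap B (X.presheaf.stalk ξ) t) = 0 ↔ _
    exact (residue_eq_zero_iff _).trans
      (IsLocalization.AtPrime.to_map_mem_maximal_iff (X.presheaf.stalk ξ) P t)
  have hp₀ : RingHom.ker (algebraMap A k) = p₀ := by
    ext t
    show Y.residue (f ξ) (algebraMap A (Y.presheaf.stalk (f ξ)) t) = 0 ↔ _
    exact (residue_eq_zero_iff _).trans
      (IsLocalization.AtPrime.to_map_mem_maximal_iff (Y.presheaf.stalk (f ξ)) p₀ t)
  have hvb : ∀ i, algebraMap B L (b i) = v i := fun i => by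
    show X.residue ξ (X.presheaf.germ U ξ hξU (b i)) = v i
    rw [TopCat.Presheaf.germ_res_apply]
    exact ha (v i)
  have hrange : Set.range (fun i => algebraMap B L (b i)) = (s : Set L) := by
    ext z
    simp only [hvb, Set.mem_range, v]
    exact ⟨fun ⟨i, hi⟩ => hi ▸ (s.equivFin.symm i).2, fun hz => ⟨s.equivFin ⟨z, hz⟩, by simp⟩⟩
  obtain ⟨hcomap, hunr⟩ := SepChart4.isUnramifiedAt_aeval (A := A) (B := B) (k := k) (L := L) P hP
    (fun c => by
      obtain ⟨t, rfl⟩ := Y.residue_surjective (f ξ) c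
      obtain ⟨a', ⟨e', he'⟩, rfl⟩ := IsLocalization.exists_mk'_eq p₀.primeCompl t
      refine ⟨a', e', fun h => he' (hp₀ ▸ (RingHom.mem_ker.2 h)), ?_⟩
      show Y.residue (f ξ) _ * Y.residue (f ξ) _ = Y.residue (f ξ) _
      rw [← map_mul]
      exact congrArg _ (IsLocalization.mk'_spec (Y.presheaf.stalk (f ξ)) a' ⟨e', he'⟩))
    (fun c => by
      obtain ⟨t, rfl⟩ := X.residue_surjective ξ c
      obtain ⟨a', ⟨e', he'⟩, rfl⟩ := IsLocalization.exists_mk'_eq P.primeCompl t
      refine ⟨a', e', fun h => he' (hP ▸ (RingHom.mem_ker.2 h)), ?_⟩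
      show X.residue ξ _ * X.residue ξ _ = X.residue ξ _
      rw [← map_mul]
      exact congrArg _ (IsLocalization.mk'_spec (X.presheaf.stalk ξ) a' ⟨e', he'⟩))
    (X.presheaf.stalk ξ) (by
      rw [hp₀, show (algebraMap B (X.presheaf.stalk ξ)).comp (algebraMap A B) =
        (f.stalkMap ξ).hom.comp (algebraMap A (Y.presheaf.stalk (f ξ))) from congrArg CommRingCat.Hom.hom hgerm,
        ← Ideal.map_map, IsLocalization.AtPrime.map_eq_maximalIdeal p₀ (Y.presheaf.stalk (f ξ)), hfield])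
    b (by
      have h1 : (fun i => algebraMap B L (b i)) = ((↑) : s → L) ∘ s.equivFin.symm := funext hvb
      rw [h1]
      exact hind.comp _ s.equivFin.symm.injective)
    (by rw [hrange]; exact hsep)
  -- the standard etale presentation
  let R := MvPolynomial (Fin n) A
  letI : Algebra R B := (MvPolynomial.aeval (R := A) b).toRingHom.toAlgebra
  haveI : IsScalarTower A R B := IsScalarTower.of_algebraMap_eq fun r => ((MvPolynomial.aeval (R := A) b).commutes r).symm
  haveI : Algebra.FiniteType R B := Algebra.FiniteType.of_restrictScalars_finiteType A R B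
  obtain ⟨r, hrP, P', φ, hφ⟩ := Algebra.IsUnramifiedAt.exists_hasStandardEtaleSurjectionOn (R := R) P
  let i : Spec (CommRingCat.of (Localization.Away r)) ⟶ Spec (CommRingCat.of P'.Ring) :=
    Spec.map (CommRingCat.ofHom φ.toRingHom)
  haveI : IsClosedImmersion i := IsClosedImmersion.spec_of_surjective _ hφ
  let ae : Spec (CommRingCat.of P'.Ring) ⟶ Spec (CommRingCat.of R) :=
    Spec.map (CommRingCat.ofHom (algebraMap R P'.Ring))
  let π₀ : Spec (CommRingCat.of R) ⟶ Spec A := Spec.map (CommRingCat.ofHom (algebraMap A R))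
  haveI : Etale ae := (HasRingHomProperty.Spec_iff (P := @Etale)).2 (RingHom.etale_algebraMap.2 inferInstance)
  haveI : LocallyOfFiniteType π₀ := (HasRingHomProperty.Spec_iff (P := @LocallyOfFiniteType)).2
    (RingHom.finiteType_algebraMap.2 inferInstance)
  haveI : Smooth π₀ := (HasRingHomProperty.Spec_iff (P := @Smooth)).2
    (RingHom.smooth_algebraMap.2 (show Algebra.Smooth A (MvPolynomial (Fin n) A) from ⟨inferInstance, inferInstance⟩))
  let ιr : Spec (CommRingCat.of (Localization.Away r)) ⟶ Spec B :=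
    Spec.map (CommRingCat.ofHom (algebraMap B (Localization.Away r)))
  haveI : IsOpenImmersion ιr := IsOpenImmersion.of_isLocalization r
  let j := ιr ≫ hU.fromSpec
  have hw : (i ≫ ae ≫ π₀) ≫ hV.fromSpec = j ≫ f := by
    have h1 : i ≫ ae ≫ π₀ = ιr ≫ Spec.map (f.appLE V U e) := by
      simp only [i, ae, π₀, ιr, ← Spec.map_comp]
      refine congrArg Spec.map (CommRingCat.hom_ext (RingHom.ext fun t => ?_))
      show φ (algebraMap R P'.Ring (algebraMap A R t)) = algebraMap B (Localization.Away r) (algebraMap A B t)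
      rw [AlgHom.commutes, IsScalarTower.algebraMap_apply R B (Localization.Away r),
        ← IsScalarTower.algebraMap_apply A R B]
    rw [h1]
    simp only [j, Category.assoc]
    rw [IsAffineOpen.SpecMap_appLE_fromSpec]
  -- the point
  obtain ⟨z, hz⟩ : (hU.primeIdealOf ⟨ξ, hξU⟩ : Spec B) ∈ Set.range ιr :=
    (PrimeSpectrum.localization_away_comap_range (Localization.Away r) r).ge hrP
  have hjz : j z = ξ := by
    rw [Scheme.Hom.comp_apply, hz]
    exact hU.fromSpec_primeIdealOf ⟨ξ, hξU⟩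
  have hfw : ∀ w, hV.fromSpec ((i ≫ ae ≫ π₀) w) = f (j w) := fun w => by
    rw [← Scheme.Hom.comp_apply, hw, Scheme.Hom.comp_apply]
  have hmaxz : IsMaxFib (i ≫ ae ≫ π₀) z := fun w hwz hfe => j.isOpenEmbedding.injective
    ((hmax (j w) (hjz ▸ hwz.map j.continuous) (by rw [← hfw, hfe, hfw, hjz])).trans hjz.symm)
  -- fibre dimensions
  have hn : ∀ w, FlatMor.fibreDimAt (ae ≫ π₀) w ≤ (n : WithBot ℕ∞) := fun w => by
    rw [fibreDimAt_etale_comp]
    exact (FibGen4.fibreDimAt_affineSpace n _).le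
  have hq : (ae (i z) : PrimeSpectrum R).asIdeal = p₀.map MvPolynomial.C := by
    rw [← hp₀, ← hcomap]
    show Ideal.comap (algebraMap R P'.Ring) (Ideal.comap φ.toRingHom (z : PrimeSpectrum _).asIdeal) = _
    rw [Ideal.comap_comap, show φ.toRingHom.comp (algebraMap R P'.Ring) =
      (algebraMap B (Localization.Away r)).comp (MvPolynomial.aeval (R := A) b).toRingHom from φ.comp_algebraMap,
      ← Ideal.comap_comap]
    exact congrArg (Ideal.comap _) (congrArg PrimeSpectrum.asIdeal hz)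
  have hqmax : IsMaxFib π₀ (ae (i z)) := by
    intro q' hq' hfe
    refine PrimeSpectrum.ext (le_antisymm ((PrimeSpectrum.le_iff_specializes (q' : PrimeSpectrum R) _).2 hq') ?_)
    rw [hq, Ideal.map_le_iff_le_comap]
    have h1 := congrArg PrimeSpectrum.asIdeal hfe
    change (q' : PrimeSpectrum R).asIdeal.comap (algebraMap A R) =
      (ae (i z) : PrimeSpectrum R).asIdeal.comap (algebraMap A R) at h1
    intro t ht
    have h2 : t ∈ (ae (i z) : PrimeSpectrum R).asIdeal.comap (algebraMap A R) := by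
      rw [Ideal.mem_comap, hq]
      exact Ideal.mem_map_of_mem _ ht
    rw [← h1] at h2
    exact h2
  have hrd : n ≤ rd (i ≫ ae ≫ π₀) z := by
    rw [rd_comp i (ae ≫ π₀), rd_comp ae π₀]
    have h1 := FibGen4.fibreDimAt_affineSpace n (ae (i z))
    rw [FibGen4.fibreDimAt_eq_rd_of_isMaxFib π₀ hqmax] at h1
    have h2 : rd π₀ (ae (i z)) = n := by exact_mod_cast h1
    omega
  have hopen' : EGA43.IsUnivOpenAt (i ≫ ae ≫ π₀) z :=
    OpenEt4.isUnivOpenAt_restrict f _ j hV.fromSpec hw z (hjz.symm ▸ hopen)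
  haveI : IsNoetherianRing A := IsLocallyNoetherian.component_noetherian ⟨V, hV⟩
  haveI : _root_.IsReduced R := inferInstance
  haveI : IsReduced (Spec (CommRingCat.of R)) := inferInstance
  haveI : IsReduced (Spec (CommRingCat.of P'.Ring)) := AlgSpDescent.isReduced_of_smooth ae
  -- the closed immersion is an isomorphism on local rings
  have hsurj := i.stalkMap_surjective z
  have hinj : Function.Injective (i.stalkMap z) := by
    rw [injective_iff_map_eq_zero]
    intro t ht
    refine IsNilpotent.eq_zero (mem_nilradical.1 ?_)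
    rw [nilradical_eq_sInf, Ideal.mem_sInf]
    intro Q hQ
    let q : Spec ((Spec (CommRingCat.of P'.Ring)).presheaf.stalk (i z)) := ⟨Q, hQ⟩
    have hc := (Scheme.range_fromSpecStalk (X := Spec (CommRingCat.of P'.Ring)) (x := i z)).le ⟨q, rfl⟩
    obtain ⟨c', hc'⟩ := OpenEt4.mem_range_of_specializes i (ae ≫ π₀) n hn z hmaxz hrd hopen' hc
    have hc'z : c' ⤳ z := i.isEmbedding.isInducing.specializes_iff.1 (hc' ▸ hc)
    obtain ⟨r', hr'⟩ := (Scheme.range_fromSpecStalk (x := z)).ge hc'z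
    have hqr : q = Spec.map (i.stalkMap z) r' := by
      apply ((Spec (CommRingCat.of P'.Ring)).fromSpecStalk (i z)).isEmbedding.injective
      rw [← Scheme.Hom.comp_apply (Spec.map (i.stalkMap z)), Scheme.SpecMap_stalkMap_fromSpecStalk,
        Scheme.Hom.comp_apply, hr']
      exact hc'.symm
    show t ∈ (q : PrimeSpectrum _).asIdeal
    rw [hqr]
    show i.stalkMap z t ∈ (r' : PrimeSpectrum _).asIdeal
    rw [ht]
    exact zero_mem _
  have hflat : ((i ≫ ae ≫ π₀).stalkMap z).hom.Flat := by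
    rw [Scheme.Hom.stalkMap_comp]
    haveI : Smooth (ae ≫ π₀) := inferInstance
    exact RingHom.Flat.comp (Flat.stalkMap (ae ≫ π₀) (i z)) (RingHom.Flat.of_bijective ⟨hinj, hsurj⟩)
  have hflat2 : (((i ≫ ae ≫ π₀) ≫ hV.fromSpec).stalkMap z).hom.Flat := by
    rw [Scheme.Hom.stalkMap_comp]
    exact RingHom.Flat.comp (Flat.stalkMap hV.fromSpec _) hflat
  rw [Scheme.Hom.stalkMap_congr_hom _ _ hw] at hflat2
  haveI : IsIso (j.stalkMap z) := inferInstance
  have hflat3 : ((j ≫ f).stalkMap z).hom.Flat :=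
    (RingHom.Flat.respectsIso.cancel_left_isIso _ ((j ≫ f).stalkMap z)).1 hflat2
  rw [Scheme.Hom.stalkMap_comp] at hflat3
  have hflat4 := (RingHom.Flat.respectsIso.cancel_right_isIso (f.stalkMap (j z)) (j.stalkMap z)).1 hflat3
  haveI : _root_.IsReduced ((Spec (CommRingCat.of P'.Ring)).presheaf.stalk (i z)) := inferInstance
  let ez := RingEquiv.ofBijective (i.stalkMap z).hom ⟨hinj, hsurj⟩
  haveI : _root_.IsReduced ((Spec (CommRingCat.of (Localization.Away r))).presheaf.stalk z) :=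
    isReduced_of_injective ez.symm.toRingHom ez.symm.injective
  have hred4 : _root_.IsReduced (X.presheaf.stalk (j z)) :=
    isReduced_of_injective (j.stalkMap z).hom
      (ConcreteCategory.bijective_of_isIso (j.stalkMap z)).1
  letI : Algebra A P'.Ring := ((algebraMap R P'.Ring).comp (algebraMap A R)).toAlgebra
  haveI : IsScalarTower A R P'.Ring := IsScalarTower.of_algebraMap_eq fun _ => rfl
  let Q : PrimeSpectrum P'.Ring := i z
  have hQ : Q.asIdeal.comap (algebraMap A P'.Ring) = p₀ := by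
    have h1 : hV.fromSpec ((i ≫ ae ≫ π₀) z) = f ξ := (hfw z).trans (congrArg f hjz)
    have h2 : ((i ≫ ae ≫ π₀) z : PrimeSpectrum A) = hV.primeIdealOf ⟨f ξ, hyV⟩ :=
      hV.fromSpec.isOpenEmbedding.injective (h1.trans (hV.fromSpec_primeIdealOf ⟨f ξ, hyV⟩).symm)
    rw [show p₀ = ((i ≫ ae ≫ π₀) z : PrimeSpectrum A).asIdeal from (congrArg PrimeSpectrum.asIdeal h2).symm,
      IsScalarTower.algebraMap_eq A R P'.Ring, ← Ideal.comap_comap]
    rfl
  let eQ : Localization.AtPrime Q.asIdeal ≃+* X.presheaf.stalk (j z) :=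
    ((StructureSheaf.stalkIso P'.Ring Q).toRingEquiv.trans ez).trans
      (RingEquiv.ofBijective (j.stalkMap z).hom (ConcreteCategory.bijective_of_isIso (j.stalkMap z))).symm
  haveI : Algebra.Etale R P'.Ring := inferInstance
  haveI : Algebra.Smooth A R := ⟨inferInstance, inferInstance⟩
  haveI : Algebra.Smooth A P'.Ring := Algebra.Smooth.comp A R P'.Ring
  exact ⟨hjz ▸ hflat4, hjz ▸ hred4, P'.Ring, inferInstance, inferInstance, inferInstance, Q.asIdeal, Q.2, hQ,
    ⟨hjz ▸ eQ⟩⟩

/-- Flatness and reducedness at a generic point of a fibre. -/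
theorem flat_and_isReduced_at_generic [IsLocallyNoetherian Y] (ξ : X) (hmax : IsMaxFib f ξ)
    (hred : FBase.IsGeomReducedAt (f.fiberToSpecResidueField (f ξ)) (f.asFiber ξ))
    (hy : _root_.IsReduced (Y.presheaf.stalk (f ξ))) (hopen : EGA43.IsUnivOpenAt f ξ) :
    (f.stalkMap ξ).hom.Flat ∧ _root_.IsReduced (X.presheaf.stalk ξ) := by
  obtain ⟨V, hV, hyV, hAred⟩ := exists_reduced_nhd (f ξ) hy
  have h := smooth_chart_at_generic f ξ hmax hred hopen hV hyV hAred
  exact ⟨h.1, h.2.1⟩

/-- Flatness at a generic point of a fibre. -/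
theorem flat_at_generic [IsLocallyNoetherian Y] (ξ : X) (hmax : IsMaxFib f ξ)
    (hred : FBase.IsGeomReducedAt (f.fiberToSpecResidueField (f ξ)) (f.asFiber ξ))
    (hy : _root_.IsReduced (Y.presheaf.stalk (f ξ))) (hopen : EGA43.IsUnivOpenAt f ξ) :
    (f.stalkMap ξ).hom.Flat :=
  (flat_and_isReduced_at_generic f ξ hmax hred hy hopen).1

end Groth.Agent.FlatUnivOpen4
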