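import Groth.Agent.Lib.FlatGen4
import Groth.Agent.Lib.FlatUnivOpen4
import Groth.Agent.Lib.EGA43Top.FibreStalk
import Groth.Agent.Lib.LocFact12.Basic
import Groth.Agent.Lib.GeomRed18.Scheme

/-!
# Flatness at points of universally open morphisms with geometrically reduced fibres (EGA IV 15.2.2)
-/

universe u

open CategoryTheory AlgebraicGeometry IsLocalRing Topology Groth.Agent.FibDim14 Groth.Agent.DivDesc12

set_option backward.isDefEq.respectTransparency.types false

namespace Groth.Agent.FlatUnivOpen4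

variable {X Y : Scheme.{u}} (f : X ⟶ Y)

theorem σ_flat_of_stalk {z : X} {y : Y} (hz : f z = y) (h : f z ⤳ y) (hflat : (f.stalkMap z).hom.Flat) :
    (σ f z h).Flat := by
  subst hz
  have : σ f z h = (f.stalkMap z).hom := RingHom.ext fun a => by
    show f.stalkMap z (sp h a) = _
    rw [sp_self]
  rwa [this]

theorem σ_eq_stalkMap (x : X) (h : f x ⤳ f x) : σ f x h = (f.stalkMap x).hom := RingHom.ext fun a => by
  show f.stalkMap x (sp h a) = _
  rw [sp_self]

/-- The minimal primes of the fibre ring at `x` come from the maximal points of the fibre generizing `x`. -/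
theorem exists_point_of_minimalPrimes (x : X) (P : Ideal (X.presheaf.stalk x))
    (hP : P ∈ ((maximalIdeal (Y.presheaf.stalk (f x))).map (f.stalkMap x).hom).minimalPrimes) :
    ∃ (z : X) (hzx : z ⤳ x), primeAt hzx = P ∧ f z = f x ∧ IsMaxFib f z := by
  haveI := hP.1.1
  let φ := (f.stalkMap x).hom
  obtain ⟨z, hzx, hzP⟩ := exists_primeAt_eq x P
  -- the generization lies in the fibre
  have hfz : f z = f x := by
    have h1 : (maximalIdeal (Y.presheaf.stalk (f x))).map φ ≤ P := hP.1.2
    have h2 : primeAt (hzx.map f.continuous) = maximalIdeal (Y.presheaf.stalk (f x)) := by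
      refine le_antisymm (le_maximalIdeal (Ideal.IsPrime.ne_top (Ideal.IsPrime.comap _))) fun a ha => ?_
      have h3 : φ a ∈ primeAt hzx := hzP ▸ h1 (Ideal.mem_map_of_mem _ ha)
      rw [mem_primeAt] at h3 ⊢
      intro hu
      refine h3 ?_
      have h4 := σ_sp f hzx (hzx.map f.continuous) specializes_rfl specializes_rfl a
      rw [σ_eq_stalkMap, σ_eq_stalkMap] at h4
      exact h4 ▸ hu.map (f.stalkMap z).hom
    exact eq_of_primeAt_eq specializes_rfl (hzx.map f.continuous) (h2.trans (primeAt_self _ _).symm)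
  have hmax : IsMaxFib f z := by
    intro z' hz' hfz'
    have hle : primeAt (hz'.trans hzx) ≤ primeAt hzx := fun a ha => by
      rw [mem_primeAt] at ha ⊢
      intro hu
      apply ha
      rw [← sp_comp hz' hzx a]
      exact hu.map _
    refine (eq_of_primeAt_eq hzx (hz'.trans hzx) (le_antisymm hle ?_))
    rw [hzP] at hle ⊢
    refine hP.2 ⟨Ideal.IsPrime.comap _, Ideal.map_le_iff_le_comap.2 fun a ha => ?_⟩ hle
    rw [Ideal.mem_comap, mem_primeAt]
    intro hu
    have h4 : sp (hz'.trans hzx) (σ f x specializes_rfl a) = σ f z' (by rw [hfz', hfz]) a := by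
      rw [← σ_sp f (hz'.trans hzx) (specializes_refl (f x)) specializes_rfl (by rw [hfz', hfz]) a, sp_self]
    rw [σ_eq_stalkMap] at h4
    haveI := isLocalHom_σ f (hfz'.trans hfz) (specializes_of_eq (hfz'.trans hfz))
    exact ha (isUnit_of_map_unit (σ f z' _) a (h4 ▸ hu))
  exact ⟨z, hzx, hzP, hfz, hmax⟩

/-- A reduced point of the fibre has a reduced fibre ring. -/
theorem isReduced_quotient [LocallyOfFiniteType f] (x : X)
    (hred : _root_.IsReduced ((f.fiber (f x)).presheaf.stalk (f.asFiber x))) :
    _root_.IsReduced (X.presheaf.stalk x ⧸ (maximalIdeal (Y.presheaf.stalk (f x))).map (f.stalkMap x).hom) := by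
  have key : ∀ w : X, f.fiberι (f x) (f.asFiber x) = w →
      _root_.IsReduced (X.presheaf.stalk w ⧸ (maximalIdeal (Y.presheaf.stalk (f w))).map (f.stalkMap w).hom) := by
    rintro w rfl
    obtain ⟨e, -⟩ := EGA43Top.exists_ringEquiv_fiber_stalk f (f x) (f.asFiber x)
    exact isReduced_of_injective e.toRingHom e.injective
  exact key x (f.fiberι_asFiber x)

/-- At a flat point with reduced fibre, every maximal point generizing it generizes a maximal point of the fibre. -/
theorem exists_maxFib_of_maximal [IsLocallyNoetherian Y] [LocallyOfFiniteType f] (x : X)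
    (hred : _root_.IsReduced ((f.fiber (f x)).presheaf.stalk (f.asFiber x)))
    (hflat : (f.stalkMap x).hom.Flat) {t : X} (ht : t ⤳ x) (hmax : ∀ t', t' ⤳ t → t' = t) :
    ∃ z, t ⤳ z ∧ z ⤳ x ∧ f z = f x ∧ IsMaxFib f z := by
  haveI : IsLocallyNoetherian X := LocallyOfFiniteType.isLocallyNoetherian f
  letI := (f.stalkMap x).hom.toAlgebra
  haveI : IsLocalHom (algebraMap (Y.presheaf.stalk (f x)) (X.presheaf.stalk x)) :=
    inferInstanceAs (IsLocalHom (f.stalkMap x).hom)
  haveI : Module.Flat (Y.presheaf.stalk (f x)) (X.presheaf.stalk x) := hflat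
  haveI : _root_.IsReduced (X.presheaf.stalk x ⧸ (maximalIdeal (Y.presheaf.stalk (f x))).map
      (algebraMap (Y.presheaf.stalk (f x)) (X.presheaf.stalk x))) := isReduced_quotient f x hred
  have hmin : primeAt ht ∈ minimalPrimes (X.presheaf.stalk x) := by
    refine ⟨⟨Ideal.IsPrime.comap _, bot_le⟩, fun Q hQ hQle => ?_⟩
    haveI := hQ.1
    obtain ⟨t', ht'x, rfl⟩ := exists_primeAt_eq x Q
    obtain rfl := hmax t' (specializes_of_primeAt_le ht ht'x hQle)
    exact le_rfl
  obtain ⟨P, hP, hle⟩ := FlatGen4.exists_le_minimalPrimes (A := Y.presheaf.stalk (f x)) _ hmin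
  obtain ⟨z, hzx, hzP, hfz, hzmax⟩ := exists_point_of_minimalPrimes f x P hP
  exact ⟨z, specializes_of_primeAt_le hzx ht (hle.trans hzP.ge), hzx, hfz, hzmax⟩

/-- A flat point with reduced fibre is reduced if the maximal points of the fibre generizing it are. -/
theorem isReduced_stalk_of_flat [IsLocallyNoetherian Y] [LocallyOfFiniteType f] (x : X)
    (hred : _root_.IsReduced ((f.fiber (f x)).presheaf.stalk (f.asFiber x)))
    (hflat : (f.stalkMap x).hom.Flat)
    (h : ∀ z, z ⤳ x → f z = f x → IsMaxFib f z → _root_.IsReduced (X.presheaf.stalk z)) :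
    _root_.IsReduced (X.presheaf.stalk x) := by
  haveI : IsLocallyNoetherian X := LocallyOfFiniteType.isLocallyNoetherian f
  letI := (f.stalkMap x).hom.toAlgebra
  haveI : IsLocalHom (algebraMap (Y.presheaf.stalk (f x)) (X.presheaf.stalk x)) :=
    inferInstanceAs (IsLocalHom (f.stalkMap x).hom)
  haveI : Module.Flat (Y.presheaf.stalk (f x)) (X.presheaf.stalk x) := hflat
  haveI : _root_.IsReduced (X.presheaf.stalk x ⧸ (maximalIdeal (Y.presheaf.stalk (f x))).map
      (algebraMap (Y.presheaf.stalk (f x)) (X.presheaf.stalk x))) := isReduced_quotient f x hred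
  refine FlatGen4.isReduced_of_isReduced_minimalPrimes (A := Y.presheaf.stalk (f x)) fun P _ hP => ?_
  obtain ⟨z, hzx, hzP, hfz, hzmax⟩ := exists_point_of_minimalPrimes f x P hP
  letI := (sp hzx).toAlgebra
  haveI : IsLocalization.AtPrime (X.presheaf.stalk z) P := hzP ▸ LocFact12.isLocalization_sp hzx
  haveI := h z hzx hfz hzmax
  let e := IsLocalization.algEquiv P.primeCompl (Localization.AtPrime P) (X.presheaf.stalk z)
  exact isReduced_of_injective e.toRingHom e.injective

/-- Flatness at a point with reduced fibre follows from flatness at the maximal points of the fibre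
generizing it. -/
theorem flat_stalkMap_of_maxFib [IsLocallyNoetherian Y] [LocallyOfFiniteType f] (x : X)
    (hred : _root_.IsReduced ((f.fiber (f x)).presheaf.stalk (f.asFiber x)))
    (h : ∀ z, z ⤳ x → f z = f x → IsMaxFib f z → (f.stalkMap z).hom.Flat) :
    (f.stalkMap x).hom.Flat := by
  haveI : IsLocallyNoetherian X := LocallyOfFiniteType.isLocallyNoetherian f
  let φ := (f.stalkMap x).hom
  letI := φ.toAlgebra
  haveI : IsLocalHom (algebraMap (Y.presheaf.stalk (f x)) (X.presheaf.stalk x)) :=
    inferInstanceAs (IsLocalHom φ)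
  haveI : _root_.IsReduced (X.presheaf.stalk x ⧸ (maximalIdeal (Y.presheaf.stalk (f x))).map
      (algebraMap (Y.presheaf.stalk (f x)) (X.presheaf.stalk x))) := by
    have key : ∀ w : X, f.fiberι (f x) (f.asFiber x) = w →
        _root_.IsReduced (X.presheaf.stalk w ⧸ (maximalIdeal (Y.presheaf.stalk (f w))).map (f.stalkMap w).hom) := by
      rintro w rfl
      obtain ⟨e, -⟩ := EGA43Top.exists_ringEquiv_fiber_stalk f (f x) (f.asFiber x)
      exact isReduced_of_injective e.toRingHom e.injective
    exact key x (f.fiberι_asFiber x)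
  show Module.Flat (Y.presheaf.stalk (f x)) (X.presheaf.stalk x)
  refine FlatGen4.flat_of_flat_minimalPrimes fun P _ hP => ?_
  obtain ⟨z, hzx, hzP, hfz, hmax⟩ := exists_point_of_minimalPrimes f x P hP
  -- the localisation is the stalk at the generization
  letI := (sp hzx).toAlgebra
  haveI : IsLocalization.AtPrime (X.presheaf.stalk z) P := hzP ▸ LocFact12.isLocalization_sp hzx
  letI : Algebra (Y.presheaf.stalk (f x)) (X.presheaf.stalk z) := ((sp hzx).comp φ).toAlgebra
  haveI : IsScalarTower (Y.presheaf.stalk (f x)) (X.presheaf.stalk x) (X.presheaf.stalk z) :=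
    IsScalarTower.of_algebraMap_eq fun _ => rfl
  haveI : Module.Flat (Y.presheaf.stalk (f x)) (X.presheaf.stalk z) := by
    have h5 : (sp hzx).comp φ = σ f z (specializes_of_eq hfz) := RingHom.ext fun a => by
      show sp hzx (φ a) = _
      rw [← show σ f x specializes_rfl a = φ a from congrArg (fun q => q a) (σ_eq_stalkMap f x _),
        ← σ_sp f hzx (specializes_refl (f x)) specializes_rfl (specializes_of_eq hfz) a, sp_self]
    have h6 := σ_flat_of_stalk f hfz (specializes_of_eq hfz) (h z hzx hfz hmax)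
    rw [← h5] at h6
    exact h6
  exact Module.Flat.of_linearEquiv
    ((IsLocalization.algEquiv P.primeCompl (Localization.AtPrime P) (X.presheaf.stalk z)).toLinearEquiv.restrictScalars
      (Y.presheaf.stalk (f x)))

theorem isGeomReducedAt_of_specializes [LocallyOfFiniteType f] {x z : X} (hz : z ⤳ x) (hfz : f z = f x)
    (hred : FBase.IsGeomReducedAt (f.fiberToSpecResidueField (f x)) (f.asFiber x)) :
    FBase.IsGeomReducedAt (f.fiberToSpecResidueField (f z)) (f.asFiber z) := by
  have key : ∀ y, y = f x → ∀ w : f.fiber y, f.fiberι y w = z →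
      FBase.IsGeomReducedAt (f.fiberToSpecResidueField y) w := by
    rintro _ rfl w hw
    refine GeomRedRes4.isGeomReducedAt_of_specializes f ?_ hred
    rw [← (f.fiberι (f x)).isEmbedding.isInducing.specializes_iff, hw, f.fiberι_asFiber]
    exact hz
  exact key _ hfz _ (f.fiberι_asFiber z)

/-- EGA IV 15.2.2. -/
theorem flat_stalkMap [IsLocallyNoetherian Y] [LocallyOfFiniteType f] (x : X)
    (hopen : ∀ z, z ⤳ x → f z = f x → IsMaxFib f z → EGA43.IsUnivOpenAt f z)
    (hred : FBase.IsGeomReducedAt (f.fiberToSpecResidueField (f x)) (f.asFiber x))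
    (hy : _root_.IsReduced (Y.presheaf.stalk (f x))) : (f.stalkMap x).hom.Flat := by
  refine flat_stalkMap_of_maxFib f x (GeomRedRes4.isReduced_stalk f hred) fun z hz hfz hmax => ?_
  refine flat_at_generic f z hmax ?_ (hfz ▸ hy) (hopen z hz hfz hmax)
  exact isGeomReducedAt_of_specializes f hz hfz hred

/-- EGA IV 15.2.2, reducedness. -/
theorem isReduced_stalk_of_geomReduced [IsLocallyNoetherian Y] [LocallyOfFiniteType f] (x : X)
    (hopen : ∀ z, z ⤳ x → f z = f x → IsMaxFib f z → EGA43.IsUnivOpenAt f z)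
    (hred : FBase.IsGeomReducedAt (f.fiberToSpecResidueField (f x)) (f.asFiber x))
    (hy : _root_.IsReduced (Y.presheaf.stalk (f x))) : _root_.IsReduced (X.presheaf.stalk x) :=
  isReduced_stalk_of_flat f x (GeomRedRes4.isReduced_stalk f hred) (flat_stalkMap f x hopen hred hy)
    fun z hz hfz hmax => (flat_and_isReduced_at_generic f z hmax
      (isGeomReducedAt_of_specializes f hz hfz hred) (hfz ▸ hy) (hopen z hz hfz hmax)).2

theorem isGeomReducedAt_of_isPullback {k k' : Type u} [Field k] [Field k'] (φ : k →+* k') {F F' : Scheme.{u}}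
    {g : F ⟶ Spec (CommRingCat.of k)} {g' : F' ⟶ Spec (CommRingCat.of k')} {pr : F' ⟶ F}
    (sq : IsPullback pr g' g (Spec.map (CommRingCat.ofHom φ))) (w : F')
    (hw : FBase.IsGeomReducedAt g (pr w)) : FBase.IsGeomReducedAt g' w := by
  intro K _ _ z hz
  letI : Algebra k K := ((algebraMap k' K).comp φ).toAlgebra
  have hpb : IsPullback (FBase.bcπ g' K) (FBase.bcStr g' K) g'
      (Spec.map (CommRingCat.ofHom (algebraMap k' K))) := IsPullback.of_hasPullback _ _
  have hbig := hpb.paste_horiz sq
  rw [← Spec.map_comp, ← CommRingCat.ofHom_comp] at hbig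
  let e := hbig.isoPullback
  refine (GeomRed.isReduced_stalk_congr e.hom z).1 (hw K (e.hom z) ?_)
  refine (congrArg (fun ψ => ψ z) hbig.isoPullback_hom_fst).trans ?_
  rw [Scheme.Hom.comp_apply, hz]

/-- Geometric reducedness of fibres is stable under base change. -/
theorem isGeomReducedAt_baseChange {X' Y' : Scheme.{u}} {p : X' ⟶ X} {f' : X' ⟶ Y'} {h : Y' ⟶ Y}
    (hsq : IsPullback p f' f h) (x' : X')
    (hred : FBase.IsGeomReducedAt (f.fiberToSpecResidueField (f (p x'))) (f.asFiber (p x'))) :
    FBase.IsGeomReducedAt (f'.fiberToSpecResidueField (f' x')) (f'.asFiber x') := by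
  obtain ⟨pr, hpr, sq⟩ := exists_fibre_square hsq (f' x')
  have key : ∀ y, y = f (p x') → ∀ w : f.fiber y, f.fiberι y w = p x' →
      FBase.IsGeomReducedAt (f.fiberToSpecResidueField y) w := by
    rintro _ rfl w hw
    rwa [(f.fiberι (f (p x'))).isEmbedding.injective (hw.trans (f.fiberι_asFiber _).symm)]
  have h1 := key (h (f' x')) (by rw [← Scheme.Hom.comp_apply, ← hsq.w, Scheme.Hom.comp_apply])
    (pr (f'.asFiber x')) (by rw [hpr, f'.fiberι_asFiber])
  exact isGeomReducedAt_of_isPullback (resExt h (f' x')).hom sq _ h1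

/-- The hypothesis on the maximal points of the fibre, in terms of the fibre. -/
theorem forall_of_fiber {x : X} (P : X → Prop) [LocallyOfFiniteType f]
    (h : ∀ z : ↥(f.fiber (f x)), f.asFiber x ∈ closure {z} →
      (∀ z' : ↥(f.fiber (f x)), z ∈ closure {z'} → z' = z) → P (f.fiberι (f x) z)) :
    ∀ z, z ⤳ x → f z = f x → IsMaxFib f z → P z := by
  intro z hzx hfz hmax
  obtain ⟨w, rfl⟩ : z ∈ Set.range (f.fiberι (f x)) := (f.range_fiberι (f x)).ge hfz
  refine h w ?_ fun w' hw' => ?_
  · rw [← specializes_iff_mem_closure, ← (f.fiberι (f x)).isEmbedding.isInducing.specializes_iff,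
      f.fiberι_asFiber]
    exact hzx
  · exact (isMaxFib_fiberι f (f x) w).1 hmax w' (specializes_iff_mem_closure.2 hw')

end Groth.Agent.FlatUnivOpen4
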