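import Groth.Agent.Lib.FibGenSch4
import Groth.Agent.Lib.FibGenApp4
import Groth.Agent.S4447
import Groth.Agent.Lib.FibDim14.BaseChange
import Mathlib.RingTheory.Valuation.ValuationRing

/-!
# Fibre dimensions over valuation rings
-/

universe u

open CategoryTheory AlgebraicGeometry Topology TopologicalSpace Limits Groth.Agent.FibDim14

set_option backward.isDefEq.respectTransparency.types false

namespace Groth.Agent.FibGen4

/-- Over a valuation ring a polynomial map which reaches the generic point of the special fibre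
is injective. -/
theorem comap_aeval_eq_bot {V B : Type u} [CommRing V] [IsDomain V] [ValuationRing V] [CommRing B]
    [Algebra V B] {n : ℕ} (b : Fin n → B) (P Q : Ideal B) [P.IsPrime] [Q.IsPrime] (hQP : Q ≤ P)
    (hQ : Q.under V = ⊥)
    (hP : P.comap (MvPolynomial.aeval (R := V) b).toRingHom = (P.under V).map MvPolynomial.C) :
    Q.comap (MvPolynomial.aeval (R := V) b).toRingHom = ⊥ := by
  classical
  refine le_bot_iff.1 fun g hg => ?_
  rw [Ideal.mem_bot]
  by_contra hg0
  have key : ∀ s : Finset (Fin n →₀ ℕ), s.Nonempty →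
      ∃ i ∈ s, ∀ j ∈ s, g.coeff i ∣ g.coeff j := by
    intro s hs
    induction hs using Finset.Nonempty.cons_induction with
    | singleton a => exact ⟨a, Finset.mem_singleton_self a, fun j hj => by rw [Finset.mem_singleton.1 hj]⟩
    | cons a s ha hs ih =>
      obtain ⟨i, hi, h⟩ := ih
      rcases ValuationRing.dvd_total (g.coeff i) (g.coeff a) with hd | hd
      · exact ⟨i, Finset.mem_cons_of_mem hi, fun j hj => by
          rcases Finset.mem_cons.1 hj with rfl | hj'
          · exact hd
          · exact h j hj'⟩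
      · exact ⟨a, Finset.mem_cons_self _ _, fun j hj => by
          rcases Finset.mem_cons.1 hj with rfl | hj'
          · exact dvd_rfl
          · exact hd.trans (h j hj')⟩
  obtain ⟨i, hi, hdvd⟩ := key g.support (MvPolynomial.support_nonempty.2 hg0)
  have hC : MvPolynomial.C (g.coeff i) ∣ g := (MvPolynomial.C_dvd_iff_dvd_coeff _ _).2 fun j => by
    by_cases hj : j ∈ g.support
    · exact hdvd j hj
    · rw [MvPolynomial.notMem_support_iff.1 hj]; exact dvd_zero _
  obtain ⟨g₀, hg₀⟩ := hC
  have hc : g.coeff i ≠ 0 := MvPolynomial.mem_support_iff.1 hi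
  have hone : g₀.coeff i = 1 := by
    have := congrArg (fun p => MvPolynomial.coeff i p) hg₀
    simp only [MvPolynomial.coeff_C_mul] at this
    exact (mul_eq_left₀ hc).1 this.symm
  rw [Ideal.mem_comap, hg₀, map_mul] at hg
  rcases Ideal.IsPrime.mem_or_mem ‹Q.IsPrime› hg with h | h
  · refine hc ?_
    have : g.coeff i ∈ Q.under V := by
      rw [Ideal.mem_comap]
      simpa using h
    rw [hQ] at this
    exact this
  · have h1 : g₀ ∈ P.comap (MvPolynomial.aeval (R := V) b).toRingHom := hQP h
    rw [hP, MvPolynomial.mem_map_C_iff] at h1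
    exact (Ideal.IsPrime.ne_top' (I := P.under V)) ((Ideal.eq_top_iff_one _).2 (hone ▸ h1 i))

theorem rd_comp_openImmersion {X Y Z : Scheme.{u}} (i : X ⟶ Y) [IsOpenImmersion i] (f : Y ⟶ Z)
    [LocallyOfFiniteType f] (x : X) : rd (i ≫ f) x = rd f (i x) := by
  rw [rd_comp, rd_of_surjectiveOnStalks i, add_zero]

/-- Over a valuation ring the dimension of the special fibre at a generic point is at most the
residual degree at any generization over the generic point. -/
theorem fibreDimAt_le_rd_of_valuationRing {V : Type u} [CommRing V] [IsDomain V] [ValuationRing V]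
    {X : Scheme.{u}} (f : X ⟶ Spec (CommRingCat.of V)) [LocallyOfFiniteType f] {x η : X}
    (hx : IsMaxFib f x) (h : η ⤳ x)
    (hη : (f η : PrimeSpectrum V).asIdeal = ⊥) :
    FlatMor.fibreDimAt f x ≤ (rd f η : WithBot ℕ∞) := by
  obtain ⟨U, hU, hxU, -⟩ := exists_isAffineOpen_mem_and_subset (U := (⊤ : X.Opens)) (x := x) trivial
  have hηU : η ∈ U := h.mem_open U.2 hxU
  let φ := Spec.preimage (hU.fromSpec ≫ f)
  have hφf : Spec.map φ = hU.fromSpec ≫ f := Spec.map_preimage _
  haveI : LocallyOfFiniteType (Spec.map φ) := hφf ▸ inferInstance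
  have hφ : φ.hom.FiniteType := (HasRingHomProperty.Spec_iff (P := @LocallyOfFiniteType)).1 inferInstance
  let B := Γ(X, U)
  letI : Algebra V B := φ.hom.toAlgebra
  haveI : Algebra.FiniteType V B := hφ
  let P : Spec B := hU.primeIdealOf ⟨x, hxU⟩
  let Q : Spec B := hU.primeIdealOf ⟨η, hηU⟩
  have hP : hU.fromSpec P = x := hU.fromSpec_primeIdealOf ⟨x, hxU⟩
  have hQ : hU.fromSpec Q = η := hU.fromSpec_primeIdealOf ⟨η, hηU⟩
  have hlift : ∀ t, f (hU.fromSpec t) = Spec.map φ t := fun t => by
    rw [hφf, Scheme.Hom.comp_apply]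
  haveI : P.asIdeal.IsPrime := P.2
  haveI : Q.asIdeal.IsPrime := Q.2
  have hQP : Q.asIdeal ≤ P.asIdeal := by
    refine (PrimeSpectrum.le_iff_specializes Q P).2 ?_
    refine hU.fromSpec.isEmbedding.isInducing.specializes_iff.1 ?_
    rw [hP, hQ]
    exact h
  have hQ0 : Q.asIdeal.under V = ⊥ := by
    have := hlift Q
    rw [hQ] at this
    rw [this] at hη
    exact hη
  obtain ⟨n, b, hqf, hbP⟩ := QFChart4.exists_qf_chart (R := V) P.asIdeal fun Q' hQ' hQA hQ'P => by
    let q : Spec B := ⟨Q', hQ'⟩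
    have h1 : hU.fromSpec q ⤳ x :=
      hP ▸ ((PrimeSpectrum.le_iff_specializes q P).1 hQ'P).map hU.fromSpec.continuous
    have h2 : f (hU.fromSpec q) = f x := by
      rw [← hP, hlift, hlift]
      exact PrimeSpectrum.ext hQA
    exact congrArg PrimeSpectrum.asIdeal (hU.fromSpec.isOpenEmbedding.injective ((hx _ h1 h2).trans hP.symm))
  let C := CommRingCat.of (MvPolynomial (Fin n) V)
  let ψ : C ⟶ B := CommRingCat.ofHom (MvPolynomial.aeval (R := V) b).toRingHom
  let a : Spec B ⟶ Spec C := Spec.map ψ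
  let π : Spec C ⟶ Spec (CommRingCat.of V) := Spec.map (CommRingCat.ofHom (algebraMap V (MvPolynomial (Fin n) V)))
  have haπ : a ≫ π = hU.fromSpec ≫ f := by
    rw [← hφf, ← Spec.map_comp]
    exact congrArg Spec.map (CommRingCat.hom_ext (RingHom.ext fun t => (MvPolynomial.aeval b).commutes t))
  haveI : LocallyOfFiniteType π := (HasRingHomProperty.Spec_iff (P := @LocallyOfFiniteType)).2
    (RingHom.finiteType_algebraMap.2 inferInstance)
  letI : Algebra (MvPolynomial (Fin n) V) B := (MvPolynomial.aeval (R := V) b).toRingHom.toAlgebra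
  haveI : IsScalarTower V (MvPolynomial (Fin n) V) B :=
    IsScalarTower.of_algebraMap_eq fun r => ((MvPolynomial.aeval (R := V) b).commutes r).symm
  have hψ : ψ.hom.FiniteType :=
    (Algebra.FiniteType.of_restrictScalars_finiteType V (MvPolynomial (Fin n) V) B)
  haveI : LocallyOfFiniteType a := (HasRingHomProperty.Spec_iff (P := @LocallyOfFiniteType)).2 hψ
  have h0 : FlatMor.fibreDimAt a P = 0 :=
    (fibreDimAt_eq_zero_iff a P).2 (quasiFiniteAt_SpecMap ψ hψ P hqf)
  have hrdP : rd a P = 0 := by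
    have := rd_le_fibreDimAt a (specializes_rfl (x := P)) rfl
    rw [h0] at this
    exact Nat.le_zero.1 (by exact_mod_cast this)
  have hQbot : (a Q).asIdeal = ⊥ := comap_aeval_eq_bot b P.asIdeal Q.asIdeal hQP hQ0 hbP
  have hmax : IsMaxFib π (a Q) := fun y hy _ => by
    refine PrimeSpectrum.ext ?_
    have := (PrimeSpectrum.le_iff_specializes y (a Q)).2 hy
    rw [← PrimeSpectrum.asIdeal_le_asIdeal, hQbot, le_bot_iff] at this
    rw [this, hQbot]
  have hπ : rd π (a Q) = n := by
    have := fibreDimAt_eq_rd_of_isMaxFib π hmax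
    rw [fibreDimAt_affineSpace] at this
    exact_mod_cast this.symm
  have hP' : rd π (a P) ≤ n := by
    have := rd_le_fibreDimAt π (specializes_rfl (x := a P)) rfl
    rw [fibreDimAt_affineSpace] at this
    exact_mod_cast this
  rw [fibreDimAt_eq_rd_of_isMaxFib f hx]
  have e : ∀ t, rd f (hU.fromSpec t) = rd π (a t) + rd a t := fun t => by
    rw [← rd_comp_openImmersion hU.fromSpec f t]
    simp only [← haπ]
    exact rd_comp a π t
  have e1 : rd f x = rd π (a P) + rd a P := hP ▸ e P
  have e2 : rd f η = rd π (a Q) + rd a Q := hQ ▸ e Q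
  exact_mod_cast (by omega : rd f x ≤ rd f η)

/-- Over a valuation ring: residual degree, fibre dimensions at a generic point of the special
fibre and at a generization in the generic fibre all agree. -/
theorem fibreDimAt_eq_of_valuationRing {V : Type u} [CommRing V] [IsDomain V] [ValuationRing V]
    {X : Scheme.{u}} (f : X ⟶ Spec (CommRingCat.of V)) [LocallyOfFiniteType f] {x η : X}
    (hx : IsMaxFib f x) (h : η ⤳ x)
    (hη : (f η : PrimeSpectrum V).asIdeal = ⊥) :
    FlatMor.fibreDimAt f x = (rd f η : WithBot ℕ∞) ∧ FlatMor.fibreDimAt f η = (rd f η : WithBot ℕ∞) := by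
  have h1 := fibreDimAt_le_rd_of_valuationRing f hx h hη
  have h2 : (rd f η : WithBot ℕ∞) ≤ FlatMor.fibreDimAt f η := rd_le_fibreDimAt f specializes_rfl rfl
  have h3 : FlatMor.fibreDimAt f η ≤ FlatMor.fibreDimAt f x := by
    have := (isOpen_fibreDimAt_le f (rd f x))
    rw [fibreDimAt_eq_rd_of_isMaxFib f hx]
    exact h.mem_open this (fibreDimAt_eq_rd_of_isMaxFib f hx).le
  exact ⟨le_antisymm h1 (h2.trans h3), le_antisymm (h3.trans h1) h2⟩

/-- For a flat morphism the fibre dimension does not drop under generization of the base point. -/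
theorem exists_fibreDimAt_le {X S : Scheme.{u}} (f : X ⟶ S) [Flat f] [LocallyOfFiniteType f] (x : X)
    {s' : S} (hs : s' ⤳ f x) :
    ∃ x', f x' = s' ∧ FlatMor.fibreDimAt f x ≤ FlatMor.fibreDimAt f x' := by
  by_cases hne : f x = s'
  · exact ⟨x, hne, le_rfl⟩
  obtain ⟨A, h, -, hcl, hgen⟩ := S4447.result (𝟙 S) s' (f x) (by simpa using hs) (by simpa using hne)
  let g := pullback.snd f h
  have sq : IsPullback (pullback.fst f h) g f h := IsPullback.of_hasPullback f h
  obtain ⟨xA, hxA, hgA, -⟩ := exists_over_rd_eq sq x (IsLocalRing.closedPoint A) hcl.symm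
  obtain ⟨x₁, hx₁, he₁, hmax, hd₁⟩ := exists_isMaxFib g xA
  let γ : Spec (CommRingCat.of A) := ⟨⊥, Ideal.isPrime_bot⟩
  have hγ : h γ = s' := by
    have h1 := congrArg (fun k => k (IsLocalRing.closedPoint (S.residueField s'))) hgen
    simp only [Category.comp_id, Scheme.Hom.comp_apply, Scheme.fromSpecResidueField_apply] at h1
    refine (congrArg h (PrimeSpectrum.ext ?_)).trans (h1.trans (Scheme.fromSpecResidueField_apply _ _))
    symm
    refine le_bot_iff.1 fun a ha => Ideal.mem_bot.2 ?_
    have : (A.subtype a) ∈ IsLocalRing.maximalIdeal (S.residueField s') := ha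
    rw [IsLocalRing.maximalIdeal_eq_bot, Ideal.mem_bot] at this
    exact Subtype.ext this
  have hγ1 : γ ⤳ g x₁ := (PrimeSpectrum.le_iff_specializes γ _).1 bot_le
  obtain ⟨η, hη, hgη⟩ := Flat.generalizingMap g hγ1
  refine ⟨pullback.fst f h η, ?_, ?_⟩
  · rw [← Scheme.Hom.comp_apply, sq.w, Scheme.Hom.comp_apply, hgη, hγ]
  · obtain ⟨e1, e2⟩ := fibreDimAt_eq_of_valuationRing g hmax hη (congrArg PrimeSpectrum.asIdeal hgη)
    rw [← hxA, ← fibreDimAt_baseChange sq, ← hd₁, e1, ← e2, fibreDimAt_baseChange sq]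

end Groth.Agent.FibGen4
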