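import Groth.Agent.Lib.SectionCompBC4
import Groth.Agent.Lib.EGA43Top.OpenCriterion
import Groth.Agent.Lib.DVRVal.Basic
import Groth.Agent.Lib.ValSq12.Basic
import Groth.Agent.Lib.FibVal4
import Groth.Agent.Lib.DivDesc12.Fibre

/-!
# Local constancy of the dimension of a geometrically irreducible section component (EGA IV 15.6.7)
-/

universe u

open CategoryTheory Limits AlgebraicGeometry Topology TopologicalSpace IsLocalRing Groth.Agent.FibDim14

set_option backward.isDefEq.respectTransparency.types false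

namespace Groth.Agent.SectionComp4

/-- A discrete valuation ring dominating a Noetherian local ring of a scheme at a generization. -/
theorem exists_dvr_to {Y : Scheme.{u}} {y' y : Y} (hsp : y' ⤳ y) (hne : y ≠ y')
    [IsNoetherianRing (Y.presheaf.stalk y)] :
    ∃ (A : ValuationSubring (Y.residueField y')) (m : Spec (CommRingCat.of A) ⟶ Y),
      IsDiscreteValuationRing A ∧ m (closedPoint A) = y ∧
      Spec.map (CommRingCat.ofHom A.subtype) ≫ m = Y.fromSpecResidueField y' := by
  let φ : Y.presheaf.stalk y ⟶ Y.residueField y' := Y.presheaf.stalkSpecializes hsp ≫ Y.residue y'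
  have hw : Spec.map φ ≫ Y.fromSpecStalk y = Y.fromSpecResidueField y' := by
    rw [Scheme.fromSpecResidueField, ← Scheme.SpecMap_stalkSpecializes_fromSpecStalk hsp]
    simp_rw [← Spec.map_comp_assoc]
    rfl
  have hess : φ.hom.EssFiniteType :=
    (DVRVal.essFiniteType_stalkSpecializes hsp).comp
      (RingHom.FiniteType.of_surjective _ (Y.residue_surjective y')).essFiniteType
  have hker : RingHom.ker φ.hom ≠ maximalIdeal (Y.presheaf.stalk y) := by
    intro h
    apply hne
    have h1 : (Spec.map φ) (closedPoint (Y.residueField y')) = closedPoint (Y.presheaf.stalk y) := by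
      apply PrimeSpectrum.ext
      change (maximalIdeal (Y.residueField y')).comap φ.hom = _
      rw [isField_iff_maximalIdeal_eq.mp (Field.toIsField _)]
      exact h
    have h2 := congrArg (fun g : Spec (Y.residueField y') ⟶ Y => g (closedPoint _)) hw
    change Y.fromSpecStalk y ((Spec.map φ) (closedPoint _)) = Y.fromSpecResidueField y' _ at h2
    rw [h1] at h2
    exact Y.fromSpecStalk_closedPoint.symm.trans (h2.trans (Scheme.fromSpecResidueField_apply _ _))
  obtain ⟨A, hA, hmem, hlt⟩ := DVRVal.exists_dvr _ _ φ.hom hess hker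
  let ψ : Y.presheaf.stalk y ⟶ CommRingCat.of A := CommRingCat.ofHom (φ.hom.codRestrict A.toSubring hmem)
  haveI : IsLocalHom ψ.hom := ⟨fun a ha => by
    by_contra hna
    have h1 := (A.valuation_eq_one_iff (⟨φ.hom a, hmem a⟩ : A)).mp ha
    exact (hlt a hna).ne h1⟩
  refine ⟨A, Spec.map ψ ≫ Y.fromSpecStalk y, hA, ?_, ?_⟩
  · change Y.fromSpecStalk y ((Spec.map ψ) (closedPoint A)) = y
    have : Spec.map ψ (closedPoint A) = closedPoint (Y.presheaf.stalk y) := comap_closedPoint ψ.hom
    exact (congrArg (Y.fromSpecStalk y) this).trans Y.fromSpecStalk_closedPoint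
  · rw [← Category.assoc, ← Spec.map_comp, ← hw]
    rfl

/-- The generic point of a valuation ring goes to the given point. -/
theorem gen_apply {Y : Scheme.{u}} {y' : Y} (A : ValuationSubring (Y.residueField y'))
    (m : Spec (CommRingCat.of A) ⟶ Y)
    (hm : Spec.map (CommRingCat.ofHom A.subtype) ≫ m = Y.fromSpecResidueField y') :
    m (⟨⊥, Ideal.isPrime_bot⟩ : PrimeSpectrum A) = y' := by
  have h1 := congrArg (fun k => k (closedPoint (Y.residueField y'))) hm
  simp only [Scheme.Hom.comp_apply, Scheme.fromSpecResidueField_apply] at h1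
  refine (congrArg m (PrimeSpectrum.ext ?_)).trans (h1.trans (Scheme.fromSpecResidueField_apply _ _))
  symm
  refine le_bot_iff.1 fun a ha => Ideal.mem_bot.2 ?_
  have : (A.subtype a) ∈ maximalIdeal (Y.residueField y') := ha
  rw [maximalIdeal_eq_bot, Ideal.mem_bot] at this
  exact Subtype.ext this

theorem maximalIdeal_stalk_spec (R : CommRingCat.{u}) (p : PrimeSpectrum R) :
    maximalIdeal ((Spec R).presheaf.stalk p) = p.asIdeal.map (StructureSheaf.toStalk R p).hom := by
  haveI : IsLocalRing ((Spec.structureSheaf R).presheaf.stalk p) :=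
    inferInstanceAs (IsLocalRing ((Spec R).presheaf.stalk p))
  exact (IsLocalization.AtPrime.map_eq_maximalIdeal p.asIdeal
    ((Spec.structureSheaf R).presheaf.stalk p)).symm

theorem preimage_fromSpecStalk {R : CommRingCat.{u}} {P : Scheme.{u}} (f' : P ⟶ Spec R) (x : P) :
    Spec.preimage (P.fromSpecStalk x ≫ f') = StructureSheaf.toStalk R (f' x) ≫ f'.stalkMap x := by
  apply Spec.map_injective
  rw [Spec.map_preimage, ← Scheme.SpecMap_stalkMap_fromSpecStalk, Spec.fromSpecStalk_eq']
  exact (Spec.map_comp _ _).symm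

theorem map_maximalIdeal_spec {R : CommRingCat.{u}} {P : Scheme.{u}} (f' : P ⟶ Spec R) (x : P) (a : R)
    (h : (f' x : PrimeSpectrum R).asIdeal = Ideal.span {a}) :
    (maximalIdeal ((Spec R).presheaf.stalk (f' x))).map (f'.stalkMap x).hom =
      Ideal.span {(Spec.preimage (P.fromSpecStalk x ≫ f')).hom a} := by
  rw [maximalIdeal_stalk_spec, h, preimage_fromSpecStalk]
  erw [Ideal.map_map, Ideal.map_span, Set.image_singleton]
  rfl

variable {X Y : Scheme.{u}} (f : X ⟶ Y) [LocallyOfFiniteType f] (g : Y ⟶ X) (hg : g ≫ f = 𝟙 Y)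

include hg in
/-- Universal openness at the generic point lifts it to the generic fibre over a valuation ring. -/
theorem exists_lift {V : Type u} [CommRing V] [IsDomain V] [ValuationRing V]
    (m : Spec (CommRingCat.of V) ⟶ Y)
    (hgi : ∀ (K : Type u) [Field K] [Algebra (IsLocalRing.ResidueField (Y.presheaf.stalk (m (closedPoint V)))) K],
      IsIrreducible ((FBase.bcπ (f.fiberToSpecResidueField (m (closedPoint V))) K ≫
        f.fiberι (m (closedPoint V))).base ⁻¹'
          (connectedComponentIn (f.base ⁻¹' {m (closedPoint V)}) (g.base (m (closedPoint V))))))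
    (hopen : ∀ ξ ∈ connectedComponentIn (f.base ⁻¹' {m (closedPoint V)}) (g.base (m (closedPoint V))),
      connectedComponentIn (f.base ⁻¹' {m (closedPoint V)}) (g.base (m (closedPoint V))) ⊆ closure {ξ} →
        EGA43.IsUnivOpenAt f ξ) :
    ∃ τ t : ↥(pullback f m), pullback.snd f m τ = closedPoint V ∧
      (∀ a, pullback.snd f m a = closedPoint V →
        pullback.fst f m a ∈
          connectedComponentIn (f.base ⁻¹' {m (closedPoint V)}) (g.base (m (closedPoint V))) → τ ⤳ a) ∧
      t ⤳ τ ∧ pullback.snd f m t = (⟨⊥, Ideal.isPrime_bot⟩ : PrimeSpectrum V) ∧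
      topologicalKrullDim ↥(connectedComponentIn (f.base ⁻¹' {m (closedPoint V)}) (g.base (m (closedPoint V)))) ≤
        (rd f (pullback.fst f m t) : WithBot ℕ∞) := by
  have hsq : IsPullback (pullback.fst f m) (pullback.snd f m) f m := IsPullback.of_hasPullback f m
  obtain ⟨τ, hfτ, hmax, hpτ, hsp, hdim⟩ := exists_gen_bc g hg hsq (closedPoint V) hgi
  have hlift : EGA43Top.LiftsAt (pullback.snd f m) τ := by
    refine EGA43Top.liftsAt_of_isOpenAt (hopen _ hpτ (fun c hc => ?_) _ m τ rfl)
    obtain ⟨a, hpa, hfa, -⟩ := exists_over_rd_eq hsq c (closedPoint V) (apply_of_mem f hc)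
    exact hpa ▸ ((hsp a hfa (hpa.symm ▸ hc)).map (pullback.fst f m).continuous).mem_closure
  obtain ⟨t, ht, hft⟩ := hlift (⟨⊥, Ideal.isPrime_bot⟩ : PrimeSpectrum V)
    (hfτ ▸ (PrimeSpectrum.le_iff_specializes _ _).1 bot_le)
  refine ⟨τ, t, hfτ, hsp, ht, hft, hdim ▸ ?_⟩
  have h1 := (FibGen4.fibreDimAt_eq_of_valuationRing (pullback.snd f m) hmax ht
    (congrArg PrimeSpectrum.asIdeal hft)).1
  rw [FibGen4.fibreDimAt_eq_rd_of_isMaxFib _ hmax] at h1
  rw [h1]
  exact_mod_cast rd_baseChange_le hsq t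

include hg in
/-- Over a discrete valuation ring, with a geometrically reduced special fibre at the section, the
lift of the generic point generizes the section. -/
theorem dim_le_of_dvr {V : Type u} [CommRing V] [IsDomain V] [IsDiscreteValuationRing V]
    (m : Spec (CommRingCat.of V) ⟶ Y)
    (hgi : ∀ (K : Type u) [Field K] [Algebra (IsLocalRing.ResidueField (Y.presheaf.stalk (m (closedPoint V)))) K],
      IsIrreducible ((FBase.bcπ (f.fiberToSpecResidueField (m (closedPoint V))) K ≫
        f.fiberι (m (closedPoint V))).base ⁻¹'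
          (connectedComponentIn (f.base ⁻¹' {m (closedPoint V)}) (g.base (m (closedPoint V))))))
    (hred : ∀ y (z : f.fiber y), f.fiberι y z = g (m (closedPoint V)) →
      FBase.IsGeomReducedAt (f.fiberToSpecResidueField y) z)
    (hopen : ∀ ξ ∈ connectedComponentIn (f.base ⁻¹' {m (closedPoint V)}) (g.base (m (closedPoint V))),
      connectedComponentIn (f.base ⁻¹' {m (closedPoint V)}) (g.base (m (closedPoint V))) ⊆ closure {ξ} →
        EGA43.IsUnivOpenAt f ξ) :
    topologicalKrullDim ↥(connectedComponentIn (f.base ⁻¹' {m (closedPoint V)}) (g.base (m (closedPoint V)))) ≤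
      topologicalKrullDim ↥(connectedComponentIn
        (f.base ⁻¹' {m (⟨⊥, Ideal.isPrime_bot⟩ : PrimeSpectrum V)})
        (g.base (m (⟨⊥, Ideal.isPrime_bot⟩ : PrimeSpectrum V)))) := by
  obtain ⟨τ, t, hfτ, hsp, ht, hft, hdim⟩ := exists_lift f g hg m hgi hopen
  let P := pullback f m
  let p : P ⟶ X := pullback.fst f m
  let f' : P ⟶ Spec (CommRingCat.of V) := pullback.snd f m
  have hsq : IsPullback p f' f m := IsPullback.of_hasPullback f m
  have hfp : ∀ a, f (p a) = m (f' a) := fun a => by
    rw [← Scheme.Hom.comp_apply, hsq.w, Scheme.Hom.comp_apply]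
  let γ : Spec (CommRingCat.of V) := ⟨⊥, Ideal.isPrime_bot⟩
  let o : Spec (CommRingCat.of V) := closedPoint V
  have hmg : (m ≫ g) ≫ f = 𝟙 (Spec (CommRingCat.of V)) ≫ m := by
    rw [Category.assoc, hg, Category.comp_id, Category.id_comp]
  let g' := hsq.lift (m ≫ g) (𝟙 _) hmg
  have hg'1 : ∀ a, p (g' a) = g (m a) := fun a => by
    rw [← Scheme.Hom.comp_apply, hsq.lift_fst, Scheme.Hom.comp_apply]
  have hg'2 : ∀ a, f' (g' a) = a := fun a => by
    rw [← Scheme.Hom.comp_apply, hsq.lift_snd]; rfl
  let x := g' o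
  have hfx : f' x = o := hg'2 o
  have hγo : γ ⤳ o := (PrimeSpectrum.le_iff_specializes _ _).1 bot_le
  have hτo : ∀ a, a ⤳ x → f' a = o → τ ⤳ a := fun a ha hfa => hsp a hfa
    (mem_comp_of_specializes f (mem_comp f g hg _) (hg'1 o ▸ ha.map p.continuous) (by rw [hfp, hfa]))
  have hτx : τ ⤳ x := hτo x specializes_rfl hfx
  suffices key : t ⤳ g' γ by
    refine hdim.trans (rd_le_dim_comp f (mem_comp_of_specializes f (mem_comp f g hg _)
      (hg'1 γ ▸ key.map p.continuous) ?_))
    rw [hfp, show f' t = γ from hft]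
  -- the local ring at the section over the closed point
  haveI : IsLocallyNoetherian P := LocallyOfFiniteType.isLocallyNoetherian f'
  let O := P.presheaf.stalk x
  let φ : CommRingCat.of V ⟶ O := Spec.preimage (P.fromSpecStalk x ≫ f')
  have hφ : ∀ q : Spec O, f' (P.fromSpecStalk x q) = Spec.map φ q := fun q => by
    rw [Spec.map_preimage, Scheme.Hom.comp_apply]
  obtain ⟨π, hπ⟩ := IsDiscreteValuationRing.exists_irreducible V
  have hmax : maximalIdeal V = Ideal.span {π} := hπ.maximalIdeal_eq
  have hfq : ∀ q : Spec O, φ.hom π ∈ (q : PrimeSpectrum O).asIdeal → f' (P.fromSpecStalk x q) = o := by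
    intro q hq
    rw [hφ]
    refine PrimeSpectrum.ext (le_antisymm (le_maximalIdeal (PrimeSpectrum.isPrime _).ne_top) ?_)
    show maximalIdeal V ≤ _
    rw [hmax, Ideal.span_singleton_le_iff_mem]
    exact hq
  obtain ⟨qτ, hqτ⟩ := (Scheme.range_fromSpecStalk (X := P) (x := x)).ge hτx
  obtain ⟨qt, hqt⟩ := (Scheme.range_fromSpecStalk (X := P) (x := x)).ge (ht.trans hτx)
  have hπτ : φ.hom π ∈ (qτ : PrimeSpectrum O).asIdeal := by
    have h1 : Spec.map φ qτ = o := by rw [← hφ, hqτ]; exact hfτ
    have h2 : π ∈ (Spec.map φ qτ : PrimeSpectrum V).asIdeal := by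
      rw [h1]
      show π ∈ maximalIdeal V
      rw [hmax]
      exact Ideal.mem_span_singleton_self π
    exact h2
  have hπt : φ.hom π ∉ (qt : PrimeSpectrum O).asIdeal := fun h => by
    have h1 := hfq qt h
    rw [hqt, show f' t = γ from hft] at h1
    have h2 : (⊥ : Ideal V) = maximalIdeal V := congrArg PrimeSpectrum.asIdeal h1
    exact hπ.ne_zero (Ideal.mem_bot.1 (h2 ▸ hmax ▸ Ideal.mem_span_singleton_self π))
  -- `qτ` is the radical of `(π)`, which is radical as the special fibre is reduced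
  have hqτ' : (qτ : PrimeSpectrum O).asIdeal ≤ Ideal.span {φ.hom π} := by
    have hrad : (Ideal.span {φ.hom π}).radical = Ideal.span {φ.hom π} := by
      let s := f' x
      let z := f'.asFiber x
      have hz : f'.fiberι s z = x := f'.fiberι_asFiber x
      obtain ⟨pr, hpr, sq⟩ := exists_fibre_square hsq s
      letI : Algebra (IsLocalRing.ResidueField (Y.presheaf.stalk (m s))) ↑((Spec (CommRingCat.of V)).residueField s) :=
        (resExt m s).hom.toAlgebra
      let K := ↑((Spec (CommRingCat.of V)).residueField s)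
      have sq' : IsPullback pr (toPt f' s) (f.fiberToSpecResidueField (m s))
          (Spec.map (CommRingCat.ofHom (algebraMap (IsLocalRing.ResidueField (Y.presheaf.stalk (m s))) K))) := sq
      let e : f'.fiber s ≅ FBase.bc (f.fiberToSpecResidueField (m s)) K := sq'.isoPullback
      have he : e.hom ≫ FBase.bcπ (f.fiberToSpecResidueField (m s)) K = pr := sq'.isoPullback_hom_fst
      haveI hr1 : _root_.IsReduced ((FBase.bc (f.fiberToSpecResidueField (m s)) K).presheaf.stalk (e.hom z)) :=
        hred (m s) (pr z) (by rw [hpr, hz, hg'1]) K (e.hom z) (by rw [← he, Scheme.Hom.comp_apply])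
      haveI hr2 : _root_.IsReduced ((f'.fiber s).presheaf.stalk z) :=
        isReduced_of_injective (inv (e.hom.stalkMap z)).hom
          (ConcreteCategory.bijective_of_isIso (inv (e.hom.stalkMap z))).1
      refine le_antisymm (fun b hb => ?_) Ideal.le_radical
      obtain ⟨n, hn⟩ := hb
      -- transport to the point `f'.fiberι s z`
      have key : ∀ (w : P) (e : w = x) (b : P.presheaf.stalk w), b ^ n ∈ (maximalIdeal
          ((Spec (CommRingCat.of V)).presheaf.stalk s)).map (DivDesc12.σ f' w (specializes_of_eq (by rw [e]))) →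
          w = f'.fiberι s z → b ∈ (maximalIdeal
          ((Spec (CommRingCat.of V)).presheaf.stalk s)).map (DivDesc12.σ f' w (specializes_of_eq (by rw [e]))) := by
        rintro _ e b hb rfl
        have h0 := (DivDesc12.stalkMap_fiberι_eq_zero_iff f' x (y := s) rfl (specializes_of_eq rfl) z hz _).2 hb
        refine (DivDesc12.stalkMap_fiberι_eq_zero_iff f' x (y := s) rfl (specializes_of_eq rfl) z hz _).1 ?_
        rw [map_pow] at h0
        exact eq_zero_of_pow_eq_zero h0
      have hσ : (maximalIdeal ((Spec (CommRingCat.of V)).presheaf.stalk s)).map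
          (DivDesc12.σ f' x (specializes_of_eq rfl)) = Ideal.span {φ.hom π} := by
        have h1 : DivDesc12.σ f' x (specializes_of_eq rfl) = (f'.stalkMap x).hom := RingHom.ext fun a => by
          show f'.stalkMap x (DivDesc12.sp _ a) = _
          rw [DivDesc12.sp_self]
        rw [h1]
        refine map_maximalIdeal_spec f' x π ?_
        rw [hfx]
        exact hmax
      rw [← hσ] at hn ⊢
      exact key x rfl b hn hz.symm
    rw [← hrad, Ideal.radical_eq_sInf]
    refine le_sInf fun J hJ => ?_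
    haveI := hJ.2
    let qJ : Spec O := ⟨J, hJ.2⟩
    have hJx : P.fromSpecStalk x qJ ⤳ x := (Scheme.range_fromSpecStalk (X := P) (x := x)).le ⟨qJ, rfl⟩
    have h1 := hτo _ hJx (hfq qJ (hJ.1 (Ideal.mem_span_singleton_self _)))
    rw [← hqτ, (P.fromSpecStalk x).isEmbedding.isInducing.specializes_iff] at h1
    exact (PrimeSpectrum.le_iff_specializes (qτ : PrimeSpectrum O) ⟨J, hJ.2⟩).2 h1
  have hbot : (qt : PrimeSpectrum O).asIdeal = ⊥ := by
    have hle : (qt : PrimeSpectrum O).asIdeal ≤ (qτ : PrimeSpectrum O).asIdeal := by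
      refine (PrimeSpectrum.le_iff_specializes (qt : PrimeSpectrum O) (qτ : PrimeSpectrum O)).2 ?_
      have h1 : P.fromSpecStalk x qt ⤳ P.fromSpecStalk x qτ := by rw [hqt, hqτ]; exact ht
      exact (P.fromSpecStalk x).isEmbedding.isInducing.specializes_iff.1 h1
    refine Submodule.eq_bot_of_le_smul_of_le_jacobson_bot (Ideal.span {φ.hom π}) _
      (IsNoetherian.noetherian _) (fun a ha => ?_) ?_
    · obtain ⟨b, rfl⟩ := Ideal.mem_span_singleton'.1 (hqτ' (hle ha))
      rw [mul_comm]
      exact Submodule.smul_mem_smul (Ideal.mem_span_singleton_self _)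
        (((PrimeSpectrum.isPrime (qt : PrimeSpectrum O)).mem_or_mem ha).resolve_right hπt)
    · rw [jacobson_eq_maximalIdeal _ bot_ne_top]
      exact (Ideal.span_singleton_le_iff_mem _).2 (le_maximalIdeal (PrimeSpectrum.isPrime _).ne_top hπτ)
  have hgx : g' γ ⤳ x := hγo.map g'.continuous
  obtain ⟨qg, hqg⟩ := (Scheme.range_fromSpecStalk (X := P) (x := x)).ge hgx
  rw [← hqt, ← hqg]
  exact ((PrimeSpectrum.le_iff_specializes (qt : PrimeSpectrum O) (qg : PrimeSpectrum O)).1
    (show (qt : PrimeSpectrum O).asIdeal ≤ (qg : PrimeSpectrum O).asIdeal by rw [hbot]; exact bot_le)).map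
    (P.fromSpecStalk x).continuous

include hg in
theorem dim_eq_fibreDimAt {y : Y}
    (hgi : ∀ (K : Type u) [Field K] [Algebra (IsLocalRing.ResidueField (Y.presheaf.stalk y)) K],
      IsIrreducible ((FBase.bcπ (f.fiberToSpecResidueField y) K ≫ f.fiberι y).base ⁻¹'
        (connectedComponentIn (f.base ⁻¹' {y}) (g.base y)))) :
    topologicalKrullDim ↥(connectedComponentIn (f.base ⁻¹' {y}) (g.base y)) = FlatMor.fibreDimAt f (g y) := by
  obtain ⟨ξ, -, -, -, -, -, hdim, hloc⟩ := exists_gen_comp f g hg (isIrreducible_of_geom g hg hgi)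
  rw [hdim, hloc]

include hg in
/-- EGA IV 15.6.7. -/
theorem dim_const [LocallyOfFinitePresentation f]
    (hgi : ∀ (y : Y) (K : Type u) [Field K] [Algebra (IsLocalRing.ResidueField (Y.presheaf.stalk y)) K],
      IsIrreducible ((FBase.bcπ (f.fiberToSpecResidueField y) K ≫ f.fiberι y).base ⁻¹'
        (connectedComponentIn (f.base ⁻¹' {y}) (g.base y))))
    (y₀ : Y)
    (hopen : ∀ ξ ∈ connectedComponentIn (f.base ⁻¹' {y₀}) (g.base y₀),
      connectedComponentIn (f.base ⁻¹' {y₀}) (g.base y₀) ⊆ closure {ξ} → EGA43.IsUnivOpenAt f ξ)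
    (hαβ : (FBase.IsGeomReducedAt (f.fiberToSpecResidueField (f.base (g.base y₀))) (f.asFiber (g.base y₀)) ∧
        IsNoetherianRing (Y.presheaf.stalk y₀)) ∨
      (∀ y' : Y, y₀ ∈ closure {y'} → closure {y'} ∈ irreducibleComponents (Y : Type u) →
        topologicalKrullDim ↥(f.fiber y') = topologicalKrullDim ↥(connectedComponentIn (f.base ⁻¹' {y'}) (g.base y')))) :
    ∃ V ∈ nhds y₀, ∀ z ∈ V, topologicalKrullDim ↥(connectedComponentIn (f.base ⁻¹' {z}) (g.base z)) =
      topologicalKrullDim ↥(connectedComponentIn (f.base ⁻¹' {y₀}) (g.base y₀)) := by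
  set d := fun z : Y => topologicalKrullDim ↥(connectedComponentIn (f.base ⁻¹' {z}) (g.base z)) with hd
  have hd' : ∀ z, d z = FlatMor.fibreDimAt f (g z) := fun z => dim_eq_fibreDimAt f g hg (hgi z)
  obtain ⟨ξ₀, -, -, -, -, -, hdim₀, -⟩ := exists_gen_comp f g hg (isIrreducible_of_geom g hg (hgi y₀))
  have hmono : ∀ {a b : Y}, a ⤳ b → d a ≤ d b := by
    intro a b hab
    obtain ⟨ξ, hfξ, hξ, -, -, -, hdim, -⟩ := exists_gen_comp f g hg (isIrreducible_of_geom g hg (hgi a))
    show topologicalKrullDim _ ≤ topologicalKrullDim _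
    rw [hdim]
    exact (key f g hg hab hξ hfξ).1
  -- generizations
  have hgen : ∀ y', y' ⤳ y₀ → (rd f ξ₀ : WithBot ℕ∞) ≤ d y' := by
    intro y' hy'
    rcases hαβ with ⟨hr, hN⟩ | hβ
    · by_cases hne : y₀ = y'
      · subst hne; exact hdim₀.ge
      obtain ⟨A, m, hA, hmo, hm⟩ := exists_dvr_to hy' hne
      have hmγ := gen_apply A m hm
      have h := dim_le_of_dvr f g hg (V := A) m (fun K _ _ => hgi _ K)
        (fun y z hz K _ _ x' hx' => by
          rw [hmo] at hz
          obtain rfl : y = f (g y₀) := by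
            rw [← hz]
            exact ((f.range_fiberι y).le ⟨z, rfl⟩ : f (f.fiberι y z) = y).symm
          obtain rfl : z = f.asFiber (g y₀) :=
            (f.fiberι _).isEmbedding.injective (hz.trans (f.fiberι_asFiber _).symm)
          exact hr K x' hx')
        (fun ξ hξ hξ' => by rw [hmo] at hξ hξ'; exact hopen ξ hξ hξ')
      rw [hmo, hmγ] at h
      exact hdim₀.ge.trans h
    · obtain ⟨η, hη, hηmax⟩ := EquidimAt4.exists_max_specializes y'
      refine le_trans ?_ (hmono hη)
      obtain ⟨A, m, hm, hmo⟩ := ValSq12.exists_square (𝟙 Y) (x := η) (y := y₀) (hη.trans hy')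
      rw [Category.comp_id] at hm
      have hmγ := gen_apply A m hm.symm
      obtain ⟨τ, t, -, -, -, hft, hdim⟩ := exists_lift f g hg (V := A) m (fun K _ _ => hgi _ K)
        (fun ξ hξ hξ' => by rw [hmo] at hξ hξ'; exact hopen ξ hξ hξ')
      rw [hmo] at hdim
      refine hdim₀.ge.trans (hdim.trans ?_)
      show _ ≤ topologicalKrullDim _
      rw [← hβ η (hη.trans hy').mem_closure
        ((VarDim.maximal_iff_mem_irreducibleComponents (X := Y) η).1 hηmax)]
      refine (rd_le_fibreDimAt f specializes_rfl rfl).trans ((FibGen4.dim_fiber_le_iff f η _).1 le_rfl _ ?_)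
      rw [← Scheme.Hom.comp_apply, pullback.condition, Scheme.Hom.comp_apply, hft, hmγ]
  -- upper bound
  have hup : {z : Y | d z ≤ (rd f ξ₀ : WithBot ℕ∞)} ∈ 𝓝 y₀ := by
    simp only [hd']
    exact ((isOpen_fibreDimAt_le f _).preimage g.continuous).mem_nhds ((hd' y₀).symm.trans hdim₀).le
  -- lower bound, constructibility
  have hlow : {z : Y | (rd f ξ₀ : WithBot ℕ∞) ≤ d z} ∈ 𝓝 y₀ := by
    rcases Nat.eq_zero_or_pos (rd f ξ₀) with h0 | h0
    · refine Filter.univ_mem' fun z => ?_
      obtain ⟨ξ, -, -, -, -, -, hdim, -⟩ := exists_gen_comp f g hg (isIrreducible_of_geom g hg (hgi z))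
      show _ ≤ topologicalKrullDim _
      rw [hdim, h0]
      exact_mod_cast Nat.zero_le _
    obtain ⟨V', hV', hgV', -⟩ := exists_isAffineOpen_mem_and_subset (U := (⊤ : X.Opens)) (x := g y₀) trivial
    obtain ⟨U, hU, hyU, hUV⟩ := exists_isAffineOpen_mem_and_subset (U := g ⁻¹ᵁ V') (x := y₀) hgV'
    haveI : IsAffine (U : Scheme.{u}) := hU
    haveI : IsAffine (V' : Scheme.{u}) := hV'
    let φ := g.resLE V' U hUV
    let W : Set X := {x | FlatMor.fibreDimAt f x ≤ ((rd f ξ₀ - 1 : ℕ) : WithBot ℕ∞)}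
    have hWo : IsOpen W := isOpen_fibreDimAt_le f _
    have hWc : IsCompact (W ∩ (V' : Set X)) :=
      (isRetrocompact_fibreDimAt_le f _) hV'.isCompact V'.2
    have hc : IsLocallyConstructible (φ.base ⁻¹' (V'.ι.base ⁻¹' W))ᶜ := by
      refine IsConstructible.isLocallyConstructible (IsConstructible.compl ?_)
      refine (QuasiCompact.isCompact_preimage (f := φ) _ (hWo.preimage V'.ι.continuous) ?_).isConstructible
        ((hWo.preimage V'.ι.continuous).preimage φ.continuous)
      rw [V'.ι.isEmbedding.isCompact_iff, Set.image_preimage_eq_inter_range, V'.range_ι]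
      exact hWc
    have hφ : ∀ w, g (U.ι w) = V'.ι (φ w) := fun w => by
      rw [← Scheme.Hom.comp_apply, ← Scheme.Hom.comp_apply, Scheme.Hom.resLE_comp_ι]
    have hiff : ∀ w : U, V'.ι (φ w) ∉ W ↔ (rd f ξ₀ : WithBot ℕ∞) ≤ d (U.ι w) := fun w => by
      obtain ⟨ξ, -, -, -, -, -, hdim, hloc⟩ :=
        exists_gen_comp f g hg (isIrreducible_of_geom g hg (hgi (U.ι w)))
      show ¬ FlatMor.fibreDimAt f _ ≤ _ ↔ _ ≤ topologicalKrullDim _
      rw [← hφ, hloc, hdim, Nat.cast_le, Nat.cast_le]
      omega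
    have hn : (φ.base ⁻¹' (V'.ι.base ⁻¹' W))ᶜ ∈ 𝓝 (⟨y₀, hyU⟩ : U) :=
      EGA43Top.mem_nhds_of_generizations hc fun w hw => (hiff w).2 (hgen _ (hw.map U.ι.continuous))
    refine Filter.mem_of_superset (U.ι.isOpenEmbedding.isOpenMap.image_mem_nhds hn) ?_
    rintro _ ⟨w, hw, rfl⟩
    exact (hiff w).1 hw
  exact ⟨_, Filter.inter_mem hup hlow, fun z hz => (le_antisymm hz.1 hz.2).trans hdim₀.symm⟩

end Groth.Agent.SectionComp4
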