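import Groth.Agent.Lib.SectionCompConn4
import Groth.Agent.Lib.DvrConn4
import Groth.Agent.Lib.FlatGenApp4
import Groth.Agent.Lib.SectionCompDim4
import Groth.Agent.Lib.PtSet.Components
import Groth.Agent.Lib.EGA43Top.OpenCriterion
import Groth.Prelude.Def_EGA43
import Groth.Prelude.Def_FDesc

/-!
# The components along a section form a neighbourhood (EGA IV 15.6.4)
-/

universe u

open CategoryTheory CategoryTheory.Limits AlgebraicGeometry Topology TopologicalSpace IsLocalRing

set_option backward.isDefEq.respectTransparency.types false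

namespace Groth.Agent.SectionCompOpen4

open MoreMor (sectionComponents)

variable {X Y : Scheme.{u}}

/-- A locally Noetherian scheme is locally connected. -/
theorem locallyConnectedSpace (X : Scheme.{u}) [IsLocallyNoetherian X] : LocallyConnectedSpace X := by
  refine PtSet.locallyConnectedSpace_of_noetherian_nhds fun x => ?_
  obtain ⟨W, hW, hxW, -⟩ := exists_isAffineOpen_mem_and_subset (X := X) (x := x) (U := ⊤) trivial
  haveI : IsNoetherianRing Γ(X, W) := IsLocallyNoetherian.component_noetherian ⟨W, hW⟩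
  exact ⟨_, W.2.mem_nhds hxW, noetherianSpace_of_isAffineOpen W hW⟩

/-- Fibres of morphisms locally of finite type are locally connected. -/
theorem locallyConnectedSpace_fibre (f : X ⟶ Y) [LocallyOfFiniteType f] (y : Y) :
    LocallyConnectedSpace ↥(f ⁻¹' ({y} : Set Y)) := by
  haveI : LocallyOfFiniteType (f.fiberToSpecResidueField y) := MorphismProperty.pullback_snd _ _ inferInstance
  haveI : IsLocallyNoetherian (f.fiber y) := LocallyOfFiniteType.isLocallyNoetherian (f.fiberToSpecResidueField y)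
  haveI := locallyConnectedSpace (f.fiber y)
  exact (Scheme.Hom.fiberHomeo f y).symm.isOpenEmbedding.locallyConnectedSpace

theorem image_connectedComponentIn {α β : Type*} [TopologicalSpace α] [TopologicalSpace β] {φ : α → β}
    (hφ : IsEmbedding φ) {F : Set α} {x : α} (hx : x ∈ F) :
    φ '' connectedComponentIn F x = connectedComponentIn (φ '' F) (φ x) := by
  refine Set.Subset.antisymm ((isPreconnected_connectedComponentIn.image _ hφ.continuous.continuousOn).subset_connectedComponentIn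
    ⟨x, mem_connectedComponentIn hx, rfl⟩ (Set.image_mono (connectedComponentIn_subset _ _))) ?_
  have hr : connectedComponentIn (φ '' F) (φ x) ⊆ φ '' F := connectedComponentIn_subset _ _
  have he : φ '' (φ ⁻¹' connectedComponentIn (φ '' F) (φ x)) = connectedComponentIn (φ '' F) (φ x) :=
    Set.image_preimage_eq_of_subset (hr.trans (Set.image_subset_range _ _))
  have hp : _root_.IsPreconnected (φ ⁻¹' connectedComponentIn (φ '' F) (φ x)) := by
    rw [← hφ.isInducing.isPreconnected_image, he]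
    exact isPreconnected_connectedComponentIn
  rw [← he]
  refine Set.image_mono (hp.subset_connectedComponentIn (mem_connectedComponentIn ⟨x, hx, rfl⟩) ?_)
  intro a ha
  obtain ⟨a', ha', e⟩ := hr ha
  exact hφ.injective e ▸ ha'

/-- Components of fibres inside an open are cut out by opens. -/
theorem exists_open_comp (f : X ⟶ Y) [LocallyOfFiniteType f] (U : X.Opens) (y : Y) (x : X) :
    ∃ O : Set X, IsOpen O ∧ O ⊆ (U : Set X) ∧
      connectedComponentIn (f ⁻¹' {y} ∩ (U : Set X)) x = O ∩ f ⁻¹' {y} := by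
  by_cases hx : x ∈ f ⁻¹' {y} ∩ (U : Set X)
  · haveI := locallyConnectedSpace_fibre f y
    let T : Set ↥(f ⁻¹' ({y} : Set Y)) := Subtype.val ⁻¹' (U : Set X)
    have hTo : IsOpen T := U.2.preimage continuous_subtype_val
    have ho := hTo.connectedComponentIn (x := ⟨x, hx.1⟩)
    obtain ⟨O, hO, hOeq⟩ := isOpen_induced_iff.1 ho
    have himg : Subtype.val '' connectedComponentIn T ⟨x, hx.1⟩ = connectedComponentIn (f ⁻¹' {y} ∩ (U : Set X)) x := by
      rw [image_connectedComponentIn IsEmbedding.subtypeVal (show (⟨x, hx.1⟩ : ↥(f ⁻¹' ({y} : Set Y))) ∈ T from hx.2),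
        Subtype.image_preimage_coe]
    refine ⟨O ∩ U, hO.inter U.2, Set.inter_subset_right, ?_⟩
    rw [← himg, ← hOeq]
    ext z
    constructor
    · rintro ⟨a, ha, rfl⟩
      exact ⟨⟨ha, (connectedComponentIn_subset T _ (hOeq.le ha) : a ∈ T)⟩, a.2⟩
    · rintro ⟨⟨hzO, -⟩, hz⟩
      exact ⟨⟨z, hz⟩, hzO, rfl⟩
  · exact ⟨∅, isOpen_empty, Set.empty_subset _, by rw [connectedComponentIn_eq_empty hx, Set.empty_inter]⟩

variable [IsLocallyNoetherian Y] (f : X ⟶ Y) [LocallyOfFiniteType f]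

/-- Generizations of points of a good component are again in the components along the section. -/
theorem mem_of_specializes {g : Y ⟶ X} (hg : g ≫ f = 𝟙 Y) (U : X.Opens) {y : Y} {x x' : X} (hgy : g y ∈ U)
    (hC : ∀ c ∈ connectedComponentIn (f ⁻¹' {y} ∩ (U : Set X)) (g y), EGA43.IsUnivOpenAt f c ∧
      FBase.IsGeomReducedAt (f.fiberToSpecResidueField (f c)) (f.asFiber c))
    (hx : x ∈ connectedComponentIn (f ⁻¹' {y} ∩ (U : Set X)) (g y)) (hx' : x' ⤳ x) :
    x' ∈ connectedComponentIn (f ⁻¹' {f x'} ∩ (U : Set X)) (g (f x')) := by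
  set C := connectedComponentIn (f ⁻¹' {y} ∩ (U : Set X)) (g y) with hCdef
  obtain ⟨hfx, hxU⟩ := connectedComponentIn_subset _ _ hx
  change f x = y at hfx
  have hxU' : x' ∈ U := hx'.mem_open U.2 hxU
  by_cases hy' : f x' = y
  · rw [hy']
    have hcl : _root_.IsPreconnected (closure {x'} ∩ (f ⁻¹' {y} ∩ (U : Set X))) :=
      (GeomSpread4.isIrreducible_closure_inter (ξ := x') (S := f ⁻¹' {y} ∩ (U : Set X)) ⟨hy', hxU'⟩).isPreirreducible.isPreconnected
    have h0 := hcl.subset_connectedComponentIn (x := x) ⟨hx'.mem_closure, hfx, hxU⟩ Set.inter_subset_right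
    have h1 := h0 (show x' ∈ closure {x'} ∩ (f ⁻¹' {y} ∩ (U : Set X)) from ⟨subset_closure rfl, hy', hxU'⟩)
    rwa [← connectedComponentIn_eq hx] at h1
  haveI : IsLocallyNoetherian X := LocallyOfFiniteType.isLocallyNoetherian f
  have hne : x ≠ x' := fun h => hy' (h ▸ hfx)
  obtain ⟨A, mx, hA, hmx, hmx'⟩ := SectionComp4.exists_dvr_to hx' hne
  have hmxb := SectionComp4.gen_apply A mx hmx'
  let m := mx ≫ f
  let p := pullback.fst f m
  let F := pullback.snd f m
  haveI : LocallyOfFiniteType F := MorphismProperty.pullback_snd _ _ inferInstance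
  haveI : IsLocallyNoetherian (pullback f m) := LocallyOfFiniteType.isLocallyNoetherian F
  let a : ↥(Spec (CommRingCat.of A)) := closedPoint A
  let b : ↥(Spec (CommRingCat.of A)) := (⟨⊥, Ideal.isPrime_bot⟩ : PrimeSpectrum A)
  have hb : ∀ z, b ⤳ z := fun z => (PrimeSpectrum.le_iff_specializes (⟨⊥, Ideal.isPrime_bot⟩ : PrimeSpectrum A) z).1 bot_le
  have hma : m a = y := by rw [Scheme.Hom.comp_apply, hmx, hfx]
  have hmb : m b = f x' := by rw [Scheme.Hom.comp_apply, hmxb]
  let w : Spec (CommRingCat.of A) ⟶ pullback f m := pullback.lift mx (𝟙 _) (Category.id_comp _).symm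
  let s : Spec (CommRingCat.of A) ⟶ pullback f m :=
    pullback.lift (m ≫ g) (𝟙 _) (by rw [Category.assoc, hg, Category.comp_id, Category.id_comp])
  have hpw : ∀ z, p (w z) = mx z := fun z => by rw [← Scheme.Hom.comp_apply, pullback.lift_fst]
  have hps : ∀ z, p (s z) = g (m z) := fun z => by rw [← Scheme.Hom.comp_apply, pullback.lift_fst, Scheme.Hom.comp_apply]
  have hFw : ∀ z, F (w z) = z := fun z => by rw [← Scheme.Hom.comp_apply, pullback.lift_snd]; rfl
  have hFs : ∀ z, F (s z) = z := fun z => by rw [← Scheme.Hom.comp_apply, pullback.lift_snd]; rfl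
  have hFp : ∀ z, f (p z) = m (F z) := fun z => by rw [← Scheme.Hom.comp_apply, pullback.condition, Scheme.Hom.comp_apply]
  -- the preimage of the component
  obtain ⟨O, hO, hOU, hCO⟩ := exists_open_comp f U y (g y)
  let D := p ⁻¹' C ∩ F ⁻¹' {a}
  have hgC : g y ∈ C := mem_connectedComponentIn ⟨SectionCompConn4.apply_section hg y, hgy⟩
  have hDconn : _root_.IsPreconnected D := by
    let W₀ : Y.Opens := g ⁻¹ᵁ U
    let h := (f ⁻¹ᵁ W₀ ⊓ U).ι
    obtain ⟨hgU, rfl⟩ : g y ∈ U ∧ m a = y := ⟨hgy, hma⟩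
    let f₁ : ((f ⁻¹ᵁ W₀ ⊓ U : X.Opens) : Scheme.{u}) ⟶ (W₀ : Scheme.{u}) :=
      IsOpenImmersion.lift W₀.ι (h ≫ f) (by
        rintro _ ⟨z, rfl⟩
        rw [Scheme.Opens.range_ι]
        exact z.2.1)
    have hf₁ : f₁ ≫ W₀.ι = h ≫ f := IsOpenImmersion.lift_fac _ _ _
    let s₁ : (W₀ : Scheme.{u}) ⟶ ((f ⁻¹ᵁ W₀ ⊓ U : X.Opens) : Scheme.{u}) :=
      IsOpenImmersion.lift h (W₀.ι ≫ g) (by
        rintro _ ⟨z, rfl⟩
        rw [Scheme.Opens.range_ι]
        refine ⟨?_, z.2⟩
        show f (g z.1) ∈ W₀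
        rw [SectionCompConn4.apply_section hg]
        exact z.2)
    have hs₁h : s₁ ≫ h = W₀.ι ≫ g := IsOpenImmersion.lift_fac _ _ _
    have hs₁ : s₁ ≫ f₁ = 𝟙 _ := by
      rw [← cancel_mono W₀.ι, Category.assoc, hf₁, ← Category.assoc, hs₁h, Category.assoc, hg, Category.comp_id,
        Category.id_comp]
    let m₁ : Spec (CommRingCat.of A) ⟶ (W₀ : Scheme.{u}) := IsOpenImmersion.lift W₀.ι m (by
      rintro _ ⟨z, rfl⟩
      rw [Scheme.Opens.range_ι]
      have hza : z ⤳ a := IsLocalRing.specializes_closedPoint (z : PrimeSpectrum A)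
      exact (hza.map m.continuous).mem_open W₀.2 hgU)
    have hm₁ : m₁ ≫ W₀.ι = m := IsOpenImmersion.lift_fac _ _ _
    let q : pullback f₁ m₁ ⟶ pullback f m := pullback.lift (pullback.fst f₁ m₁ ≫ h) (pullback.snd f₁ m₁) (by
      rw [Category.assoc, ← hf₁, ← Category.assoc, pullback.condition, Category.assoc, hm₁])
    have hconn := SectionCompConn4.isPreconnected_preimage_comp hs₁ (IsPullback.of_hasPullback f₁ m₁) a
    have hfib : ∀ v : ↥(f ⁻¹ᵁ W₀ ⊓ U : X.Opens), f₁ v = m₁ a ↔ f v.1 = m a := fun v => by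
      have h1 : W₀.ι (f₁ v) = f v.1 := by rw [← Scheme.Hom.comp_apply, hf₁, Scheme.Hom.comp_apply]; rfl
      have h2 : W₀.ι (m₁ a) = m a := by rw [← Scheme.Hom.comp_apply, hm₁]
      rw [← h1, ← h2]
      exact ⟨fun e => by rw [e], fun e => W₀.ι.isOpenEmbedding.injective e⟩
    have hsa : h (s₁ (m₁ a)) = g (m a) := by
      rw [← Scheme.Hom.comp_apply, hs₁h, Scheme.Hom.comp_apply, ← Scheme.Hom.comp_apply m₁, hm₁]
    have himg : h '' connectedComponentIn (f₁ ⁻¹' {m₁ a}) (s₁ (m₁ a)) = C := by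
      rw [image_connectedComponentIn h.isEmbedding
        (show s₁ (m₁ a) ∈ f₁ ⁻¹' {m₁ a} from SectionCompConn4.apply_section hs₁ _), hsa, hCdef]
      refine congrArg (fun S => connectedComponentIn S (g (m a))) (Set.ext fun v => ⟨?_, fun ⟨hv, hvU⟩ => ?_⟩)
      · rintro ⟨v, hv, rfl⟩
        exact ⟨(hfib v).1 hv, v.2.2⟩
      · exact ⟨⟨v, show f v ∈ W₀ by rw [show f v = m a from hv]; exact hgU, hvU⟩, (hfib _).2 hv, rfl⟩
    have hpq : ∀ z, p (q z) = h (pullback.fst f₁ m₁ z) := fun z => by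
      rw [← Scheme.Hom.comp_apply, pullback.lift_fst, Scheme.Hom.comp_apply]
    have hFq : ∀ z, F (q z) = pullback.snd f₁ m₁ z := fun z => by
      rw [← Scheme.Hom.comp_apply, pullback.lift_snd]
    have hDq : D = q '' (pullback.fst f₁ m₁ ⁻¹' connectedComponentIn (f₁ ⁻¹' {m₁ a}) (s₁ (m₁ a)) ∩
        pullback.snd f₁ m₁ ⁻¹' {a}) := by
      ext z
      constructor
      · rintro ⟨hzC, hza⟩
        obtain ⟨v, hv, hve⟩ := himg.ge hzC
        obtain ⟨e, he1, he2⟩ : ∃ e : pullback (h ≫ f) m ⟶ pullback f₁ m₁,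
            e ≫ pullback.fst f₁ m₁ = pullback.fst (h ≫ f) m ∧ e ≫ pullback.snd f₁ m₁ = pullback.snd (h ≫ f) m :=
          ⟨pullback.lift (pullback.fst _ _) (pullback.snd _ _) (by
            rw [← cancel_mono W₀.ι, Category.assoc, Category.assoc, hf₁, hm₁, pullback.condition]),
            pullback.lift_fst _ _ _, pullback.lift_snd _ _ _⟩
        obtain ⟨u, hu1, hu2⟩ := Scheme.Pullback.exists_preimage_pullback (f := h) (g := p) v z hve
        let u' : pullback h p ⟶ pullback (h ≫ f) m := pullback.lift (pullback.fst h p) (pullback.snd h p ≫ F) (by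
          rw [Category.assoc, ← pullback.condition, ← Category.assoc, ← Category.assoc, pullback.condition])
        have huq : u' ≫ e ≫ q = pullback.snd h p := by
          apply pullback.hom_ext
          · rw [Category.assoc, Category.assoc, pullback.lift_fst, reassoc_of% he1, pullback.lift_fst_assoc,
              pullback.condition]
          · rw [Category.assoc, Category.assoc, pullback.lift_snd, he2, pullback.lift_snd]
        have hqz : q (e (u' u)) = z := by rw [← hu2, ← huq]; simp only [Scheme.Hom.comp_apply]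
        refine ⟨e (u' u), ⟨?_, ?_⟩, hqz⟩
        · show pullback.fst f₁ m₁ (e (u' u)) ∈ connectedComponentIn (f₁ ⁻¹' {m₁ a}) (s₁ (m₁ a))
          rw [show pullback.fst f₁ m₁ (e (u' u)) = (u' ≫ e ≫ pullback.fst f₁ m₁) u from by simp only [Scheme.Hom.comp_apply],
            he1, pullback.lift_fst, hu1]
          exact hv
        · show pullback.snd f₁ m₁ (e (u' u)) = a
          rw [← hFq, hqz]; exact hza
      · rintro ⟨z, ⟨hz, hza⟩, rfl⟩
        exact ⟨by show p (q z) ∈ C; rw [hpq, ← himg]; exact ⟨_, hz, rfl⟩, by show F (q z) = a; rw [hFq]; exact hza⟩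
    rw [hDq]
    exact hconn.image q q.continuous.continuousOn
  obtain ⟨π, hπ⟩ := IsDiscreteValuationRing.exists_irreducible A
  have hfibπ : ∀ z : ↥(Spec (CommRingCat.of A)), π ∉ (z : PrimeSpectrum A).asIdeal ↔ z = b := by
    intro z
    refine ⟨fun h => PrimeSpectrum.ext ?_, fun h => h ▸ fun h0 => hπ.ne_zero (Ideal.mem_bot.1 h0)⟩
    by_contra hne
    refine h ?_
    rw [IsLocalRing.eq_maximalIdeal (IsPrime.to_maximal_ideal (show (z : PrimeSpectrum A).asIdeal ≠ ⊥ from hne)),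
      hπ.maximalIdeal_eq]
    exact Ideal.mem_span_singleton_self π
  have hab : ∀ z : ↥(Spec (CommRingCat.of A)), z = a ∨ z = b := fun z => by
    by_cases hz : π ∈ (z : PrimeSpectrum A).asIdeal
    · refine .inl (PrimeSpectrum.ext ?_)
      have hne : (z : PrimeSpectrum A).asIdeal ≠ ⊥ := fun h => hπ.ne_zero (Ideal.mem_bot.1 (h ▸ hz))
      exact IsLocalRing.eq_maximalIdeal (IsPrime.to_maximal_ideal hne)
    · exact .inr ((hfibπ z).1 hz)
  let Wπ : Set ↥(pullback f m) := F ⁻¹' (PrimeSpectrum.basicOpen π : Set (PrimeSpectrum A))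
  have hWπ : ∀ z, z ∈ Wπ ↔ F z = b := fun z => hfibπ (F z)
  have hWπo : IsOpen Wπ := (PrimeSpectrum.basicOpen π).2.preimage F.continuous
  let W : Set ↥(pullback f m) := p ⁻¹' O ∪ (p ⁻¹' U ∩ Wπ)
  have hWo : IsOpen W := (hO.preimage p.continuous).union ((U.2.preimage p.continuous).inter hWπo)
  have hDW : D ⊆ W := fun z hz => .inl (hCO.le hz.1).1
  haveI := locallyConnectedSpace (pullback f m)
  let U₀ : (pullback f m).Opens := ⟨connectedComponentIn W (s a), hWo.connectedComponentIn⟩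
  have hsaD : s a ∈ D := ⟨by show p (s a) ∈ C; rw [hps, hma]; exact hgC, hFs a⟩
  have hwaD : w a ∈ D := ⟨by show p (w a) ∈ C; rw [hpw, hmx]; exact hx, hFw a⟩
  have hDU₀ : D ⊆ (U₀ : Set _) := hDconn.subset_connectedComponentIn hsaD hDW
  have hline : ∀ σ : Spec (CommRingCat.of A) ⟶ pullback f m, σ a ∈ (U₀ : Set _) → σ b ∈ (U₀ : Set _) :=
    fun σ hσ => ((hb a).map σ.continuous).mem_open U₀.2 hσ
  have hsub : ∀ z ∈ U₀, F z = a → z ∈ D := fun z hz hza => by
    refine ⟨hCO.ge ⟨?_, by show f (p z) = y; rw [hFp, hza, hma]⟩, hza⟩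
    rcases connectedComponentIn_subset W _ hz with h | ⟨-, h⟩
    · exact h
    · exfalso
      have h2 := (hWπ z).1 h
      rw [hza] at h2
      exact hπ.ne_zero (Ideal.mem_bot.1 ((congrArg PrimeSpectrum.asIdeal h2).le
        (show π ∈ maximalIdeal A by rw [hπ.maximalIdeal_eq]; exact Ideal.mem_span_singleton_self π)))
  let G : (U₀ : Scheme.{u}) ⟶ Spec (CommRingCat.of A) := U₀.ι ≫ F
  have hopen : IsOpenMap G.base := by
    rintro V hV
    rw [isOpen_iff_mem_nhds]
    rintro _ ⟨v, hv, rfl⟩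
    have hVo : IsOpen (U₀.ι '' V) := U₀.ι.isOpenEmbedding.isOpenMap V hV
    have heq : G '' V = F '' (U₀.ι '' V) := by rw [Set.image_image]; rfl
    show G '' V ∈ nhds (G v)
    rw [heq, show G v = F v.1 from rfl]
    rcases hab (F v.1) with hva | hvb
    · exact (hC (p v.1) (hsub _ v.2 hva).1).1 _ m v.1 rfl _ (hVo.mem_nhds ⟨v, hv, rfl⟩)
    · refine Filter.mem_of_superset ((PrimeSpectrum.basicOpen π).2.mem_nhds ((hWπ v.1).2 hvb)) ?_
      intro z hz
      exact ⟨v.1, ⟨v, hv, rfl⟩, hvb.trans ((hfibπ z).1 hz).symm⟩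
  haveI : PreconnectedSpace (U₀ : Scheme.{u}) :=
    Subtype.preconnectedSpace (isPreconnected_connectedComponentIn (F := W) (x := s a))
  have hred : AlgebraicGeometry.IsReduced (G.fiber a) := by
    haveI : ∀ z, _root_.IsReduced ((G.fiber a).presheaf.stalk z) := by
      intro z
      let v : (U₀ : Scheme.{u}) := G.fiberι a z
      have hva : F v.1 = a := (Scheme.Hom.range_fiberι G a).le ⟨z, rfl⟩
      let e : G.fiber a ⟶ F.fiber a := pullback.map G _ F _ U₀.ι (𝟙 _) (𝟙 _) (by simp [G]) (by simp)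
      haveI : IsOpenImmersion e :=
        MorphismProperty.pullbackMap (P := @IsOpenImmersion) inferInstance inferInstance (by simp [G]) (by simp)
      rw [← GeomRed.isReduced_stalk_congr e z]
      have hez : F.fiberι a (e z) = v.1 := by
        rw [← Scheme.Hom.comp_apply]
        show (pullback.map G _ F _ U₀.ι (𝟙 _) (𝟙 _) _ _ ≫ pullback.fst _ _) z = _
        rw [pullback.lift_fst]
        rfl
      have h1 := FlatUnivOpen4.isGeomReducedAt_baseChange f (IsPullback.of_hasPullback f m) v.1 (hC _ (hsub _ v.2 hva).1).2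
      have h2 : ∀ a', a' = F v.1 → ∀ k : F.fiber a', F.fiberι a' k = v.1 → _root_.IsReduced ((F.fiber a').presheaf.stalk k) := by
        rintro _ rfl k hk
        rw [(F.fiberι (F v.1)).isEmbedding.injective (hk.trans (F.fiberι_asFiber _).symm)]
        exact GeomRedRes4.isReduced_stalk F h1
      exact h2 a hva.symm _ hez
    exact isReduced_of_isReduced_stalk _
  haveI hpc := DvrConn4.preconnectedSpace_generic G hopen a b ((IsLocalRing.isClosed_singleton_closedPoint _)) hb hred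
  have himg : _root_.IsPreconnected ((G.fiberι b ≫ U₀.ι ≫ p) '' Set.univ) :=
    hpc.isPreconnected_univ.image _ (G.fiberι b ≫ U₀.ι ≫ p).continuous.continuousOn
  have hmem : ∀ z ∈ U₀, F z = b → p z ∈ (G.fiberι b ≫ U₀.ι ≫ p) '' Set.univ := by
    intro z hz hzb
    obtain ⟨k, hk⟩ := (Scheme.Hom.range_fiberι G b).ge (show (⟨z, hz⟩ : (U₀ : Scheme.{u})) ∈ G ⁻¹' {b} from hzb)
    exact ⟨k, trivial, by rw [Scheme.Hom.comp_apply, Scheme.Hom.comp_apply, hk]; rfl⟩
  refine himg.subset_connectedComponentIn (x := g (f x')) ?_ ?_ ?_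
  · rw [← hmb, ← hps]
    exact hmem _ (hline s (hDU₀ hsaD)) (hFs b)
  · rintro _ ⟨k, -, rfl⟩
    simp only [Scheme.Hom.comp_apply]
    refine ⟨?_, ?_⟩
    · show f (p (G.fiberι b k).1) = f x'
      rw [hFp, show F (G.fiberι b k).1 = b from (Scheme.Hom.range_fiberι G b).le ⟨k, rfl⟩, hmb]
    · rcases connectedComponentIn_subset W _ (G.fiberι b k).2 with h | ⟨h, -⟩
      · exact hOU h
      · exact h
  · have h := hmem _ (hline w (hDU₀ hwaD)) (hFw b)
    rwa [show p (w b) = x' by rw [hpw, hmxb]] at h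

omit [IsLocallyNoetherian Y] in
/-- Points of a fibre component are joined to the section inside quasi-compact opens. -/
theorem exists_qc_open {g : Y ⟶ X} (hg : g ≫ f = 𝟙 Y) {y : Y} {x : X}
    (hx : x ∈ connectedComponentIn (f ⁻¹' {y}) (g y)) :
    ∃ U : X.Opens, IsCompact (U : Set X) ∧ g y ∈ U ∧ x ∈ connectedComponentIn (f ⁻¹' {y} ∩ (U : Set X)) (g y) := by
  haveI := locallyConnectedSpace_fibre f y
  let S := f ⁻¹' ({y} : Set Y)
  have hgy : g y ∈ S := SectionCompConn4.apply_section hg y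
  let P : X → Prop := fun x => ∃ U : X.Opens, IsCompact (U : Set X) ∧ g y ∈ U ∧
    x ∈ connectedComponentIn (f ⁻¹' {y} ∩ (U : Set X)) (g y)
  let E : Set ↥S := {z | P z.1}
  have hloc : ∀ z : ↥S, ∃ N : Set ↥S, IsOpen N ∧ z ∈ N ∧ ∀ z' ∈ N, (z' ∈ E ↔ z ∈ E) := by
    intro z
    obtain ⟨W, hW, hzW, -⟩ := exists_isAffineOpen_mem_and_subset (X := X) (x := z.1) (U := ⊤) trivial
    let T : Set ↥S := Subtype.val ⁻¹' (W : Set X)
    let N := connectedComponentIn T z
    have hN : _root_.IsPreconnected (Subtype.val '' N) :=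
      isPreconnected_connectedComponentIn.image _ continuous_subtype_val.continuousOn
    have hNW : Subtype.val '' N ⊆ f ⁻¹' {y} ∩ (W : Set X) := by
      rintro _ ⟨v, hv, rfl⟩
      exact ⟨v.2, connectedComponentIn_subset T z hv⟩
    have step : ∀ u v : ↥S, u ∈ N → v ∈ N → u ∈ E → v ∈ E := by
      rintro u v hu hv ⟨U, hUc, hgU, huU⟩
      refine ⟨U ⊔ W, hUc.union hW.isCompact, .inl hgU, ?_⟩
      have hu' : u.1 ∈ Subtype.val '' N := ⟨u, hu, rfl⟩
      refine (isPreconnected_connectedComponentIn.union u.1 huU hu' hN).subset_connectedComponentIn (x := g y)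
        (.inl (mem_connectedComponentIn ⟨hgy, hgU⟩)) ?_ (Or.inr (show v.1 ∈ Subtype.val '' N from ⟨v, hv, rfl⟩))
      rintro v (hv | hv)
      · exact ⟨(connectedComponentIn_subset _ _ hv).1, .inl (connectedComponentIn_subset _ _ hv).2⟩
      · exact ⟨(hNW hv).1, .inr (hNW hv).2⟩
    exact ⟨N, (W.2.preimage continuous_subtype_val).connectedComponentIn, mem_connectedComponentIn hzW,
      fun z' hz' => ⟨step z' z hz' (mem_connectedComponentIn hzW), step z z' (mem_connectedComponentIn hzW) hz'⟩⟩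
  have hE : IsClopen E := by
    constructor
    · rw [← isOpen_compl_iff, isOpen_iff_forall_mem_open]
      intro z hz
      obtain ⟨N, hN, hzN, h⟩ := hloc z
      exact ⟨N, fun z' hz' he => hz ((h z' hz').1 he), hN, hzN⟩
    · rw [isOpen_iff_forall_mem_open]
      intro z hz
      obtain ⟨N, hN, hzN, h⟩ := hloc z
      exact ⟨N, fun z' hz' => (h z' hz').2 hz, hN, hzN⟩
  have hgE : (⟨g y, hgy⟩ : ↥S) ∈ E := by
    obtain ⟨W, hW, hgW, -⟩ := exists_isAffineOpen_mem_and_subset (X := X) (x := g y) (U := ⊤) trivial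
    exact ⟨W, hW.isCompact, hgW, mem_connectedComponentIn ⟨hgy, hgW⟩⟩
  rw [connectedComponentIn_eq_image hgy] at hx
  obtain ⟨x, hx, rfl⟩ := hx
  exact hE.connectedComponent_subset hgE hx

/-- EGA IV 15.6.4. -/
theorem subset_interior {g : Y ⟶ X} (hg : g ≫ f = 𝟙 Y) {y : Y}
    (hy : ∀ c ∈ connectedComponentIn (f ⁻¹' {y}) (g y), EGA43.IsUnivOpenAt f c ∧
      FBase.IsGeomReducedAt (f.fiberToSpecResidueField (f c)) (f.asFiber c)) :
    connectedComponentIn (f ⁻¹' {y}) (g y) ⊆ interior (sectionComponents f g) := by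
  intro x hx
  obtain ⟨U₁, hU₁c, hgU₁, hxU₁⟩ := exists_qc_open f hg hx
  obtain ⟨Va, hVa, hyVa, -⟩ := exists_isAffineOpen_mem_and_subset (X := Y) (x := y) (U := ⊤) trivial
  let V : Y.Opens := Va ⊓ g ⁻¹ᵁ U₁
  let U : X.Opens := U₁ ⊓ f ⁻¹ᵁ V
  have hyV : y ∈ V := ⟨hyVa, hgU₁⟩
  have hUy : f ⁻¹' {y} ∩ (U : Set X) = f ⁻¹' {y} ∩ (U₁ : Set X) := by
    ext v
    exact ⟨fun h => ⟨h.1, h.2.1⟩, fun h => ⟨h.1, h.2, show f v ∈ V by rw [show f v = y from h.1]; exact hyV⟩⟩
  have hgU : ∀ z ∈ V, g z ∈ U := fun z hz => ⟨hz.2, show f (g z) ∈ V by rw [SectionCompConn4.apply_section hg]; exact hz⟩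
  rw [← hUy] at hxU₁
  haveI : IsLocallyNoetherian X := LocallyOfFiniteType.isLocallyNoetherian f
  haveI : IsLocallyNoetherian (Va : Scheme.{u}) := LocallyOfFiniteType.isLocallyNoetherian Va.ι
  haveI : IsAffine (Va : Scheme.{u}) := hVa
  haveI : IsNoetherian (Va : Scheme.{u}) := {}
  haveI : IsLocallyNoetherian (V : Scheme.{u}) := LocallyOfFiniteType.isLocallyNoetherian V.ι
  haveI : CompactSpace (V : Scheme.{u}) := by
    refine isCompact_iff_compactSpace.1 ?_
    rw [show (V : Set Y) = Va.ι '' (Va.ι ⁻¹' (V : Set Y)) from ?_]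
    · exact (NoetherianSpace.isCompact _).image Va.ι.continuous
    · rw [Set.image_preimage_eq_of_subset]
      rw [Scheme.Opens.range_ι]
      exact fun v hv => hv.1
  haveI : IsNoetherian (V : Scheme.{u}) := {}
  haveI : CompactSpace (U : Scheme.{u}) := by
    haveI : QuasiSeparatedSpace X := inferInstance
    refine isCompact_iff_compactSpace.1 ?_
    haveI : CompactSpace (U₁ : Scheme.{u}) := isCompact_iff_compactSpace.1 hU₁c
    haveI : IsLocallyNoetherian (U₁ : Scheme.{u}) := LocallyOfFiniteType.isLocallyNoetherian U₁.ι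
    haveI : IsNoetherian (U₁ : Scheme.{u}) := {}
    rw [show (U : Set X) = U₁.ι '' (U₁.ι ⁻¹' (U : Set X)) from ?_]
    · exact (NoetherianSpace.isCompact _).image U₁.ι.continuous
    · rw [Set.image_preimage_eq_of_subset]
      rw [Scheme.Opens.range_ι]
      exact fun v hv => hv.1
  let f₁ : (U : Scheme.{u}) ⟶ (V : Scheme.{u}) := IsOpenImmersion.lift V.ι (U.ι ≫ f) (by
    rintro _ ⟨v, rfl⟩
    rw [Scheme.Opens.range_ι]
    exact v.2.2)
  have hf₁ : f₁ ≫ V.ι = U.ι ≫ f := IsOpenImmersion.lift_fac _ _ _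
  let g₁ : (V : Scheme.{u}) ⟶ (U : Scheme.{u}) := IsOpenImmersion.lift U.ι (V.ι ≫ g) (by
    rintro _ ⟨z, rfl⟩
    rw [Scheme.Opens.range_ι]
    exact hgU z.1 z.2)
  have hg₁' : g₁ ≫ U.ι = V.ι ≫ g := IsOpenImmersion.lift_fac _ _ _
  have hg₁ : g₁ ≫ f₁ = 𝟙 _ := by
    rw [← cancel_mono V.ι, Category.assoc, hf₁, ← Category.assoc, hg₁', Category.assoc, hg, Category.comp_id,
      Category.id_comp]
  haveI : LocallyOfFiniteType (f₁ ≫ V.ι) := by rw [hf₁]; infer_instance
  haveI : LocallyOfFiniteType f₁ := locallyOfFiniteType_of_comp f₁ V.ι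
  haveI : QuasiCompact f₁ := QuasiCompact.of_comp f₁ (terminal.from _)
  have hval : ∀ v : (U : Scheme.{u}), (f₁ v).1 = f v.1 := fun v => congrArg (fun q => q v) hf₁
  have hgval : ∀ z : (V : Scheme.{u}), (g₁ z).1 = g z.1 := fun z => congrArg (fun q => q z) hg₁'
  have hcomp : ∀ v : (U : Scheme.{u}),
      U.ι '' connectedComponentIn (f₁ ⁻¹' {f₁ v}) (g₁ (f₁ v)) =
        connectedComponentIn (f ⁻¹' {f v.1} ∩ (U : Set X)) (g (f v.1)) := by
    intro v
    rw [image_connectedComponentIn U.ι.isEmbedding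
      (show g₁ (f₁ v) ∈ f₁ ⁻¹' {f₁ v} from SectionCompConn4.apply_section hg₁ _)]
    rw [show U.ι (g₁ (f₁ v)) = g (f v.1) by show (g₁ (f₁ v)).1 = _; rw [hgval, hval]]
    refine congrArg (fun S => connectedComponentIn S (g (f v.1))) (Set.ext fun z => ⟨?_, fun ⟨hz, hzU⟩ => ?_⟩)
    · rintro ⟨z, hz, rfl⟩
      refine ⟨?_, z.2⟩
      show f z.1 = f v.1
      rw [← hval, ← hval, show f₁ z = f₁ v from hz]
    · exact ⟨⟨z, hzU⟩, Subtype.ext (by rw [hval, hval]; exact hz), rfl⟩
  have hsubX : ∀ v : (U : Scheme.{u}), v ∈ sectionComponents f₁ g₁ → v.1 ∈ sectionComponents f g := fun v hv =>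
    connectedComponentIn_mono _ Set.inter_subset_left ((hcomp v).le ⟨v, hv, rfl⟩)
  have hxU : x ∈ U := (connectedComponentIn_subset _ _ hxU₁).2
  have hnhd : sectionComponents f₁ g₁ ∈ nhds (⟨x, hxU⟩ : (U : Scheme.{u})) := by
    refine EGA43Top.mem_nhds_of_generizations
      (SectionCompConn4.isConstructible_noetherian f₁ g₁ hg₁).isLocallyConstructible fun v hv => ?_
    have h := mem_of_specializes f hg U (hgU y hyV) (fun c hc => hy c (connectedComponentIn_mono _ Set.inter_subset_left hc))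
      hxU₁ (hv.map U.ι.continuous)
    obtain ⟨v', hv', hvv⟩ := (hcomp v).ge h
    exact U.ι.isEmbedding.injective hvv ▸ hv'
  rw [mem_interior_iff_mem_nhds]
  exact Filter.mem_of_superset (U.ι.isOpenEmbedding.isOpenMap.image_mem_nhds hnhd)
    (Set.image_subset_iff.2 fun v hv => hsubX v hv)

end Groth.Agent.SectionCompOpen4
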