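import Groth.Agent.Lib.EquidimStalk4

/-!
# The connected component of a fibre along a section (EGA IV 15.6)
-/

universe u

open CategoryTheory AlgebraicGeometry Topology TopologicalSpace Groth.Agent.FibDim14 Groth.Agent.EquidimStalk4

set_option backward.isDefEq.respectTransparency.types false

namespace Groth.Agent.SectionComp4

variable {X Y : Scheme.{u}} (f : X ⟶ Y) (g : Y ⟶ X) (hg : g ≫ f = 𝟙 Y)

include hg in
theorem apply_section (y : Y) : f (g y) = y := by
  rw [← Scheme.Hom.comp_apply, hg]; rfl

include hg in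
theorem mem_comp (y : Y) : g y ∈ connectedComponentIn (f.base ⁻¹' {y}) (g.base y) :=
  mem_connectedComponentIn (apply_section f g hg y)

/-- The closure of a point in its fibre is irreducible. -/
theorem isIrreducible_closure_fibre {y : Y} (a : X) (ha : f a = y) :
    IsIrreducible (closure {a} ∩ f.base ⁻¹' {y}) := by
  refine ⟨⟨a, subset_closure rfl, ha⟩, ?_⟩
  rintro u v hu hv ⟨b, ⟨hb, -⟩, hbu⟩ ⟨c, ⟨hc, -⟩, hcv⟩
  exact ⟨a, ⟨subset_closure rfl, ha⟩, (specializes_iff_mem_closure.2 hb).mem_open hu hbu,
    (specializes_iff_mem_closure.2 hc).mem_open hv hcv⟩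

/-- A point of the fibre generizing a point of the component lies in the component, with its closure. -/
theorem closure_subset_comp {y : Y} {x a b : X} (ha : a ∈ connectedComponentIn (f.base ⁻¹' {y}) x)
    (hba : b ⤳ a) (hfb : f b = y) :
    closure {b} ∩ f.base ⁻¹' {y} ⊆ connectedComponentIn (f.base ⁻¹' {y}) x := by
  rw [connectedComponentIn_eq ha]
  exact (isIrreducible_closure_fibre f b hfb).isConnected.isPreconnected.subset_connectedComponentIn
    ⟨hba.mem_closure, connectedComponentIn_subset _ _ ha⟩ Set.inter_subset_right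

theorem mem_comp_of_specializes {y : Y} {x a b : X} (ha : a ∈ connectedComponentIn (f.base ⁻¹' {y}) x)
    (hba : b ⤳ a) (hfb : f b = y) : b ∈ connectedComponentIn (f.base ⁻¹' {y}) x :=
  closure_subset_comp f ha hba hfb ⟨subset_closure rfl, hfb⟩

theorem apply_of_mem {y : Y} {x b : X} (hb : b ∈ connectedComponentIn (f.base ⁻¹' {y}) x) : f b = y :=
  connectedComponentIn_subset (f.base ⁻¹' {y}) x hb

variable [LocallyOfFiniteType f]

theorem rd_le_dim_comp {y : Y} {x b : X} (hb : b ∈ connectedComponentIn (f.base ⁻¹' {y}) x) :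
    (rd f b : WithBot ℕ∞) ≤ topologicalKrullDim ↥(connectedComponentIn (f.base ⁻¹' {y}) x) := by
  have hfb : f b = y := apply_of_mem f hb
  rw [← (FibSub4.closure_fibre f b).1, hfb]
  exact (IsEmbedding.inclusion (closure_subset_comp f hb specializes_rfl hfb)).isInducing.topologicalKrullDim_le

include hg in
/-- The component is the closure in the fibre of its generic point, the only maximal point of the
fibre generizing the section. -/
theorem exists_gen_comp {y : Y} (hirr : IsIrreducible (connectedComponentIn (f.base ⁻¹' {y}) (g.base y))) :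
    ∃ ξ : X, f ξ = y ∧ ξ ⤳ g y ∧ IsMaxFib f ξ ∧
      connectedComponentIn (f.base ⁻¹' {y}) (g.base y) = closure {ξ} ∩ f.base ⁻¹' {y} ∧
      (∀ b ∈ connectedComponentIn (f.base ⁻¹' {y}) (g.base y), ξ ⤳ b) ∧
      topologicalKrullDim ↥(connectedComponentIn (f.base ⁻¹' {y}) (g.base y)) = (rd f ξ : WithBot ℕ∞) ∧
      FlatMor.fibreDimAt f (g y) = (rd f ξ : WithBot ℕ∞) := by
  set C := connectedComponentIn (f.base ⁻¹' {y}) (g.base y) with hC
  have hgen : IsGenericPoint hirr.genericPoint (closure C) := hirr.isGenericPoint_genericPoint_closure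
  set ξ := hirr.genericPoint
  have hsp : ∀ b ∈ C, ξ ⤳ b := fun b hb => hgen.specializes (subset_closure hb)
  have hgy : g y ∈ C := mem_comp f g hg y
  have hfξ : f ξ = y := by
    have h1 : f ξ ⤳ y := apply_section f g hg y ▸ (hsp _ hgy).map f.continuous
    have h2 : y ⤳ f ξ := by
      refine specializes_iff_mem_closure.2 (closure_mono ?_ (image_closure_subset_closure_image f.continuous
        ⟨ξ, hgen.mem, rfl⟩))
      rintro _ ⟨a, ha, rfl⟩
      exact apply_of_mem f ha
    exact (h1.antisymm h2).eq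
  have hξC : ξ ∈ C := mem_comp_of_specializes f hgy (hsp _ hgy) hfξ
  have hmax : IsMaxFib f ξ := fun a ha he =>
    (ha.antisymm (hsp a (mem_comp_of_specializes f hgy (ha.trans (hsp _ hgy)) (he.trans hfξ)))).eq
  have hCeq : C = closure {ξ} ∩ f.base ⁻¹' {y} := Set.Subset.antisymm
    (fun b hb => ⟨(hsp b hb).mem_closure, apply_of_mem f hb⟩)
    (closure_subset_comp f hgy (hsp _ hgy) hfξ)
  refine ⟨ξ, hfξ, hsp _ hgy, hmax, hCeq, hsp, ?_, ?_⟩
  · rw [hCeq, ← hfξ]
    exact (FibSub4.closure_fibre f ξ).1
  · obtain ⟨b, hb, hfb, hbmax, hd⟩ := FibGen4.exists_isMaxFib f (g y)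
    have hfb' : f b = y := hfb.trans (apply_section f g hg y)
    have hbξ : ξ = b := hbmax ξ (hsp b (mem_comp_of_specializes f hgy hb hfb')) (hfξ.trans hfb'.symm)
    rw [← hd, FibGen4.fibreDimAt_eq_rd_of_isMaxFib f hbmax, hbξ]

include hg in
/-- A point of the fibre of a generization of `y` generizing the section bounds the dimension of the
component at `y`; in case of equality its closure contains an irreducible component at `y`. -/
theorem key {y y' : Y} (hy : y' ⤳ y) {t : X} (ht : t ⤳ g y') (hft : f t = y') :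
    (rd f t : WithBot ℕ∞) ≤ topologicalKrullDim ↥(connectedComponentIn (f.base ⁻¹' {y}) (g.base y)) ∧
      (IsIrreducible (connectedComponentIn (f.base ⁻¹' {y}) (g.base y)) →
        topologicalKrullDim ↥(connectedComponentIn (f.base ⁻¹' {y}) (g.base y)) = (rd f t : WithBot ℕ∞) →
        connectedComponentIn (f.base ⁻¹' {y}) (g.base y) ⊆
          closure (connectedComponentIn (f.base ⁻¹' {y'}) (g.base y'))) := by
  obtain ⟨w, hw⟩ := exists_preimage (ht.trans (hy.map g.continuous))
  obtain ⟨b, hb, hfb, hbmax, hd⟩ := FibGen4.exists_isMaxFib (clι t ≫ f) w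
  have hle : (rd f t : WithBot ℕ∞) ≤ (rd f (clι t b) : WithBot ℕ∞) := by
    refine (cl_bounds f w).1.trans (le_of_eq ?_)
    rw [← hd, FibGen4.fibreDimAt_eq_rd_of_isMaxFib _ hbmax, rd_clι]
  have hby : clι t b ⤳ g y := hw ▸ hb.map (clι t).continuous
  have hfby : f (clι t b) = y := by
    have h1 : f (clι t b) = f (clι t w) := hfb
    rw [h1, hw, apply_section f g hg]
  have hbC := mem_comp_of_specializes f (mem_comp f g hg y) hby hfby
  refine ⟨hle.trans (rd_le_dim_comp f hbC), fun hirr heq => ?_⟩
  obtain ⟨ξ, hfξ, -, -, hCeq, hsp, hdim, -⟩ := exists_gen_comp f g hg hirr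
  have hξb : ξ = clι t b := by
    by_contra hne
    have h1 := rd_lt_of_specializes (f := f) (hsp _ hbC) hne (hfξ.trans hfby.symm)
    have h2 : rd f ξ ≤ rd f (clι t b) := by
      rw [heq] at hdim
      have h3 : rd f t = rd f ξ := by exact_mod_cast hdim
      rw [← h3]
      exact_mod_cast hle
    omega
  intro c hc
  have h1 : t ⤳ c := (hξb ▸ specializes_clι t b).trans (hsp c hc)
  exact closure_mono (Set.singleton_subset_iff.2
    (mem_comp_of_specializes f (mem_comp f g hg y') ht hft)) h1.mem_closure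

end Groth.Agent.SectionComp4
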