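import Groth.Agent.Lib.CI2.KoszulFlat
import Groth.Agent.Lib.CI2.KoszulComp

/-!
# Local complete intersection ring maps on affine charts and Koszul morphisms
-/

set_option autoImplicit false
set_option linter.style.haveILetI false
universe u

open CategoryTheory CategoryTheory.Limits AlgebraicGeometry

namespace Groth.Agent.KoszulBridge4

theorem forall_isKoszulAt_iff_forall_isLCI {X Y : Scheme.{u}} (f : X ⟶ Y) :
    (∀ x : X, Synt.IsKoszulAt f x) ↔
      ∀ (U : X.Opens) (V : Y.Opens) (_ : IsAffineOpen U) (_ : IsAffineOpen V) (hUV : U ≤ f ⁻¹ᵁ V),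
        letI := (f.appLE V U hUV).hom.toAlgebra
        LCI.IsLCI Γ(Y, V) Γ(X, U) := by
  refine ⟨fun h U V hU hV hUV => CI2.isLCI_appLE_of_isKoszulAt f h hU hV hUV, fun h x => ?_⟩
  obtain ⟨V, hV, hxV, -⟩ := exists_isAffineOpen_mem_and_subset (X := Y) (U := ⊤) (x := f x) trivial
  obtain ⟨U, hU, hxU, hUV⟩ := exists_isAffineOpen_mem_and_subset (U := f ⁻¹ᵁ V) (show x ∈ f ⁻¹ᵁ V from hxV)
  exact CI2.isKoszulAt_of_isLCI f hU hV hUV hxU (h U V hU hV hUV)

end Groth.Agent.KoszulBridge4
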