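import Groth.Agent.S0590
import Groth.Agent.Lib.EffCartier.FiniteType
import Mathlib.AlgebraicGeometry.AffineTransitionLimit

/-! # Finite type ideal sheaves cutting out complements of quasi-compact opens -/

set_option autoImplicit false
set_option linter.style.haveILetI false
universe u

open CategoryTheory AlgebraicGeometry TopologicalSpace

namespace Groth.Agent.QcOpenIdeal19

/-- The complement of a quasi-compact open of a qcqs scheme is cut out by an ideal sheaf of finite type. -/
theorem exists_support_eq_compl (S : Scheme.{u}) [CompactSpace S] [QuasiSeparatedSpace S]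
    (U : S.Opens) (hU : IsCompact (U : Set S)) :
    ∃ J : S.IdealSheafData, BlowUp.IsFiniteTypeIdeal J ∧ (J.support : Set S) = (U : Set S)ᶜ := by
  obtain ⟨I, _, _, _, D, c, hc, haff, hD, ⟨e⟩⟩ := S0590.result S
  haveI : ∀ {i j : Iᵒᵖ} (f : i ⟶ j), IsAffineHom (D.map f) := fun f => haff _ _ f
  haveI : IsCofiltered Iᵒᵖ := inferInstance
  let U' : c.pt.Opens := e.hom ⁻¹ᵁ U
  have hU' : IsCompact (U' : Set c.pt) := e.hom.homeomorph.isCompact_preimage.2 hU
  haveI : ∀ i, CompactSpace (D.obj i) := fun i => (hD i).1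
  haveI : IsNoetherianRing (ULift.{u} ℤ) := isNoetherianRing_of_ringEquiv ℤ ULift.ringEquiv.symm
  haveI : ∀ i, QuasiSeparatedSpace (D.obj i) := fun i => by
    haveI := (hD i).2
    haveI : IsLocallyNoetherian (D.obj i) :=
      LocallyOfFiniteType.isLocallyNoetherian (Limits.IsTerminal.from specULiftZIsTerminal (D.obj i))
    infer_instance
  obtain ⟨i, V, -, hV⟩ := exists_preimage_eq D c hc U' hU'
  haveI := (hD i).2
  haveI : IsLocallyNoetherian (D.obj i) :=
    LocallyOfFiniteType.isLocallyNoetherian (Limits.IsTerminal.from specULiftZIsTerminal (D.obj i))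
  let J₀ : (D.obj i).IdealSheafData := Scheme.IdealSheafData.vanishingIdeal V.compl
  have hJ₀ : BlowUp.IsFiniteTypeIdeal J₀ := fun W => @IsNoetherian.noetherian _ _ _ _ _ (IsLocallyNoetherian.component_noetherian W) _
  refine ⟨J₀.comap (e.inv ≫ c.π.app i), EffCartier.isFiniteTypeIdeal_comap hJ₀ _, ?_⟩
  rw [Scheme.IdealSheafData.support_comap, Closeds.coe_preimage, Scheme.IdealSheafData.coe_support_vanishingIdeal]
  ext x
  have h1 : (c.π.app i) (e.inv x) ∈ V ↔ x ∈ U := by
    have h2 : e.inv x ∈ c.π.app i ⁻¹ᵁ V ↔ e.inv x ∈ U' := by rw [hV]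
    refine h2.trans ?_
    show e.hom (e.inv x) ∈ U ↔ _
    rw [← Scheme.Hom.comp_apply, e.inv_hom_id]
    rfl
  show (e.inv ≫ c.π.app i) x ∉ V ↔ x ∉ U
  rw [Scheme.Hom.comp_apply, h1]

/-- A finite supremum of ideal sheaves of finite type is of finite type. -/
theorem isFiniteTypeIdeal_iSup {S : Scheme.{u}} {ι : Type*} [Finite ι] (J : ι → S.IdealSheafData)
    (h : ∀ i, BlowUp.IsFiniteTypeIdeal (J i)) : BlowUp.IsFiniteTypeIdeal (⨆ i, J i) := fun U => by
  rw [Scheme.IdealSheafData.ideal_iSup, iSup_apply]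
  exact Submodule.fg_iSup _ fun i => h i U

/-- An open with complement cut out by an ideal sheaf of finite type in a compact scheme is compact. -/
theorem isCompact_of_support_eq_compl (S : Scheme.{u}) [CompactSpace S] (U : S.Opens)
    (J : S.IdealSheafData) (hJ : BlowUp.IsFiniteTypeIdeal J) (hs : (J.support : Set S) = (U : Set S)ᶜ) :
    IsCompact (U : Set S) := by
  classical
  obtain ⟨t, ht, hcov⟩ : ∃ t : Set S.affineOpens, t.Finite ∧ (Set.univ : Set S) ⊆ ⋃ V ∈ t, (V.1 : Set S) := by
    obtain ⟨t, ht⟩ := isCompact_univ.elim_finite_subcover (fun V : S.affineOpens => (V.1 : Set S))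
      (fun V => V.1.2) fun x _ => by
        obtain ⟨V, hV, hxV, -⟩ := exists_isAffineOpen_mem_and_subset (X := S) (x := x) (U := ⊤) trivial
        exact Set.mem_iUnion.2 ⟨⟨V, hV⟩, hxV⟩
    exact ⟨t, t.finite_toSet, ht⟩
  have hU : (U : Set S) = ⋃ V ∈ t, (U : Set S) ∩ V.1 := by
    rw [← Set.inter_iUnion₂, Set.inter_eq_left.2 ((Set.subset_univ _).trans hcov)]
  rw [hU]
  refine ht.isCompact_biUnion fun V _ => ?_
  obtain ⟨s, hs'⟩ := hJ V
  have : (U : Set S) ∩ V.1 = ⋃ r ∈ s, (S.basicOpen r : Set S) := by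
    ext x
    constructor
    · rintro ⟨hxU, hxV⟩
      have hx : x ∉ J.support := by
        have : x ∉ (J.support : Set S) := by rw [hs]; exact fun h => h hxU
        exact this
      rw [Scheme.IdealSheafData.mem_support_iff_of_mem hxV, ← hs', Scheme.zeroLocus_span] at hx
      simp only [Scheme.mem_zeroLocus_iff, not_forall, not_not] at hx
      obtain ⟨r, hr, hxr⟩ := hx
      exact Set.mem_iUnion₂.2 ⟨r, hr, hxr⟩
    · intro hx
      obtain ⟨r, hr, hxr⟩ := Set.mem_iUnion₂.1 hx
      have hxV : x ∈ V.1 := S.basicOpen_le r hxr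
      refine ⟨by_contra fun hxU => ?_, hxV⟩
      have : x ∈ (J.support : Set S) := by rw [hs]; exact hxU
      have h3 := (Scheme.IdealSheafData.mem_support_iff_of_mem hxV).1 this
      rw [← hs', Scheme.zeroLocus_span, Scheme.mem_zeroLocus_iff] at h3
      exact h3 r hr hxr
  rw [this]
  exact s.finite_toSet.isCompact_biUnion fun r _ => (V.2.basicOpen r).isCompact

end Groth.Agent.QcOpenIdeal19
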