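import Groth.Agent.Lib.FibGenSch4
import Groth.Agent.Lib.QFAffine4
import Groth.Agent.Lib.FibDim14.BaseChange
import Mathlib.AlgebraicGeometry.AffineSpace

/-!
# Affine space: fibre dimension, locally quasi-finite charts
-/

universe u

open CategoryTheory AlgebraicGeometry Topology TopologicalSpace Groth.Agent.FibDim14

set_option backward.isDefEq.respectTransparency.types false

namespace Groth.Agent.AffChart4

instance locallyOfFiniteType_affineSpace {n : Type u} [Finite n] (S : Scheme.{u}) :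
    LocallyOfFiniteType (𝔸(n; S) ↘ S) := inferInstance

theorem fibreDimAt_affineSpace_over (S : Scheme.{u}) (n : ℕ) (q : 𝔸(ULift.{u} (Fin n); S)) :
    FlatMor.fibreDimAt (𝔸(ULift.{u} (Fin n); S) ↘ S) q = (n : WithBot ℕ∞) := by
  let R : CommRingCat.{u} := CommRingCat.of (ULift.{u} ℤ)
  let ι := ULift.{u} (Fin n)
  let t : S ⟶ Spec R := specULiftZIsTerminal.from S
  have h := fibreDimAt_baseChange (AffineSpace.isPullback_map (n := ι) t) q
  rw [h]
  let e := MvPolynomial.renameEquiv (R : Type u) (Equiv.ulift.{u, 0} (α := Fin n))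
  haveI : IsIso (CommRingCat.ofHom e.symm.toRingHom) := e.symm.toRingEquiv.toCommRingCatIso.isIso_hom
  let π₀ : Spec (CommRingCat.of (MvPolynomial (Fin n) R)) ⟶ Spec R :=
    Spec.map (CommRingCat.ofHom (algebraMap R (MvPolynomial (Fin n) R)))
  haveI : LocallyOfFiniteType π₀ := (HasRingHomProperty.Spec_iff (P := @LocallyOfFiniteType)).2
    (RingHom.finiteType_algebraMap.2 inferInstance)
  let j : 𝔸(ι; Spec R) ⟶ Spec (CommRingCat.of (MvPolynomial (Fin n) R)) :=
    (AffineSpace.SpecIso ι R).hom ≫ Spec.map (CommRingCat.ofHom e.symm.toRingHom)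
  have hj : (𝔸(ι; Spec R) ↘ Spec R) = j ≫ π₀ := by
    show _ = ((AffineSpace.SpecIso ι R).hom ≫ _) ≫ π₀
    rw [Category.assoc, ← Iso.inv_comp_eq, AffineSpace.SpecIso_inv_over]
    show _ = Spec.map _ ≫ Spec.map _
    rw [← Spec.map_comp]
    refine congrArg Spec.map (CommRingCat.hom_ext (RingHom.ext fun r => ?_))
    exact (MvPolynomial.rename_C _ r).symm
  simp only [hj]
  rw [fibreDimAt_etale_comp]
  exact FibGen4.fibreDimAt_affineSpace n _

theorem rd_eq_zero_of_lqf {X Y : Scheme.{u}} (f : X ⟶ Y) [LocallyQuasiFinite f] [LocallyOfFiniteType f]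
    (x : X) : rd f x = 0 := by
  have h := rd_le_fibreDimAt f (specializes_refl x) rfl
  rw [fibreDimAt_eq_zero f x] at h
  exact Nat.le_zero.1 (by exact_mod_cast h)

theorem isMaxFib_of_rd_eq {X Y : Scheme.{u}} (f : X ⟶ Y) [LocallyOfFiniteType f] {x : X} {n : ℕ}
    (h : ∀ y, FlatMor.fibreDimAt f y ≤ (n : WithBot ℕ∞)) (hx : rd f x = n) : IsMaxFib f x := by
  intro y hy he
  by_contra hne
  have h1 := rd_lt_of_specializes f hy hne he
  have h2 := (fibreDimAt_le_iff f).1 (h x) y hy he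
  omega

/-- Near a point where the fibre dimension is `n` there is a locally quasi-finite map to affine
`n`-space over the base. -/
theorem exists_lqf_toAffineSpace {X S : Scheme.{u}} (f : X ⟶ S) [LocallyOfFiniteType f] {x : X} {n : ℕ}
    (hx : FlatMor.fibreDimAt f x = (n : WithBot ℕ∞)) :
    ∃ (W : X.Opens) (g : (W : Scheme.{u}) ⟶ 𝔸(ULift.{u} (Fin n); S)),
      x ∈ W ∧ g ≫ (𝔸(ULift.{u} (Fin n); S) ↘ S) = W.ι ≫ f ∧ LocallyQuasiFinite g := by
  obtain ⟨V, hV, U, hU, hUV, hxU, H⟩ := QFAffine4.exists_chart_qfAt f x hx.le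
  let φ := f.appLE V U hUV
  letI : Algebra Γ(S, V) Γ(X, U) := φ.hom.toAlgebra
  obtain ⟨m, b, hm, hqf⟩ := H
  haveI hft : Algebra.FiniteType Γ(S, V) Γ(X, U) := f.finiteType_appLE hV hU hUV
  let C := CommRingCat.of (MvPolynomial (Fin m) Γ(S, V))
  let ψ : C ⟶ Γ(X, U) := CommRingCat.ofHom (MvPolynomial.aeval (R := Γ(S, V)) b).toRingHom
  let a : Spec Γ(X, U) ⟶ Spec C := Spec.map ψ
  let π₀ : Spec C ⟶ Spec Γ(S, V) :=
    Spec.map (CommRingCat.ofHom (algebraMap Γ(S, V) (MvPolynomial (Fin m) Γ(S, V))))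
  let π : Spec C ⟶ S := π₀ ≫ hV.fromSpec
  have haπ₀ : a ≫ π₀ = Spec.map φ := by
    rw [← Spec.map_comp]
    exact congrArg Spec.map (CommRingCat.hom_ext (RingHom.ext fun t => (MvPolynomial.aeval b).commutes t))
  have haπ : a ≫ π = hU.fromSpec ≫ f := by
    show a ≫ π₀ ≫ hV.fromSpec = _
    rw [← Category.assoc, haπ₀]
    exact IsAffineOpen.SpecMap_appLE_fromSpec f hV hU hUV
  haveI : LocallyOfFiniteType π₀ := (HasRingHomProperty.Spec_iff (P := @LocallyOfFiniteType)).2
    (RingHom.finiteType_algebraMap.2 inferInstance)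
  haveI : LocallyOfFiniteType π := inferInstance
  haveI : LocallyOfFiniteType (a ≫ π) := haπ ▸ inferInstance
  haveI : LocallyOfFiniteType a := locallyOfFiniteType_of_comp a π
  let P : Spec Γ(X, U) := hU.primeIdealOf ⟨x, hxU⟩
  have hP : hU.fromSpec P = x := hU.fromSpec_primeIdealOf ⟨x, hxU⟩
  have hπdim : ∀ y, FlatMor.fibreDimAt π y = (m : WithBot ℕ∞) := fun y => by
    rw [fibreDimAt_comp_lqf]
    exact FibGen4.fibreDimAt_affineSpace m y
  have hmn : m = n := by
    refine le_antisymm hm ?_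
    have h1 := fibreDimAt_comp_le a π P
    simp only [haπ] at h1
    rw [fibreDimAt_etale_comp, hP, hx, (fibreDimAt_eq_zero_iff a P).2 hqf, zero_add, hπdim] at h1
    exact_mod_cast h1
  subst hmn
  let O : (Spec Γ(X, U)).Opens := a.quasiFiniteLocus
  let W : X.Opens := hU.fromSpec ''ᵁ O
  have hxW : x ∈ W := ⟨P, hqf, hP⟩
  let e := MvPolynomial.renameEquiv Γ(S, V) (Equiv.ulift.{u, 0} (α := Fin m))
  let j₁ : Spec C ⟶ Spec (CommRingCat.of (MvPolynomial (ULift.{u} (Fin m)) Γ(S, V))) :=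
    Spec.map (CommRingCat.ofHom e.toRingHom)
  haveI : IsIso (CommRingCat.ofHom e.toRingHom) := e.toRingEquiv.toCommRingCatIso.isIso_hom
  haveI : IsOpenImmersion (AffineSpace.map (ULift.{u} (Fin m)) hV.fromSpec) :=
    MorphismProperty.of_isPullback (AffineSpace.isPullback_map hV.fromSpec).flip (inferInstance : IsOpenImmersion hV.fromSpec)
  let j : Spec C ⟶ 𝔸(ULift.{u} (Fin m); S) :=
    j₁ ≫ (AffineSpace.SpecIso (ULift.{u} (Fin m)) Γ(S, V)).inv ≫ AffineSpace.map (ULift.{u} (Fin m)) hV.fromSpec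
  have hj : j ≫ (𝔸(ULift.{u} (Fin m); S) ↘ S) = π := by
    simp only [j, Category.assoc, AffineSpace.map_over, AffineSpace.SpecIso_inv_over_assoc]
    show _ = π₀ ≫ hV.fromSpec
    rw [← Category.assoc]
    congr 1
    rw [← Spec.map_comp]
    refine congrArg Spec.map (CommRingCat.hom_ext (RingHom.ext fun t => ?_))
    exact MvPolynomial.rename_C _ t
  have hrange : Set.range (O.ι ≫ hU.fromSpec) = (W : Set X) := by
    rw [Scheme.Hom.comp_base, TopCat.coe_comp, Set.range_comp, Scheme.Opens.range_ι]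
    rfl
  let k : (W : Scheme.{u}) ⟶ (O : Scheme.{u}) :=
    IsOpenImmersion.lift (O.ι ≫ hU.fromSpec) W.ι (by rw [hrange, Scheme.Opens.range_ι])
  have hk : k ≫ O.ι ≫ hU.fromSpec = W.ι := IsOpenImmersion.lift_fac _ _ _
  haveI : IsOpenImmersion k := by
    haveI : IsOpenImmersion (k ≫ (O.ι ≫ hU.fromSpec)) := hk.symm ▸ inferInstance
    exact IsOpenImmersion.of_comp k (O.ι ≫ hU.fromSpec)
  haveI : IsOpenImmersion j := inferInstance
  haveI : LocallyQuasiFinite (O.ι ≫ a) := by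
    rw [← Scheme.Hom.quasiFiniteLocus_eq_top_iff, eq_top_iff]
    intro t _
    show (O.ι ≫ a).QuasiFiniteAt t
    rw [Scheme.Hom.quasiFiniteAt_comp_iff_of_isOpenImmersion]
    exact t.2
  refine ⟨W, k ≫ O.ι ≫ a ≫ j, hxW, ?_, ?_⟩
  · simp only [Category.assoc, hj]
    rw [haπ, reassoc_of% hk]
  · rw [← Category.assoc O.ι]
    infer_instance

end Groth.Agent.AffChart4
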