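import Groth.Agent.Lib.FibGenSch4
import Groth.Agent.Lib.FibDim14.BaseChange

universe u

open CategoryTheory AlgebraicGeometry Topology TopologicalSpace Limits Groth.Agent.FibDim14 Groth.Agent.VarDim

set_option backward.isDefEq.respectTransparency.types false

namespace Groth.Agent.FibGen4

variable {k : Type u} [Field k] {X Y : Scheme.{u}} (qX : X ⟶ Spec (CommRingCat.of k))
  (qY : Y ⟶ Spec (CommRingCat.of k)) [LocallyOfFiniteType qX] [LocallyOfFiniteType qY] (f : X ⟶ Y)

theorem rd_eq_sdim (x : X) : rd qX x = sdim qX x := by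
  have h1 : rdeg qX x = (sdim qX x : Cardinal) := trdeg_over_pt qX x
  rw [rd, h1, Cardinal.toNat_natCast]

theorem sdim_eq_add_rd [LocallyOfFiniteType f] (hf : f ≫ qY = qX) (x : X) :
    sdim qX x = sdim qY (f x) + rd f x := by
  subst hf
  rw [← rd_eq_sdim, rd_comp, rd_eq_sdim]

/-- For a flat morphism to an irreducible variety all components upstairs have dimension `dim Y + n`
iff all fibres have pure dimension `n`. -/
theorem forall_dim_eq_iff_hasRelDim [IrreducibleSpace ↥Y] (hf : f ≫ qY = qX) [Flat f] (n : ℕ) :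
    (∀ Z : Set ↥X, Z ∈ irreducibleComponents ↥X → topologicalKrullDim ↥Z = topologicalKrullDim ↥Y + (n : WithBot ℕ∞)) ↔
      Cyc.HasRelDim f n := by
  haveI : LocallyOfFiniteType (f ≫ qY) := hf.symm ▸ inferInstance
  haveI : LocallyOfFiniteType f := locallyOfFiniteType_of_comp f qY
  haveI : IsLocallyNoetherian Y := LocallyOfFiniteType.isLocallyNoetherian qY
  haveI : LocallyOfFinitePresentation f := locallyOfFinitePresentation_of_locallyNoetherian f
  have hdimY : topologicalKrullDim ↥Y = (sdim qY (genericPoint Y) : WithBot ℕ∞) := dim_eq_sdim_genericPoint qY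
  have hcomp : ∀ g : X, (∀ x, x ⤳ g → x = g) →
      (topologicalKrullDim (closure {g} : Set X) = topologicalKrullDim ↥Y + (n : WithBot ℕ∞) ↔ rd f g = n) := by
    intro g hg
    have hgY : f g = genericPoint Y := by
      obtain ⟨x, hx, he⟩ := Flat.generalizingMap f ((genericPoint_spec Y).specializes (y := f g) trivial)
      rw [← he, hg x hx]
    rw [dim_closure_singleton qX, hdimY, sdim_eq_add_rd qX qY f hf, hgY]
    constructor
    · intro h
      have : sdim qY (genericPoint Y) + rd f g = sdim qY (genericPoint Y) + n := by exact_mod_cast h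
      omega
    · intro h
      rw [h]
      push_cast
      rfl
  rw [hasRelDim_iff]
  constructor
  · intro h x hx
    obtain ⟨g, hgx, hg⟩ : ∃ g, g ⤳ x ∧ ∀ y, y ⤳ g → y = g := by
      obtain ⟨Z, hZ, hxZ⟩ : ∃ Z ∈ irreducibleComponents X, x ∈ Z :=
        ⟨irreducibleComponent x, irreducibleComponent_mem_irreducibleComponents _, mem_irreducibleComponent⟩
      obtain ⟨g, rfl, hg⟩ := exists_generic_of_mem_irreducibleComponents hZ
      exact ⟨g, specializes_iff_mem_closure.2 hxZ, hg⟩
    have hgn : rd f g = n := (hcomp g hg).1 (h _ ((maximal_iff_mem_irreducibleComponents (X := X) g).1 hg))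
    have h1 := fibreDimAt_eq_of_specializes f hx hgx
    rw [fibreDimAt_eq_rd_of_isMaxFib f hx, fibreDimAt_eq_rd_of_isMaxFib f (fun y hy _ => hg y hy), hgn] at h1
    exact_mod_cast h1.symm
  · intro h Z hZ
    obtain ⟨g, rfl, hg⟩ := exists_generic_of_mem_irreducibleComponents hZ
    exact (hcomp g hg).2 (h g fun y hy _ => hg y hy)

/-- Components of the preimage of an irreducible closed set under a flat morphism of pure relative
dimension `n`. -/
theorem dim_component_preimage (hf : f ≫ qY = qX) [Flat f] {n : ℕ} (hn : Cyc.HasRelDim f n)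
    (V : Set ↥Y) (hV : IsClosed V) (hVirr : IsIrreducible V)
    (W : Set ↥(f ⁻¹' V)) (hW : W ∈ irreducibleComponents ↥(f ⁻¹' V)) :
    topologicalKrullDim ↥W = topologicalKrullDim ↥V + (n : WithBot ℕ∞) := by
  haveI : LocallyOfFiniteType (f ≫ qY) := hf.symm ▸ inferInstance
  haveI : LocallyOfFiniteType f := locallyOfFiniteType_of_comp f qY
  rw [hasRelDim_iff] at hn
  let e := Subtype.val '' W
  have hWc : IsClosed e :=
    (hV.preimage f.continuous).isClosedEmbedding_subtypeVal.isClosedMap _ (isClosed_of_mem_irreducibleComponents W hW)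
  have heirr : IsIrreducible e := hW.1.image _ continuous_subtype_val.continuousOn
  obtain ⟨w, hw⟩ := QuasiSober.sober heirr hWc
  obtain ⟨v, hv⟩ := QuasiSober.sober hVirr hV
  have hwV : f w ∈ V := by
    obtain ⟨z, -, hz⟩ := hw.mem
    exact hz ▸ z.2
  have key : ∀ y, y ⤳ w → f y ∈ V → y = w := by
    intro y hy hyV
    have h1 : W ⊆ closure {(⟨y, hyV⟩ : f ⁻¹' V)} := by
      intro z hz
      rw [closure_subtype, Set.image_singleton]
      exact specializes_iff_mem_closure.1 (hy.trans (hw.specializes ⟨z, hz, rfl⟩))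
    have h2 := hW.2 isIrreducible_singleton.closure h1 (subset_closure rfl)
    exact (hy.antisymm (hw.specializes ⟨_, h2, rfl⟩)).eq
  have hfw : f w = v := by
    obtain ⟨y, hy, he⟩ := Flat.generalizingMap f (hv.specializes hwV)
    rw [← he, key y hy (he ▸ hv.mem)]
  have hwn : rd f w = n := hn w fun y hy he => key y hy (he ▸ hwV)
  have hWe : topologicalKrullDim ↥W = topologicalKrullDim ↥e :=
    IsHomeomorph.topologicalKrullDim_eq _
      (IsEmbedding.subtypeVal.homeomorphImage W).isHomeomorph
  rw [hWe, ← hw.def, ← hv.def, dim_closure_singleton qX, dim_closure_singleton qY,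
    sdim_eq_add_rd qX qY f hf, hfw, hwn]
  push_cast
  rfl

end Groth.Agent.FibGen4
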