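import Groth.Agent.Lib.QFDense4
import Mathlib.AlgebraicGeometry.Morphisms.QuasiFinite
import Mathlib.AlgebraicGeometry.Morphisms.Finite
import Mathlib.AlgebraicGeometry.Morphisms.ClosedImmersion
import Mathlib.AlgebraicGeometry.Limits
import Mathlib.Topology.GDelta.Basic

/-!
Quasi-finite morphisms over a dense open of the target.
-/

universe u

open AlgebraicGeometry CategoryTheory Limits TopologicalSpace

set_option backward.isDefEq.respectTransparency.types false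

namespace Groth.Agent.QFDense4

lemma exists_isIntegral_pow {A B : Type u} [CommRing A] [Nontrivial A] [CommRing B] [Algebra A B]
    [Algebra.FiniteType A B] [Algebra.QuasiFinite A B] :
    ∃ a : A, ¬ IsNilpotent a ∧ ∀ x : B, ∃ k : ℕ, IsIntegral A (algebraMap A B a ^ k * x) := by
  classical
  let N := nilradical A
  let NB := N.map (algebraMap A B)
  have : IsReduced (A ⧸ N) := (Ideal.isRadical_iff_quotient_reduced N).1 (Ideal.radical_isRadical _)
  have : Nontrivial (A ⧸ N) := Ideal.Quotient.nontrivial_iff.2 fun h => by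
    obtain ⟨n, hn⟩ := mem_nilradical.1 (h ▸ Submodule.mem_top : (1 : A) ∈ N)
    simp at hn
  letI : Algebra (A ⧸ N) (B ⧸ NB) := (Ideal.quotientMap NB (algebraMap A B) Ideal.le_comap_map).toAlgebra
  have : IsScalarTower A (A ⧸ N) (B ⧸ NB) := IsScalarTower.of_algebraMap_eq fun x => rfl
  have : Algebra.FiniteType (A ⧸ N) (B ⧸ NB) := Algebra.FiniteType.of_restrictScalars_finiteType A _ _
  have : Algebra.QuasiFinite (A ⧸ N) (B ⧸ NB) := Algebra.QuasiFinite.of_restrictScalars A (A ⧸ N) (B ⧸ NB)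
  obtain ⟨m, hm⟩ := Ideal.exists_maximal (A ⧸ N)
  have := hm.isPrime
  obtain ⟨η, hη, -⟩ := Ideal.exists_minimalPrimes_le (I := (⊥ : Ideal (A ⧸ N))) (J := m) bot_le
  have := hη.1.1
  obtain ⟨gens, hgens⟩ := (inferInstance : Algebra.FiniteType A B).out
  choose b hb hint using fun x : B => exists_isIntegral hη (B ⧸ NB) (Ideal.Quotient.mk NB x)
  choose b' hb' using fun x => Ideal.Quotient.mk_surjective (b x)
  let a := ∏ x ∈ gens, b' x
  have ha : ¬ IsNilpotent a := fun h => by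
    have h1 : Ideal.Quotient.mk N a ∈ η :=
      (Ideal.Quotient.eq_zero_iff_mem.2 (mem_nilradical.2 h)) ▸ zero_mem η
    rw [map_prod] at h1
    obtain ⟨x, -, hx⟩ := (Ideal.IsPrime.prod_mem_iff (hp := ‹η.IsPrime›)).1 h1
    exact hb x (hb' x ▸ hx)
  refine ⟨a, ha, ?_⟩
  have hgen : ∀ x ∈ gens, IsIntegral A (algebraMap A B a * x) := by
    intro x hx
    have h1 : IsIntegral A (Ideal.Quotient.mk NB (algebraMap A B (b' x) * x)) := by
      have h2 := hint x
      rw [← hb' x] at h2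
      have : Algebra.IsIntegral A (A ⧸ N) := inferInstance
      exact isIntegral_trans _ h2
    obtain ⟨p, hp, hp0⟩ := h1
    have hmem : Polynomial.eval₂ (algebraMap A B) (algebraMap A B (b' x) * x) p ∈ NB := by
      rw [← Ideal.Quotient.eq_zero_iff_mem, Polynomial.hom_eval₂]
      exact hp0
    have hnil : NB ≤ nilradical B := Ideal.map_le_iff_le_comap.2 fun y hy => by
      rw [Ideal.mem_comap, mem_nilradical]
      exact (mem_nilradical.1 hy).map _
    obtain ⟨n, hn⟩ := mem_nilradical.1 (hnil hmem)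
    have hint' : IsIntegral A (algebraMap A B (b' x) * x) :=
      ⟨p ^ n, hp.pow n, by rw [Polynomial.eval₂_pow, hn]⟩
    obtain ⟨d, hd⟩ := Finset.dvd_prod_of_mem b' hx
    rw [show a = b' x * d from hd, map_mul, mul_comm (algebraMap A B (b' x)), mul_assoc]
    exact isIntegral_algebraMap.mul hint'
  intro z
  have hz : z ∈ Algebra.adjoin A (gens : Set B) := hgens ▸ trivial
  induction hz using Algebra.adjoin_induction with
  | mem x hx => exact ⟨1, by rw [pow_one]; exact hgen x hx⟩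
  | algebraMap r => exact ⟨0, by rw [pow_zero, one_mul]; exact isIntegral_algebraMap⟩
  | add x y _ _ hx hy =>
    obtain ⟨k, hk⟩ := hx
    obtain ⟨l, hl⟩ := hy
    refine ⟨k + l, ?_⟩
    rw [mul_add, pow_add]
    refine IsIntegral.add ?_ ?_
    · rw [mul_comm (_ ^ k), mul_assoc]
      exact (isIntegral_algebraMap.pow l).mul hk
    · rw [mul_assoc]
      exact (isIntegral_algebraMap.pow k).mul hl
  | mul x y _ _ hx hy =>
    obtain ⟨k, hk⟩ := hx
    obtain ⟨l, hl⟩ := hy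
    exact ⟨k + l, by rw [pow_add, mul_mul_mul_comm]; exact hk.mul hl⟩

lemma nonempty_basicOpen {X : Scheme.{u}} {V : X.Opens} (hV : IsAffineOpen V) {a : Γ(X, V)} (ha : ¬ IsNilpotent a) :
    (X.basicOpen a : Set X).Nonempty := by
  have : (PrimeSpectrum.basicOpen a : Set (PrimeSpectrum Γ(X, V))).Nonempty := by
    rw [Set.nonempty_iff_ne_empty]
    exact fun h => ha (PrimeSpectrum.basicOpen_eq_bot_iff a |>.1 (TopologicalSpace.Opens.coe_eq_empty.1 h))
  rw [← hV.fromSpec_image_basicOpen a]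
  exact this.image _

/-- Affine piece: the image of a nowhere dense closed set avoids a nonempty open. -/
lemma exists_disjoint_affine {X Y : Scheme.{u}} (f : Y ⟶ X) [LocallyQuasiFinite f] [LocallyOfFiniteType f]
    {T : Set Y} (hT : IsClosed T) (hT' : IsNowhereDense T)
    {V : X.Opens} (hV : IsAffineOpen V) (hne : (V : Set X).Nonempty)
    {W : Y.Opens} (hW : IsAffineOpen W) (e : W ≤ f ⁻¹ᵁ V) :
    ∃ V' : X.Opens, V' ≤ V ∧ (V' : Set X).Nonempty ∧ Disjoint (V' : Set X) (f '' (T ∩ W)) := by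
  letI := (f.appLE V W e).hom.toAlgebra
  have : Algebra.FiniteType Γ(X, V) Γ(Y, W) := HasRingHomProperty.appLE @LocallyOfFiniteType f inferInstance ⟨V, hV⟩ ⟨W, hW⟩ e
  have : Algebra.QuasiFinite Γ(X, V) Γ(Y, W) := LocallyQuasiFinite.quasiFinite_appLE hV hW e
  have : Nontrivial Γ(X, V) := by
    obtain ⟨x, hx⟩ := hne
    exact (X.presheaf.germ V x hx).hom.domain_nontrivial
  let C : Set (PrimeSpectrum Γ(Y, W)) := hW.fromSpec ⁻¹' T
  have hC : IsClosed C := hT.preimage hW.fromSpec.continuous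
  obtain ⟨a, ha, h⟩ := exists_notMem_image (A := Γ(X, V)) (PrimeSpectrum.vanishingIdeal C) fun g hg => by
    have hsub : (PrimeSpectrum.basicOpen g : Set (PrimeSpectrum Γ(Y, W))) ⊆ C := fun P hP => by
      have := hg P.asIdeal P.isPrime hP
      rw [← hC.closure_eq, ← PrimeSpectrum.zeroLocus_vanishingIdeal_eq_closure]
      exact this
    have h0 : hW.fromSpec '' (PrimeSpectrum.basicOpen g : Set (PrimeSpectrum Γ(Y, W))) = ∅ := by
      refine Set.subset_empty_iff.1 ?_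
      rw [← (hT' : interior (closure T) = ∅)]
      exact interior_maximal ((Set.image_subset_iff.2 hsub).trans subset_closure)
        (hW.fromSpec.isOpenEmbedding.isOpenMap _ (PrimeSpectrum.basicOpen g).isOpen)
    exact PrimeSpectrum.basicOpen_eq_bot_iff g |>.1 (TopologicalSpace.Opens.coe_eq_empty.1 (Set.image_eq_empty.1 h0))
  refine ⟨X.basicOpen a, X.basicOpen_le a, nonempty_basicOpen hV ha, Set.disjoint_left.2 ?_⟩
  rintro _ hx ⟨y, ⟨hyT, hyW⟩, rfl⟩
  obtain ⟨P, rfl⟩ := hW.range_fromSpec.ge hyW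
  have hmem := h P.asIdeal P.isPrime fun g hg => by
    rw [PrimeSpectrum.mem_vanishingIdeal] at hg
    exact hg P hyT
  rw [← Scheme.Hom.comp_apply, ← IsAffineOpen.SpecMap_appLE_fromSpec f hV hW e, Scheme.Hom.comp_apply,
    ← hV.fromSpec_image_basicOpen a] at hx
  obtain ⟨Q, hQ, hQe⟩ := hx
  rw [hV.fromSpec.isOpenEmbedding.injective hQe] at hQ
  exact hQ hmem

lemma isAffineOpen_inter_preimage {X Y : Scheme.{u}} (f : Y ⟶ X) {V V₁ : X.Opens} (hV : IsAffineOpen V)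
    (hV₁ : IsAffineOpen V₁) (hle : V₁ ≤ V) {W : Y.Opens} (hW : IsAffineOpen W) (e : W ≤ f ⁻¹ᵁ V) :
    IsAffineOpen (W ⊓ f ⁻¹ᵁ V₁) := by
  have : IsAffine (V : Scheme.{u}) := hV
  have : IsAffine (W : Scheme.{u}) := hW
  let g := f.resLE V W e
  have h1 : IsAffineOpen (V.ι ⁻¹ᵁ V₁) := hV₁.preimage_of_isOpenImmersion V.ι (by rw [Scheme.Opens.opensRange_ι]; exact hle)
  have h3 : W.ι ''ᵁ (g ⁻¹ᵁ (V.ι ⁻¹ᵁ V₁)) = W ⊓ f ⁻¹ᵁ V₁ := by
    rw [← Scheme.Hom.comp_preimage, Scheme.Hom.resLE_comp_ι, Scheme.Hom.comp_preimage,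
      Scheme.Hom.image_preimage_eq_opensRange_inf, Scheme.Opens.opensRange_ι]
  exact h3 ▸ (h1.preimage g).image_of_isOpenImmersion W.ι

/-- Images of nowhere dense closed subsets under quasi-finite morphisms avoid a nonempty open in every nonempty open. -/
theorem exists_disjoint_image {X Y : Scheme.{u}} (f : Y ⟶ X) [LocallyQuasiFinite f] [LocallyOfFiniteType f]
    [QuasiCompact f] {T : Set Y} (hT : IsClosed T) (hT' : IsNowhereDense T)
    (O : X.Opens) (hO : (O : Set X).Nonempty) :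
    ∃ V' : X.Opens, V' ≤ O ∧ (V' : Set X).Nonempty ∧ Disjoint (V' : Set X) (f '' T) := by
  classical
  obtain ⟨x, hx⟩ := hO
  obtain ⟨V, hV, hxV, hVO⟩ := exists_isAffineOpen_mem_and_subset (X := X) hx
  obtain ⟨s, hs, e⟩ := isCompact_iff_finite_and_eq_biUnion_affineOpens.1
    (f.isCompact_preimage hV.isCompact)
  have key : ∀ t : Finset Y.affineOpens, ↑t ⊆ s → ∃ V' : X.Opens, IsAffineOpen V' ∧ V' ≤ V ∧ (V' : Set X).Nonempty ∧
      ∀ W ∈ t, Disjoint (V' : Set X) (f '' (T ∩ (W : Y.Opens))) := by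
    intro t
    induction t using Finset.induction with
    | empty => exact fun _ => ⟨V, hV, le_rfl, ⟨x, hxV⟩, by simp⟩
    | insert W t _ ih =>
      intro hts
      rw [Finset.coe_insert, Set.insert_subset_iff] at hts
      obtain ⟨V₁, hV₁, hle, hne, hd⟩ := ih hts.2
      have hWV : (W : Y.Opens) ≤ f ⁻¹ᵁ V := (le_iSup₂ (f := fun i (_ : i ∈ s) => (i : Y.Opens)) W hts.1).trans e.ge
      obtain ⟨V₂, hle₂, ⟨z, hz⟩, hd₂⟩ := exists_disjoint_affine f hT hT' hV₁ hne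
        (isAffineOpen_inter_preimage f hV hV₁ hle W.2 hWV) inf_le_right
      obtain ⟨V₃, hV₃, hzV₃, hle₃⟩ := exists_isAffineOpen_mem_and_subset (X := X) hz
      refine ⟨V₃, hV₃, fun w hw => hle (hle₂ (hle₃ hw)), ⟨z, hzV₃⟩, fun W' hW' => ?_⟩
      rcases Finset.mem_insert.1 hW' with rfl | hW'
      · refine Set.disjoint_left.2 fun w hw hw' => ?_
        obtain ⟨y, ⟨hyT, hyW⟩, rfl⟩ := hw'
        exact Set.disjoint_left.1 hd₂ (hle₃ hw) ⟨y, ⟨hyT, hyW, hle₂ (hle₃ hw)⟩, rfl⟩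
      · exact (hd W' hW').mono_left fun w hw => hle₂ (hle₃ hw)
  obtain ⟨V', -, hle, hne, hd⟩ := key hs.toFinset (by simp)
  refine ⟨V', fun w hw => hVO (hle hw), hne, Set.disjoint_left.2 ?_⟩
  rintro _ hw ⟨y, hyT, rfl⟩
  obtain ⟨W, hyW⟩ := Opens.mem_iSup.1 (e.le (show y ∈ f ⁻¹ᵁ V from hle hw))
  obtain ⟨hW, hyW⟩ := Opens.mem_iSup.1 hyW
  exact Set.disjoint_left.1 (hd W (hs.mem_toFinset.2 hW)) hw ⟨y, ⟨hyT, hyW⟩, rfl⟩

lemma isAffineOpen_of_clopen {X : Scheme.{u}} {W U : X.Opens} (hW : IsAffineOpen W) (hUW : U ≤ W)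
    (hcl : IsClosed (W.ι ⁻¹' (U : Set X))) : IsAffineOpen U := by
  have : IsAffine (W : Scheme.{u}) := hW
  let U' : (W : Scheme.{u}).Opens := W.ι ⁻¹ᵁ U
  have : IsClosedImmersion U'.ι := IsClosedImmersion.of_isPreimmersion _ (by
    rw [Scheme.Opens.range_ι]; exact hcl)
  have : IsAffine (U' : Scheme.{u}) := isAffine_of_isAffineHom U'.ι
  have h : IsAffineOpen U' := this
  have e : W.ι ''ᵁ U' = U := by
    rw [Scheme.Hom.image_preimage_eq_opensRange_inf, Scheme.Opens.opensRange_ι, inf_eq_right]; exact hUW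
  exact e ▸ h.image_of_isOpenImmersion W.ι

lemma isFinite_restrict_basicOpen {X Y : Scheme.{u}} (f : Y ⟶ X) [LocallyOfFiniteType f] {V : X.Opens}
    (hV : IsAffineOpen V) (hZ : IsAffineOpen (f ⁻¹ᵁ V)) (a : Γ(X, V))
    (hint : ∀ x : Γ(Y, f ⁻¹ᵁ V), ∃ k : ℕ, (f.app V).hom.IsIntegralElem ((f.app V) a ^ k * x)) :
    IsFinite (f ∣_ X.basicOpen a) := by
  have e : Y.basicOpen ((f.app V) a) = f ⁻¹ᵁ X.basicOpen a := (Scheme.preimage_basicOpen f a).symm
  have hZa : IsAffineOpen (f ⁻¹ᵁ X.basicOpen a) := e ▸ hZ.basicOpen _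
  have hVa := hV.basicOpen a
  have hloc := hV.isLocalization_basicOpen a
  have hloc' := hZ.isLocalization_of_eq_basicOpen ((f.app V) a) (homOfLE (e ▸ Y.basicOpen_le _)) e.symm
  have h : (f.app (X.basicOpen a)).hom.Finite := by
    refine RingHom.finite_iff_isIntegral_and_finiteType.2 ⟨?_, ?_⟩
    · letI := (X.presheaf.map (homOfLE (X.basicOpen_le a)).op).hom.toAlgebra
      letI := (Y.presheaf.map (homOfLE (e ▸ Y.basicOpen_le ((f.app V) a) : f ⁻¹ᵁ X.basicOpen a ≤ f ⁻¹ᵁ V)).op).hom.toAlgebra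
      intro z
      obtain ⟨x, ⟨_, m, rfl⟩, rfl⟩ := IsLocalization.exists_mk'_eq (Submonoid.powers ((f.app V) a)) z
      obtain ⟨k, p, hp, hp0⟩ := hint x
      have hnat : ∀ y, (f.app (X.basicOpen a)) (algebraMap Γ(X, V) Γ(X, X.basicOpen a) y) =
          algebraMap Γ(Y, f ⁻¹ᵁ V) Γ(Y, f ⁻¹ᵁ X.basicOpen a) ((f.app V) y) := fun y =>
        ConcreteCategory.congr_hom (Scheme.Hom.naturality f (homOfLE (X.basicOpen_le a)).op) y
      have h1 : (f.app (X.basicOpen a)).hom.IsIntegralElem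
          (algebraMap Γ(Y, f ⁻¹ᵁ V) Γ(Y, f ⁻¹ᵁ X.basicOpen a) ((f.app V) a ^ k * x)) := by
        refine ⟨p.map (algebraMap Γ(X, V) Γ(X, X.basicOpen a)), hp.map _, ?_⟩
        rw [Polynomial.eval₂_map, show (f.app (X.basicOpen a)).hom.comp (algebraMap Γ(X, V) Γ(X, X.basicOpen a)) =
          (algebraMap Γ(Y, f ⁻¹ᵁ V) Γ(Y, f ⁻¹ᵁ X.basicOpen a)).comp (f.app V).hom from RingHom.ext hnat,
          ← Polynomial.hom_eval₂, hp0, map_zero]
      obtain ⟨u, hu⟩ := (IsLocalization.Away.algebraMap_isUnit (S := Γ(X, X.basicOpen a)) a).pow (k + m)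
      have hz : IsLocalization.mk' Γ(Y, f ⁻¹ᵁ X.basicOpen a) x (⟨((f.app V) a) ^ m, m, rfl⟩ : Submonoid.powers ((f.app V) a)) =
          (f.app (X.basicOpen a)) (↑u⁻¹) * algebraMap Γ(Y, f ⁻¹ᵁ V) Γ(Y, f ⁻¹ᵁ X.basicOpen a) ((f.app V) a ^ k * x) := by
        rw [IsLocalization.mk'_eq_iff_eq_mul, mul_assoc, ← map_mul,
          show (f.app V) a ^ k * x * (f.app V) a ^ m = (f.app V) a ^ (k + m) * x by ring, map_mul, ← map_pow (f.app V).hom,
          ← hnat, map_pow (algebraMap Γ(X, V) Γ(X, X.basicOpen a)), ← hu, ← mul_assoc, ← map_mul, Units.inv_mul, map_one, one_mul]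
      rw [hz]
      exact RingHom.IsIntegralElem.mul _ (f.app (X.basicOpen a)).hom.isIntegralElem_map h1
    · have := HasRingHomProperty.appLE @LocallyOfFiniteType f inferInstance ⟨_, hVa⟩ ⟨_, hZa⟩ le_rfl
      rwa [← Scheme.Hom.app_eq_appLE] at this
  have : IsAffine (X.basicOpen a : Scheme.{u}) := hVa
  rw [HasAffineProperty.iff_of_isAffine (P := @IsFinite)]
  refine ⟨hZa, ?_⟩
  rw [Scheme.Hom.appTop, morphismRestrict_app']
  refine (Scheme.Hom.appLE_congr f _ (U' := X.basicOpen a) (V' := f ⁻¹ᵁ X.basicOpen a) (Scheme.Opens.ι_image_top _)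
    (by simp) (fun {_ _} g => g.hom.Finite)).2 ?_
  rwa [← Scheme.Hom.app_eq_appLE]

/-- A quasi-finite morphism of finite type is finite over a dense open. -/
theorem exists_isFinite_restrict {X Y : Scheme.{u}} (f : Y ⟶ X) [LocallyQuasiFinite f] [LocallyOfFiniteType f]
    [QuasiCompact f] (O : X.Opens) (hO : (O : Set X).Nonempty) :
    ∃ V : X.Opens, V ≤ O ∧ (V : Set X).Nonempty ∧ IsFinite (f ∣_ V) := by
  classical
  obtain ⟨x, hx⟩ := hO
  obtain ⟨V, hV, hxV, hVO⟩ := exists_isAffineOpen_mem_and_subset (X := X) hx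
  obtain ⟨s, hs, e⟩ := isCompact_iff_finite_and_eq_biUnion_affineOpens.1
    (f.isCompact_preimage hV.isCompact)
  -- avoid the boundaries of the affine pieces
  let T : Y.affineOpens → Set Y := fun W => closure ((W : Y.Opens) : Set Y) \ (W : Y.Opens)
  have hT : ∀ W, IsClosed (T W) := fun W => isClosed_closure.sdiff (W : Y.Opens).isOpen
  have hT' : ∀ W, IsNowhereDense (T W) := fun W => by
    rw [IsNowhereDense, (hT W).closure_eq, Set.eq_empty_iff_forall_notMem]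
    intro y hy
    obtain ⟨z, hz, hzW⟩ := mem_closure_iff.1 (interior_subset hy).1 _ isOpen_interior hy
    exact (interior_subset hz).2 hzW
  have key : ∀ t : Finset Y.affineOpens, ∃ V' : X.Opens, V' ≤ V ∧ (V' : Set X).Nonempty ∧
      ∀ W ∈ t, Disjoint (V' : Set X) (f '' T W) := by
    intro t
    induction t using Finset.induction with
    | empty => exact ⟨V, le_rfl, ⟨x, hxV⟩, by simp⟩
    | insert W t _ ih =>
      obtain ⟨V₁, hle, hne, hd⟩ := ih
      obtain ⟨V₂, hle₂, hne₂, hd₂⟩ := exists_disjoint_image f (hT W) (hT' W) V₁ hne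
      exact ⟨V₂, hle₂.trans hle, hne₂, Finset.forall_mem_insert .. |>.2 ⟨hd₂, fun W' hW' => (hd W' hW').mono_left hle₂⟩⟩
  obtain ⟨V₁, hle₁, ⟨x₁, hx₁⟩, hd⟩ := key hs.toFinset
  obtain ⟨V', hV', hxV', hle'⟩ := exists_isAffineOpen_mem_and_subset (X := X) hx₁
  have hV'V : V' ≤ V := fun w hw => hle₁ (hle' hw)
  have hcl : ∀ W ∈ s, ∀ y ∈ f ⁻¹ᵁ V', y ∈ closure ((W : Y.Opens) : Set Y) → y ∈ (W : Y.Opens) := fun W hW y hy hyc =>
    by_contra fun hn => Set.disjoint_left.1 (hd W (hs.mem_toFinset.2 hW)) (hle' hy) ⟨y, ⟨hyc, hn⟩, rfl⟩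
  have key2 : ∀ t : Finset Y.affineOpens, (↑t : Set Y.affineOpens) ⊆ s → ∃ Z : Y.Opens, IsAffineOpen Z ∧
      Z ≤ f ⁻¹ᵁ V' ∧ IsClosed ((f ⁻¹ᵁ V').ι ⁻¹' (Z : Set Y)) ∧ ∀ W ∈ t, (W : Y.Opens) ⊓ f ⁻¹ᵁ V' ≤ Z := by
    intro t
    induction t using Finset.induction with
    | empty => exact fun _ => ⟨⊥, isAffineOpen_bot Y, bot_le, by simp, by simp⟩
    | insert W t _ ih =>
      intro hts
      rw [Finset.coe_insert, Set.insert_subset_iff] at hts
      obtain ⟨Z, hZ, hZle, hZcl, hZW⟩ := ih hts.2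
      have hWV : (W : Y.Opens) ≤ f ⁻¹ᵁ V := (le_iSup₂ (f := fun i (_ : i ∈ s) => (i : Y.Opens)) W hts.1).trans e.ge
      let P : Y.Opens := (W : Y.Opens) ⊓ f ⁻¹ᵁ V'
      have hP : IsAffineOpen P := isAffineOpen_inter_preimage f hV hV' hV'V W.2 hWV
      have hopen : IsOpen ((P : Set Y) \ (Z : Set Y)) := by
        obtain ⟨C, hC, hCe⟩ := (f ⁻¹ᵁ V').ι.isOpenEmbedding.isInducing.isClosed_iff.1 hZcl
        have : (P : Set Y) \ (Z : Set Y) = (P : Set Y) \ C := by
          ext y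
          refine and_congr_right fun hy => not_congr ?_
          exact (Set.ext_iff.1 hCe ⟨y, hy.2⟩).symm
        rw [this]; exact P.isOpen.sdiff hC
      let P' : Y.Opens := ⟨_, hopen⟩
      have hP' : IsAffineOpen P' := isAffineOpen_of_clopen hP (fun y hy => hy.1) (by
        have : P.ι ⁻¹' ((P : Set Y) \ (Z : Set Y)) = (P.ι ⁻¹' (Z : Set Y))ᶜ := by
          ext y; exact ⟨fun h => h.2, fun h => ⟨y.2, h⟩⟩
        change IsClosed (P.ι ⁻¹' ((P : Set Y) \ (Z : Set Y)))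
        rw [this]
        exact (Z.isOpen.preimage P.ι.continuous).isClosed_compl)
      have hdisj : Disjoint Z P' := by
        rw [← TopologicalSpace.Opens.coe_disjoint]; exact Set.disjoint_left.2 fun y hy hy' => hy'.2 hy
      refine ⟨Z ⊔ P', hZ.sup_of_disjoint hP' hdisj, sup_le hZle fun y hy => hy.1.2, ?_, ?_⟩
      · have : ((f ⁻¹ᵁ V').ι ⁻¹' ((Z ⊔ P' : Y.Opens) : Set Y)) =
            (f ⁻¹ᵁ V').ι ⁻¹' (Z : Set Y) ∪ (f ⁻¹ᵁ V').ι ⁻¹' closure ((W : Y.Opens) : Set Y) := by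
          ext y
          constructor
          · rintro (h | h)
            · exact Or.inl h
            · exact Or.inr (subset_closure h.1.1)
          · rintro (h | h)
            · exact Or.inl h
            · by_cases hy : (f ⁻¹ᵁ V').ι y ∈ Z
              · exact Or.inl hy
              · exact Or.inr ⟨⟨hcl W hts.1 _ y.2 h, y.2⟩, hy⟩
        rw [this]
        exact hZcl.union (isClosed_closure.preimage (f ⁻¹ᵁ V').ι.continuous)
      · refine Finset.forall_mem_insert .. |>.2 ⟨fun y hy => ?_, fun W' hW' => (hZW W' hW').trans le_sup_left⟩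
        by_cases hyZ : y ∈ Z
        · exact Or.inl hyZ
        · exact Or.inr ⟨hy, hyZ⟩
  obtain ⟨Z, hZ, hZle, -, hZW⟩ := key2 hs.toFinset (by simp)
  have hZe : Z = f ⁻¹ᵁ V' := le_antisymm hZle fun y hy => by
    obtain ⟨W, hyW⟩ := Opens.mem_iSup.1 (e.le (show y ∈ f ⁻¹ᵁ V from hV'V hy))
    obtain ⟨hW, hyW⟩ := Opens.mem_iSup.1 hyW
    exact hZW W (hs.mem_toFinset.2 hW) ⟨hyW, hy⟩
  subst hZe
  letI := (f.app V').hom.toAlgebra
  have : Algebra.FiniteType Γ(X, V') Γ(Y, f ⁻¹ᵁ V') := by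
    have := HasRingHomProperty.appLE @LocallyOfFiniteType f inferInstance ⟨_, hV'⟩ ⟨_, hZ⟩ le_rfl
    rwa [← Scheme.Hom.app_eq_appLE] at this
  have : Algebra.QuasiFinite Γ(X, V') Γ(Y, f ⁻¹ᵁ V') := by
    have := LocallyQuasiFinite.quasiFinite_appLE (f := f) hV' hZ le_rfl
    rwa [← Scheme.Hom.app_eq_appLE] at this
  have : Nontrivial Γ(X, V') := (X.presheaf.germ V' x₁ hxV').hom.domain_nontrivial
  obtain ⟨a, ha, hint⟩ := exists_isIntegral_pow (A := Γ(X, V')) (B := Γ(Y, f ⁻¹ᵁ V'))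
  exact ⟨X.basicOpen a, fun w hw => hVO (hV'V (X.basicOpen_le a hw)), nonempty_basicOpen hV' ha,
    isFinite_restrict_basicOpen f hV' hZ a hint⟩

end Groth.Agent.QFDense4
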