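import Groth.Prelude.Def_Mor2
import Groth.Agent.Lib.Deform4
import Groth.Agent.Lib.SchBasic.Basic
import Groth.Agent.Lib.SmoothPt12.Basic
import Groth.Agent.S0400
import Groth.Agent.S0422
import Mathlib.AlgebraicGeometry.Morphisms.Etale
import Mathlib.AlgebraicGeometry.Morphisms.FlatMono
import Mathlib.AlgebraicGeometry.Morphisms.FlatRank

set_option backward.isDefEq.respectTransparency.types false

/-!
Properties of a deformation `f'` of `f` which can be read off `f`.
-/

namespace Groth.Agent.Deform4

open AlgebraicGeometry CategoryTheory Limits MorphismProperty TensorProduct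

universe u

instance respects_lft : MorphismProperty.Respects @LocallyOfFiniteType.{u} @IsOpenImmersion where
  precomp i (_ : IsOpenImmersion i) f (hf : LocallyOfFiniteType f) :=
    show LocallyOfFiniteType (i ≫ f) from inferInstance
  postcomp i (_ : IsOpenImmersion i) f (hf : LocallyOfFiniteType f) :=
    show LocallyOfFiniteType (f ≫ i) from inferInstance

instance respects_lfp : MorphismProperty.Respects @LocallyOfFinitePresentation.{u} @IsOpenImmersion where
  precomp i (_ : IsOpenImmersion i) f (hf : LocallyOfFinitePresentation f) :=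
    show LocallyOfFinitePresentation (i ≫ f) from inferInstance
  postcomp i (_ : IsOpenImmersion i) f (hf : LocallyOfFinitePresentation f) :=
    show LocallyOfFinitePresentation (f ≫ i) from inferInstance

variable {X X' Y Y' S S' : Scheme.{u}} {iX : X ⟶ X'} {iY : Y ⟶ Y'} {iS : S ⟶ S'} {f : X ⟶ Y}
  {f' : X' ⟶ Y'} {g : Y ⟶ S} {g' : Y' ⟶ S'}

theorem pullback_snd_of {P : MorphismProperty Scheme.{u}} [P.RespectsIso]
    (hc : IsPullback iX f f' iY) (h : P f) : P (pullback.snd f' iY) := by
  rw [← hc.isoPullback_inv_snd, MorphismProperty.cancel_left_of_respectsIso P]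
  exact h

theorem isNilpotent_ker_app (hn : IsNilpotent iS.ker) [QuasiCompact iS] (U : S'.affineOpens) :
    IsNilpotent (RingHom.ker (iS.app U.1).hom) := by
  obtain ⟨n, hn⟩ := hn
  refine ⟨n, ?_⟩
  rw [← Scheme.Hom.ker_apply iS U, ← ThickUnr4.ideal_pow, hn]
  rfl

theorem lft_of_nilpotent (hc : IsPullback iX f f' iY) [IsClosedImmersion iY]
    (hn : IsNilpotent iY.ker) (h : LocallyOfFiniteType f) : LocallyOfFiniteType f' := by
  rw [HasRingHomProperty.iff_appLE (P := @LocallyOfFiniteType)]
  intro U V e
  letI := (f'.appLE U V e).hom.toAlgebra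
  have hP := chart_baseChange (P := @LocallyOfFiniteType) f' iY (pullback_snd_of hc h) U V e
  exact RingHom.finiteType_algebraMap.2
    (finiteType_of_tensor _ (isNilpotent_ker_app hn U) (RingHom.finiteType_algebraMap.1 hP))

section

variable (hcX : IsPullback iX (f ≫ g) (f' ≫ g') iS) (hcY : IsPullback iY g g' iS)
  (w : iX ≫ f' = f ≫ iY) [IsClosedImmersion iS]

include hcX hcY w

theorem flat_of_nilpotent (hn : IsNilpotent iS.ker) [Flat (f' ≫ g')] (h : Flat f) : Flat f' := by
  have hc := isPullback_deform hcX hcY w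
  haveI : IsClosedImmersion iY := MorphismProperty.of_isPullback hcY.flip ‹IsClosedImmersion iS›
  refine of_charts (P := @Flat) f' g' fun U V W e₁ e₂ => ?_
  algebraize [(g'.appLE U V e₁).hom, (f'.appLE V W e₂).hom,
    ((f'.appLE V W e₂).hom.comp (g'.appLE U V e₁).hom)]
  haveI : Module.Flat Γ(S', U.1) Γ(X', W.1) := by
    have := HasRingHomProperty.appLE (P := @Flat) (f' ≫ g') inferInstance U W
      (e₂.trans ((Scheme.Hom.preimage_mono f' e₁)))
    rw [← Scheme.Hom.appLE_comp_appLE f' g' U.1 V.1 W.1 e₁ e₂] at this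
    exact this
  have hP := chart_baseChange (P := @Flat) f' iY (pullback_snd_of hc h) V W e₂
  rw [RingHom.flat_algebraMap_iff] at hP
  have hK := ker_app_of_isPullback hcY U V e₁
  revert hP
  generalize RingHom.ker (iY.app V.1).hom = K at hK ⊢
  subst hK
  intro hP
  exact Groth.Agent.S0400.result (M := Γ(X', W.1)) _ (isNilpotent_ker_app hn U) hP

theorem lfp_of_nilpotent (hn : IsNilpotent iS.ker) [Flat (f' ≫ g')]
    (h : LocallyOfFinitePresentation f) : LocallyOfFinitePresentation f' := by
  have hc := isPullback_deform hcX hcY w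
  haveI : IsClosedImmersion iY := MorphismProperty.of_isPullback hcY.flip ‹IsClosedImmersion iS›
  refine of_charts (P := @LocallyOfFinitePresentation) f' g' fun U V W e₁ e₂ => ?_
  algebraize [(g'.appLE U V e₁).hom, (f'.appLE V W e₂).hom,
    ((f'.appLE V W e₂).hom.comp (g'.appLE U V e₁).hom)]
  haveI : Module.Flat Γ(S', U.1) Γ(X', W.1) := by
    have := HasRingHomProperty.appLE (P := @Flat) (f' ≫ g') inferInstance U W
      (e₂.trans ((Scheme.Hom.preimage_mono f' e₁)))
    rw [← Scheme.Hom.appLE_comp_appLE f' g' U.1 V.1 W.1 e₁ e₂] at this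
    exact this
  have hP := chart_baseChange (P := @LocallyOfFinitePresentation) f' iY (pullback_snd_of hc h) V W e₂
  rw [RingHom.finitePresentation_algebraMap] at hP
  have hK := ker_app_of_isPullback hcY U V e₁
  revert hP
  generalize RingHom.ker (iY.app V.1).hom = K at hK ⊢
  subst hK
  intro hP
  exact finitePresentation_of_tensor _ (isNilpotent_ker_app hn U) hP

theorem flat_of_thickening [Surjective iS] [Flat (f' ≫ g')] [LocallyOfFinitePresentation (f' ≫ g')]
    [LocallyOfFiniteType g'] (h : Flat f) : Flat f' := by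
  have hc := isPullback_deform hcX hcY w
  haveI : IsClosedImmersion iY := MorphismProperty.of_isPullback hcY.flip ‹IsClosedImmersion iS›
  refine of_charts (P := @Flat) f' g' fun U V W e₁ e₂ => ?_
  algebraize [(g'.appLE U V e₁).hom, (f'.appLE V W e₂).hom,
    ((f'.appLE V W e₂).hom.comp (g'.appLE U V e₁).hom)]
  have e₁₂ : W.1 ≤ (f' ≫ g') ⁻¹ᵁ U.1 := e₂.trans ((Scheme.Hom.preimage_mono f' e₁))
  haveI : Module.Flat Γ(S', U.1) Γ(X', W.1) := by
    have := HasRingHomProperty.appLE (P := @Flat) (f' ≫ g') inferInstance U W e₁₂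
    rw [← Scheme.Hom.appLE_comp_appLE f' g' U.1 V.1 W.1 e₁ e₂] at this
    exact this
  haveI : Algebra.FinitePresentation Γ(S', U.1) Γ(X', W.1) := by
    have := HasRingHomProperty.appLE (P := @LocallyOfFinitePresentation) (f' ≫ g') inferInstance U W e₁₂
    rw [← Scheme.Hom.appLE_comp_appLE f' g' U.1 V.1 W.1 e₁ e₂] at this
    exact this
  haveI : Algebra.FiniteType Γ(S', U.1) Γ(Y', V.1) :=
    HasRingHomProperty.appLE (P := @LocallyOfFiniteType) g' inferInstance U V e₁
  have hP := chart_baseChange (P := @Flat) f' iY (pullback_snd_of hc h) V W e₂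
  rw [RingHom.flat_algebraMap_iff] at hP
  have hK := ker_app_of_isPullback hcY U V e₁
  revert hP
  generalize RingHom.ker (iY.app V.1).hom = K at hK ⊢
  subst hK
  intro hP
  exact Groth.Agent.S0422.result (S' := Γ(X', W.1)) (M := Γ(X', W.1)) _
    (fun a ha => mem_nilradical.1 (ker_le_nilradical U ha)) hP

end

theorem lfp_of_lfp_lft [LocallyOfFinitePresentation (f' ≫ g')] [LocallyOfFiniteType g'] :
    LocallyOfFinitePresentation f' :=
  Groth.Agent.SchBasic.locallyOfFinitePresentation_of_comp f' g'

section

variable (hc : IsPullback iX f f' iY) [IsClosedImmersion iY] [Surjective iY]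

include hc

theorem surjective_iX : Surjective iX :=
  MorphismProperty.of_isPullback hc.flip ‹Surjective iY›

theorem smooth_of (hflat : Flat f') (hfp : LocallyOfFinitePresentation f') (h : Smooth f) :
    Smooth f' := by
  haveI := surjective_iX hc
  rw [← Scheme.Hom.smoothLocus_eq_top_iff, eq_top_iff]
  intro x _
  obtain ⟨z, rfl⟩ := iX.surjective x
  refine (SmoothPt12.smoothPt_iff_mem f' _).1 ((SmoothPt12.smoothPt_baseChange_iff hc z
    (.inl (Flat.stalkMap f' _))).1 ⟨⊤, trivial, ?_⟩)
  infer_instance

theorem etale_of (hflat : Flat f') (hfp : LocallyOfFinitePresentation f') (h : Etale f) :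
    Etale f' := by
  haveI : FormallyUnramified f' := (ThickUnr4.formallyUnramified_iff hc (.inl inferInstance)).1
    inferInstance
  exact Etale.of_formallyUnramified_of_flat f'

theorem isOpenImmersion_of (hflat : Flat f') (hfp : LocallyOfFinitePresentation f')
    (h : IsOpenImmersion f) : IsOpenImmersion f' := by
  haveI : Mono f' := (ThickUnr4.mono_iff_lft hc).1 inferInstance
  exact IsOpenImmersion.of_flat_of_mono f'

theorem isIso_of (hflat : Flat f') (hfp : LocallyOfFinitePresentation f')
    (h : IsIso f) : IsIso f' := by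
  haveI := isOpenImmersion_of hc hflat hfp inferInstance
  haveI := surjective_iX hc
  haveI : Surjective (iX ≫ f') := by rw [hc.w]; infer_instance
  haveI : Surjective f' := Surjective.of_comp iX f'
  haveI : Epi f'.base := (TopCat.epi_iff_surjective _).2 f'.surjective
  exact IsOpenImmersion.isIso f'

theorem isSeparated_of (h : IsSeparated f) : IsSeparated f' := by
  haveI := surjective_iX hc
  haveI : IsClosedImmersion iX := MorphismProperty.of_isPullback hc.flip ‹IsClosedImmersion iY›
  haveI : IsSeparated (iX ≫ f') := by rw [hc.w]; infer_instance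
  let m := pullback.map (iX ≫ f') (iX ≫ f') f' f' iX iX (𝟙 Y') (by simp) (by simp)
  have e : iX ≫ pullback.diagonal f' = pullback.diagonal (iX ≫ f') ≫ m := by
    apply pullback.hom_ext
    · simp only [Category.assoc, pullback.diagonal_fst, Category.comp_id, m, pullback.map]
      erw [pullback.lift_fst, pullback.diagonal_fst_assoc]
    · simp only [Category.assoc, pullback.diagonal_snd, Category.comp_id, m, pullback.map]
      erw [pullback.lift_snd, pullback.diagonal_snd_assoc]
  haveI : IsClosedImmersion m := MorphismProperty.pullbackMap (P := @IsClosedImmersion) ‹_› ‹_› rfl rfl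
  constructor
  refine IsClosedImmersion.of_isPreimmersion _ ?_
  have h2 : Set.range (pullback.diagonal f') = Set.range (iX ≫ pullback.diagonal f').base := by
    rw [Scheme.Hom.comp_base, TopCat.coe_comp, iX.surjective.range_comp]
  rw [h2, e]
  exact (pullback.diagonal (iX ≫ f') ≫ m).isClosedEmbedding.isClosed_range

theorem isFinite_of [LocallyOfFiniteType f'] (h : IsFinite f) : IsFinite f' := by
  haveI := surjective_iX hc
  haveI : IsSeparated f' := isSeparated_of hc inferInstance
  haveI : UniversallyClosed (iX ≫ f') := by rw [hc.w]; infer_instance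
  haveI := UniversallyClosed.of_comp_surjective iX f'
  haveI : LocallyQuasiFinite f' := (ThickUnr4.locallyQuasiFinite_iff_lft hc).1 inferInstance
  exact (IsFinite.iff_isProper_and_locallyQuasiFinite f').2 ⟨{}, inferInstance⟩

theorem isFinLocFreeOfDeg_of (hflat : Flat f') (hfp : LocallyOfFinitePresentation f') {d : ℕ}
    (h : Mor2.IsFinLocFreeOfDeg d f) : Mor2.IsFinLocFreeOfDeg d f' := by
  obtain ⟨⟨hf, hfl, hffp⟩, hd⟩ := h
  haveI := isFinite_of hc hf
  refine ⟨⟨inferInstance, hflat, hfp⟩, fun y => ?_⟩
  obtain ⟨y, rfl⟩ := iY.surjective y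
  rw [← Scheme.Hom.finrank_of_isPullback iX f f' iY hc y, hd]

end

end Groth.Agent.Deform4
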