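import Groth.Agent.Lib.RigidRel.Collapse
import Groth.Agent.Lib.PtSet.Constr
import Mathlib.AlgebraicGeometry.SpreadingOut
import Mathlib.AlgebraicGeometry.Morphisms.Flat
import Mathlib.RingTheory.Flat.EquationalCriterion

/-!
# Rigidity for a flat closed map with a section and constant functions on the fibres

* `flat_pi`: over a Noetherian ring a product of flat modules is flat.
* `surjective_ringMap_of_pow_eq_bot`: a flat scheme over an Artinian local ring whose closed fibre
  has no functions but constants has no functions but constants.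
* `fromSpecStalk_comp_eq`: near a fibre collapsed by `f` the map `f` factors through the base.
* `exists_factor_of_section`: the rigidity lemma.
-/

universe u
open CategoryTheory Limits AlgebraicGeometry TopologicalSpace Opposite Topology

set_option linter.style.haveILetI false
set_option backward.isDefEq.respectTransparency false

namespace Groth.Agent.RigidSec19

open Groth.Agent.RigidRel

/-- Products of flat modules over a Noetherian ring are flat. -/
theorem flat_pi {R : Type u} [CommRing R] [IsNoetherianRing R] {ι : Type u} (C : ι → Type u)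
    [∀ i, AddCommGroup (C i)] [∀ i, Module R (C i)] [∀ i, Module.Flat R (C i)] :
    Module.Flat R (∀ i, C i) := by
  refine Module.Flat.of_forall_isTrivialRelation fun {l f x} h => ?_
  let L : (Fin l → R) →ₗ[R] R := Fintype.linearCombination R f
  obtain ⟨n, K, hK⟩ := Submodule.fg_iff_exists_fin_generating_family.mp
    (IsNoetherian.noetherian (LinearMap.ker L))
  have hy : ∀ i, ∃ y : Fin n → C i, ∀ k, x k i = ∑ j, K j k • y j := by
    intro i
    have h0 : ∑ k, f k • x k i = 0 := by simpa using congrFun h i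
    obtain ⟨m, a, y, hy, ha⟩ := Module.Flat.isTrivialRelation_of_sum_smul_eq_zero h0
    have hc : ∀ j, ∃ c : Fin n → R, ∑ j', c j' • K j' = fun k => a k j := fun j => by
      refine (Submodule.mem_span_range_iff_exists_fun R).mp ?_
      rw [hK, LinearMap.mem_ker]
      rw [Fintype.linearCombination_apply]
      simpa [smul_eq_mul, mul_comm] using ha j
    choose c hc using hc
    refine ⟨fun j' => ∑ j, c j j' • y j, fun k => ?_⟩
    refine (hy k).trans ?_
    simp only [Finset.smul_sum, smul_smul]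
    rw [Finset.sum_comm]
    refine Finset.sum_congr rfl fun j _ => ?_
    rw [← Finset.sum_smul, ← congrFun (hc j) k]
    simp [Finset.sum_apply, mul_comm]
  choose y hy using hy
  refine ⟨n, fun k j => K j k, fun j i => y i j, fun k => funext fun i => ?_, fun j => ?_⟩
  · simpa using hy i k
  · have hj : K j ∈ LinearMap.ker L := hK ▸ Submodule.subset_span ⟨j, rfl⟩
    simpa [L, Fintype.linearCombination_apply, mul_comm] using hj

/-- Membership in `m • ⊤` of a product is componentwise for finitely generated `m`. -/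
theorem mem_smul_top_pi {R : Type u} [CommRing R] {ι : Type u} {C : ι → Type u}
    [∀ i, AddCommGroup (C i)] [∀ i, Module R (C i)] (m : Ideal R) (hm : m.FG) (y : ∀ i, C i)
    (h : ∀ i, y i ∈ m • (⊤ : Submodule R (C i))) : y ∈ m • (⊤ : Submodule R (∀ i, C i)) := by
  obtain ⟨n, a, ha⟩ := Submodule.fg_iff_exists_fin_generating_family.mp hm
  have hz : ∀ i, ∃ z : Fin n → C i, ∑ k, a k • z k = y i := fun i => by
    refine Submodule.smul_induction_on (h i) (fun r hr x _ => ?_) (fun x x' hx hx' => ?_)
    · rw [← ha] at hr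
      obtain ⟨c, rfl⟩ := (Submodule.mem_span_range_iff_exists_fun R).mp hr
      refine ⟨fun k => c k • x, ?_⟩
      simp only [Finset.sum_smul, smul_smul, smul_eq_mul, mul_comm]
    · obtain ⟨z, rfl⟩ := hx
      obtain ⟨z', rfl⟩ := hx'
      exact ⟨z + z', by simp [smul_add, Finset.sum_add_distrib]⟩
  choose z hz using hz
  have hy : y = ∑ k, a k • fun i => z i k := funext fun i => by simp [hz]
  rw [hy]
  exact Submodule.sum_mem _ fun k _ =>
    Submodule.smul_mem_smul (ha ▸ Submodule.subset_span ⟨k, rfl⟩) trivial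

/-- A flat scheme over an Artinian local ring whose closed fibre has no functions but constants has
no functions but constants. -/
theorem surjective_ringMap_of_pow_eq_bot {R : CommRingCat.{u}} [IsNoetherianRing R] {X : Scheme.{u}}
    (ξ : X ⟶ Spec R) [Flat ξ] (m : Ideal R) [m.IsMaximal] (n : ℕ) (hn : m ^ n = ⊥)
    (hΓ : Function.Surjective (pullback.snd ξ (quotBase m)).appTop.hom) :
    Function.Surjective (ringMap ξ ⊤).hom := by
  classical
  intro φ
  let P : Type u := {p : X.affineOpens × X.affineOpens × X.affineOpens //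
    p.2.2.1 ≤ p.1.1 ⊓ p.2.1.1}
  let W : X.affineOpens → X.Opens := fun i => i.1
  let T : P → X.Opens := fun p => p.1.2.2.1
  have hTl : ∀ p : P, T p ≤ W p.1.1 := fun p => p.2.trans inf_le_left
  have hTr : ∀ p : P, T p ≤ W p.1.2.1 := fun p => p.2.trans inf_le_right
  letI alg0 : ∀ i, Algebra R Γ(X, W i) := fun i => (ringMap ξ (W i)).hom.toAlgebra
  letI alg1 : ∀ p, Algebra R Γ(X, T p) := fun p => (ringMap ξ (T p)).hom.toAlgebra
  haveI : ∀ i, Module.Flat R Γ(X, W i) := fun i => flat_ringMap ξ i.2
  haveI : ∀ p, Module.Flat R Γ(X, T p) := fun p => flat_ringMap ξ p.1.2.2.2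
  haveI := flat_pi (R := R) fun i => Γ(X, W i)
  haveI := flat_pi (R := R) fun p => Γ(X, T p)
  let d : (∀ i, Γ(X, W i)) →ₗ[R] (∀ p, Γ(X, T p)) :=
    { toFun := fun x p => X.presheaf.map (homOfLE (hTl p)).op (x p.1.1) -
        X.presheaf.map (homOfLE (hTr p)).op (x p.1.2.1)
      map_add' := fun x y => by funext p; simp only [Pi.add_apply, map_add]; abel
      map_smul' := fun r x => by
        funext p
        simp only [Pi.smul_apply, Algebra.smul_def, map_mul, RingHom.id_apply,
          RingHom.algebraMap_toAlgebra, mul_sub]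
        congr 2
        · exact ConcreteCategory.congr_hom (ringMap_res ξ (hTl p)) r
        · exact ConcreteCategory.congr_hom (ringMap_res ξ (hTr p)) r }
  have he : d 1 = 0 := by funext p; simp [d]
  have hmemI : ∀ (I : Ideal R) {A : Type u} [CommRing A] [Algebra R A] (y : A),
      y ∈ I • (⊤ : Submodule R A) ↔ y ∈ I.map (algebraMap R A) := by
    intro I A _ _ y; rw [Ideal.smul_top_eq_map]; rfl
  have hcov : iSup W = ⊤ := iSup_affineOpens_eq_top X
  set ι := pullback.fst ξ (quotBase m)
  have H : ∀ x, d x ∈ m • (⊤ : Submodule R (∀ p, Γ(X, T p))) →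
      ∃ r : R, x - r • (1 : ∀ i, Γ(X, W i)) ∈ m • (⊤ : Submodule R (∀ i, Γ(X, W i))) := by
    intro x hx
    have hxp : ∀ p, ι.app (T p) (d x p) = 0 := by
      intro p
      refine app_eq_zero_of_mem_map ξ m _ ((hmemI m _).mp ?_)
      have h := Submodule.mem_map_of_mem (f := LinearMap.proj (φ := fun p => Γ(X, T p)) p) hx
      rw [Submodule.map_smul''] at h
      exact Submodule.smul_mono le_rfl le_top h
    have hc : TopCat.Presheaf.IsCompatible (pullback ξ (quotBase m)).sheaf.1 (fun i => ι ⁻¹ᵁ W i)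
        (fun i => ι.app (W i) (x i)) := by
      intro i k
      refine (pullback ξ (quotBase m)).sheaf.eq_of_locally_eq'
        (fun a : {a : X.affineOpens // a.1 ≤ W i ⊓ W k} => ι ⁻¹ᵁ a.1.1) _
        (fun a => homOfLE (show ι ⁻¹ᵁ a.1.1 ≤ ι ⁻¹ᵁ W i ⊓ ι ⁻¹ᵁ W k from ι.preimage_mono a.2)) ?_ _ _ ?_
      · intro z hz
        obtain ⟨U, hU, hzU, hUle⟩ := exists_isAffineOpen_mem_and_subset (X := X) (x := ι z)
          (U := W i ⊓ W k) hz
        exact Opens.mem_iSup.mpr ⟨⟨⟨U, hU⟩, hUle⟩, hzU⟩
      · intro a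
        have h := hxp ⟨(i, k, a.1), a.2⟩
        simp only [d, LinearMap.coe_mk, AddHom.coe_mk, map_sub, sub_eq_zero] at h
        rw [← ConcreteCategory.comp_apply, ← ConcreteCategory.comp_apply (X.presheaf.map _),
          Scheme.Hom.naturality, Scheme.Hom.naturality] at h
        simp only [← ConcreteCategory.comp_apply, ← Functor.map_comp]
        exact h
    obtain ⟨g, hg, -⟩ := (pullback ξ (quotBase m)).sheaf.existsUnique_gluing' (fun i => ι ⁻¹ᵁ W i) ⊤
      (fun i => homOfLE le_top) (by rw [← Scheme.Hom.preimage_iSup, hcov]; simp) _ hc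
    obtain ⟨a, ha⟩ := hΓ g
    obtain ⟨r, hr⟩ : ∃ r : R, (quotBase m).appTop ((Scheme.ΓSpecIso R).inv r) = a := by
      obtain ⟨r, hr⟩ := Ideal.Quotient.mk_surjective
        ((Scheme.ΓSpecIso (CommRingCat.of (R ⧸ m))).hom a)
      refine ⟨r, ?_⟩
      rw [← ConcreteCategory.comp_apply, ← Scheme.ΓSpecIso_inv_naturality, ConcreteCategory.comp_apply]
      refine (congrArg _ hr).trans ?_
      exact ConcreteCategory.congr_hom (Iso.hom_inv_id (Scheme.ΓSpecIso (CommRingCat.of (R ⧸ m)))) a
    refine ⟨r, mem_smul_top_pi m (IsNoetherian.noetherian m) _ fun i => ?_⟩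
    rw [Pi.sub_apply, Pi.smul_apply, Pi.one_apply]
    refine (hmemI m _).mpr (mem_map_of_app_eq_zero ξ m i.2 _ ?_)
    rw [map_sub, sub_eq_zero, Algebra.smul_def, mul_one, RingHom.algebraMap_toAlgebra, ← hg i, ← ha, ← hr]
    have e : (Scheme.ΓSpecIso R).inv ≫ (quotBase m).appTop ≫ (pullback.snd ξ (quotBase m)).appTop ≫
        (pullback ξ (quotBase m)).presheaf.map (homOfLE (le_top : ι ⁻¹ᵁ W i ≤ ⊤)).op =
        ringMap ξ (W i) ≫ ι.app (W i) := by
      rw [← Scheme.Hom.comp_appTop_assoc, ← pullback.condition, Scheme.Hom.comp_appTop_assoc, ringMap,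
        Category.assoc]
      congr 1
      simp only [Scheme.Hom.appLE, Category.assoc, Scheme.Hom.naturality]
      rfl
    exact ConcreteCategory.congr_hom e r
  let φ' : ∀ i, Γ(X, W i) := fun i => X.presheaf.map (homOfLE (le_top : W i ≤ ⊤)).op φ
  have hd : d φ' = 0 := by
    funext p
    simp only [d, φ', LinearMap.coe_mk, AddHom.coe_mk, ← ConcreteCategory.comp_apply,
      ← Functor.map_comp, Pi.zero_apply, sub_eq_zero]
    rfl
  obtain ⟨r, hr⟩ := exists_sub_mem_pow m d 1 he H n φ' (by rw [hd]; exact Submodule.zero_mem _)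
  rw [hn, Submodule.bot_smul, Submodule.mem_bot, sub_eq_zero] at hr
  refine ⟨r, X.sheaf.eq_of_locally_eq' W ⊤ (fun i => homOfLE le_top) hcov.ge _ _ fun i => ?_⟩
  refine (ConcreteCategory.congr_hom (ringMap_res ξ (le_top : W i ≤ ⊤)) r).trans ?_
  have hi := congrFun hr i
  rw [Pi.smul_apply, Pi.one_apply, Algebra.smul_def, mul_one, RingHom.algebraMap_toAlgebra] at hi
  exact hi.symm

/-- A map from a flat scheme over an Artinian local ring with a section into an affine open factors
through the base. -/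
theorem factor_of_section {R : CommRingCat.{u}} {X Y : Scheme.{u}} (ξ : X ⟶ Spec R)
    (hsurj : Function.Surjective (ringMap ξ ⊤).hom) (e : Spec R ⟶ X) (he : e ≫ ξ = 𝟙 _)
    (g : X ⟶ Y) (V : Y.Opens) (hV : IsAffineOpen V) (hg : ∀ x, g x ∈ V) : g = ξ ≫ e ≫ g := by
  have hξ : Function.Bijective ξ.appTop.hom := by
    constructor
    · refine Function.LeftInverse.injective (g := e.appTop.hom) fun a => ?_
      show (ξ.appTop ≫ e.appTop) a = a
      rw [← Scheme.Hom.comp_appTop, he]
      rfl
    · intro a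
      obtain ⟨r, hr⟩ := hsurj a
      refine ⟨(Scheme.ΓSpecIso R).inv r, ?_⟩
      rw [← hr, ringMap, appLE_top_top]
      rfl
  haveI : IsIso ξ.appTop := (ConcreteCategory.isIso_iff_bijective _).mpr hξ
  haveI : IsAffine V.toScheme := hV
  have hsub : Set.range g ⊆ Set.range V.ι := by
    rw [Scheme.Opens.range_ι]; rintro _ ⟨x, rfl⟩; exact hg x
  obtain ⟨r, hr⟩ := exists_factor_of_isAffine ξ (IsOpenImmersion.lift V.ι g hsub)
  have hgr : ξ ≫ r ≫ V.ι = g := by rw [← Category.assoc, hr, IsOpenImmersion.lift_fac]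
  calc g = ξ ≫ r ≫ V.ι := hgr.symm
    _ = ξ ≫ (e ≫ ξ) ≫ r ≫ V.ι := by rw [he, Category.id_comp]
    _ = ξ ≫ e ≫ g := by rw [Category.assoc, hgr]

/-- Two maps agreeing modulo every power of the maximal ideal agree on the local scheme. -/
theorem fromSpecStalk_comp_eq_of_forall_pow {X Y : Scheme.{u}} [IsLocallyNoetherian X] (x : X)
    (f g : X ⟶ Y) (hfg : f x = g x)
    (h : ∀ n : ℕ, Spec.map (CommRingCat.ofHom (Ideal.Quotient.mk
        (IsLocalRing.maximalIdeal (X.presheaf.stalk x) ^ n))) ≫ X.fromSpecStalk x ≫ f =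
      Spec.map (CommRingCat.ofHom (Ideal.Quotient.mk
        (IsLocalRing.maximalIdeal (X.presheaf.stalk x) ^ n))) ≫ X.fromSpecStalk x ≫ g) :
    X.fromSpecStalk x ≫ f = X.fromSpecStalk x ≫ g := by
  obtain ⟨V, hV, hxV, -⟩ := exists_isAffineOpen_mem_and_subset (X := Y) (x := f x) (U := ⊤) trivial
  haveI : IsAffine V.toScheme := hV
  have hsub : ∀ q : X ⟶ Y, q x ∈ V → Set.range (X.fromSpecStalk x ≫ q) ⊆ Set.range V.ι := by
    intro q hq
    rw [Scheme.Opens.range_ι]
    rintro _ ⟨z, rfl⟩
    rw [Scheme.Hom.comp_apply]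
    have hz : X.fromSpecStalk x z ⤳ x := by
      have := Scheme.range_fromSpecStalk (X := X) (x := x)
      exact (Set.ext_iff.mp this _).mp ⟨z, rfl⟩
    exact (hz.map q.continuous).mem_open V.isOpen hq
  have hf := hsub f hxV
  have hg := hsub g (hfg ▸ hxV)
  rw [← IsOpenImmersion.lift_fac V.ι _ hf, ← IsOpenImmersion.lift_fac V.ι _ hg]
  congr 1
  apply ext_of_isAffine
  rw [← cancel_mono (Scheme.ΓSpecIso (X.presheaf.stalk x)).hom]
  ext v
  rw [← sub_eq_zero, ← Ideal.mem_bot, ← Ideal.iInf_pow_eq_bot_of_isLocalRing _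
    (IsLocalRing.maximalIdeal.isMaximal (X.presheaf.stalk x)).ne_top, Ideal.mem_iInf]
  intro n
  rw [← Ideal.Quotient.eq]
  set μ := CommRingCat.ofHom (Ideal.Quotient.mk (IsLocalRing.maximalIdeal (X.presheaf.stalk x) ^ n))
  have h2 : Spec.map μ ≫ IsOpenImmersion.lift V.ι _ hf = Spec.map μ ≫ IsOpenImmersion.lift V.ι _ hg := by
    rw [← cancel_mono V.ι]
    simp only [Category.assoc, IsOpenImmersion.lift_fac]
    exact h n
  have h3 := congrArg (fun q => Scheme.Hom.appTop q ≫ (Scheme.ΓSpecIso _).hom) h2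
  simp only [Scheme.Hom.comp_appTop, Category.assoc, Scheme.ΓSpecIso_naturality] at h3
  exact ConcreteCategory.congr_hom h3 v

/-- A flat map with a section and constant functions on the fibres: if a fibre is collapsed by `f`
then `f` factors through the base on the local schemes of the points of that fibre. -/
theorem fromSpecStalk_comp_eq {X Y S : Scheme.{u}} [IsLocallyNoetherian X] [IsLocallyNoetherian S]
    (p : X ⟶ S) [Flat p] (e : S ⟶ X) (he : e ≫ p = 𝟙 S) (f : X ⟶ Y) (x : X)
    (h0 : Function.Surjective (pullback.snd p (S.fromSpecResidueField (p x))).appTop.hom)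
    (hc : ∀ x', p x' = p x → f x' = f (e (p x))) :
    X.fromSpecStalk x ≫ f = X.fromSpecStalk x ≫ p ≫ e ≫ f := by
  refine fromSpecStalk_comp_eq_of_forall_pow x _ _ ?_ fun n => ?_
  · rw [Scheme.Hom.comp_apply, Scheme.Hom.comp_apply]; exact hc x rfl
  set O := S.presheaf.stalk (p x)
  set m := IsLocalRing.maximalIdeal O
  set M := IsLocalRing.maximalIdeal (X.presheaf.stalk x)
  let R : CommRingCat.{u} := CommRingCat.of (O ⧸ m ^ (n + 1))
  let μ : O ⟶ R := CommRingCat.ofHom (Ideal.Quotient.mk (m ^ (n + 1)))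
  have hμ : Function.Surjective μ.hom := Ideal.Quotient.mk_surjective
  haveI : IsNoetherianRing R := isNoetherianRing_of_surjective O _ μ.hom hμ
  let m' : Ideal R := m.map μ.hom
  have hm'n : m' ^ (n + 1) = ⊥ := by
    rw [← Ideal.map_pow]
    exact Ideal.map_quotient_self _
  haveI hm'max : m'.IsMaximal := by
    refine Ideal.IsMaximal.map_of_surjective_of_ker_le hμ ?_
    show RingHom.ker (Ideal.Quotient.mk (m ^ (n + 1))) ≤ m
    rw [Ideal.mk_ker]
    exact Ideal.pow_le_self n.succ_ne_zero
  set b : Spec R ⟶ S := Spec.map μ ≫ S.fromSpecStalk (p x)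
  have hb : ∀ z, b z = p x := by
    intro z
    have hz : z = (⟨m', hm'max.isPrime⟩ : PrimeSpectrum R) := by
      refine PrimeSpectrum.ext (hm'max.eq_of_le z.isPrime.ne_top ?_).symm
      exact z.isPrime.le_of_pow_le (n := n + 1) (hm'n ▸ bot_le)
    rw [Scheme.Hom.comp_apply, hz]
    have hcl : (Spec.map μ) (⟨m', hm'max.isPrime⟩ : PrimeSpectrum R) = IsLocalRing.closedPoint O := by
      refine PrimeSpectrum.ext ?_
      show m'.comap μ.hom = m
      exact ((IsLocalRing.maximalIdeal.isMaximal O).eq_of_le (Ideal.comap_ne_top _ hm'max.ne_top)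
        Ideal.le_comap_map).symm
    rw [hcl, Scheme.fromSpecStalk_closedPoint]
  have hΓ : Function.Surjective (pullback.snd (pullback.snd p b) (quotBase m')).appTop.hom := by
    let K : CommRingCat.{u} := CommRingCat.of (R ⧸ m')
    letI : Field (R ⧸ m') := Ideal.Quotient.field m'
    let ν : O ⟶ K := μ ≫ CommRingCat.ofHom (Ideal.Quotient.mk m')
    have hν : Function.Surjective ν.hom := Ideal.Quotient.mk_surjective.comp hμ
    haveI : IsLocalHom ν.hom := IsLocalHom.of_surjective _ hν
    let ψ : S.residueField (p x) ⟶ K := CommRingCat.ofHom (IsLocalRing.ResidueField.lift ν.hom)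
    have hψ : S.residue (p x) ≫ ψ = ν := by
      ext1; exact IsLocalRing.ResidueField.lift_comp_residue ν.hom
    haveI : IsIso ψ := by
      refine (ConcreteCategory.isIso_iff_bijective _).mpr ⟨RingHom.injective _, fun a => ?_⟩
      obtain ⟨o, rfl⟩ := hν a
      exact ⟨S.residue (p x) o, ConcreteCategory.congr_hom hψ o⟩
    haveI : IsIso (Spec.map ψ) := inferInstance
    have hbK : quotBase m' ≫ b = Spec.map ψ ≫ S.fromSpecResidueField (p x) := by
      rw [Scheme.fromSpecResidueField, ← Spec.map_comp_assoc]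
      refine (congrArg (fun φ => Spec.map φ ≫ S.fromSpecStalk (p x)) hψ.symm).trans ?_
      rw [Spec.map_comp, Category.assoc]
    have hs : Function.Surjective (pullback.snd p (S.fromSpecResidueField (p x)) ≫
        inv (Spec.map ψ)).appTop.hom := by
      rw [Scheme.Hom.comp_appTop, CommRingCat.hom_comp]
      exact h0.comp (asIso (inv (Spec.map ψ)).appTop).commRingCatIsoToRingEquiv.surjective
    let ε := pullbackLeftPullbackSndIso p b (quotBase m') ≪≫ pullback.congrHom rfl hbK ≪≫
      (pullbackLeftPullbackSndIso p (S.fromSpecResidueField (p x)) (Spec.map ψ)).symm ≪≫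
      asIso (pullback.fst (pullback.snd p (S.fromSpecResidueField (p x))) (Spec.map ψ))
    refine appTop_surjective_of_iso ε _ _ ?_ hs
    simp [ε, pullback.condition_assoc]
  have hsurj := surjective_ringMap_of_pow_eq_bot (pullback.snd p b) m' (n + 1) hm'n hΓ
  let e' : Spec R ⟶ pullback p b := pullback.lift (b ≫ e) (𝟙 _) (by rw [Category.assoc, he]; simp)
  obtain ⟨V, hV, hyV, -⟩ := exists_isAffineOpen_mem_and_subset (X := Y) (x := f (e (p x))) (U := ⊤) trivial
  have hfac := factor_of_section (pullback.snd p b) hsurj e' (pullback.lift_snd _ _ _)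
    (pullback.fst p b ≫ f) V hV fun z => by
      rw [Scheme.Hom.comp_apply, hc _ ?_]
      · exact hyV
      · rw [← Scheme.Hom.comp_apply, pullback.condition, Scheme.Hom.comp_apply, hb]
  have key : pullback.fst p b ≫ f = pullback.fst p b ≫ p ≫ e ≫ f := by
    rw [hfac, pullback.condition_assoc]
    simp only [e', pullback.lift_fst_assoc, Category.assoc]
  let χ : R ⟶ CommRingCat.of (X.presheaf.stalk x ⧸ M ^ n) :=
    CommRingCat.ofHom (Ideal.quotientMap (M ^ n) (p.stalkMap x).hom <| by
      rw [← Ideal.map_le_iff_le_comap, Ideal.map_pow]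
      refine le_trans (Ideal.pow_le_pow_right n.le_succ) (Ideal.pow_right_mono ?_ n)
      rw [Ideal.map_le_iff_le_comap]
      exact le_of_eq (((IsLocalRing.local_hom_TFAE (p.stalkMap x).hom).out 0 4 rfl rfl).mp inferInstance).symm)
  set μX := CommRingCat.ofHom (Ideal.Quotient.mk (M ^ n))
  have hw : (Spec.map μX ≫ X.fromSpecStalk x) ≫ p = Spec.map χ ≫ b := by
    rw [Category.assoc, ← Scheme.SpecMap_stalkMap_fromSpecStalk, ← Spec.map_comp_assoc,
      ← Spec.map_comp_assoc]
    congr 2
  have hl := congrArg (pullback.lift (Spec.map μX ≫ X.fromSpecStalk x) (Spec.map χ) hw ≫ ·) key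
  simpa only [pullback.lift_fst_assoc, Category.assoc] using hl

/-- A closed subset of a locally Noetherian scheme stable under generalization is open. -/
theorem isOpen_of_isClosed_stableUnderGeneralization {X : Scheme.{u}} [IsLocallyNoetherian X]
    {P : Set X} (hP : IsClosed P) (hg : StableUnderGeneralization P) : IsOpen P := by
  refine isOpen_iff_forall_mem_open.2 fun x hx => ?_
  obtain ⟨O, hO, hxO, -⟩ := exists_isAffineOpen_mem_and_subset (X := X) (x := x) (U := ⊤) trivial
  have : IsAffine O.toScheme := hO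
  have : IsNoetherianRing Γ(X, O) := IsLocallyNoetherian.component_noetherian ⟨O, hO⟩
  have : NoetherianSpace O.toScheme := by
    haveI : NoetherianSpace (Spec Γ(X, O)) :=
      inferInstanceAs (NoetherianSpace (PrimeSpectrum Γ(X, O)))
    exact noetherianSpace_of_surjective hO.isoSpec.inv hO.isoSpec.inv.continuous
      hO.isoSpec.inv.surjective
  let E : Set O.toScheme := O.ι ⁻¹' P
  have hEc : IsClosed E := hP.preimage O.ι.continuous
  have hE : IsConstructible E := by
    rw [← isConstructible_compl]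
    exact IsRetrocompact.isConstructible hEc.isOpen_compl (fun W _ _ => NoetherianSpace.isCompact _)
  have := PtSet.isOpen_of_isConstructible_stableUnderGeneralization hE (hg.preimage O.ι.continuous)
  exact ⟨O.ι '' E, Set.image_preimage_subset _ _, O.ι.isOpenEmbedding.isOpenMap _ this,
    ⟨⟨x, hxO⟩, hx, rfl⟩⟩

/-- Rigidity for a flat closed map with a section. -/
theorem exists_factor_of_section {S X Y : Scheme.{u}} [IsLocallyNoetherian S] [IsLocallyNoetherian X]
    [ConnectedSpace S] (p : X ⟶ S) [Flat p] (q : Y ⟶ S) [IsSeparated q] (f : X ⟶ Y) (hf : f ≫ q = p)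
    (hcl : IsClosedMap p) (e : S ⟶ X) (he : e ≫ p = 𝟙 S)
    (h0 : ∀ s : S, Function.Surjective (pullback.snd p (S.fromSpecResidueField s)).appTop.hom)
    (s : S) (hs : ∀ x x' : X, p x = s → p x' = s → f x = f x') : f = p ≫ e ≫ f := by
  set g := p ≫ e ≫ f with hgdef
  have hgq : g ≫ q = p := by simp [g, hf, he]
  have hep : ∀ t, p (e t) = t := fun t => by rw [← Scheme.Hom.comp_apply, he]; rfl
  -- points near which the two maps agree
  let U : X.Opens := ⨆ V : {V : X.Opens // V.ι ≫ f = V.ι ≫ g}, V.1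
  have hU : U.ι ≫ f = U.ι ≫ g := by
    refine Scheme.hom_ext_of_forall _ _ fun z => ?_
    obtain ⟨V, hzV⟩ := Opens.mem_iSup.mp z.2
    refine ⟨U.ι ⁻¹ᵁ V.1, hzV, ?_⟩
    rw [← morphismRestrict_ι_assoc, ← morphismRestrict_ι_assoc, V.2]
  -- the equalizer
  let l : X ⟶ pullback q q := pullback.lift f g (hf.trans hgq.symm)
  let z := pullback.fst l (pullback.diagonal q)
  have hZeq : ∀ x ∈ Set.range z, f x = g x := by
    rintro _ ⟨w, rfl⟩
    have h1 : z ≫ f = pullback.snd l (pullback.diagonal q) := by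
      have := congrArg (· ≫ pullback.fst q q) (pullback.condition (f := l) (g := pullback.diagonal q))
      simpa [l, z] using this
    have h2 : z ≫ g = pullback.snd l (pullback.diagonal q) := by
      have := congrArg (· ≫ pullback.snd q q) (pullback.condition (f := l) (g := pullback.diagonal q))
      simpa [l, z] using this
    rw [← Scheme.Hom.comp_apply, ← Scheme.Hom.comp_apply, h1, h2]
  have hUZ : (U : Set X) ⊆ Set.range z := fun x hx => by
    refine ⟨(pullback.lift U.ι (U.ι ≫ f) ?_ : U.toScheme ⟶ _) ⟨x, hx⟩, ?_⟩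
    · apply pullback.hom_ext
      · simp [l]
      · simp [l, hU]
    · rw [← Scheme.Hom.comp_apply, pullback.lift_fst]; rfl
  have hcol : ∀ t, (∀ x, p x = t → f x = g x) → ∀ x, p x = t → x ∈ U := by
    intro t ht x hx
    obtain ⟨V, hxV, hV⟩ := spread_out_unique_of_isGermInjective' f g
      (fromSpecStalk_comp_eq p e he f x (h0 _) fun x' hx' => by
        rw [ht x' (hx'.trans hx), hgdef, Scheme.Hom.comp_apply, Scheme.Hom.comp_apply, hx'])
    exact Opens.mem_iSup.mpr ⟨⟨V, hV⟩, hxV⟩
  set C := p '' ((U : Set X)ᶜ)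
  have hC : IsClosed C := hcl _ U.isOpen.isClosed_compl
  have hC2 : C = p '' ((Set.range z)ᶜ) := by
    refine Set.Subset.antisymm ?_ (Set.image_mono (Set.compl_subset_compl.mpr hUZ))
    rintro _ ⟨x, hx, rfl⟩
    by_contra hn
    refine hx (hcol _ (fun x' hx' => hZeq _ ?_) x rfl)
    by_contra hn'
    exact hn ⟨x', hn', hx'⟩
  have hCo : IsOpen C := by
    refine isOpen_of_isClosed_stableUnderGeneralization hC ?_
    rw [hC2]
    haveI : IsClosedImmersion z := MorphismProperty.pullback_fst _ _ inferInstance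
    exact (Flat.generalizingMap p).stableUnderGeneralization_image
      z.isClosedEmbedding.isClosed_range.isOpen_compl.stableUnderGeneralization
  have hsC : s ∉ C := by
    rintro ⟨x, hx, hxs⟩
    refine hx (hcol s (fun x' hx' => ?_) x hxs)
    rw [hgdef, Scheme.Hom.comp_apply, Scheme.Hom.comp_apply, hx']
    exact hs x' (e s) hx' (hep s)
  have hCe : C = ∅ := by
    rcases isClopen_iff.mp ⟨hC, hCo⟩ with h | h
    · exact h
    · exact absurd (h ▸ Set.mem_univ s) hsC
  refine Scheme.hom_ext_of_forall _ _ fun x => ⟨U, ?_, hU⟩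
  by_contra hx
  exact (Set.notMem_empty (p x)) (hCe ▸ ⟨x, hx, rfl⟩)

end Groth.Agent.RigidSec19
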