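import Groth.Agent.Lib.CMReg18.OfInv
import Groth.Agent.Lib.CMReg18.Twist
import Groth.Agent.Lib.CohFound.RelVan
import Groth.Agent.Lib.RelAmple18.Generation
import Groth.Agent.Lib.RelAmple18.Generated
import Groth.Agent.Lib.FlatTwist13.H0Flat
import Groth.Agent.Lib.LimShf14.Pic

/-!
# Serre vanishing for two ample modules
-/

set_option autoImplicit false
set_option linter.style.haveILetI false
set_option backward.isDefEq.respectTransparency false
set_option maxHeartbeats 800000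

universe u

open CategoryTheory CategoryTheory.Limits AlgebraicGeometry TopologicalSpace Opposite

namespace Groth.Agent.BSBVan1

open Groth.Agent

variable (R : Type u) [CommRing R] [hR : IsNoetherianRing R] {X : Scheme.{u}} [hX : X.Over (Spec (CommRingCat.of R))]
  [hpX : IsProper (X ↘ Spec (CommRingCat.of R))] {L M : X.Modules}

include R hR hX hpX

/-- `F ⊗ (L^a ⊗ M^b)` has no higher cohomology once `b` is large, whatever `a`. -/
theorem exists_van_right (hL : CohB1.IsAmple L) (hM : CohB1.IsAmple M) {F : X.Modules} (hF : Coh.IsCoh F) :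
    ∃ n : ℕ, ∀ a b : ℕ, n ≤ b → ∀ p : ℕ, 0 < p →
      Subsingleton (Coh.HH X (CohB1.tensorMod F (CohB1.tensorMod (CohB1.tensorPow L a) (CohB1.tensorPow M b))) p) := by
  classical
  haveI := hL.2.1
  haveI : IsNoetherian X := CohFound.isNoetherian_of_isProper (X ↘ Spec (CommRingCat.of R))
  have hO := PicLoc.isInvertible_structureModule X
  obtain ⟨n₀, hn₀⟩ := RA.exists_globallyGenerated hL (Coh.structureModule X) (Twist.isQCoh_of_isInvertible hO)
    (M1.isFP_isFT (LimShf14.isFP_of_isInvertible hO))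
  obtain ⟨d, hd, hgg⟩ : ∃ d, 0 < d ∧ Curv2.IsGloballyGenerated
      (CohB1.tensorMod (Coh.structureModule X) (CohB1.tensorPow L d)) :=
    ⟨n₀ + 1, n₀.succ_pos, hn₀ _ (Nat.le_succ _)⟩
  have hP : PicF.IsInvertible (CohB1.tensorPow L d) := M2.isInvertible_tensorPow hL.1 d
  choose t ht using fun x : X =>
    RA.exists_gen_of_isGloballyGenerated (M2.isInvertible_tensor hO hP) hgg x
  obtain ⟨T, hT⟩ := isCompact_univ.elim_finite_subcover
    (fun x : X => (CohB1.genLocus _ (t x) : Set X)) (fun x => (CohB1.genLocus _ (t x)).isOpen)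
    fun x _ => Set.mem_iUnion.2 ⟨x, ht x⟩
  let s : Fin T.card → (Coh.structureModule X ⟶ CohB1.tensorPow L d) := fun j =>
    t (T.equivFin.symm j).1 ≫ (M2.tensorLUnit _).hom
  obtain ⟨D', hD', ⟨e⟩⟩ := M2.exists_inverse hP
  let D := CMReg18.ofInv e hP hD' s fun x => by
    obtain ⟨y, hy, hxy⟩ := Set.mem_iUnion₂.1 (hT (Set.mem_univ x))
    refine ⟨T.equivFin ⟨y, hy⟩, ?_⟩
    show x ∈ CohB1.genLocus _ (t (T.equivFin.symm (T.equivFin ⟨y, hy⟩)).1 ≫ (M2.tensorLUnit _).hom)
    rw [Twist.genLocus_comp_iso, Equiv.symm_apply_apply]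
    exact hxy
  obtain ⟨c, hc⟩ := CohFound.exists_vanishing_bound_compact (X := X) (U := (⊤ : X.Opens)) isCompact_univ
  have hlc : ∀ {P : X.Modules}, PicF.IsInvertible P → Coh.IsCoh P := fun hP =>
    CohFound.isCoh_of_isFinLocFree (M2.isFinLocFree_of_isInvertible hP)
  choose N hN using fun x : Fin c × Fin d => CohFound.exists_vanishing_all (X ↘ Spec (CommRingCat.of R)) hM
    (CohFound.isCoh_tensor (CohFound.isCoh_tensor hF (hlc (M2.isInvertible_tensorPow hL.1 x.2)))
      (hlc (D.inv (-((x.1 : ℕ) : ℤ)))))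
  refine ⟨Finset.univ.sup N, fun a b hb p hp => ?_⟩
  let r : Fin d := ⟨a % d, Nat.mod_lt _ hd⟩
  let G := CohB1.tensorMod (CohB1.tensorMod F (CohB1.tensorPow L r)) (CohB1.tensorPow M b)
  have hG : Coh.IsCoh G := CohFound.isCoh_tensor (CohFound.isCoh_tensor hF (hlc (M2.isInvertible_tensorPow hL.1 _)))
    (hlc (M2.isInvertible_tensorPow hM.1 _))
  have hreg : D.IsReg G 0 := fun i hi => by
    rw [zero_sub]
    by_cases hic : i < c
    · refine CMReg18.van_iso R
        (M2.tensorAssoc _ _ _ ≪≫ M2.tensorIso (Iso.refl _) (M2.tensorComm _ _) ≪≫ (M2.tensorAssoc _ _ _).symm :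
          CohB1.tensorMod (CohB1.tensorMod (CohB1.tensorMod F (CohB1.tensorPow L r)) (D.O (-(i : ℤ))))
            (CohB1.tensorPow M b) ≅ CohB1.tensorMod G (D.O (-(i : ℤ)))) ?_
      exact (CohFound.subsingleton_HH_iff _ _).2
        (hN (⟨i, hic⟩, r) b ((Finset.le_sup (Finset.mem_univ _)).trans hb) i hi)
    · exact (CohFound.subsingleton_HH_iff _ _).2
        (hc _ (CohFound.isCoh_tensor hG (hlc (D.inv _))).1 i (Nat.le_of_not_lt hic))
  have h := hreg.van R (i := p) hp (r := ((a / d : ℕ) : ℤ)) (by linarith [Int.natCast_nonneg (a / d), Int.natCast_nonneg p])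
  refine CMReg18.van_iso R ?_ h
  exact M2.tensorIso (Iso.refl G) (CMReg18.intPowNat (a / d) ≪≫ M2.tensorPowPow L d (a / d)) ≪≫
    M2.tensorAssoc _ _ _ ≪≫ M2.tensorAssoc _ _ _ ≪≫
    M2.tensorIso (Iso.refl F) (M2.tensorIso (Iso.refl _) (M2.tensorComm _ _) ≪≫ (M2.tensorAssoc _ _ _).symm ≪≫
      M2.tensorIso ((M2.tensorPowAdd L r (d * (a / d))).symm ≪≫
        eqToIso (by rw [show (r : ℕ) + d * (a / d) = a from Nat.mod_add_div a d])) (Iso.refl _))

/-- `F ⊗ (L^a ⊗ M^b)` has no higher cohomology once one exponent is large. -/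
theorem exists_van_pair (hL : CohB1.IsAmple L) (hM : CohB1.IsAmple M) {F : X.Modules} (hF : Coh.IsCoh F) :
    ∃ n : ℕ, ∀ a b : ℕ, n ≤ max a b → ∀ p : ℕ, 0 < p →
      Subsingleton (Coh.HH X (CohB1.tensorMod F (CohB1.tensorMod (CohB1.tensorPow L a) (CohB1.tensorPow M b))) p) := by
  obtain ⟨n₁, h₁⟩ := exists_van_right R hL hM hF
  obtain ⟨n₂, h₂⟩ := exists_van_right R hM hL hF
  refine ⟨max n₁ n₂, fun a b h p hp => ?_⟩
  by_cases hb : n₁ ≤ b
  · exact h₁ a b hb p hp
  · refine CMReg18.van_iso R (M2.tensorIso (Iso.refl F) (M2.tensorComm _ _)) (h₂ b a ?_ p hp)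
    omega

end Groth.Agent.BSBVan1
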