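import Groth.Agent.Lib.RigidRel.Collapse
import Groth.Agent.Lib.GITQuot.Descend
import Groth.Agent.Lib.GITQuot.Orbit
import Groth.Agent.Lib.AbRigid.Connected
import Groth.Prelude.Def_AlgGrp

/-!
# Blanchard's lemma: actions descend along proper morphisms with `f_* O = O`

* `bijective_app_of_isPullback`: `f_* O = O` is stable under flat base change.
* `exists_action`: descent of an action when the composite to the target is constant on the fibres.
* `exists_action_of_connected`: descent for a connected group and a separated target.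
-/

set_option autoImplicit false
set_option linter.style.haveILetI false
set_option backward.isDefEq.respectTransparency.types false
universe u

open CategoryTheory Limits MonoidalCategory CartesianMonoidalCategory MonObj AlgebraicGeometry Topology
  TopologicalSpace Opposite

noncomputable section

namespace Groth.Agent.Blanchard19

/-- `p_* O = O` is stable under flat base change of qcqs morphisms. -/
theorem bijective_app_of_isPullback {P X T S : Scheme.{u}} {g : P ⟶ X} {q : P ⟶ T} {p : X ⟶ S}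
    {f : T ⟶ S} (H : IsPullback g q p f) [QuasiCompact p] [QuasiSeparated p] [Flat f]
    (hp : ∀ U : S.Opens, Function.Bijective (p.app U)) (V : T.Opens) :
    Function.Bijective (q.app V) := by
  have hinj := GITQuot.injective_app_of_isPullback H (fun U => (hp U).1)
  refine ⟨hinj V, fun t => ?_⟩
  have haff : ∀ (US : S.Opens) (UT : T.Opens), IsAffineOpen US → IsAffineOpen UT →
      UT ≤ f ⁻¹ᵁ US → Function.Bijective (q.app UT) := by
    intro US UT hUS hUT hTS
    have hUY : q ⁻¹ᵁ UT = g ⁻¹ᵁ (p ⁻¹ᵁ US) ⊓ q ⁻¹ᵁ UT := by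
      refine le_antisymm (le_inf ?_ le_rfl) inf_le_right
      intro z hz
      show (g ≫ p) z ∈ US
      rw [H.w]
      exact hTS hz
    have hpo := (isIso_pushoutSection_iff H hTS le_rfl hUY).1
      (isIso_pushoutSection_of_isQuasiSeparated_of_flat_right H hTS le_rfl hUY hUS hUT
        (p.isCompact_preimage hUS.isCompact)
        (p.isQuasiSeparated_preimage hUS.isQuasiSeparated))
    haveI : IsIso (p.appLE US (p ⁻¹ᵁ US) le_rfl) := by
      rw [← Scheme.Hom.app_eq_appLE]
      exact (ConcreteCategory.isIso_iff_bijective _).mpr (hp US)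
    have h2 := hpo.isIso_inr_of_isIso
    rw [← Scheme.Hom.app_eq_appLE] at h2
    exact (ConcreteCategory.isIso_iff_bijective _).mp h2
  have hloc : ∀ x : V, ∃ (W : T.Opens) (e : W ≤ V), x.1 ∈ W ∧ ∃ s, q.app W s =
      P.presheaf.map (homOfLE (q.preimage_mono e)).op t := by
    intro x
    obtain ⟨US, hUS, hxS, -⟩ := exists_isAffineOpen_mem_and_subset (X := S) (x := f x.1) (U := ⊤) trivial
    obtain ⟨UT, hUT, hxT, hle⟩ := exists_isAffineOpen_mem_and_subset (X := T) (x := x.1)
      (U := V ⊓ f ⁻¹ᵁ US) ⟨x.2, hxS⟩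
    exact ⟨UT, hle.trans inf_le_left, hxT,
      (haff US UT hUS hUT (hle.trans inf_le_right)).2 _⟩
  choose W hWV hxW s hs using hloc
  have hcov : V ≤ iSup W := fun y hy => Opens.mem_iSup.2 ⟨⟨y, hy⟩, hxW _⟩
  have hnat : ∀ {A B : T.Opens} (h : B ≤ A) (r : Γ(T, A)),
      q.app B (T.presheaf.map (homOfLE h).op r) =
        P.presheaf.map (homOfLE (q.preimage_mono h)).op (q.app A r) := fun h r => by
    rw [← CommRingCat.comp_apply, ← CommRingCat.comp_apply, Scheme.Hom.naturality]
    rfl
  have hc : TopCat.Presheaf.IsCompatible T.sheaf.1 W s := by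
    intro x y
    apply hinj (W x ⊓ W y)
    refine (hnat (inf_le_left : W x ⊓ W y ≤ W x) _).trans ?_
    refine Eq.trans ?_ (hnat (inf_le_right : W x ⊓ W y ≤ W y) _).symm
    rw [hs, hs]
    simp only [← CommRingCat.comp_apply, ← Functor.map_comp]
    rfl
  obtain ⟨r, hr, -⟩ := T.sheaf.existsUnique_gluing' W V (fun x => homOfLE (hWV x)) hcov s hc
  refine ⟨r, P.sheaf.eq_of_locally_eq' (fun x => q ⁻¹ᵁ W x) (q ⁻¹ᵁ V)
    (fun x => homOfLE (q.preimage_mono (hWV x))) ?_ _ _ fun x => ?_⟩
  · exact (q.preimage_mono hcov).trans (le_of_eq (q.preimage_iSup W))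
  · refine Eq.trans ?_ (hs x)
    refine (hnat (hWV x) r).symm.trans ?_
    exact congrArg _ (hr x)

section

variable {k : Type u} [Field k] {G X Y Z W : Over (Spec (CommRingCat.of k))} (f : X ⟶ Y)

theorem flat_snd_left (Z Y : Over (Spec (CommRingCat.of k))) : Flat (snd Z Y).left :=
  MorphismProperty.of_isPullback (IsPullback.of_hasPullback Z.hom Y.hom) (inferInstance : Flat Z.hom)

theorem proper_whiskerLeft [IsProper f.left] : IsProper (Z ◁ f).left :=
  MorphismProperty.of_isPullback (GITQuot.isPullback_whiskerLeft f Z).flip inferInstance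

variable (hf : ∀ U : Y.left.Opens, IsIso (f.left.app U)) [IsProper f.left]

include hf in
theorem bijective_app_whiskerLeft (V : (Z ⊗ Y).left.Opens) :
    Function.Bijective ((Z ◁ f).left.app V) :=
  haveI := flat_snd_left Z Y
  bijective_app_of_isPullback (GITQuot.isPullback_whiskerLeft f Z).flip
    (fun U => (ConcreteCategory.isIso_iff_bijective _).mp (hf U)) V

include hf in
theorem surjective_whiskerLeft : Surjective (Z ◁ f).left :=
  haveI := proper_whiskerLeft (Z := Z) f
  RigidRel.surjective_of_injective_app _ fun U _ => (bijective_app_whiskerLeft f hf U).1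

include hf in
theorem cancel_whiskerLeft (u v : Z ⊗ Y ⟶ W) (h : (Z ◁ f) ≫ u = (Z ◁ f) ≫ v) : u = v := by
  haveI := surjective_whiskerLeft (Z := Z) f hf
  exact Over.OverMorphism.ext (RigidRel.cancel_of_injective_app (Z ◁ f).left
    (fun U _ => (bijective_app_whiskerLeft f hf U).1) _ _ (congrArg CommaMorphism.left h))

/-- A proper morphism with `O = π_* O`: maps constant on the fibres factor. -/
theorem exists_factor_of_collapsed {A B C : Scheme.{u}} (π : A ⟶ B) [IsProper π]
    (h0 : ∀ U : B.Opens, IsAffineOpen U → Function.Bijective (π.app U).hom) (h : A ⟶ C)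
    (hall : ∀ b, b ∈ RigidRel.collapsed π h) : ∃ r : B ⟶ C, π ≫ r = h := by
  let L := RigidRel.collapsedOpen π h0 h
  obtain ⟨r, hr⟩ : ∃ r : L.toScheme ⟶ C, (π ∣_ L) ≫ r = (π ⁻¹ᵁ L).ι ≫ h :=
    RigidRel.exists_factor π h0 h
  haveI : IsIso L.ι := by
    haveI : Surjective L.ι := ⟨fun b => ⟨⟨b, hall b⟩, rfl⟩⟩
    haveI : Epi L.ι.base := (TopCat.epi_iff_surjective _).mpr L.ι.surjective
    exact IsOpenImmersion.isIso L.ι
  haveI : IsIso (π ⁻¹ᵁ L).ι := by
    haveI : Surjective (π ⁻¹ᵁ L).ι := ⟨fun a => ⟨⟨a, hall (π a)⟩, rfl⟩⟩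
    haveI : Epi (π ⁻¹ᵁ L).ι.base := (TopCat.epi_iff_surjective _).mpr (π ⁻¹ᵁ L).ι.surjective
    exact IsOpenImmersion.isIso (π ⁻¹ᵁ L).ι
  refine ⟨inv L.ι ≫ r, ?_⟩
  rw [← cancel_epi (π ⁻¹ᵁ L).ι, ← morphismRestrict_ι_assoc, IsIso.hom_inv_id_assoc, hr]

variable [GrpObj G] (a : AlgGrp.Action G X)

include hf in
/-- If the composite `G ⊗ X → Y` is constant on the fibres, the action descends. -/
theorem exists_action
    (hp : ∀ p q : ↥(G ⊗ X).left, (G ◁ f).left.base p = (G ◁ f).left.base q →
      (a.act ≫ f).left.base p = (a.act ≫ f).left.base q) :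
    ∃ b : AlgGrp.Action G Y, (G ◁ f) ≫ b.act = a.act ≫ f := by
  haveI := proper_whiskerLeft (Z := G) f
  haveI := surjective_whiskerLeft (Z := G) f hf
  obtain ⟨r, hr⟩ := exists_factor_of_collapsed (G ◁ f).left
    (fun U _ => bijective_app_whiskerLeft f hf U) (a.act ≫ f).left (fun b => by
      obtain ⟨p₀, hp₀⟩ := (G ◁ f).left.surjective b
      exact ⟨(a.act ≫ f).left p₀, fun p h => hp p p₀ (h.trans hp₀.symm)⟩)
  have hrw : r ≫ Y.hom = (G ⊗ Y).hom := by
    refine RigidRel.cancel_of_injective_app (G ◁ f).left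
      (fun U _ => (bijective_app_whiskerLeft f hf U).1) _ _ ?_
    rw [← Category.assoc, hr, Over.w, Over.w]
  let b : G ⊗ Y ⟶ Y := Over.homMk r hrw
  have hb : (G ◁ f) ≫ b = a.act ≫ f := Over.OverMorphism.ext hr
  refine ⟨⟨b, ?_, ?_⟩, hb⟩
  · refine cancel_whiskerLeft f hf _ _ ?_
    rw [whisker_exchange_assoc, hb, ← Category.assoc, a.one_act, leftUnitor_naturality]
  · refine cancel_whiskerLeft f hf _ _ ?_
    rw [whisker_exchange_assoc, hb, ← Category.assoc, a.mul_act, associator_naturality_right_assoc,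
      ← MonoidalCategory.whiskerLeft_comp_assoc, hb, MonoidalCategory.whiskerLeft_comp_assoc, hb]
    simp only [Category.assoc]

include hf in
theorem action_unique (b b' : AlgGrp.Action G Y) (h : (G ◁ f) ≫ b.act = a.act ≫ f)
    (h' : (G ◁ f) ≫ b'.act = a.act ≫ f) : b' = b := by
  have e := cancel_whiskerLeft f hf b'.act b.act (h'.trans h.symm)
  cases b
  cases b'
  cases e
  rfl

omit [IsProper f.left] in
/-- An action on the target gives stability of the fibre product. -/
theorem stable_of_action (b : AlgGrp.Action G Y) (hb : (G ◁ f) ≫ b.act = a.act ≫ f)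
    (T : Over (Spec (CommRingCat.of k))) (g : T ⟶ G) (x₁ x₂ : T ⟶ X) (h : x₁ ≫ f = x₂ ≫ f) :
    lift g x₁ ≫ a.act ≫ f = lift g x₂ ≫ a.act ≫ f := by
  rw [← hb, lift_whiskerLeft_assoc, lift_whiskerLeft_assoc, h]

omit [IsProper f.left] in
/-- Stability on points with values in fields gives constancy on the fibres. -/
theorem pointwise_of_stable
    (hst : ∀ (T : Over (Spec (CommRingCat.of k))) (g : T ⟶ G) (x₁ x₂ : T ⟶ X), x₁ ≫ f = x₂ ≫ f →
      ∀ t : ↥T.left, (lift g x₁ ≫ a.act ≫ f).left t = (lift g x₂ ≫ a.act ≫ f).left t)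
    (p q : ↥(G ⊗ X).left) (h : (G ◁ f).left p = (G ◁ f).left q) :
    (a.act ≫ f).left p = (a.act ≫ f).left q := by
  obtain ⟨w, hw1, hw2⟩ :=
    Scheme.Pullback.exists_preimage_pullback (f := (G ◁ f).left) (g := (G ◁ f).left) p q h
  set i := (pullback (G ◁ f).left (G ◁ f).left).fromSpecResidueField w
  let T : Over (Spec (CommRingCat.of k)) := Over.mk (i ≫ pullback.fst _ _ ≫ (G ⊗ X).hom)
  let u₁ : T ⟶ G ⊗ X := Over.homMk (i ≫ pullback.fst _ _) (Category.assoc _ _ _)
  let u₂ : T ⟶ G ⊗ X := Over.homMk (i ≫ pullback.snd _ _) (by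
    simp only [T, Over.mk_hom, Category.assoc]
    congr 1
    rw [← Over.w (G ◁ f), pullback.condition_assoc])
  have hu : u₁ ≫ (G ◁ f) = u₂ ≫ (G ◁ f) := by
    apply Over.OverMorphism.ext
    simp only [Over.comp_left, u₁, u₂, Over.homMk_left, Category.assoc, pullback.condition]
  have hg : u₁ ≫ fst G X = u₂ ≫ fst G X := by
    rw [← whiskerLeft_fst G f, reassoc_of% hu]
  have hx : (u₁ ≫ snd G X) ≫ f = (u₂ ≫ snd G X) ≫ f := by
    rw [Category.assoc, Category.assoc, ← whiskerLeft_snd, reassoc_of% hu]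
  let c : ↥T.left := IsLocalRing.closedPoint _
  have h1 := hst T (u₁ ≫ fst G X) _ _ hx c
  have e1 : lift (u₁ ≫ fst G X) (u₁ ≫ snd G X) = u₁ := by
    rw [← comp_lift, lift_fst_snd, Category.comp_id]
  have e2 : lift (u₁ ≫ fst G X) (u₂ ≫ snd G X) = u₂ := by
    rw [hg, ← comp_lift, lift_fst_snd, Category.comp_id]
  rw [e1, e2] at h1
  simp only [Over.comp_left, Scheme.Hom.comp_apply] at h1
  have p1 : u₁.left c = p := by
    show (pullback.fst (G ◁ f).left (G ◁ f).left) (i c) = p
    rw [show i c = w from Scheme.fromSpecResidueField_apply _ _]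
    exact hw1
  have p2 : u₂.left c = q := by
    show (pullback.snd (G ◁ f).left (G ◁ f).left) (i c) = q
    rw [show i c = w from Scheme.fromSpecResidueField_apply _ _]
    exact hw2
  rw [p1, p2] at h1
  simpa only [Over.comp_left, Scheme.Hom.comp_apply] using h1

include hf in
/-- For a connected group and a separated target, an action is constant on the fibres. -/
theorem pointwise_of_connected [LocallyOfFiniteType G.hom] [ConnectedSpace G.left] [IsSeparated Y.hom]
    (p q : ↥(G ⊗ X).left) (h : (G ◁ f).left p = (G ◁ f).left q) :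
    (a.act ≫ f).left p = (a.act ≫ f).left q := by
  refine pointwise_of_stable f a (fun T g x₁ x₂ hx t => ?_) p q h
  -- the universal pair
  let R : Over (Spec (CommRingCat.of k)) := Over.mk (pullback.fst f.left f.left ≫ X.hom)
  let r₁ : R ⟶ X := Over.homMk (pullback.fst f.left f.left) rfl
  let r₂ : R ⟶ X := Over.homMk (pullback.snd f.left f.left) (by
    simp only [R, Over.mk_hom]
    rw [← Over.w f, pullback.condition_assoc])
  have hr : r₁ ≫ f = r₂ ≫ f := Over.OverMorphism.ext pullback.condition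
  let x12 : T ⟶ R := Over.homMk (pullback.lift x₁.left x₂.left (congrArg CommaMorphism.left hx))
    ((pullback.lift_fst_assoc _ _ _ _).trans (Over.w x₁))
  have hx1 : x12 ≫ r₁ = x₁ := Over.OverMorphism.ext (pullback.lift_fst _ _ _)
  have hx2 : x12 ≫ r₂ = x₂ := Over.OverMorphism.ext (pullback.lift_snd _ _ _)
  let h₁ : G ⊗ R ⟶ Y := (G ◁ r₁) ≫ a.act ≫ f
  let h₂ : G ⊗ R ⟶ Y := (G ◁ r₂) ≫ a.act ≫ f
  -- the locus where they agree
  let l : (G ⊗ R).left ⟶ pullback Y.hom Y.hom := pullback.lift h₁.left h₂.left (by rw [Over.w, Over.w])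
  let z := pullback.fst l (pullback.diagonal Y.hom)
  haveI : IsClosedImmersion z := MorphismProperty.pullback_fst _ _ inferInstance
  have hz : ∀ m ∈ Set.range z, h₁.left m = h₂.left m := by
    rintro _ ⟨w, rfl⟩
    have h1 : z ≫ h₁.left = pullback.snd l (pullback.diagonal Y.hom) := by
      have hlf : h₁.left = l ≫ pullback.fst Y.hom Y.hom := (pullback.lift_fst _ _ _).symm
      rw [hlf]
      rw [← Category.assoc, pullback.condition, Category.assoc, pullback.diagonal_fst, Category.comp_id]
    have h2 : z ≫ h₂.left = pullback.snd l (pullback.diagonal Y.hom) := by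
      have hls : h₂.left = l ≫ pullback.snd Y.hom Y.hom := (pullback.lift_snd _ _ _).symm
      rw [hls]
      rw [← Category.assoc, pullback.condition, Category.assoc, pullback.diagonal_snd, Category.comp_id]
    rw [← Scheme.Hom.comp_apply, ← Scheme.Hom.comp_apply, h1, h2]
  suffices hall : ∀ m, m ∈ Set.range z by
    have e1 : lift g x₁ ≫ a.act ≫ f = lift g x12 ≫ h₁ := by
      simp only [h₁, lift_whiskerLeft_assoc, hx1]
    have e2 : lift g x₂ ≫ a.act ≫ f = lift g x12 ≫ h₂ := by
      simp only [h₂, lift_whiskerLeft_assoc, hx2]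
    rw [e1, e2]
    simp only [Over.comp_left, Scheme.Hom.comp_apply]
    exact hz _ (hall _)
  -- near the unit section they agree
  haveI := proper_whiskerLeft (Z := G) f
  have h0 : ∀ U : (G ⊗ Y).left.Opens, IsAffineOpen U → Function.Bijective ((G ◁ f).left.app U).hom :=
    fun U _ => bijective_app_whiskerLeft f hf U
  set L := RigidRel.collapsedOpen (G ◁ f).left h0 (a.act ≫ f).left with hLdef
  obtain ⟨rL, hrL⟩ : ∃ rL : L.toScheme ⟶ Y.left,
      ((G ◁ f).left ∣_ L) ≫ rL = ((G ◁ f).left ⁻¹ᵁ L).ι ≫ (a.act ≫ f).left :=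
    RigidRel.exists_factor _ h0 _
  let ρ : G ⊗ R ⟶ G ⊗ Y := G ◁ (r₁ ≫ f)
  let U : (G ⊗ R).left.Opens := ρ.left ⁻¹ᵁ L
  have hU : U.ι ≫ h₁.left = U.ι ≫ h₂.left := by
    have key : ∀ (r : R ⟶ X), r ≫ f = r₁ ≫ f →
        U.ι ≫ ((G ◁ r) ≫ a.act ≫ f).left = (ρ.left ∣_ L) ≫ rL := by
      intro r hrf
      have e : (G ◁ r).left ≫ (G ◁ f).left = ρ.left := by
        rw [← Over.comp_left, ← MonoidalCategory.whiskerLeft_comp, hrf]
      have hsub : Set.range (U.ι ≫ (G ◁ r).left) ⊆ Set.range ((G ◁ f).left ⁻¹ᵁ L).ι := by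
        rintro _ ⟨w, rfl⟩
        rw [Scheme.Opens.range_ι]
        show (G ◁ f).left ((G ◁ r).left (U.ι w)) ∈ L
        rw [← Scheme.Hom.comp_apply, e]
        exact w.2
      have hl := IsOpenImmersion.lift_fac _ _ hsub
      set lU := IsOpenImmersion.lift _ _ hsub
      have e2 : lU ≫ ((G ◁ f).left ∣_ L) = ρ.left ∣_ L := by
        rw [← cancel_mono L.ι, Category.assoc, morphismRestrict_ι, morphismRestrict_ι,
          ← Category.assoc, hl, Category.assoc, e]
      rw [← e2, Category.assoc, hrL, reassoc_of% hl]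
      rfl
    exact (key r₁ rfl).trans (key r₂ hr.symm).symm
  have hUz : (U : Set ↥(G ⊗ R).left) ⊆ Set.range z := fun m hm => by
    refine ⟨(pullback.lift U.ι (U.ι ≫ h₁.left) ?_ : U.toScheme ⟶ _) ⟨m, hm⟩, ?_⟩
    · apply pullback.hom_ext
      · rw [Category.assoc, Category.assoc, pullback.diagonal_fst, Category.comp_id,
          show l ≫ pullback.fst Y.hom Y.hom = h₁.left from pullback.lift_fst _ _ _]
      · rw [Category.assoc, Category.assoc, pullback.diagonal_snd, Category.comp_id,
          show l ≫ pullback.snd Y.hom Y.hom = h₂.left from pullback.lift_snd _ _ _, hU]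
    · rw [← Scheme.Hom.comp_apply, pullback.lift_fst]; rfl
  -- the unit section of `G ⊗ Y` lies in `L`
  let σ : ∀ V : Over (Spec (CommRingCat.of k)), V ⟶ G ⊗ V := fun V => lift (toUnit V ≫ η[G]) (𝟙 V)
  have hσ : ∀ y, (σ Y).left y ∈ L := by
    intro y
    have hsq : IsPullback (σ X).left f.left (G ◁ f).left (σ Y).left := by
      refine IsPullback.of_right (h₁₂ := (snd G X).left) ?_ ?_ (GITQuot.isPullback_whiskerLeft f G).flip
      · rw [← Over.comp_left, ← Over.comp_left, lift_snd, lift_snd, Over.id_left, Over.id_left]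
        exact IsPullback.of_horiz_isIso ⟨by simp⟩
      · rw [← Over.comp_left, ← Over.comp_left]
        congr 1
        ext1 <;> simp [σ]
    refine ⟨y, fun p hpy => ?_⟩
    obtain ⟨x, hxp, hxy⟩ := Scheme.exists_preimage_of_isPullback hsq p y hpy
    rw [← hxp, ← Scheme.Hom.comp_apply, ← Over.comp_left,
      show σ X ≫ a.act ≫ f = f by
        rw [← Category.assoc]
        have := AlgGrpBasic19.act_one a (𝟙 X)
        simp only [Hom.one_def] at this
        rw [show σ X = lift (toUnit X ≫ η[G]) (𝟙 X) from rfl, this, Category.id_comp]]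
    exact hxy
  intro m
  set r := (snd G R).left m
  haveI := AbRigid.geometricallyIrreducible_of_connected G
  haveI : GeometricallyIrreducible (snd G R).left :=
    MorphismProperty.of_isPullback (IsPullback.of_hasPullback G.hom R.hom) (inferInstance : GeometricallyIrreducible G.hom)
  haveI : UniversallyOpen (snd G R).left :=
    MorphismProperty.of_isPullback (IsPullback.of_hasPullback G.hom R.hom) (inferInstance : UniversallyOpen G.hom)
  have hirr := (snd G R).left.isIrreducible_preimage (snd G R).left.isOpenMap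
    (isIrreducible_singleton (x := r))
  have hne : (((snd G R).left ⁻¹' {r}) ∩ U).Nonempty := by
    refine ⟨(σ R).left r, ?_, ?_⟩
    · show (snd G R).left ((σ R).left r) = r
      rw [← Scheme.Hom.comp_apply, ← Over.comp_left, lift_snd]
      rfl
    · show ρ.left ((σ R).left r) ∈ L
      rw [← Scheme.Hom.comp_apply, ← Over.comp_left,
        show σ R ≫ ρ = (r₁ ≫ f) ≫ σ Y by ext1 <;> simp [σ, ρ]]
      rw [Over.comp_left, Scheme.Hom.comp_apply]
      exact hσ _
  have hcl := subset_closure_inter_of_isPreirreducible_of_isOpen hirr.isPreirreducible U.isOpen hne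
  exact closure_minimal (Set.inter_subset_right.trans hUz) z.isClosedEmbedding.isClosed_range
    (hcl (rfl : (snd G R).left m = r))

include hf in
/-- Blanchard's lemma for a separated target. -/
theorem existsUnique_action_of_connected [LocallyOfFiniteType G.hom] [ConnectedSpace G.left]
    [IsSeparated Y.hom] : ∃! b : AlgGrp.Action G Y, (G ◁ f) ≫ b.act = a.act ≫ f := by
  obtain ⟨b, hb⟩ := exists_action f hf a (pointwise_of_connected f hf a)
  exact ⟨b, hb, fun b' hb' => action_unique f hf a b b' hb hb'⟩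

end

end Groth.Agent.Blanchard19
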