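import Groth.Agent.Lib.Blanchard19
import Groth.Agent.Lib.HensProper6.Fibres

/-!
# Blanchard's lemma without separatedness of the target

* `isPreconnected_fibre`: fibres of a proper morphism with `f_* O = O` over a locally Noetherian base are preconnected.
* `existsUnique_action_of_connected`: an action of a connected group descends; no separatedness is needed.
-/

set_option autoImplicit false
set_option linter.style.haveILetI false
set_option backward.isDefEq.respectTransparency.types false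
universe u

open CategoryTheory Limits MonoidalCategory CartesianMonoidalCategory MonObj AlgebraicGeometry Topology
  TopologicalSpace Opposite

noncomputable section

namespace Groth.Agent.BlanchardNS19

open Blanchard19

/-- Zariski connectedness over a locally Noetherian base. -/
theorem isPreconnected_fibre {A B : Scheme.{u}} (π : A ⟶ B) [IsProper π] [IsLocallyNoetherian B]
    (h0 : ∀ U : B.Opens, IsAffineOpen U → Function.Bijective (π.app U).hom) (b : B) :
    _root_.IsPreconnected (π ⁻¹' {b}) := by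
  obtain ⟨V, hV, hbV, -⟩ := exists_isAffineOpen_mem_and_subset (X := B) (x := b) (U := ⊤) trivial
  haveI : IsNoetherianRing Γ(B, V) := IsLocallyNoetherian.component_noetherian ⟨V, hV⟩
  let g : (π ⁻¹ᵁ V).toScheme ⟶ Spec Γ(B, V) := (π ∣_ V) ≫ hV.isoSpec.hom
  haveI : IsProper (π ∣_ V) := MorphismProperty.of_isPullback (isPullback_morphismRestrict π V).flip inferInstance
  have h1 : Function.Bijective (π ∣_ V).appTop.hom := by
    rw [← ConcreteCategory.isIso_iff_bijective]
    simp only [Scheme.Hom.appTop, morphismRestrict_app]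
    refine @IsIso.comp_isIso _ _ _ _ _ _ _ ?_ ?_
    · rw [ConcreteCategory.isIso_iff_bijective]
      exact h0 _ (by rw [Scheme.Opens.ι_image_top]; exact hV)
    · exact Functor.map_isIso _ _
  have hg : Function.Bijective g.appTop.hom := by
    haveI : IsIso (π ∣_ V).appTop := (ConcreteCategory.isIso_iff_bijective _).mpr h1
    rw [← ConcreteCategory.isIso_iff_bijective]
    simp only [g, Scheme.Hom.comp_appTop]
    haveI : IsIso hV.isoSpec.hom.appTop := inferInstanceAs (IsIso (Scheme.Γ.map hV.isoSpec.hom.op))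
    exact IsIso.comp_isIso
  have hp := HensProper6.isPreconnected_fibre g hg (hV.isoSpec.hom ⟨b, hbV⟩)
  have himg : (π ⁻¹ᵁ V).ι '' (g ⁻¹' {hV.isoSpec.hom ⟨b, hbV⟩}) = π ⁻¹' {b} := by
    ext x
    constructor
    · rintro ⟨w, hw, rfl⟩
      have : (π ∣_ V) w = ⟨b, hbV⟩ := hV.isoSpec.hom.isEmbedding.injective hw
      show π ((π ⁻¹ᵁ V).ι w) = b
      rw [← Scheme.Hom.comp_apply, ← morphismRestrict_ι, Scheme.Hom.comp_apply, this]
      rfl
    · intro hx
      have hxV : x ∈ π ⁻¹ᵁ V := by
        show π x ∈ V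
        rw [show π x = b from hx]; exact hbV
      refine ⟨⟨x, hxV⟩, ?_, rfl⟩
      show hV.isoSpec.hom ((π ∣_ V) ⟨x, hxV⟩) = _
      congr 1
      exact Subtype.ext (by rw [morphismRestrict_base_coe]; exact hx)
  rw [← himg]
  exact hp.image _ (π ⁻¹ᵁ V).ι.continuous.continuousOn

section

variable {k : Type u} [Field k] {G X Y : Over (Spec (CommRingCat.of k))} (f : X ⟶ Y)
  (hf : ∀ U : Y.left.Opens, IsIso (f.left.app U)) [IsProper f.left] [GrpObj G] (a : AlgGrp.Action G X)

include hf in
/-- Two translates of points of one fibre with images in a common affine open have the same image. -/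
theorem eq_of_mem_affine [LocallyOfFiniteType G.hom] [ConnectedSpace G.left]
    (R : Over (Spec (CommRingCat.of k))) (r₁ r₂ : R ⟶ X) (hr : r₁ ≫ f = r₂ ≫ f)
    (m : ↥(G ⊗ R).left) (V : Y.left.Opens) (hV : IsAffineOpen V)
    (h1m : ((G ◁ r₁) ≫ a.act ≫ f).left m ∈ V) (h2m : ((G ◁ r₂) ≫ a.act ≫ f).left m ∈ V) :
    ((G ◁ r₁) ≫ a.act ≫ f).left m = ((G ◁ r₂) ≫ a.act ≫ f).left m := by
  let h₁ : G ⊗ R ⟶ Y := (G ◁ r₁) ≫ a.act ≫ f
  let h₂ : G ⊗ R ⟶ Y := (G ◁ r₂) ≫ a.act ≫ f
  -- near the unit section they agree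
  haveI := proper_whiskerLeft (Z := G) f
  have h0 : ∀ U : (G ⊗ Y).left.Opens, IsAffineOpen U → Function.Bijective ((G ◁ f).left.app U).hom :=
    fun U _ => bijective_app_whiskerLeft f hf U
  set L := RigidRel.collapsedOpen (G ◁ f).left h0 (a.act ≫ f).left with hLdef
  obtain ⟨rL, hrL⟩ : ∃ rL : L.toScheme ⟶ Y.left,
      ((G ◁ f).left ∣_ L) ≫ rL = ((G ◁ f).left ⁻¹ᵁ L).ι ≫ (a.act ≫ f).left :=
    RigidRel.exists_factor _ h0 _
  let ρ : G ⊗ R ⟶ G ⊗ Y := G ◁ (r₁ ≫ f)
  let U : (G ⊗ R).left.Opens := ρ.left ⁻¹ᵁ L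
  have hU : U.ι ≫ h₁.left = U.ι ≫ h₂.left := by
    have key : ∀ (r : R ⟶ X), r ≫ f = r₁ ≫ f →
        U.ι ≫ ((G ◁ r) ≫ a.act ≫ f).left = (ρ.left ∣_ L) ≫ rL := by
      intro r hrf
      have e : (G ◁ r).left ≫ (G ◁ f).left = ρ.left := by
        rw [← Over.comp_left, ← MonoidalCategory.whiskerLeft_comp, hrf]
      have hsub : Set.range (U.ι ≫ (G ◁ r).left) ⊆ Set.range ((G ◁ f).left ⁻¹ᵁ L).ι := by
        rintro _ ⟨w, rfl⟩
        rw [Scheme.Opens.range_ι]
        show (G ◁ f).left ((G ◁ r).left (U.ι w)) ∈ L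
        rw [← Scheme.Hom.comp_apply, e]
        exact w.2
      have hl := IsOpenImmersion.lift_fac _ _ hsub
      set lU := IsOpenImmersion.lift _ _ hsub
      have e2 : lU ≫ ((G ◁ f).left ∣_ L) = ρ.left ∣_ L := by
        rw [← cancel_mono L.ι, Category.assoc, morphismRestrict_ι, morphismRestrict_ι,
          ← Category.assoc, hl, Category.assoc, e]
      rw [← e2, Category.assoc, hrL, reassoc_of% hl]
      rfl
    exact (key r₁ rfl).trans (key r₂ hr.symm).symm
  -- the unit section of `G ⊗ Y` lies in `L`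
  let σ : ∀ V : Over (Spec (CommRingCat.of k)), V ⟶ G ⊗ V := fun V => lift (toUnit V ≫ η[G]) (𝟙 V)
  have hσ : ∀ y, (σ Y).left y ∈ L := by
    intro y
    have hsq : IsPullback (σ X).left f.left (G ◁ f).left (σ Y).left := by
      refine IsPullback.of_right (h₁₂ := (snd G X).left) ?_ ?_ (GITQuot.isPullback_whiskerLeft f G).flip
      · rw [← Over.comp_left, ← Over.comp_left, lift_snd, lift_snd, Over.id_left, Over.id_left]
        exact IsPullback.of_horiz_isIso ⟨by simp⟩
      · rw [← Over.comp_left, ← Over.comp_left]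
        congr 1
        ext1 <;> simp [σ]
    refine ⟨y, fun p hpy => ?_⟩
    obtain ⟨x, hxp, hxy⟩ := Scheme.exists_preimage_of_isPullback hsq p y hpy
    rw [← hxp, ← Scheme.Hom.comp_apply, ← Over.comp_left,
      show σ X ≫ a.act ≫ f = f by
        rw [← Category.assoc]
        have := AlgGrpBasic19.act_one a (𝟙 X)
        simp only [Hom.one_def] at this
        rw [show σ X = lift (toUnit X ≫ η[G]) (𝟙 X) from rfl, this, Category.id_comp]]
    exact hxy
  have hmU : m ∈ closure (U : Set ↥(G ⊗ R).left) := by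
    set r := (snd G R).left m
    haveI := AbRigid.geometricallyIrreducible_of_connected G
    haveI : GeometricallyIrreducible (snd G R).left :=
      MorphismProperty.of_isPullback (IsPullback.of_hasPullback G.hom R.hom) (inferInstance : GeometricallyIrreducible G.hom)
    haveI : UniversallyOpen (snd G R).left :=
      MorphismProperty.of_isPullback (IsPullback.of_hasPullback G.hom R.hom) (inferInstance : UniversallyOpen G.hom)
    have hirr := (snd G R).left.isIrreducible_preimage (snd G R).left.isOpenMap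
      (isIrreducible_singleton (x := r))
    have hne : (((snd G R).left ⁻¹' {r}) ∩ U).Nonempty := by
      refine ⟨(σ R).left r, ?_, ?_⟩
      · show (snd G R).left ((σ R).left r) = r
        rw [← Scheme.Hom.comp_apply, ← Over.comp_left, lift_snd]
        rfl
      · show ρ.left ((σ R).left r) ∈ L
        rw [← Scheme.Hom.comp_apply, ← Over.comp_left,
          show σ R ≫ ρ = (r₁ ≫ f) ≫ σ Y by ext1 <;> simp [σ, ρ]]
        rw [Over.comp_left, Scheme.Hom.comp_apply]
        exact hσ _
    have hcl := subset_closure_inter_of_isPreirreducible_of_isOpen hirr.isPreirreducible U.isOpen hne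
    exact closure_mono Set.inter_subset_right (hcl (rfl : (snd G R).left m = r))
  haveI : IsAffine V.toScheme := hV
  let W : (G ⊗ R).left.Opens := h₁.left ⁻¹ᵁ V ⊓ h₂.left ⁻¹ᵁ V
  let a₁ : W.toScheme ⟶ V.toScheme := IsOpenImmersion.lift V.ι (W.ι ≫ h₁.left) (by
    rintro _ ⟨w, rfl⟩; rw [Scheme.Opens.range_ι]; exact w.2.1)
  let a₂ : W.toScheme ⟶ V.toScheme := IsOpenImmersion.lift V.ι (W.ι ≫ h₂.left) (by
    rintro _ ⟨w, rfl⟩; rw [Scheme.Opens.range_ι]; exact w.2.2)
  have ha₁ : a₁ ≫ V.ι = W.ι ≫ h₁.left := IsOpenImmersion.lift_fac _ _ _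
  have ha₂ : a₂ ≫ V.ι = W.ι ≫ h₂.left := IsOpenImmersion.lift_fac _ _ _
  haveI : IsSeparated (V.ι ≫ Y.hom) := inferInstance
  let l : W.toScheme ⟶ pullback (V.ι ≫ Y.hom) (V.ι ≫ Y.hom) := pullback.lift a₁ a₂ (by
    rw [reassoc_of% ha₁, reassoc_of% ha₂, Over.w, Over.w])
  let z := pullback.fst l (pullback.diagonal (V.ι ≫ Y.hom))
  haveI : IsClosedImmersion z := MorphismProperty.pullback_fst _ _ inferInstance
  have hz : ∀ w ∈ Set.range z, h₁.left (W.ι w) = h₂.left (W.ι w) := by
    rintro _ ⟨w, rfl⟩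
    have e : z ≫ a₁ = z ≫ a₂ := by
      rw [show a₁ = l ≫ pullback.fst _ _ from (pullback.lift_fst _ _ _).symm,
        show a₂ = l ≫ pullback.snd _ _ from (pullback.lift_snd _ _ _).symm,
        ← Category.assoc, ← Category.assoc, pullback.condition, Category.assoc, Category.assoc,
        pullback.diagonal_fst, pullback.diagonal_snd]
    have e' := congrArg (fun t => t ≫ V.ι) e
    simp only [Category.assoc, ha₁, ha₂] at e'
    rw [← Scheme.Hom.comp_apply, ← Scheme.Hom.comp_apply, ← Scheme.Hom.comp_apply,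
      ← Scheme.Hom.comp_apply, e']
  have hmW : m ∈ W := ⟨h1m, h2m⟩
  have hUz : W.ι ⁻¹' (U : Set ↥(G ⊗ R).left) ⊆ Set.range z := fun w hw => by
    let O : W.toScheme.Opens := W.ι ⁻¹ᵁ U
    refine ⟨(pullback.lift O.ι (O.ι ≫ a₁) ?_ : O.toScheme ⟶ _) ⟨w, hw⟩, ?_⟩
    · apply pullback.hom_ext
      · rw [Category.assoc, Category.assoc, pullback.diagonal_fst, Category.comp_id,
          show l ≫ pullback.fst _ _ = a₁ from pullback.lift_fst _ _ _]
      · rw [Category.assoc, Category.assoc, pullback.diagonal_snd, Category.comp_id,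
          show l ≫ pullback.snd _ _ = a₂ from pullback.lift_snd _ _ _]
        rw [← cancel_mono V.ι, Category.assoc, Category.assoc, ha₁, ha₂]
        have hO : Set.range (O.ι ≫ W.ι) ⊆ Set.range U.ι := by
          rintro _ ⟨o, rfl⟩; rw [Scheme.Opens.range_ι]; exact o.2
        rw [← Category.assoc, ← Category.assoc, ← IsOpenImmersion.lift_fac U.ι (O.ι ≫ W.ι) hO,
          Category.assoc, Category.assoc, hU]
    · rw [← Scheme.Hom.comp_apply, pullback.lift_fst]; rfl
  have hm' : (⟨m, hmW⟩ : W.toScheme) ∈ closure (W.ι ⁻¹' (U : Set ↥(G ⊗ R).left)) := by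
    rw [← W.ι.isOpenEmbedding.isOpenMap.preimage_closure_eq_closure_preimage W.ι.continuous]
    exact hmU
  exact hz _ (closure_minimal hUz z.isClosedEmbedding.isClosed_range hm')

include hf in
/-- For a connected group, an action is constant on the fibres. -/
theorem pointwise_of_connected [LocallyOfFiniteType G.hom] [ConnectedSpace G.left]
    [LocallyOfFiniteType Y.hom] (p q : ↥(G ⊗ X).left) (h : (G ◁ f).left p = (G ◁ f).left q) :
    (a.act ≫ f).left p = (a.act ≫ f).left q := by
  haveI := proper_whiskerLeft (Z := G) f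
  haveI : IsLocallyNoetherian (G ⊗ Y).left := by
    haveI : LocallyOfFiniteType (G ⊗ Y).hom := by rw [Over.tensorObj_hom]; infer_instance
    exact LocallyOfFiniteType.isLocallyNoetherian (G ⊗ Y).hom
  have hloc : ∀ (p q : ↥(G ⊗ X).left), (G ◁ f).left p = (G ◁ f).left q →
      ∀ V : Y.left.Opens, IsAffineOpen V → (a.act ≫ f).left p ∈ V → (a.act ≫ f).left q ∈ V →
      (a.act ≫ f).left p = (a.act ≫ f).left q := by
    intro p q h V hV hpV hqV
    obtain ⟨w, hw1, hw2⟩ :=
      Scheme.Pullback.exists_preimage_pullback (f := (G ◁ f).left) (g := (G ◁ f).left) p q h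
    set i := (pullback (G ◁ f).left (G ◁ f).left).fromSpecResidueField w
    let T : Over (Spec (CommRingCat.of k)) := Over.mk (i ≫ pullback.fst _ _ ≫ (G ⊗ X).hom)
    let u₁ : T ⟶ G ⊗ X := Over.homMk (i ≫ pullback.fst _ _) (Category.assoc _ _ _)
    let u₂ : T ⟶ G ⊗ X := Over.homMk (i ≫ pullback.snd _ _) (by
      simp only [T, Over.mk_hom, Category.assoc]
      congr 1
      rw [← Over.w (G ◁ f), pullback.condition_assoc])
    have hu : u₁ ≫ (G ◁ f) = u₂ ≫ (G ◁ f) := by
      apply Over.OverMorphism.ext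
      simp only [Over.comp_left, u₁, u₂, Over.homMk_left, Category.assoc, pullback.condition]
    have hg : u₁ ≫ fst G X = u₂ ≫ fst G X := by
      rw [← whiskerLeft_fst G f, reassoc_of% hu]
    have hx : (u₁ ≫ snd G X) ≫ f = (u₂ ≫ snd G X) ≫ f := by
      rw [Category.assoc, Category.assoc, ← whiskerLeft_snd, reassoc_of% hu]
    let c : ↥T.left := IsLocalRing.closedPoint _
    have e1 : lift (u₁ ≫ fst G X) (u₁ ≫ snd G X) = u₁ := by
      rw [← comp_lift, lift_fst_snd, Category.comp_id]
    have e2 : lift (u₁ ≫ fst G X) (u₂ ≫ snd G X) = u₂ := by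
      rw [hg, ← comp_lift, lift_fst_snd, Category.comp_id]
    let σ : T ⟶ G ⊗ T := lift (u₁ ≫ fst G X) (𝟙 T)
    have k1 : σ ≫ (G ◁ (u₁ ≫ snd G X)) = u₁ := by rw [lift_whiskerLeft, Category.id_comp, e1]
    have k2 : σ ≫ (G ◁ (u₂ ≫ snd G X)) = u₂ := by rw [lift_whiskerLeft, Category.id_comp, e2]
    have p1 : u₁.left c = p := by
      show (pullback.fst (G ◁ f).left (G ◁ f).left) (i c) = p
      rw [show i c = w from Scheme.fromSpecResidueField_apply _ _]
      exact hw1
    have p2 : u₂.left c = q := by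
      show (pullback.snd (G ◁ f).left (G ◁ f).left) (i c) = q
      rw [show i c = w from Scheme.fromSpecResidueField_apply _ _]
      exact hw2
    have q1 : ((G ◁ (u₁ ≫ snd G X)) ≫ a.act ≫ f).left (σ.left c) = (a.act ≫ f).left p := by
      rw [← p1, ← Scheme.Hom.comp_apply, ← Scheme.Hom.comp_apply, ← Over.comp_left, ← Over.comp_left,
        ← Category.assoc, k1]
    have q2 : ((G ◁ (u₂ ≫ snd G X)) ≫ a.act ≫ f).left (σ.left c) = (a.act ≫ f).left q := by
      rw [← p2, ← Scheme.Hom.comp_apply, ← Scheme.Hom.comp_apply, ← Over.comp_left, ← Over.comp_left,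
        ← Category.assoc, k2]
    have key := eq_of_mem_affine f hf a T _ _ hx (σ.left c) V hV (by rw [q1]; exact hpV)
      (by rw [q2]; exact hqV)
    rwa [q1, q2] at key
  set w := (G ◁ f).left q
  have hconn := isPreconnected_fibre (G ◁ f).left (fun U _ => bijective_app_whiskerLeft f hf U) w
  haveI : PreconnectedSpace ↥((G ◁ f).left ⁻¹' {w}) := isPreconnected_iff_preconnectedSpace.mp hconn
  have hlc : IsLocallyConstant (fun x : ↥((G ◁ f).left ⁻¹' {w}) => (a.act ≫ f).left x.1) := by
    rw [IsLocallyConstant.iff_exists_open]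
    intro x
    obtain ⟨V, hV, hxV, -⟩ :=
      exists_isAffineOpen_mem_and_subset (X := Y.left) (x := (a.act ≫ f).left x.1) (U := ⊤) trivial
    refine ⟨_, V.isOpen.preimage ((a.act ≫ f).left.continuous.comp continuous_subtype_val), hxV,
      fun y hy => ?_⟩
    exact hloc y.1 x.1 ((y.2 : (G ◁ f).left y.1 = w).trans (x.2 : (G ◁ f).left x.1 = w).symm) V hV hy hxV
  exact hlc.apply_eq_of_preconnectedSpace ⟨p, h⟩ ⟨q, rfl⟩

include hf in
/-- Blanchard's lemma. -/
theorem existsUnique_action_of_connected [LocallyOfFiniteType G.hom] [ConnectedSpace G.left]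
    [LocallyOfFiniteType Y.hom] : ∃! b : AlgGrp.Action G Y, (G ◁ f) ≫ b.act = a.act ≫ f := by
  obtain ⟨b, hb⟩ := exists_action f hf a (pointwise_of_connected f hf a)
  exact ⟨b, hb, fun b' hb' => action_unique f hf a b b' hb hb'⟩

end

end Groth.Agent.BlanchardNS19
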