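import Groth.Agent.Lib.VeryAmple11.Univ2
import Groth.Agent.Lib.VeryAmple11.ProjCrit
import Groth.Agent.Lib.AmpleFib.Proper
import Groth.Agent.Lib.QuotProj11.Proper
import Groth.Agent.Lib.RelProj11.Map

/-! The ample locus of the fibres of a projective bundle. -/

set_option autoImplicit false
set_option linter.style.haveILetI false
set_option linter.unusedSectionVars false
set_option maxHeartbeats 1000000

universe u

open CategoryTheory Limits AlgebraicGeometry TopologicalSpace Opposite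
open scoped HomogeneousIdeal

set_option backward.isDefEq.respectTransparency false

noncomputable section

namespace Groth.Agent.BundleFib27

open Groth.Agent.M1 Groth.Agent.VA11

section bundle

variable {S X P : Scheme.{u}} {E : S.Modules} {𝒮 : RelProj.QCGrAlg S} {j : E ⟶ 𝒮.toModule} {p : P ⟶ S}
  {chart : ∀ (U : S.Opens) (hU : IsAffineOpen U), ((p ⁻¹ᵁ U : P.Opens) : Scheme.{u}) ≅ Proj (𝒮.deg U hU)}
  {O1 : P.Modules}
  {lam : ∀ (U : S.Opens) (hU : IsAffineOpen U),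
    O1 ⟶ (Scheme.Modules.pushforward (RelProj.emb p chart U hU)).obj (GrTwist.twist (𝒮.deg U hU) 1)}

/-- The projective bundle of an inverse image is the base change. -/
theorem exists_isPullback_bundle_twist {S' P' : Scheme.{u}} (ψ : S' ⟶ S) {𝒮' : RelProj.QCGrAlg S'}
    {j' : (Scheme.Modules.pullback ψ).obj E ⟶ 𝒮'.toModule}
    (hE : Coh.IsQCoh E) (hE' : Coh.IsQCoh ((Scheme.Modules.pullback ψ).obj E))
    (hj : RelProj.IsGrSymAlg E 𝒮 j)
    (hj' : RelProj.IsGrSymAlg ((Scheme.Modules.pullback ψ).obj E) 𝒮' j')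
    (hP : RelProj.IsRelProj 𝒮 p chart) {p' : P' ⟶ S'}
    {chart' : ∀ (U' : S'.Opens) (hU' : IsAffineOpen U'), ((p' ⁻¹ᵁ U' : P'.Opens) : Scheme.{u}) ≅ Proj (𝒮'.deg U' hU')}
    (hP' : RelProj.IsRelProj 𝒮' p' chart')
    (hO : RelProj.IsRelTwist 𝒮 p chart 1 O1 lam) {O1' : P'.Modules}
    {lam' : ∀ (U' : S'.Opens) (hU' : IsAffineOpen U'),
      O1' ⟶ (Scheme.Modules.pushforward (RelProj.emb p' chart' U' hU')).obj (GrTwist.twist (𝒮'.deg U' hU') 1)}
    (hO' : RelProj.IsRelTwist 𝒮' p' chart' 1 O1' lam') :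
    ∃ g : P' ⟶ P, IsPullback g p' p ψ ∧ Nonempty ((Scheme.Modules.pullback g).obj O1 ≅ O1') := by
  obtain ⟨φ, hφ⟩ := exists_can hE hj hP hO
  obtain ⟨φ', hφ'⟩ := exists_can hE' hj' hP' hO'
  have hg' := gens_can hE' hj' hO' hφ'
  have hI := RelProj11.isInvertible_relTwist (isGenDegOne_of_isGrSymAlg hE hj) hO
  have hI' := RelProj11.isInvertible_relTwist (isGenDegOne_of_isGrSymAlg hE' hj') hO'
  let adjψ := Scheme.Modules.pullbackPushforwardAdjunction ψ
  let θ : (Scheme.Modules.pullback (p' ≫ ψ)).obj E ⟶ O1' :=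
    (Scheme.Modules.pullbackComp p' ψ).inv.app E ≫
      ((Scheme.Modules.pullbackPushforwardAdjunction p').homEquiv _ O1').symm φ'
  haveI : Epi (((Scheme.Modules.pullbackPushforwardAdjunction p').homEquiv _ O1').symm φ') := epi_of_gens hI' hg'
  haveI : Epi θ := epi_comp _ _
  have hθv : ∀ (U : S.Opens) (e : Γ(E, U)),
      ((Scheme.Modules.pullbackPushforwardAdjunction (p' ≫ ψ)).homEquiv E O1' θ).app U e =
        φ'.app (ψ ⁻¹ᵁ U) (M2.pullSec ψ E e) := by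
    intro U e
    refine (congrArg (fun χ : E ⟶ (Scheme.Modules.pushforward (p' ≫ ψ)).obj O1' => χ.app U e)
      ((Scheme.Modules.pullbackPushforwardAdjunction (p' ≫ ψ)).homEquiv_unit _ _ _)).trans ?_
    show θ.app ((p' ≫ ψ) ⁻¹ᵁ U) (M2.pullSec (p' ≫ ψ) E e) = _
    rw [comp_app_apply, pullbackComp_inv_pullSec]
    exact congrArg (fun χ : _ ⟶ (Scheme.Modules.pushforward p').obj O1' => χ.app (ψ ⁻¹ᵁ U) (M2.pullSec ψ E e))
      (((Scheme.Modules.pullbackPushforwardAdjunction p').homEquiv_unit _ _ _).symm.trans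
        (Equiv.apply_symm_apply _ φ'))
  obtain ⟨g, hg, τg, hτg⟩ := exists_morphism_can hE hj hP hO hφ (gens_of_epi hI' θ)
  have key : ∀ {T : Scheme.{u}} (h : T ⟶ P') (q : T ⟶ S') (k : T ⟶ P) (hq : h ≫ p' = q) (hk : h ≫ g = k),
      ∃ (τ : (Scheme.Modules.pullback h).obj O1' ≅ (Scheme.Modules.pullback k).obj O1)
        (ω : (Scheme.Modules.pullback ψ).obj E ⟶
          (Scheme.Modules.pushforward q).obj ((Scheme.Modules.pullback k).obj O1)),
        (∀ (U' : S'.Opens) (m : Γ((Scheme.Modules.pullback ψ).obj E, U')),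
          τ.hom.app (h ⁻¹ᵁ (p' ⁻¹ᵁ U')) (M2.pullSec h O1' (φ'.app U' m)) =
            mres _ (show h ⁻¹ᵁ (p' ⁻¹ᵁ U') ≤ q ⁻¹ᵁ U' by rw [← hq]; rfl) (ω.app U' m)) ∧
        ∀ (U : S.Opens) (e : Γ(E, U)), ω.app (ψ ⁻¹ᵁ U) (M2.pullSec ψ E e) =
          mres _ (show q ⁻¹ᵁ (ψ ⁻¹ᵁ U) ≤ k ⁻¹ᵁ (p ⁻¹ᵁ U) by
            rw [← hq, ← hk, Scheme.Hom.comp_preimage, Scheme.Hom.comp_preimage]
            exact h.preimage_mono (by rw [← Scheme.Hom.comp_preimage g p, hg]; rfl))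
            (M2.pullSec k O1 (φ.app U e)) := by
    intro T h q k hq hk
    subst hk
    let τ : (Scheme.Modules.pullback h).obj O1' ≅ (Scheme.Modules.pullback (h ≫ g)).obj O1 :=
      (Scheme.Modules.pullback h).mapIso τg.symm ≪≫ (Scheme.Modules.pullbackComp h g).app O1
    obtain ⟨ω, hω⟩ := exists_comp_unit φ' h τ hq
    refine ⟨τ, ω, fun U' m => ?_, fun U e => ?_⟩
    · rw [hω]
      exact ((mres_mres _ _ _ _).trans (mres_id _ _ _)).symm
    · subst hq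
      rw [hω]
      refine (mres_id _ _ _).trans ?_
      rw [← hθv]
      have hle : g ⁻¹ᵁ (p ⁻¹ᵁ U) ≤ (p' ≫ ψ) ⁻¹ᵁ U := by rw [← hg]; rfl
      have hge : (p' ≫ ψ) ⁻¹ᵁ U ≤ g ⁻¹ᵁ (p ⁻¹ᵁ U) := by rw [← hg]; rfl
      have h1 := congrArg (mres O1' hge) (hτg U e)
      rw [mres_mres, mres_id] at h1
      rw [← h1]
      have h3 : ∀ (W : P'.Opens) (hW : W ≤ g ⁻¹ᵁ (p ⁻¹ᵁ U)),
          τ.hom.app (h ⁻¹ᵁ W) (M2.pullSec h O1' (mres O1' hW
            (τg.hom.app (g ⁻¹ᵁ (p ⁻¹ᵁ U)) (M2.pullSec g O1 (φ.app U e))))) =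
          mres _ (h.preimage_mono hW) (M2.pullSec (h ≫ g) O1 (φ.app U e)) := by
        intro W hW
        rw [← mres_pullSec h hW, app_mres]
        refine congrArg (mres _ (h.preimage_mono hW)) ?_
        show ((Scheme.Modules.pullback h).map τg.inv ≫ (Scheme.Modules.pullbackComp h g).hom.app O1).app _ _ = _
        rw [comp_app_apply]
        have h4 : ((Scheme.Modules.pullback h).map τg.inv).app _
            (M2.pullSec h O1' (τg.hom.app (g ⁻¹ᵁ (p ⁻¹ᵁ U)) (M2.pullSec g O1 (φ.app U e)))) =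
            M2.pullSec h _ (M2.pullSec g O1 (φ.app U e)) := by
          refine (congrArg (fun χ => χ.app (g ⁻¹ᵁ (p ⁻¹ᵁ U)) (τg.hom.app _ (M2.pullSec g O1 (φ.app U e))))
            ((Scheme.Modules.pullbackPushforwardAdjunction h).unit.naturality τg.inv)).symm.trans ?_
          show M2.pullSec h _ (τg.inv.app _ (τg.hom.app _ (M2.pullSec g O1 (φ.app U e)))) = _
          rw [← comp_app_apply, τg.hom_inv_id]
          rfl
        erw [h4, ← pullbackComp_inv_pullSec h g O1 (φ.app U e), ← comp_app_apply, Iso.inv_hom_id_app]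
        rfl
      exact h3 _ hge
  let a := pullback.fst p ψ
  let b := pullback.snd p ψ
  have wab : a ≫ p = b ≫ ψ := pullback.condition
  obtain ⟨σ₀, hσ₀⟩ := exists_comp_unit φ a (Iso.refl _) wab
  let σr : (Scheme.Modules.pullback ψ).obj E ⟶ (Scheme.Modules.pushforward b).obj ((Scheme.Modules.pullback a).obj O1) :=
    (adjψ.homEquiv E _).symm (σ₀ ≫ (Scheme.Modules.pushforwardComp b ψ).inv.app _)
  have hσr : ∀ (U : S.Opens) (e : Γ(E, U)), σr.app (ψ ⁻¹ᵁ U) (M2.pullSec ψ E e) =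
      mres _ (show b ⁻¹ᵁ (ψ ⁻¹ᵁ U) ≤ a ⁻¹ᵁ (p ⁻¹ᵁ U) by
        rw [← Scheme.Hom.comp_preimage a p, wab]; rfl) (M2.pullSec a O1 (φ.app U e)) := fun U e =>
    (congrArg (fun χ : E ⟶ (Scheme.Modules.pushforward ψ).obj _ => χ.app U e)
      ((adjψ.homEquiv_unit _ _ _).symm.trans (Equiv.apply_symm_apply _ _))).trans (hσ₀ U e)
  have hgr : Gens σr := fun x => by
    obtain ⟨U, e, he⟩ := gens_can hE hj hO hφ (a x)
    refine ⟨ψ ⁻¹ᵁ U, M2.pullSec ψ E e, ?_⟩
    show x ∈ gl (secs σr (ψ ⁻¹ᵁ U) (M2.pullSec ψ E e))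
    rw [secs, hσr, gl_mres, gl_pullSec a hI]
    refine ⟨he, ?_⟩
    have h0 : (a ≫ p) ⁻¹ᵁ U = (b ≫ ψ) ⁻¹ᵁ U := by rw [wab]
    exact h0.le (gl_le (secs φ U e) he)
  obtain ⟨r, hr, τr, hτr⟩ := exists_morphism_can hE' hj' hP' hO' hφ' hgr
  have hrg : r ≫ g = a := by
    obtain ⟨τ, ω, hτω, hω⟩ := key r b (r ≫ g) hr rfl
    obtain ⟨σ, hσ⟩ := exists_comp_unit φ (r ≫ g) (τ.symm ≪≫ τr)
      (show (r ≫ g) ≫ p = b ≫ ψ by rw [Category.assoc, hg, ← hr, Category.assoc])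
    refine eq_of_can hE hj hP hO hφ (show (r ≫ g) ≫ p = b ≫ ψ by rw [Category.assoc, hg, ← hr, Category.assoc])
      wab (τ.symm ≪≫ τr) (Iso.refl _) σ₀ (fun U hU e => ?_) fun U hU e => ?_
    · have hge : (r ≫ g) ⁻¹ᵁ (p ⁻¹ᵁ U) ≤ r ⁻¹ᵁ (p' ⁻¹ᵁ (ψ ⁻¹ᵁ U)) := by
        rw [Scheme.Hom.comp_preimage]
        exact r.preimage_mono (by rw [← Scheme.Hom.comp_preimage g p, hg]; rfl)
      have h1 := congrArg ((τ.symm ≪≫ τr).hom.app _) (hτω (ψ ⁻¹ᵁ U) (M2.pullSec ψ E e))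
      rw [← comp_app_apply] at h1
      simp only [Iso.trans_hom, Iso.symm_hom, Iso.hom_inv_id_assoc] at h1
      rw [hτr, hσr, hω, app_mres, app_mres] at h1
      have h2 := congrArg (mres ((Scheme.Modules.pullback a).obj O1) hge) h1
      rw [mres_mres, mres_mres, mres_mres, mres_mres] at h2
      rw [hσ₀, mres_mres]
      exact (h2.trans (mres_id _ _ _)).symm
    · rw [hσ₀, mres_mres, mres_id]
  let c : P' ⟶ pullback p ψ := pullback.lift g p' hg
  have hrc : r ≫ c = 𝟙 _ := by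
    apply pullback.hom_ext
    · rw [Category.assoc, pullback.lift_fst, hrg, Category.id_comp]
    · rw [Category.assoc, pullback.lift_snd, hr, Category.id_comp]
  have hcr : c ≫ r = 𝟙 _ := by
    have e1 : (c ≫ r) ≫ p' = p' := by rw [Category.assoc, hr, pullback.lift_snd]
    have e2 : (c ≫ r) ≫ g = g := by rw [Category.assoc, hrg, pullback.lift_fst]
    obtain ⟨τ₁, ω₁, hτ₁, hω₁⟩ := key (c ≫ r) p' g e1 e2
    obtain ⟨τ₂, ω₂, hτ₂, hω₂⟩ := key (𝟙 P') p' g (Category.id_comp _) (Category.id_comp _)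
    have he : ω₁ = ω₂ := hom_ext_pullSec ψ _ _ fun U _ e => (hω₁ U e).trans (hω₂ U e).symm
    subst he
    exact eq_of_can hE' hj' hP' hO' hφ' e1 (Category.id_comp _) τ₁ τ₂ ω₁ (fun U _ m => hτ₁ U m) (fun U _ m => hτ₂ U m)
  haveI : IsIso c := ⟨r, hcr, hrc⟩
  exact ⟨g, IsPullback.of_iso_pullback ⟨hg⟩ (asIso c) (pullback.lift_fst _ _ _) (pullback.lift_snd _ _ _), ⟨τg⟩⟩


end bundle

open Groth.Agent.RA

variable {X Y : Scheme.{u}}

theorem isAmple_fibre_iff {P Py : Scheme.{u}} (f : X ⟶ Y) (p : P ⟶ X) (y : Y) (py : Py ⟶ f.fiber y) (g : Py ⟶ P)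
    (h : IsPullback g py p (f.fiberι y)) (L : P.Modules) :
    CohB1.IsAmple ((Scheme.Modules.pullback g).obj L) ↔
      CohB1.IsAmple ((Scheme.Modules.pullback ((p ≫ f).fiberι y)).obj L) := by
  let e : Py ≅ (p ≫ f).fiber y :=
    (h.paste_vert (IsPullback.of_hasPullback f (Y.fromSpecResidueField y))).isoPullback
  have he : e.hom ≫ (p ≫ f).fiberι y = g := IsPullback.isoPullback_hom_fst _
  constructor
  · intro hA
    rw [isAmple_pullback_congr ((Iso.inv_comp_eq e).2 he.symm).symm, ← isAmple_pullback_comp_iff]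
    exact Amp.isAmple_pullback_of_isAffineHom e.inv hA
  · intro hA
    rw [isAmple_pullback_congr he.symm, ← isAmple_pullback_comp_iff]
    exact Amp.isAmple_pullback_of_isAffineHom e.hom hA

/-- The points with ample fibre form an open set. -/
theorem isOpen_ample_fibre (f : X ⟶ Y) [IsProper f] {L : X.Modules} (hL : PicF.IsInvertible L) :
    IsOpen {y : Y | CohB1.IsAmple ((Scheme.Modules.pullback (f.fiberι y)).obj L)} := by
  rw [isOpen_iff_forall_mem_open]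
  intro y hy
  obtain ⟨V, hV, hyV, hA⟩ := AmpleFib.exists_nhd_isAmple_proper f hL y hy
  refine ⟨V, fun s hsD => ?_, V.2, hyV⟩
  let ι' : f.fiber s ⟶ (f ⁻¹ᵁ V : X.Opens).toScheme := IsOpenImmersion.lift (f ⁻¹ᵁ V).ι (f.fiberι s) (by
    rw [Scheme.Hom.range_fiberι, Scheme.Opens.range_ι]
    intro x hx
    show f x ∈ V
    rw [show f x = s from hx]
    exact hsD)
  have hι' : ι' ≫ (f ⁻¹ᵁ V).ι = f.fiberι s := IsOpenImmersion.lift_fac _ _ _
  haveI : IsPreimmersion (ι' ≫ (f ⁻¹ᵁ V).ι) := hι'.symm ▸ inferInstance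
  haveI : IsPreimmersion ι' := IsPreimmersion.of_comp ι' (f ⁻¹ᵁ V).ι
  haveI : IsProper (f.fiberToSpecResidueField s) :=
    MorphismProperty.pullback_snd (P := @IsProper) _ _ inferInstance
  haveI : CompactSpace (f.fiber s) := QuasiCompact.compactSpace_of_compactSpace (f.fiberToSpecResidueField s)
  show CohB1.IsAmple _
  rw [isAmple_pullback_congr hι'.symm, ← isAmple_pullback_comp_iff]
  exact Amp.isAmple_pullback_of_isInducing ι' ι'.isEmbedding.isInducing ((isAmple_restrict_iff_pullback _).1 hA)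

/-- The fibres over which a bundle is ample form an open set. -/
theorem isOpen_bundle_ample (f : X ⟶ Y) [IsProper f] (E : X.Modules) (hE : Coh.IsQCoh E) (hFT : CohB1.IsFT E) :
    IsOpen {y : Y | ∀ (𝒮 : RelProj.QCGrAlg (f.fiber y)) (j : ((Scheme.Modules.pullback (f.fiberι y)).obj E) ⟶ 𝒮.toModule) (P : Scheme.{u}) (p : P ⟶ (f.fiber y))
        (chart : ∀ (U : (f.fiber y).Opens) (hU : IsAffineOpen U),
          (((p ⁻¹ᵁ U : P.Opens) : Scheme.{u}) ≅ Proj (𝒮.deg U hU)))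
        (O1 : P.Modules)
        (lam : ∀ (U : (f.fiber y).Opens) (hU : IsAffineOpen U),
          O1 ⟶ (Scheme.Modules.pushforward (RelProj.emb p chart U hU)).obj (GrTwist.twist (𝒮.deg U hU) 1)),
        RelProj.IsGrSymAlg ((Scheme.Modules.pullback (f.fiberι y)).obj E) 𝒮 j → RelProj.IsRelProj 𝒮 p chart → RelProj.IsRelTwist 𝒮 p chart 1 O1 lam →
        CohB1.IsAmple O1} := by
  let 𝒮 := VA11.symGr hE
  let j : E ⟶ 𝒮.toModule := SymAlg11.symGen hE
  have hj : RelProj.IsGrSymAlg E 𝒮 j := VA11.isGrSymAlg_symGr hE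
  obtain ⟨P, p, chart, hP⟩ := RelProj11.exists_isRelProj (𝒮 := 𝒮)
  obtain ⟨O1, lam, hO⟩ := RelProj11.exists_isRelTwist hP 1
  haveI : IsProper p := QuotProj11.isProper_of_isRelProj hP (VA11.isGenDegOne_of_isGrSymAlg hE hj)
    (VA11.isFTDeg_one_of_isGrSymAlg hE hFT hj)
  have hI := RelProj11.isInvertible_relTwist (VA11.isGenDegOne_of_isGrSymAlg hE hj) hO
  convert isOpen_ample_fibre (p ≫ f) hI using 1
  ext y
  simp only [Set.mem_setOf_eq]
  have hEy : Coh.IsQCoh ((Scheme.Modules.pullback (f.fiberι y)).obj E) := M1.isQCoh_pullback _ hE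
  constructor
  · intro h
    let 𝒯 := VA11.symGr hEy
    have hi : RelProj.IsGrSymAlg ((Scheme.Modules.pullback (f.fiberι y)).obj E) 𝒯 (SymAlg11.symGen hEy) :=
      VA11.isGrSymAlg_symGr hEy
    obtain ⟨Q, q, chartQ, hQ⟩ := RelProj11.exists_isRelProj (𝒮 := 𝒯)
    obtain ⟨OQ, lamQ, hOQ⟩ := RelProj11.exists_isRelTwist hQ 1
    obtain ⟨g, hg, ⟨τ⟩⟩ := exists_isPullback_bundle_twist (f.fiberι y) hE hEy hj hi hP hQ hO hOQ
    exact (isAmple_fibre_iff f p y q g hg O1).1 (Amp.isAmple_of_iso τ.symm (h _ _ Q q chartQ OQ lamQ hi hQ hOQ))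
  · intro h 𝒯 i Q q chartQ OQ lamQ hi hQ hOQ
    obtain ⟨g, hg, ⟨τ⟩⟩ := exists_isPullback_bundle_twist (f.fiberι y) hE hEy hj hi hP hQ hO hOQ
    exact Amp.isAmple_of_iso τ ((isAmple_fibre_iff f p y q g hg O1).2 h)

end Groth.Agent.BundleFib27
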