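import Groth.Agent.Lib.FlatDepth.FibreStalk
import Groth.Agent.Lib.SMT.CMBasic
import Groth.Agent.Lib.Hens.Noetherian
import Groth.Agent.Lib.HopfFF23.Basic
import Groth.Prelude.Def_MoreMor
import Mathlib

/-!
# Cohen–Macaulay morphisms and composition
-/

set_option autoImplicit false
set_option linter.style.haveILetI false
universe u

open CategoryTheory AlgebraicGeometry TensorProduct IsLocalRing

namespace Groth.Agent.CMComp4

/-- Cohen–Macaulay rings along a flat local homomorphism. -/
theorem cm_iff {A B : Type u} [CommRing A] [CommRing B] [IsLocalRing A] [IsLocalRing B]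
    [IsNoetherianRing A] [IsNoetherianRing B] [Algebra A B] [IsLocalHom (algebraMap A B)] [Module.Flat A B] :
    LocCoh.IsCohenMacaulayLocalRing B ↔
      LocCoh.IsCohenMacaulayLocalRing A ∧ LocCoh.IsCohenMacaulayLocalRing (EGA4.FibRing A B) := by
  haveI : IsLocalRing (EGA4.FibRing A B) := .of_surjective' (Ideal.Quotient.mk _) Ideal.Quotient.mk_surjective
  obtain ⟨hd, hdim⟩ := FlatDepth.ring_fibre_invariants (A := A) (B := B)
  have key : ∀ (R : Type u) [CommRing R] [IsLocalRing R] [IsNoetherianRing R],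
      LocCoh.IsCohenMacaulayLocalRing R ↔ ringKrullDim R = ((LocCoh.depth R R : ℕ∞) : WithBot ℕ∞) := fun R _ _ _ => by
    rw [← Module.supportDim_self_eq_ringKrullDim]
    exact ⟨fun h => h.supportDim_eq_depth, fun h => { supportDim_eq_depth := h }⟩
  rw [key, key, key, hd, hdim]
  obtain ⟨a, ha⟩ := DepthLib.exists_supportDim_eq_natCast (R := A) (M := A)
  obtain ⟨b, hb⟩ := DepthLib.exists_supportDim_eq_natCast (R := EGA4.FibRing A B) (M := EGA4.FibRing A B)
  obtain ⟨c, hc⟩ := DepthLib.exists_depth_eq_natCast (R := A) (M := A)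
  obtain ⟨d, hd'⟩ := DepthLib.exists_depth_eq_natCast (R := EGA4.FibRing A B) (M := EGA4.FibRing A B)
  have h1 := DepthLib.depth_le_supportDim (R := A) (M := A)
  have h2 := DepthLib.depth_le_supportDim (R := EGA4.FibRing A B) (M := EGA4.FibRing A B)
  rw [Module.supportDim_self_eq_ringKrullDim] at ha hb h1 h2
  rw [ha, hc, WithBot.coe_natCast, Nat.cast_le] at h1
  rw [hb, hd', WithBot.coe_natCast, Nat.cast_le] at h2
  rw [ha, hb, hc, hd', ← Nat.cast_add, ← Nat.cast_add, WithBot.coe_natCast, WithBot.coe_natCast,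
    WithBot.coe_natCast, Nat.cast_inj, Nat.cast_inj, Nat.cast_inj]
  omega

theorem cm_congr {R S : Type u} [CommRing R] [CommRing S] (e : R ≃+* S) :
    LocCoh.IsCohenMacaulayLocalRing R ↔ LocCoh.IsCohenMacaulayLocalRing S :=
  ⟨SMT.isCM_of_ringEquiv e, SMT.isCM_of_ringEquiv e.symm⟩

section Triple

variable {A R B : Type u} [CommRing A] [CommRing R] [CommRing B] [IsLocalRing A] [IsLocalRing R] [IsLocalRing B]
  [Algebra A R] [Algebra R B] [Algebra A B] [IsScalarTower A R B]
  [IsLocalHom (algebraMap A R)] [IsLocalHom (algebraMap R B)] [Module.Flat R B]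

/-- The closed fibre of a composite. -/
theorem fibre_comp_iff :
    ((IsNoetherianRing (EGA4.FibRing A R) ∧ IsNoetherianRing (EGA4.FibRing A B)) →
    (LocCoh.IsCohenMacaulayLocalRing (EGA4.FibRing A B) ↔
      LocCoh.IsCohenMacaulayLocalRing (EGA4.FibRing A R) ∧ LocCoh.IsCohenMacaulayLocalRing (EGA4.FibRing R B))) ∧
    (IsNoetherianRing (EGA4.FibRing A B) → IsNoetherianRing (EGA4.FibRing A R)) := by
  haveI : IsLocalHom (algebraMap A B) := by
    rw [IsScalarTower.algebraMap_eq A R B]; exact RingHom.isLocalHom_comp _ _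
  let I := EGA4.mB A R
  have hI : I.map (algebraMap R B) = EGA4.mB A B := by
    rw [EGA4.mB, Ideal.map_map, ← IsScalarTower.algebraMap_eq]
  let R' := EGA4.FibRing A R
  let B' := EGA4.FibRing A B
  let φ : R' →+* B' := Ideal.quotientMap _ (algebraMap R B) (Ideal.map_le_iff_le_comap.1 hI.le)
  letI : Algebra R' B' := φ.toAlgebra
  haveI : IsLocalRing R' := .of_surjective' (Ideal.Quotient.mk _) Ideal.Quotient.mk_surjective
  haveI : IsLocalRing B' := .of_surjective' (Ideal.Quotient.mk _) Ideal.Quotient.mk_surjective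
  haveI : IsLocalHom φ := ⟨fun x hx => by
    obtain ⟨r, rfl⟩ := Ideal.Quotient.mk_surjective x
    haveI : IsLocalHom (Ideal.Quotient.mk (EGA4.mB A B)) := .of_surjective _ Ideal.Quotient.mk_surjective
    have h2 : IsUnit (algebraMap R B r) :=
      IsUnit.of_map (Ideal.Quotient.mk (EGA4.mB A B)) _ hx
    exact (IsUnit.of_map (algebraMap R B) r h2).map _⟩
  haveI : IsScalarTower R R' B' := IsScalarTower.of_algebraMap_eq fun _ => rfl
  haveI : Module.Flat R' B' := by
    let e₀ : R' ⊗[R] B ≃ₗ[R] B' :=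
      ((TensorProduct.quotTensorEquivQuotSMul B I).trans (Submodule.quotEquivOfEq _
        ((EGA4.mB A B).restrictScalars R) (by rw [Ideal.smul_top_eq_map, hI]))).trans
        (Submodule.Quotient.restrictScalarsEquiv R (EGA4.mB A B))
    let E : R' ⊗[R] B ≃ₗ[R'] B' := e₀.extendScalarsOfSurjective Ideal.Quotient.mk_surjective
    exact Module.Flat.of_linearEquiv E.symm
  haveI : IsLocalHom (algebraMap R' B') := ‹IsLocalHom φ›
  haveI : Module.FaithfullyFlat R' B' := Module.FaithfullyFlat.of_flat_of_isLocalHom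
  refine ⟨fun ⟨_, _⟩ => ?_, fun _ => Hens.isNoetherianRing_of_faithfullyFlat R' B'⟩
  rw [cm_iff (A := R') (B := B')]
  refine and_congr Iff.rfl (cm_congr ?_)
  have hm : (maximalIdeal R').map φ = ((maximalIdeal R).map (algebraMap R B)).map (Ideal.Quotient.mk (EGA4.mB A B)) := by
    have : maximalIdeal R' = (maximalIdeal R).map (Ideal.Quotient.mk I) :=
      ((IsLocalRing.maximalIdeal.isMaximal R).map_of_surjective_of_ker_le Ideal.Quotient.mk_surjective
        (by rw [Ideal.mk_ker]; exact IsLocalRing.map_maximalIdeal_le (algebraMap A R)) |> IsLocalRing.eq_maximalIdeal).symm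
    rw [this, Ideal.map_map, Ideal.map_map]
    rfl
  refine (Ideal.quotEquivOfEq hm).trans (DoubleQuot.quotQuotEquivQuotOfLE ?_)
  rw [← hI]
  exact Ideal.map_mono (IsLocalRing.map_maximalIdeal_le (algebraMap A R))

end Triple

theorem isCMAt_iff {X Y : Scheme.{u}} (f : X ⟶ Y) (x : X) :
    letI := (f.stalkMap x).hom.toAlgebra
    MoreMor.IsCMAt f x ↔ Module.Flat (Y.presheaf.stalk (f x)) (X.presheaf.stalk x) ∧
      LocCoh.IsCohenMacaulayLocalRing (EGA4.FibRing (Y.presheaf.stalk (f x)) (X.presheaf.stalk x)) := by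
  obtain ⟨e⟩ := FlatDepth.nonempty_fiberStalkEquiv f x
  exact and_congr Iff.rfl (cm_congr e).symm

theorem isNoetherianRing_fibRing {X Y : Scheme.{u}} (f : X ⟶ Y) (x : X) (h : IsLocallyNoetherian (f.fiber (f x))) :
    letI := (f.stalkMap x).hom.toAlgebra
    IsNoetherianRing (EGA4.FibRing (Y.presheaf.stalk (f x)) (X.presheaf.stalk x)) := by
  obtain ⟨e⟩ := FlatDepth.nonempty_fiberStalkEquiv f x
  haveI : IsNoetherianRing (CInt.fiberStalk f x) :=
    inferInstanceAs (IsNoetherianRing ((f.fiber (f x)).presheaf.stalk (f.asFiber x)))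
  exact isNoetherianRing_of_ringEquiv _ e.symm

end Groth.Agent.CMComp4
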