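import Groth.Agent.Lib.CoalgH23.Coef
import Groth.Agent.Lib.CoalgH23.Dual
import Groth.Agent.Lib.QuotLR3.Scheme
import Groth.Prelude.Def_ComodTens
import Mathlib.LinearAlgebra.Trace

/-! Characters of representations of linearly reductive groups and class functions. -/

set_option autoImplicit false
universe u v w
open TensorProduct

noncomputable section

namespace Groth.Agent.Char3

section Modules

variable {k : Type u} [Field k] [IsAlgClosed k] {R : Type v} [Ring R] [Algebra k R]

theorem schur {S : Type w} [AddCommGroup S] [Module k S] [Module R S] [IsScalarTower k R S]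
    [Module.Finite k S] [IsSimpleModule R S] (g : S →ₗ[R] S) : ∃ a : k, ∀ v, g v = a • v := by
  haveI : Nontrivial S := IsSimpleModule.nontrivial R S
  have hk : ∀ (a : k) (v : S), g (a • v) = a • g v := fun a v => by
    rw [← algebraMap_smul R a v, map_smul, algebraMap_smul]
  obtain ⟨a, ha⟩ := Module.End.exists_eigenvalue ({ g.toAddHom with map_smul' := hk } : Module.End k S)
  obtain ⟨v, hv⟩ := ha.exists_hasEigenvector
  let g' : S →ₗ[R] S :=
    g - { toFun := fun v => a • v, map_add' := smul_add a, map_smul' := fun r v => by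
            simp only [RingHom.id_apply]
            rw [← algebraMap_smul R a, ← algebraMap_smul R a v, smul_smul, smul_smul, Algebra.commutes] }
  rcases g'.bijective_or_eq_zero with hb | h0
  · exact absurd (hb.1 (show g' v = g' 0 by
      rw [map_zero]; exact sub_eq_zero.mpr hv.apply_eq_smul)) hv.2
  · exact ⟨a, fun v => sub_eq_zero.mp (LinearMap.congr_fun h0 v)⟩

/-- Pairwise non-isomorphic simple modules separate: any endomorphism of one of them is given by an
element annihilating the others. -/
theorem exists_sep {ι : Type} [Fintype ι] [DecidableEq ι] (S : ι → Type w) [∀ i, AddCommGroup (S i)]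
    [∀ i, Module k (S i)] [∀ i, Module R (S i)] [∀ i, IsScalarTower k R (S i)]
    [∀ i, Module.Finite k (S i)] [∀ i, IsSimpleModule R (S i)]
    (hS : ∀ i j, i ≠ j → IsEmpty (S i ≃ₗ[R] S j)) (i : ι) (E : S i →ₗ[k] S i) :
    ∃ r : R, (∀ v : S i, r • v = E v) ∧ ∀ j, j ≠ i → ∀ v : S j, r • v = 0 := by
  let F : (∀ j, S j) → (∀ j, S j) := fun m => Pi.single i (E (m i))
  have hF : ∀ (g : Module.End R (∀ j, S j)) (m : (∀ j, S j)), F (g m) = g (F m) := by
    intro g m
    have hoff : ∀ j l, j ≠ l → LinearMap.proj j ∘ₗ g ∘ₗ LinearMap.single R S l = 0 := by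
      intro j l hjl
      rcases (LinearMap.proj j ∘ₗ g ∘ₗ LinearMap.single R S l).bijective_or_eq_zero with hb | h0
      · exact ((hS l j (Ne.symm hjl)).false (LinearEquiv.ofBijective _ hb)).elim
      · exact h0
    have hdiag : ∀ j (x : (∀ j, S j)), g x j = g (Pi.single j (x j)) j := by
      intro j x
      conv_lhs => rw [← Finset.univ_sum_single x, map_sum, Finset.sum_apply]
      exact Finset.sum_eq_single j (fun l _ hl => LinearMap.congr_fun (hoff j l (Ne.symm hl)) (x l))
        (fun h => absurd (Finset.mem_univ j) h)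
    funext j
    by_cases hj : j = i
    · subst hj
      obtain ⟨a, ha⟩ := schur (k := k) (LinearMap.proj j ∘ₗ g ∘ₗ LinearMap.single R S j)
      have ha' : ∀ x : (∀ j, S j), g x j = a • x j := fun x => (hdiag j x).trans (ha (x j))
      rw [ha' (F m)]
      simp only [F, Pi.single_eq_same]
      rw [ha' m, map_smul]
    · rw [hdiag j (F m)]
      simp [F, Pi.single_eq_of_ne hj]
  let f : Module.End (Module.End R (∀ j, S j)) (∀ j, S j) :=
    { toFun := F
      map_add' := fun a b => by simp [F, Pi.single_add]
      map_smul' := fun g m => hF g m }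
  obtain ⟨s, hs⟩ := Module.Finite.fg_top (R := k) (M := ∀ j, S j)
  obtain ⟨r, hr⟩ := jacobson_density f s
  have hlin : ∀ m : (∀ j, S j), r • m = F m := by
    intro m
    have hm : m ∈ Submodule.span k (s : Set (∀ j, S j)) := hs ▸ Submodule.mem_top
    induction hm using Submodule.span_induction with
    | mem x hx => exact (hr x hx).symm
    | zero => simp [F]
    | add x y _ _ hx hy => rw [smul_add, hx, hy]; simp [F, Pi.single_add]
    | smul a x _ hx =>
      rw [← algebraMap_smul R a x, smul_smul, ← Algebra.commutes, ← smul_smul, algebraMap_smul, hx]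
      funext j
      by_cases hj : j = i
      · subst hj; simp [F]
      · simp [F, Pi.single_eq_of_ne hj]
  refine ⟨r, fun v => ?_, fun j hj v => ?_⟩
  · simpa [F] using congrFun (hlin (Pi.single i v)) i
  · simpa [F, Pi.single_eq_of_ne hj, Pi.single_eq_of_ne (Ne.symm hj)] using congrFun (hlin (Pi.single j v)) j

omit [IsAlgClosed k] in
/-- A trace-like functional is a multiple of the trace. -/
theorem eq_smul_trace {V : Type w} [AddCommGroup V] [Module k V] [Module.Finite k V]
    (G : (V →ₗ[k] V) →ₗ[k] k) (hG : ∀ E E', G (E * E') = G (E' * E)) :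
    ∃ a : k, ∀ E, G E = a * LinearMap.trace k V E := by
  classical
  let b := Module.finBasis k V
  let H : Matrix _ _ k →ₗ[k] k := G ∘ₗ (LinearMap.toMatrix b b).symm.toLinearMap
  have hH : ∀ P Q, H (P * Q) = H (Q * P) := fun P Q => by
    simp only [H, LinearMap.comp_apply, LinearEquiv.coe_coe, LinearMap.toMatrix_symm]
    rw [Matrix.toLin_mul b b b, Matrix.toLin_mul b b b]
    exact hG _ _
  rcases isEmpty_or_nonempty (Fin (Module.finrank k V)) with he | ⟨⟨o⟩⟩
  · refine ⟨0, fun E => ?_⟩
    rw [show E = 0 from (LinearMap.toMatrix b b).injective (Subsingleton.elim _ _), map_zero, zero_mul]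
  refine ⟨H (Matrix.single o o 1), fun E => ?_⟩
  have hoff : ∀ (i j) (c : k), H (Matrix.single i j c) = if i = j then c * H (Matrix.single o o 1) else 0 := by
    intro i j c
    rw [show Matrix.single i j c = Matrix.single i o c * Matrix.single o j 1 from
      by rw [Matrix.single_mul_single_same, mul_one], hH]
    split_ifs with h
    · subst h
      rw [Matrix.single_mul_single_same, one_mul, ← smul_eq_mul, ← map_smul, Matrix.smul_single, smul_eq_mul, mul_one]
    · rw [Matrix.single_mul_single_of_ne (h := Ne.symm h), map_zero]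
  rw [show G E = H (LinearMap.toMatrix b b E) from congrArg G ((LinearMap.toMatrix b b).symm_apply_apply E).symm]
  conv_lhs => rw [Matrix.matrix_eq_sum_single (LinearMap.toMatrix b b E)]
  simp only [map_sum]
  refine (Finset.sum_congr rfl fun i _ => Finset.sum_congr rfl fun j _ => hoff i j _).trans ?_
  simp only [Finset.sum_ite_eq, Finset.mem_univ, if_true]
  rw [LinearMap.trace_eq_matrix_trace k b E, Matrix.trace, Finset.mul_sum]
  exact Finset.sum_congr rfl fun i _ => mul_comm _ _

omit [IsAlgClosed k] in
/-- Representatives of the simple constituents of a semisimple module. -/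
theorem exists_reps (M : Type w) [AddCommGroup M] [Module R M] [IsSemisimpleModule R M] [Module.Finite R M] :
    ∃ (n : ℕ) (S : Fin n → Submodule R M), (∀ i, IsSimpleModule R (S i)) ∧
      (∀ i j, i ≠ j → IsEmpty (S i ≃ₗ[R] S j)) ∧
      ∀ r : R, (∀ i, ∀ v : S i, r • v = 0) → ∀ m : M, r • m = 0 := by
  classical
  obtain ⟨n, S, e, hS⟩ := IsSemisimpleModule.exists_linearEquiv_fin_dfinsupp R M
  let st : Setoid (Fin n) :=
    ⟨fun i j => Nonempty (S i ≃ₗ[R] S j), fun i => ⟨LinearEquiv.refl R _⟩, fun ⟨f⟩ => ⟨f.symm⟩,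
      fun ⟨f⟩ ⟨g⟩ => ⟨f.trans g⟩⟩
  let ε := Fintype.equivFin (Quotient st)
  refine ⟨_, fun i => S (ε.symm i).out, fun i => hS _, fun i j hij => ⟨fun f => hij ?_⟩, fun r hr m => ?_⟩
  · refine ε.symm.injective ?_
    rw [← Quotient.out_eq (ε.symm i), ← Quotient.out_eq (ε.symm j)]
    exact Quotient.sound ⟨f⟩
  · apply e.injective
    rw [map_smul, map_zero]
    ext l : 1
    obtain ⟨f⟩ : Nonempty (S (Quotient.mk st l).out ≃ₗ[R] S l) := Quotient.mk_out (s := st) l
    have h := hr (ε (Quotient.mk st l))
    rw [show (r • e m) l = r • (e m l) from rfl, DFinsupp.zero_apply, ← f.apply_symm_apply (e m l), ← map_smul]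
    beta_reduce at h
    rw [Equiv.symm_apply_apply] at h
    rw [h, map_zero]

end Modules

section Char

open HopfRep WithConv
open scoped Groth.Agent.CoalgH23
open Groth.Agent.CoalgH23

variable {k : Type u} [Field k] {A : Type v} [CommRing A] [HopfAlgebra k A]

/-- The character of a representation on a coordinate space. -/
def char {d : ℕ} (c : Comod k A (Fin d → k)) : A :=
  ∑ i : Fin d, TensorProduct.lid k A (LinearMap.rTensor A (LinearMap.proj i)
    (@Comod.coact k A _ _ _ _ (Fin d → k) _ _ c (Pi.single i 1)))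

theorem lid_rTensor_eq {V : Type w} [AddCommGroup V] [Module k V] (φ : V →ₗ[k] k) (x : V ⊗[k] A) :
    TensorProduct.lid k A (φ.rTensor A x) = lslice φ x := rfl

theorem eval_char {d : ℕ} (c : Comod k A (Fin d → k)) (χ : A →ₗ[k] k) :
    χ (char c) = LinearMap.trace k (Fin d → k) (letI := c; actL χ) := by
  letI := c
  rw [LinearMap.trace_eq_matrix_trace k (Pi.basisFun k (Fin d)), Matrix.trace, char, map_sum]
  refine Finset.sum_congr rfl fun i _ => ?_
  rw [Matrix.diag_apply, LinearMap.toMatrix_apply, Pi.basisFun_apply, Pi.basisFun_repr]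
  rw [lid_rTensor_eq, apply_lslice]
  rfl

theorem eval_mul_char {d : ℕ} (c : Comod k A (Fin d → k)) (χ ψ : WithConv (A →ₗ[k] k)) :
    (χ * ψ).ofConv (char c) = (ψ * χ).ofConv (char c) := by
  letI := c
  rw [eval_char, eval_char]
  show LinearMap.trace k _ (repHom k A (Fin d → k) (χ * ψ)) = LinearMap.trace k _ (repHom k A _ (ψ * χ))
  rw [map_mul (repHom k A (Fin d → k)), map_mul (repHom k A (Fin d → k)), LinearMap.trace_mul_comm]

/-- Symmetry of the comultiplication is trace-likeness on the dual algebra. -/
theorem comm_comul_iff (f : A) :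
    TensorProduct.comm k A A (CoalgebraStruct.comul (R := k) f) = CoalgebraStruct.comul (R := k) f ↔
      ∀ χ ψ : WithConv (A →ₗ[k] k), (χ * ψ).ofConv f = (ψ * χ).ofConv f := by
  constructor
  · intro h χ ψ
    rw [LinearMap.convMul_def, LinearMap.convMul_def]
    simp only [ofConv_toConv, LinearMap.comp_apply]
    conv_rhs => rw [← h]
    generalize CoalgebraStruct.comul (R := k) f = z
    induction z with
    | zero => simp
    | add a b ha hb => simp only [map_add, ha, hb]
    | tmul a b => simp [mul_comm]
  · intro h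
    refine eq_of_slice_eq fun χ => ?_
    refine sub_eq_zero.1 ((Module.forall_dual_apply_eq_zero_iff k _).1 fun ψ => ?_)
    rw [map_sub, sub_eq_zero]
    have := h (toConv χ) (toConv ψ)
    rw [convMul_apply_slice, convMul_apply_slice] at this
    simp only [ofConv_toConv] at this
    rw [← this]
    generalize CoalgebraStruct.comul (R := k) f = z
    induction z with
    | zero => simp
    | add a b ha hb => simp only [map_add, ha, hb]
    | tmul a b => simp [slice, mul_comm]

/-- Every finite-dimensional representation is given on a coordinate space, with the same character. -/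
theorem exists_char_eq (V : Type w) [AddCommGroup V] [Module k V] [Comod k A V] [Module.Finite k V] :
    ∃ p : (Σ d : ℕ, Comod k A (Fin d → k)), ∀ χ : A →ₗ[k] k,
      χ (char p.2) = LinearMap.trace k V (actL χ) := by
  let e := (Module.finBasis k V).equivFun
  refine ⟨⟨_, ComodTens.Comod.ofEquiv e inferInstance⟩, fun χ => ?_⟩
  rw [eval_char, ← LinearMap.trace_conj' (actL (V := V) χ) e]
  congr 1
  refine LinearMap.ext fun w => ?_
  show slice χ ((e : _ →ₗ[k] _).rTensor A (Comod.coact (k := k) (A := A) (e.symm w))) = e (actL χ (e.symm w))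
  rw [slice_rTensor]
  rfl

theorem isEmpty_of_forall_ne {d d' : ℕ} (c : Comod k A (Fin d → k)) (c' : Comod k A (Fin d' → k))
    (h : ∀ P : (Fin d → k) ≃ₗ[k] (Fin d' → k),
      LinearMap.rTensor A P.toLinearMap ∘ₗ @Comod.coact k A _ _ _ _ (Fin d → k) _ _ c ≠
        (@Comod.coact k A _ _ _ _ (Fin d' → k) _ _ c') ∘ₗ P.toLinearMap) :
    IsEmpty ((letI := c; Fin d → k) ≃ₗ[WithConv (A →ₗ[k] k)] (letI := c'; Fin d' → k)) :=
  ⟨fun f => by
    letI := c
    letI := c'
    exact h (ofDualEquiv f) (isComodHom_ofDualEquiv f).symm⟩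

theorem linearIndependent_char [IsAlgClosed k] (n : ℕ) (d : Fin n → ℕ)
    (c : ∀ i, Comod k A (Fin (d i) → k))
    (hs : ∀ i, @IsSimpleComod k A _ _ _ _ (Fin (d i) → k) _ _ (c i))
    (hne : ∀ i j, i ≠ j → ∀ P : (Fin (d i) → k) ≃ₗ[k] (Fin (d j) → k),
      LinearMap.rTensor A P.toLinearMap ∘ₗ @Comod.coact k A _ _ _ _ (Fin (d i) → k) _ _ (c i) ≠
        (@Comod.coact k A _ _ _ _ (Fin (d j) → k) _ _ (c j)) ∘ₗ P.toLinearMap) :
    LinearIndependent k fun i => char (c i) := by
  classical
  letI : ∀ i, Comod k A (Fin (d i) → k) := c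
  haveI : ∀ i, IsSimpleModule (WithConv (A →ₗ[k] k)) (Fin (d i) → k) := fun i => isSimpleComod_iff.mp (hs i)
  rw [Fintype.linearIndependent_iff]
  intro a ha i
  haveI : Nontrivial (Fin (d i) → k) := (hs i).1
  have hd : Nonempty (Fin (d i)) := by
    by_contra hh
    rw [not_nonempty_iff] at hh
    exact false_of_nontrivial_of_subsingleton (Fin (d i) → k)
  obtain ⟨o⟩ := hd
  let E : (Fin (d i) → k) →ₗ[k] (Fin (d i) → k) := LinearMap.single k (fun _ => k) o ∘ₗ LinearMap.proj o
  obtain ⟨r, hr, hr'⟩ := exists_sep (k := k) (R := WithConv (A →ₗ[k] k)) (fun j => (Fin (d j) → k))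
    (fun p q hpq => isEmpty_of_forall_ne (c p) (c q) (hne p q hpq)) i E
  have h1 := congrArg r.ofConv ha
  simp only [map_sum, map_smul, eval_char, map_zero, smul_eq_mul] at h1
  rw [Finset.sum_eq_single i (fun j _ hj => by
      rw [show actL (V := Fin (d j) → k) r.ofConv = 0 from LinearMap.ext (hr' j hj), map_zero, mul_zero])
    (fun h => absurd (Finset.mem_univ i) h), show actL (V := Fin (d i) → k) r.ofConv = E from LinearMap.ext hr] at h1
  have ht : LinearMap.trace k (Fin (d i) → k) E = 1 := by
    rw [LinearMap.trace_comp_comm', show LinearMap.proj o ∘ₗ LinearMap.single k (fun _ : Fin (d i) => k) o = LinearMap.id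
      from LinearMap.ext fun x => by simp, LinearMap.trace_id, Module.finrank_self, Nat.cast_one]
  rwa [ht, mul_one] at h1

theorem mem_span_char [IsAlgClosed k] (hred : IsLinearlyReductive k A) (f : A)
    (hf : ∀ χ ψ : WithConv (A →ₗ[k] k), (χ * ψ).ofConv f = (ψ * χ).ofConv f) :
    f ∈ Submodule.span k (Set.range fun p : (Σ d : ℕ, Comod k A (Fin d → k)) => char p.2) := by
  classical
  let Rk := WithConv (A →ₗ[k] k)
  let W₀ : Submodule k A := (Submodule.span Rk {f}).restrictScalars k
  have hW₀ : IsSubcomod (k := k) (A := A) W₀ := isSubcomod_restrictScalars _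
  haveI : Module.Finite k W₀ := finite_span_singleton f
  letI := Comodule.subComod W₀ hW₀
  haveI : IsSemisimpleModule Rk W₀ := isSemisimpleComod_iff.mp (hred W₀ inferInstance)
  haveI : Module.Finite Rk W₀ := Module.Finite.of_restrictScalars_finite k Rk W₀
  obtain ⟨n, S, hS, hne, hkill⟩ := exists_reps (R := Rk) W₀
  haveI := hS
  haveI : ∀ i, Module.Finite k (S i) := fun i =>
    Module.Finite.of_injective ((S i).subtype.restrictScalars k) Subtype.val_injective
  let f₀ : W₀ := ⟨f, Submodule.mem_span_singleton_self f⟩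
  have hval : ∀ χ : Rk, χ.ofConv f = CoalgebraStruct.counit (R := k) ((χ • f₀ : W₀) : A) := by
    intro χ
    rw [show ((χ • f₀ : W₀) : A) = χ • f from isComodHom_iff.1 (Comodule.isComodHom_subtype W₀ hW₀) χ f₀, smul_def]
    have h := congrArg χ.ofConv (congrArg (TensorProduct.lid k A) (Coalgebra.rTensor_counit_comul (R := k) f))
    simp only [TensorProduct.lid_tmul, one_smul] at h
    rw [← h]
    show χ.ofConv (TensorProduct.lid k A ((CoalgebraStruct.counit (R := k)).rTensor A _)) =
      CoalgebraStruct.counit (R := k) (slice χ.ofConv (CoalgebraStruct.comul (R := k) f))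
    generalize CoalgebraStruct.comul (R := k) f = z
    induction z with
    | zero => simp
    | add a b ha hb => simp only [map_add, ha, hb]
    | tmul a b => simp [slice, mul_comm]
  have hdet : ∀ χ : Rk, (∀ i, ∀ v : S i, χ • v = 0) → χ.ofConv f = 0 := fun χ h => by
    rw [hval, hkill χ h f₀, ZeroMemClass.coe_zero, map_zero]
  letI : ∀ i, Module k (S i) := fun i => inferInstance
  haveI : ∀ i, IsScalarTower k Rk (S i) := fun i => inferInstance
  choose lift hlift hlift' using fun i => exists_sep (k := k) (R := Rk) (fun j => ↥(S j)) hne i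
  have hsub : ∀ (a b : WithConv (A →ₗ[k] k)) (j : Fin n) (v : S j), (a - b) • v = a • v - b • v :=
    fun a b j v => sub_smul (R := Rk) a b v
  have hadd : ∀ (a b : WithConv (A →ₗ[k] k)) (j : Fin n) (v : S j), (a + b) • v = a • v + b • v :=
    fun a b j v => add_smul (R := Rk) a b v
  have hsmul : ∀ (c : k) (a : WithConv (A →ₗ[k] k)) (j : Fin n) (v : S j), (c • a) • v = c • (a • v) :=
    fun c a j v => smul_assoc c (a : Rk) v
  have hs0 : ∀ (j : Fin n) (x : S j), x - x = 0 := fun j x => Subtype.ext (sub_self (x : W₀))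
  let G : ∀ i, (S i →ₗ[k] S i) →ₗ[k] k := fun i =>
    { toFun := fun E => (lift i E).ofConv f
      map_add' := fun E E' => by
        rw [← sub_eq_zero, ← LinearMap.add_apply, ← LinearMap.sub_apply, ← WithConv.ofConv_add, ← WithConv.ofConv_sub]
        refine hdet _ fun j v => ?_
        by_cases hj : j = i
        · subst hj; simp [hsub, hadd, hlift]; exact hs0 _ _
        · simp [hsub, hadd, hlift' i _ j hj]
      map_smul' := fun a E => by
        rw [RingHom.id_apply, ← sub_eq_zero, ← LinearMap.smul_apply, ← LinearMap.sub_apply, ← WithConv.ofConv_smul,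
          ← WithConv.ofConv_sub]
        refine hdet _ fun j v => ?_
        by_cases hj : j = i
        · subst hj; simp [hsub, hsmul, hlift]; exact hs0 _ _
        · simp [hsub, hsmul, hlift' i _ j hj] }
  have hG : ∀ i E E', G i (E * E') = G i (E' * E) := by
    intro i E E'
    have hmul : ∀ E E', G i (E * E') = (lift i E * lift i E').ofConv f := fun E E' => by
      show (lift i (E * E')).ofConv f = _
      rw [← sub_eq_zero, ← LinearMap.sub_apply, ← WithConv.ofConv_sub]
      refine hdet _ fun j v => ?_
      by_cases hj : j = i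
      · subst hj; simp [hsub, mul_smul, hlift]; exact hs0 _ _
      · simp [hsub, mul_smul, hlift' i _ j hj]
    rw [hmul, hmul, hf]
  choose a ha using fun i => eq_smul_trace (k := k) (V := ↥(S i)) (G i) (hG i)
  -- the characters of the constituents
  have hrep : ∀ i, ∃ p : (Σ d : ℕ, Comod k A (Fin d → k)), ∀ χ : Rk,
      χ.ofConv (char p.2) = LinearMap.trace k (S i) (DistribSMul.toLinearMap k (S i) χ) := by
    intro i
    letI := Groth.Agent.CoalgH23.subComod (C := A) (S i)
    haveI : Module.Finite k ((S i).restrictScalars k) := inferInstanceAs (Module.Finite k (S i))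
    obtain ⟨p, hp⟩ := exists_char_eq (k := k) (A := A) ((S i).restrictScalars k)
    refine ⟨p, fun χ => (hp χ.ofConv).trans ?_⟩
    show LinearMap.trace k (S i) _ = _
    congr 1
    refine LinearMap.ext fun v => Subtype.ext ?_
    exact isComodHom_iff.1 (isComodHom_subtype (C := A) (S i)) χ v
  choose p hp using hrep
  suffices hfp : f = ∑ i, a i • char (p i).2 by
    rw [hfp]
    exact Submodule.sum_mem _ fun i _ => Submodule.smul_mem _ _ (Submodule.subset_span ⟨p i, rfl⟩)
  refine sub_eq_zero.1 ((Module.forall_dual_apply_eq_zero_iff k _).1 fun χ₀ => ?_)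
  let χ : Rk := toConv χ₀
  rw [map_sub, map_sum, sub_eq_zero]
  simp only [map_smul, smul_eq_mul, show ∀ x, χ₀ x = χ.ofConv x from fun _ => rfl, hp]
  let E : ∀ i, S i →ₗ[k] S i := fun i => DistribSMul.toLinearMap k (S i) χ
  show χ.ofConv f = ∑ i, a i * LinearMap.trace k (S i) (E i)
  simp only [← ha]
  show χ.ofConv f = ∑ i, (lift i (E i)).ofConv f
  rw [← LinearMap.sum_apply, ← WithConv.ofConv_sum, ← sub_eq_zero, ← LinearMap.sub_apply, ← WithConv.ofConv_sub]
  refine hdet _ fun j v => ?_
  rw [hsub, Finset.sum_smul, Finset.sum_eq_single j (fun i _ hi => hlift' i _ j (Ne.symm hi) v)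
    (fun h => absurd (Finset.mem_univ j) h), hlift]
  exact hs0 j _

end Char

end Groth.Agent.Char3

namespace Groth.Agent.Char3

open CategoryTheory MonoidalCategory CartesianMonoidalCategory MonObj AlgebraicGeometry CoactBr

variable {k : Type u} [Field k] {A : Type u} [CommRing A] [HopfAlgebra k A]

/-- The value of a function at a point. -/
def val {T : Over (Spec (CommRingCat.of k))} (g : T ⟶ sp k A) (f : A) : Γ(T.left, ⊤) :=
  g.left.appTop ((Scheme.ΓSpecIso (CommRingCat.of A)).inv f)

theorem val_comp_pt {T : Over (Spec (CommRingCat.of k))} {B : Type u} [CommRing B] [Algebra k B]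
    (w : T ⟶ sp k B) (φ : A →ₐ[k] B) (f : A) :
    val (w ≫ pt φ) f = w.left.appTop ((Scheme.ΓSpecIso (CommRingCat.of B)).inv (φ f)) :=
  congrArg w.left.appTop (congrArg (fun g => g f) (Scheme.ΓSpecIso_inv_naturality (CommRingCat.ofHom φ.toRingHom))).symm

/-- Invariance under conjugation is symmetry of the comultiplication. -/
theorem isClassFunction_iff (f : A) :
    (∀ (T : Over (Spec (CommRingCat.of k))) (x g : T ⟶ sp k A), val (x * g * x⁻¹) f = val g f) ↔
      TensorProduct.comm k A A (CoalgebraStruct.comul (R := k) f) = CoalgebraStruct.comul (R := k) f := by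
  let il : A →ₐ[k] A ⊗[k] A := Algebra.TensorProduct.includeLeft
  let ir : A →ₐ[k] A ⊗[k] A := Algebra.TensorProduct.includeRight
  let m₁ : A →ₐ[k] A ⊗[k] A := (Algebra.TensorProduct.lift il ir fun _ _ => .all _ _).comp (Bialgebra.comulAlgHom k A)
  let m₂ : A →ₐ[k] A ⊗[k] A := (Algebra.TensorProduct.lift ir il fun _ _ => .all _ _).comp (Bialgebra.comulAlgHom k A)
  have hm₁ : m₁ f = CoalgebraStruct.comul (R := k) f := by
    show Algebra.TensorProduct.lift il ir (fun _ _ => .all _ _) (CoalgebraStruct.comul (R := k) f) = _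
    generalize CoalgebraStruct.comul (R := k) f = z
    induction z with
    | zero => simp
    | add a b ha hb => simp only [map_add, ha, hb]
    | tmul a b => simp [il, ir]
  have hm₂ : m₂ f = TensorProduct.comm k A A (CoalgebraStruct.comul (R := k) f) := by
    show Algebra.TensorProduct.lift ir il (fun _ _ => .all _ _) (CoalgebraStruct.comul (R := k) f) = _
    generalize CoalgebraStruct.comul (R := k) f = z
    induction z with
    | zero => simp
    | add a b ha hb => simp only [map_add, ha, hb]
    | tmul a b => simp [il, ir]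
  constructor
  · intro h
    have h1 := h (sp k (A ⊗[k] A)) (pt il) (pt ir * pt il)
    rw [show pt il * (pt ir * pt il) * (pt il)⁻¹ = pt il * pt ir by group, pt_mul_pt, pt_mul_pt] at h1
    have h2 : (Scheme.ΓSpecIso (CommRingCat.of (A ⊗[k] A))).inv (m₁ f) =
        (Scheme.ΓSpecIso (CommRingCat.of (A ⊗[k] A))).inv (m₂ f) := by
      have e1 := val_comp_pt (𝟙 (sp k (A ⊗[k] A))) m₁ f
      have e2 := val_comp_pt (𝟙 (sp k (A ⊗[k] A))) m₂ f
      rw [Category.id_comp] at e1 e2
      exact e1.symm.trans (h1.trans e2)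
    rw [← hm₂, ← hm₁]
    exact ((ConcreteCategory.bijective_of_isIso (Scheme.ΓSpecIso (CommRingCat.of (A ⊗[k] A))).inv).1 h2).symm
  · intro h T x g
    have key : ∀ a b : T ⟶ sp k A, val (a * b) f = val (b * a) f := by
      intro a b
      let w := lift a b ≫ inv (lift (pt il) (pt ir) : sp k (A ⊗[k] A) ⟶ sp k A ⊗ sp k A)
      have hw1 : w ≫ pt il = a := by
        have h1 : w ≫ lift (pt il) (pt ir) = lift a b := by simp only [w, Category.assoc, IsIso.inv_hom_id, Category.comp_id]
        have h2 := congrArg (fun q => q ≫ fst (sp k A) (sp k A)) h1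
        simpa using h2
      have hw2 : w ≫ pt ir = b := by
        have h1 : w ≫ lift (pt il) (pt ir) = lift a b := by simp only [w, Category.assoc, IsIso.inv_hom_id, Category.comp_id]
        have h2 := congrArg (fun q => q ≫ snd (sp k A) (sp k A)) h1
        simpa using h2
      rw [← hw1, ← hw2, ← MonObj.comp_mul, ← MonObj.comp_mul, pt_mul_pt, pt_mul_pt, val_comp_pt, val_comp_pt]
      exact congrArg (fun z => w.left.appTop ((Scheme.ΓSpecIso (CommRingCat.of (A ⊗[k] A))).inv z))
        ((hm₁.trans h.symm).trans hm₂.symm)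
    rw [key (x * g) x⁻¹, inv_mul_cancel_left]

end Groth.Agent.Char3
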