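import Groth.Agent.Lib.FibGenSch4
import Groth.Agent.Lib.VarDim.Irred
import Groth.Agent.Lib.RedSep.Basic
import Groth.Prelude.Def_EGA43

/-!
# Equidimensional morphisms over an irreducible base: closed subschemes
-/

universe u

open CategoryTheory AlgebraicGeometry Topology TopologicalSpace Order Groth.Agent.FibDim14

set_option backward.isDefEq.respectTransparency.types false

namespace Groth.Agent.EquidimAt4

variable {X Y : Scheme.{u}} (f : X ⟶ Y) [LocallyOfFiniteType f]

/-- On `U` the maximal points lie over the generic point and all fibre components have dimension `e`. -/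
def EqD [IrreducibleSpace Y] (U : X.Opens) (e : ℕ) : Prop :=
  (∀ t ∈ U, (∀ y, y ⤳ t → y = t) → f t = genericPoint Y) ∧
  (∀ w ∈ U, IsMaxFib f w → rd f w = e)

variable [IrreducibleSpace Y]

omit [IrreducibleSpace Y] in
theorem rd_openImmersion {Z : Scheme.{u}} (i : Z ⟶ X) [IsOpenImmersion i] (z : Z) :
    rd (i ≫ f) z = rd f (i z) := by
  rw [rd_comp, rd_of_surjectiveOnStalks i, add_zero]

omit [IrreducibleSpace Y] in
theorem opens_specializes_iff {U : X.Opens} {a b : (U : Scheme.{u})} : a ⤳ b ↔ U.ι a ⤳ U.ι b :=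
  (U.ι.isEmbedding.isInducing.specializes_iff).symm

omit [IrreducibleSpace Y] in
theorem isMaxFib_opens_iff {U : X.Opens} (w : (U : Scheme.{u})) :
    IsMaxFib (U.ι ≫ f) w ↔ IsMaxFib f (U.ι w) := by
  constructor
  · intro h y hy he
    have hyU : y ∈ U := hy.mem_open U.2 w.2
    exact congrArg U.ι (h ⟨y, hyU⟩ (opens_specializes_iff.2 hy) he)
  · intro h y hy he
    exact U.ι.isOpenEmbedding.injective (h _ (opens_specializes_iff.1 hy) he)

omit [IrreducibleSpace Y] in
theorem max_opens_iff {U : X.Opens} (t : (U : Scheme.{u})) :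
    (∀ y, y ⤳ t → y = t) ↔ (∀ y, y ⤳ U.ι t → y = U.ι t) := by
  constructor
  · intro h y hy
    exact congrArg U.ι (h ⟨y, hy.mem_open U.2 t.2⟩ (opens_specializes_iff.2 hy))
  · intro h y hy
    exact U.ι.isOpenEmbedding.injective (h _ (opens_specializes_iff.1 hy))

theorem eqD_iff (U : X.Opens) (e : ℕ) : EqD f U e ↔
    (∀ Z ∈ irreducibleComponents (↥U : Type u), closure ((U.ι ≫ f).base '' Z) = Set.univ) ∧
    (∀ x' : (↥U : Type u), ∀ Z ∈ irreducibleComponents (↥((U.ι ≫ f).fiber ((U.ι ≫ f).base x')) : Type u),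
      topologicalKrullDim (↥Z : Type u) = e) := by
  have hgen : ∀ y : Y, closure ({y} : Set Y) = Set.univ ↔ y = genericPoint Y := fun y =>
    ⟨fun h => IsGenericPoint.eq h (genericPoint_spec Y), fun h => h ▸ genericPoint_spec Y⟩
  have himg : ∀ t : (U : Scheme.{u}), closure ((U.ι ≫ f).base '' closure {t}) = closure {(U.ι ≫ f) t} :=
    fun t => (closure_image_closure (U.ι ≫ f).continuous).trans (by rw [Set.image_singleton])
  constructor
  · rintro ⟨h1, h2⟩
    refine ⟨fun Z hZ => ?_, fun a Z hZ => ?_⟩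
    · obtain ⟨t, rfl, ht⟩ := VarDim.exists_generic_of_mem_irreducibleComponents (X := (U : Scheme.{u})) hZ
      rw [himg, hgen]
      exact h1 _ t.2 ((max_opens_iff t).1 ht)
    · obtain ⟨z, rfl, hz⟩ := VarDim.exists_generic_of_mem_irreducibleComponents hZ
      let w := (U.ι ≫ f).fiberι _ z
      have hw : IsMaxFib (U.ι ≫ f) w := (isMaxFib_fiberι (U.ι ≫ f) _ z).2 hz
      refine (VarDim.dim_closure_singleton (toPt (U.ι ≫ f) _) z).trans ?_
      rw [← rd_fiberι, rd_openImmersion]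
      exact congrArg Nat.cast (h2 _ w.2 ((isMaxFib_opens_iff f w).1 hw))
  · rintro ⟨h1, h2⟩
    refine ⟨fun t ht hmax => ?_, fun w hw hmax => ?_⟩
    · have := h1 _ ((VarDim.maximal_iff_mem_irreducibleComponents (X := (U : Scheme.{u})) ⟨t, ht⟩).1
        ((max_opens_iff ⟨t, ht⟩).2 hmax))
      rw [himg, hgen] at this
      exact this
    · let w' : (U : Scheme.{u}) := ⟨w, hw⟩
      have hz := (isMaxFib_fiberι (U.ι ≫ f) _ ((U.ι ≫ f).asFiber w')).1
        (by rw [Scheme.Hom.fiberι_asFiber]; exact (isMaxFib_opens_iff f w').2 hmax)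
      have h3 := h2 w' _ ((VarDim.maximal_iff_mem_irreducibleComponents (X := (U.ι ≫ f).fiber _) _).1 hz)
      rw [VarDim.dim_closure_singleton (toPt (U.ι ≫ f) _), ← rd_fiberι, Scheme.Hom.fiberι_asFiber,
        rd_openImmersion] at h3
      exact_mod_cast h3

theorem exists_eqD {x : X} (h : EGA43.IsEquidimAt f x) : ∃ (e : ℕ) (U : X.Opens), x ∈ U ∧ EqD f U e := by
  obtain ⟨e, U, hx, h1, h2⟩ := h
  refine ⟨e, U, hx, (eqD_iff f U e).2 ⟨fun Z hZ => ?_, h2⟩⟩
  obtain ⟨W, hW, -, hWeq⟩ := h1 Z hZ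
  rw [hWeq]
  rw [irreducibleComponents_eq_singleton] at hW
  exact hW

theorem isEquidimAt {x : X} {U : X.Opens} {e : ℕ} (hx : x ∈ U) (h : EqD f U e) : EGA43.IsEquidimAt f x := by
  obtain ⟨h1, h2⟩ := (eqD_iff f U e).1 h
  refine ⟨e, U, hx, fun Z hZ => ⟨Set.univ, ?_, trivial, h1 Z hZ⟩, h2⟩
  rw [irreducibleComponents_eq_singleton]
  rfl

theorem fibreDimAt_eq {U : X.Opens} {e : ℕ} (h : EqD f U e) {a : X} (ha : a ∈ U) :
    FlatMor.fibreDimAt f a = (e : WithBot ℕ∞) := by
  obtain ⟨w, hw, -, hmax, hd⟩ := FibGen4.exists_isMaxFib f a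
  rw [← hd, FibGen4.fibreDimAt_eq_rd_of_isMaxFib f hmax, h.2 w (hw.mem_open U.2 ha) hmax]

omit [IrreducibleSpace Y] in
theorem exists_max_specializes (a : X) : ∃ t, t ⤳ a ∧ ∀ y, y ⤳ t → y = t := by
  obtain ⟨g, hg, hmax⟩ := VarDim.exists_generic_of_mem_irreducibleComponents
    (irreducibleComponent_mem_irreducibleComponents a)
  exact ⟨g, specializes_iff_mem_closure.2 (hg.symm ▸ mem_irreducibleComponent), hmax⟩

omit [LocallyOfFiniteType f] [IrreducibleSpace Y] in
theorem fiberι_strictMono (y : Y) : StrictMono (f.fiberι y : f.fiber y → X) := by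
  intro a b hab
  have hle : f.fiberι y a ≤ f.fiberι y b :=
    Scheme.le_iff_specializes.2 ((Scheme.le_iff_specializes.1 hab.le).map (f.fiberι y).continuous)
  refine lt_of_le_not_ge hle fun h => hab.not_ge (Scheme.le_iff_specializes.2 ?_)
  exact (f.fiberι y).isEmbedding.isInducing.specializes_iff.1 (Scheme.le_iff_specializes.1 h)

/-- lower bound for the dimension of the local ring -/
theorem coheight_ge {U : X.Opens} {e : ℕ} (h : EqD f U e) {a : X} (ha : a ∈ U) :
    (e : ℕ∞) ≤ coheight a + rd f a ∧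
      (f a ≠ genericPoint Y → (e : ℕ∞) + 1 ≤ coheight a + rd f a) := by
  haveI : IsLocallyNoetherian (f.fiber (f a)) := LocallyOfFiniteType.isLocallyNoetherian (toPt f (f a))
  obtain ⟨k, hk⟩ := ENat.ne_top_iff_exists.1 (DimF18.coheight_ne_top (f.asFiber a))
  have hd := localDim_asFiber_eq f a
  rw [fibreDimAt_eq f h ha, ringKrullDim_stalk_eq_coheight, ← hk] at hd
  have hek : e = k + rd f a := by exact_mod_cast hd
  obtain ⟨p, hp, hpl⟩ := exists_series_of_le_coheight (f.asFiber a) (n := k) hk.le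
  let q := p.map _ (fiberι_strictMono f (f a))
  have hq : q.head = a := by
    show f.fiberι _ p.head = a
    rw [hp, Scheme.Hom.fiberι_asFiber]
  have h1 : (k : ℕ∞) ≤ coheight a := by
    have := length_le_coheight (p := q) hq.ge
    simpa [q, hpl] using this
  refine ⟨by rw [hek]; push_cast; gcongr, fun hne => ?_⟩
  have hlast : f q.last = f a := by
    have hm : f.fiberι (f a) p.last ∈ Set.range (f.fiberι (f a)) := ⟨p.last, rfl⟩
    rw [f.range_fiberι] at hm
    exact hm
  have hsp : q.last ⤳ a := by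
    have := (Scheme.le_iff_specializes (X := X)).1 (q.monotone (Fin.zero_le (Fin.last _)))
    rw [← hq]
    exact this
  obtain ⟨y, hy, hyne⟩ : ∃ y, y ⤳ q.last ∧ y ≠ q.last := by
    by_contra hn
    push Not at hn
    exact hne (hlast ▸ h.1 q.last (hsp.mem_open U.2 ha) hn)
  have hlt : q.last < y := lt_of_le_not_ge (Scheme.le_iff_specializes.2 hy) fun hle =>
    hyne (hy.antisymm (Scheme.le_iff_specializes.1 hle)).eq
  have h2 := length_le_coheight (p := q.snoc y hlt) (x := a) (by rw [RelSeries.head_snoc]; exact hq.ge)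
  rw [RelSeries.snoc_length, show q.length = k from hpl] at h2
  rw [hek]
  push_cast at h2 ⊢
  calc (k : ℕ∞) + rd f a + 1 = (k + 1) + rd f a := by ring
    _ ≤ coheight a + rd f a := by gcongr

/-- EGA IV 13.3.1 for a closed subscheme with generic point `g`. -/
theorem eqD_sub {U : X.Opens} {e : ℕ} (h : EqD f U e) {Z : Scheme.{u}} (j : Z ⟶ X) [IsImmersion j]
    (g w : Z) (hg : ∀ z, g ⤳ z) (hw : j w ∈ U) (n d : ℕ) (hcodim : coheight (j g) ≤ (n : ℕ∞))
    (hd : FlatMor.fibreDimAt (j ≫ f) w = (d : WithBot ℕ∞)) (hde : d + n ≤ e) :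
    coheight (j g) = (n : ℕ∞) ∧ d + n = e ∧
      ∃ O : Z.Opens, w ∈ O ∧ (∀ z ∈ O, j z ∈ U) ∧ EqD (j ≫ f) O d := by
  have hgU : j g ∈ U := ((hg w).map j.continuous).mem_open U.2 hw
  obtain ⟨h1, h2⟩ := coheight_ge f h hgU
  obtain ⟨c, hc⟩ := ENat.ne_top_iff_exists.1 (ne_top_of_le_ne_top (ENat.natCast_ne_top n) hcodim)
  rw [← hc] at hcodim h1 h2
  have hcn : c ≤ n := by exact_mod_cast hcodim
  have h1' : e ≤ c + rd f (j g) := by exact_mod_cast h1
  have hrd : ∀ z, rd (j ≫ f) z = rd f (j z) := fun z => by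
    rw [rd_comp, rd_of_surjectiveOnStalks j, add_zero]
  have hrdg : rd f (j g) ≤ d := by
    have := (fibreDimAt_le_iff (j ≫ f)).1 ((hg w).mem_open (isOpen_fibreDimAt_le (j ≫ f) d) hd.le)
      g specializes_rfl rfl
    rwa [hrd] at this
  have hη : f (j g) = genericPoint Y := by
    by_contra hne
    have : e + 1 ≤ c + rd f (j g) := by exact_mod_cast h2 hne
    omega
  refine ⟨by rw [← hc]; exact congrArg Nat.cast (by omega : c = n), by omega,
    j ⁻¹ᵁ U ⊓ ⟨_, isOpen_fibreDimAt_le (j ≫ f) d⟩, ⟨hw, hd.le⟩, fun z hz => hz.1, ?_, ?_⟩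
  · intro t _ ht
    rw [← ht g (hg t), Scheme.Hom.comp_apply]
    exact hη
  · intro a ha hmax
    have h3 : FlatMor.fibreDimAt (j ≫ f) a ≤ (d : WithBot ℕ∞) := ha.2
    rw [FibGen4.fibreDimAt_eq_rd_of_isMaxFib (j ≫ f) hmax] at h3
    refine le_antisymm (by exact_mod_cast h3) ?_
    have hopen := isOpen_fibreDimAt_le (j ≫ f) (rd (j ≫ f) a)
    have haS : a ∈ {b | FlatMor.fibreDimAt (j ≫ f) b ≤ (rd (j ≫ f) a : WithBot ℕ∞)} :=
      (FibGen4.fibreDimAt_eq_rd_of_isMaxFib (j ≫ f) hmax).le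
    have := (fibreDimAt_le_iff (j ≫ f)).1 ((hg a).mem_open hopen haS) g specializes_rfl rfl
    rw [hrd g] at this
    omega

end Groth.Agent.EquidimAt4
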