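import Groth.Agent.Lib.FibSub4
import Groth.Agent.Lib.EquidimAt4
import Groth.Agent.Lib.EGA43Top.DimLift
import Groth.Agent.Lib.DimFormula14.Scheme
import Groth.Prelude.Def_EGA4b
import Groth.Prelude.Def_EGA43

/-!
# Equidimensional local rings and equidimensional morphisms at a point
-/

universe u

open CategoryTheory AlgebraicGeometry Topology TopologicalSpace Order Groth.Agent.FibDim14

set_option backward.isDefEq.respectTransparency.types false

namespace Groth.Agent.EquidimStalk4

variable {X Y : Scheme.{u}}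

/-- The closure of a point with its reduced structure. -/
noncomputable abbrev Cl (t : X) : Scheme.{u} :=
  (Scheme.IdealSheafData.vanishingIdeal (⟨closure {t}, isClosed_closure⟩ : Closeds X)).subscheme

noncomputable abbrev clι (t : X) : Cl t ⟶ X :=
  (Scheme.IdealSheafData.vanishingIdeal (⟨closure {t}, isClosed_closure⟩ : Closeds X)).subschemeι

theorem range_clι (t : X) : Set.range (clι t) = closure {t} := by
  rw [Scheme.IdealSheafData.range_subschemeι, Scheme.IdealSheafData.coe_support_vanishingIdeal]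
  rfl

theorem specializes_clι (t : X) (a : Cl t) : t ⤳ clι t a :=
  specializes_iff_mem_closure.2 ((range_clι t).le ⟨a, rfl⟩)

theorem exists_preimage {t x : X} (h : t ⤳ x) : ∃ w : Cl t, clι t w = x :=
  (range_clι t).ge (specializes_iff_mem_closure.1 h)

theorem exists_gen (t : X) : ∃ g : Cl t, clι t g = t ∧ ∀ a, g ⤳ a := by
  obtain ⟨g, hg⟩ := exists_preimage (specializes_refl t)
  refine ⟨g, hg, fun a => (clι t).isEmbedding.isInducing.specializes_iff.1 ?_⟩
  rw [hg]
  exact specializes_clι t a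

theorem isReduced_cl (t : X) : IsReduced (Cl t) :=
  RedSepLib.isReduced_vanishingIdeal_subscheme _

theorem dim_stalk_cl {t x : X} (w : Cl t) (hw : clι t w = x) (p : PrimeSpectrum (X.presheaf.stalk x))
    (hp : X.fromSpecStalk x (p : Spec (X.presheaf.stalk x)) = t) :
    ringKrullDim ((Cl t).presheaf.stalk w) = ringKrullDim (X.presheaf.stalk x ⧸ p.asIdeal) := by
  rw [← PrimeSpectrum.topologicalKrullDim_eq_ringKrullDim, ← PrimeSpectrum.topologicalKrullDim_eq_ringKrullDim]
  let e₁ : PrimeSpectrum ((Cl t).presheaf.stalk w) → X := fun q => clι t ((Cl t).fromSpecStalk w (q : Spec _))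
  let e₂ : PrimeSpectrum (X.presheaf.stalk x ⧸ p.asIdeal) → X := fun q =>
    X.fromSpecStalk x ((PrimeSpectrum.comap (Ideal.Quotient.mk p.asIdeal) q : PrimeSpectrum (X.presheaf.stalk x)) :
      Spec (X.presheaf.stalk x))
  have h₁ : IsEmbedding e₁ := (clι t).isEmbedding.comp ((Cl t).fromSpecStalk w).isEmbedding
  have h₂ : IsEmbedding e₂ := (X.fromSpecStalk x).isEmbedding.comp
    (PrimeSpectrum.isClosedEmbedding_comap_of_surjective _ _ Ideal.Quotient.mk_surjective).isEmbedding
  have hr₁ : Set.range e₁ = {a | t ⤳ a ∧ a ⤳ x} := by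
    ext a
    constructor
    · rintro ⟨q, rfl⟩
      exact ⟨specializes_clι t _, hw ▸ ((Scheme.range_fromSpecStalk (X := Cl t) (x := w)).le ⟨_, rfl⟩).map
        (clι t).continuous⟩
    · rintro ⟨hta, hax⟩
      obtain ⟨b, rfl⟩ := exists_preimage hta
      rw [← hw, (clι t).isEmbedding.isInducing.specializes_iff] at hax
      obtain ⟨q, rfl⟩ := (Scheme.range_fromSpecStalk (X := Cl t) (x := w)).ge hax
      exact ⟨q, rfl⟩
  have hr₂ : Set.range e₂ = {a | t ⤳ a ∧ a ⤳ x} := by
    ext a
    constructor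
    · rintro ⟨q, rfl⟩
      refine ⟨?_, (Scheme.range_fromSpecStalk (X := X) (x := x)).le ⟨_, rfl⟩⟩
      rw [← hp]
      refine Specializes.map ?_ (X.fromSpecStalk x).continuous
      refine (PrimeSpectrum.le_iff_specializes _ _).1 ?_
      show p.asIdeal ≤ (q.asIdeal.comap _)
      exact Ideal.mk_ker.ge.trans (Ideal.ker_le_comap _)
    · rintro ⟨hta, hax⟩
      obtain ⟨q, rfl⟩ := (Scheme.range_fromSpecStalk (X := X) (x := x)).ge hax
      rw [← hp, (X.fromSpecStalk x).isEmbedding.isInducing.specializes_iff] at hta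
      have hpq : p.asIdeal ≤ (q : PrimeSpectrum (X.presheaf.stalk x)).asIdeal :=
        (PrimeSpectrum.le_iff_specializes _ _).2 hta
      obtain ⟨r, hr⟩ : (q : PrimeSpectrum (X.presheaf.stalk x)) ∈
          Set.range (PrimeSpectrum.comap (Ideal.Quotient.mk p.asIdeal)) := by
        rw [range_comap_of_surjective _ _ Ideal.Quotient.mk_surjective, Ideal.mk_ker]
        exact hpq
      exact ⟨r, congrArg (X.fromSpecStalk x) hr⟩
  exact IsHomeomorph.topologicalKrullDim_eq _
    (h₁.toHomeomorph.trans ((Homeomorph.setCongr (hr₁.trans hr₂.symm)).trans h₂.toHomeomorph.symm)).isHomeomorph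

theorem isEquidim_stalk_iff (x : X) :
    EGA4.IsEquidim (X.presheaf.stalk x) ↔ ∀ t, t ⤳ x → (∀ y, y ⤳ t → y = t) → ∀ w : Cl t, clι t w = x →
      ringKrullDim ((Cl t).presheaf.stalk w) = ringKrullDim (X.presheaf.stalk x) := by
  constructor
  · intro h t htx htmax w hw
    obtain ⟨q, hq⟩ := (Scheme.range_fromSpecStalk (X := X) (x := x)).ge htx
    rw [dim_stalk_cl w hw (q : PrimeSpectrum _) hq]
    refine h _ ⟨⟨(q : PrimeSpectrum _).2, bot_le⟩, fun r hr hrq => ?_⟩
    let r' : PrimeSpectrum (X.presheaf.stalk x) := ⟨r, hr.1⟩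
    have h1 : X.fromSpecStalk x (r' : Spec (X.presheaf.stalk x)) ⤳ t := by
      rw [← hq]
      exact Specializes.map ((PrimeSpectrum.le_iff_specializes r' _).1 hrq) (X.fromSpecStalk x).continuous
    have h2 := (htmax _ h1).trans hq.symm
    exact (congrArg PrimeSpectrum.asIdeal
      ((X.fromSpecStalk x).isEmbedding.injective h2 : r' = (q : PrimeSpectrum _))).ge
  · intro h p hp
    let q : PrimeSpectrum (X.presheaf.stalk x) := ⟨p, hp.1.1⟩
    have hqx : X.fromSpecStalk x (q : Spec (X.presheaf.stalk x)) ⤳ x :=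
      (Scheme.range_fromSpecStalk (X := X) (x := x)).le ⟨_, rfl⟩
    obtain ⟨w, hw⟩ := exists_preimage hqx
    rw [← h _ hqx (fun y hy => ?_) w hw, dim_stalk_cl w hw q rfl]
    obtain ⟨r, rfl⟩ := (Scheme.range_fromSpecStalk (X := X) (x := x)).ge (hy.trans hqx)
    rw [(X.fromSpecStalk x).isEmbedding.isInducing.specializes_iff] at hy
    have hle : (r : PrimeSpectrum (X.presheaf.stalk x)).asIdeal ≤ p :=
      (PrimeSpectrum.le_iff_specializes (r : PrimeSpectrum (X.presheaf.stalk x)) q).2 hy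
    exact congrArg (X.fromSpecStalk x) (PrimeSpectrum.ext (le_antisymm hle
      (hp.2 ⟨(r : PrimeSpectrum (X.presheaf.stalk x)).2, bot_le⟩ hle)) : (r : PrimeSpectrum _) = q)

theorem exists_nat_dim [IsLocallyNoetherian X] (x : X) :
    ∃ n : ℕ, ringKrullDim (X.presheaf.stalk x) = (n : WithBot ℕ∞) := by
  rw [ringKrullDim_stalk_eq_coheight]
  obtain ⟨k, hk⟩ := ENat.ne_top_iff_exists.1 (DimF18.coheight_ne_top x)
  exact ⟨k, by rw [← hk]; rfl⟩

variable (f : X ⟶ Y) [LocallyOfFiniteType f]

theorem rd_clι (t : X) [LocallyOfFiniteType (clι t)] (a : Cl t) : rd (clι t ≫ f) a = rd f (clι t a) :=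
  FibSub4.rd_preimmersion _ f a

/-- Bounds for the fibre dimension on the closure of a point. -/
theorem cl_bounds {t : X} (w : Cl t) :
    (rd f t : WithBot ℕ∞) ≤ FlatMor.fibreDimAt (clι t ≫ f) w ∧
      FlatMor.fibreDimAt (clι t ≫ f) w ≤ FlatMor.fibreDimAt f (clι t w) ∧
      ∀ z, z ⤳ clι t w → f z = f (clι t w) → t ⤳ z → (rd f z : WithBot ℕ∞) ≤ FlatMor.fibreDimAt (clι t ≫ f) w := by
  obtain ⟨g, hg, hgen⟩ := exists_gen t
  obtain ⟨b, hb, hfb, hbmax, hbd⟩ := FibGen4.exists_isMaxFib (clι t ≫ f) w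
  have hd : FlatMor.fibreDimAt (clι t ≫ f) w = (rd (clι t ≫ f) b : WithBot ℕ∞) :=
    hbd.symm.trans (FibGen4.fibreDimAt_eq_rd_of_isMaxFib _ hbmax)
  refine ⟨?_, ?_, fun z hzx hfz htz => ?_⟩
  · have h2 := (fibreDimAt_le_iff (clι t ≫ f)).1
      ((hgen b).mem_open (isOpen_fibreDimAt_le (clι t ≫ f) (rd (clι t ≫ f) b))
        (FibGen4.fibreDimAt_eq_rd_of_isMaxFib (clι t ≫ f) hbmax).le) g specializes_rfl rfl
    rw [rd_clι f t g, hg] at h2
    rw [hd]
    exact_mod_cast h2
  · rw [hd, rd_clι]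
    exact rd_le_fibreDimAt f (hb.map (clι t).continuous) hfb
  · obtain ⟨c, rfl⟩ := exists_preimage htz
    rw [← rd_clι f t c]
    exact rd_le_fibreDimAt (clι t ≫ f) ((clι t).isEmbedding.isInducing.specializes_iff.1 hzx) hfz

/-- The dimension inequality on a component. -/
theorem dim_stalk_cl_add_rd_le [IsLocallyNoetherian Y] {t : X} (w : Cl t) :
    ∃ a : ℕ, (∀ v : Cl (f t), clι (f t) v = f (clι t w) →
        ringKrullDim ((Cl (f t)).presheaf.stalk v) = (a : WithBot ℕ∞)) ∧
      (∀ n : ℕ, ringKrullDim (Y.presheaf.stalk (f (clι t w))) ≤ (n : WithBot ℕ∞) → a ≤ n) ∧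
      (∀ η, η ⤳ f t → η ≠ f t → ∀ n : ℕ,
        ringKrullDim (Y.presheaf.stalk (f (clι t w))) ≤ (n : WithBot ℕ∞) → a + 1 ≤ n) ∧
      ringKrullDim ((Cl t).presheaf.stalk w) + (rd f (clι t w) : WithBot ℕ∞) ≤ ((a + rd f t : ℕ) : WithBot ℕ∞) := by
  haveI := isReduced_cl t
  obtain ⟨g, hg, hgen⟩ := exists_gen t
  obtain ⟨g', hg'⟩ := RedSepLib.exists_lift_of_range_subset (clι t ≫ f) (clι (f t)) (by
    rintro _ ⟨a, rfl⟩
    rw [range_clι, ← specializes_iff_mem_closure]
    exact (specializes_clι t a).map f.continuous)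
  haveI : IsLocallyNoetherian (Cl (f t)) := LocallyOfFiniteType.isLocallyNoetherian (clι (f t))
  haveI : LocallyOfFiniteType (g' ≫ clι (f t)) := by rw [hg']; infer_instance
  haveI : LocallyOfFiniteType g' := locallyOfFiniteType_of_comp g' (clι (f t))
  have hrd : ∀ a, rd g' a = rd f (clι t a) := fun a => by
    have h1 := rd_clι f t a
    rw [← rd_clι f t a]
    simp only [← hg']
    rw [rd_comp, rd_of_surjectiveOnStalks (clι (f t)), zero_add]
  have hv : clι (f t) (g' w) = f (clι t w) := by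
    rw [← Scheme.Hom.comp_apply, hg']
    rfl
  obtain ⟨a, ha⟩ := exists_nat_dim (g' w)
  have hav : ∀ v : Cl (f t), clι (f t) v = f (clι t w) →
      ringKrullDim ((Cl (f t)).presheaf.stalk v) = (a : WithBot ℕ∞) := fun v h => by
    rw [(clι (f t)).isEmbedding.injective (h.trans hv.symm), ha]
  obtain ⟨ξ, hξ, hξ0, hineq⟩ := DimFormula14.exists_stalkDim_add_rd_le g' w
  have hξg : ξ = g := by
    by_contra hne
    rw [ringKrullDim_stalk_eq_coheight] at hξ0
    have hlt : ξ < g := lt_of_le_not_ge (Scheme.le_iff_specializes.2 (hgen ξ)) fun hle =>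
      hne ((Scheme.le_iff_specializes.1 hle).antisymm (hgen ξ)).eq
    have h1 : (coheight g + 1 : ℕ∞) ≤ coheight ξ := coheight_add_one_le hlt
    rw [show coheight ξ = 0 by exact_mod_cast hξ0] at h1
    simp at h1
  subst hξg
  rw [ha, hrd, hrd, hg] at hineq
  rw [ringKrullDim_stalk_eq_coheight] at ha
  have ha' : coheight (g' w) = (a : ℕ∞) := by exact_mod_cast ha
  obtain ⟨p, hp, hpl⟩ := exists_series_of_le_coheight (g' w) (n := a) ha'.ge
  have hmono : StrictMono (clι (f t) : Cl (f t) → Y) := by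
    intro b c hbc
    refine lt_of_le_not_ge (Scheme.le_iff_specializes.2 ((Scheme.le_iff_specializes.1 hbc.le).map
      (clι (f t)).continuous)) fun hle => hbc.not_ge (Scheme.le_iff_specializes.2 ?_)
    exact (clι (f t)).isEmbedding.isInducing.specializes_iff.1 (Scheme.le_iff_specializes.1 hle)
  let q := p.map _ hmono
  have hq : q.head = f (clι t w) := by
    show clι (f t) p.head = _
    rw [hp, hv]
  have key : ∀ n : ℕ, ringKrullDim (Y.presheaf.stalk (f (clι t w))) ≤ (n : WithBot ℕ∞) →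
      ∀ s : LTSeries Y, f (clι t w) ≤ s.head → s.length ≤ n := fun n hn s hs => by
    rw [ringKrullDim_stalk_eq_coheight] at hn
    have h1 := length_le_coheight (p := s) hs
    have h2 : coheight (f (clι t w)) ≤ (n : ℕ∞) := by exact_mod_cast hn
    exact_mod_cast h1.trans h2
  refine ⟨a, hav, fun n hn => ?_, fun η hη hne n hn => ?_, by push_cast; exact_mod_cast hineq⟩
  · exact hpl ▸ key n hn q hq.ge
  · have hlt : q.last < η := by
      refine lt_of_le_not_ge (Scheme.le_iff_specializes.2 (hη.trans (specializes_clι (f t) _))) fun hle => hne ?_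
      exact (hη.antisymm ((specializes_clι (f t) _).trans (Scheme.le_iff_specializes.1 hle))).eq
    have h1 := key n hn (q.snoc η hlt) (by rw [RelSeries.head_snoc]; exact hq.ge)
    rw [RelSeries.snoc_length, show q.length = a from hpl] at h1
    exact h1

/-- Equidimensionality at a point through the components. -/
theorem isEquidimAt_iff [IsLocallyNoetherian X] (x : X) :
    EGA43.IsEquidimAt f x ↔ ∃ e : ℕ, ∀ t, t ⤳ x → (∀ y, y ⤳ t → y = t) →
      (∀ y, y ⤳ f t → y = f t) ∧ rd f t = e ∧ FlatMor.fibreDimAt f x = (e : WithBot ℕ∞) := by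
  constructor
  · rintro ⟨e, U, hx, h1, h2⟩
    have hfib : ∀ a ∈ U, IsMaxFib f a → rd f a = e := by
      intro a ha hmax
      let a' : (U : Scheme.{u}) := ⟨a, ha⟩
      have hz := (isMaxFib_fiberι (U.ι ≫ f) _ ((U.ι ≫ f).asFiber a')).1
        (by rw [Scheme.Hom.fiberι_asFiber]; exact (EquidimAt4.isMaxFib_opens_iff f a').2 hmax)
      have h3 := h2 a' _ ((VarDim.maximal_iff_mem_irreducibleComponents (X := (U.ι ≫ f).fiber _) _).1 hz)
      rw [VarDim.dim_closure_singleton (toPt (U.ι ≫ f) _), ← rd_fiberι, Scheme.Hom.fiberι_asFiber,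
        EquidimAt4.rd_openImmersion] at h3
      exact_mod_cast h3
    refine ⟨e, fun t htx htmax => ?_⟩
    have htU : t ∈ U := htx.mem_open U.2 hx
    obtain ⟨W, hW, -, hWeq⟩ := h1 _ ((VarDim.maximal_iff_mem_irreducibleComponents (X := (U : Scheme.{u})) ⟨t, htU⟩).1
      ((EquidimAt4.max_opens_iff ⟨t, htU⟩).2 htmax))
    obtain ⟨η, rfl, hη⟩ := VarDim.exists_generic_of_mem_irreducibleComponents hW
    have hcl : closure ((U.ι ≫ f).base '' closure {(⟨t, htU⟩ : (U : Scheme.{u}))}) = closure {f t} :=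
      (closure_image_closure (U.ι ≫ f).continuous).trans (congrArg closure Set.image_singleton)
    have hft : f t = η := IsGenericPoint.eq (hcl.symm.trans hWeq) isGenericPoint_closure
    obtain ⟨z, hzx, hfz, hmaxz, hd⟩ := FibGen4.exists_isMaxFib f x
    exact ⟨fun y hy => hft ▸ hη y (hft ▸ hy), hfib t htU (fun y hy _ => htmax y hy),
      by rw [← hd, FibGen4.fibreDimAt_eq_rd_of_isMaxFib f hmaxz, hfib z (hzx.mem_open U.2 hx) hmaxz]⟩
  · rintro ⟨e, he⟩
    obtain ⟨V, hxV, hV⟩ := FibSub4.exists_opens_max_specializes x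
    obtain ⟨t₀, ht₀, ht₀max⟩ := EquidimAt4.exists_max_specializes x
    let U : X.Opens := V ⊓ ⟨_, isOpen_fibreDimAt_le f e⟩
    refine ⟨e, U, ⟨hxV, (he t₀ ht₀ ht₀max).2.2.le⟩, fun Z hZ => ?_, fun a Z hZ => ?_⟩
    · obtain ⟨t, rfl, ht⟩ := VarDim.exists_generic_of_mem_irreducibleComponents (X := (U : Scheme.{u})) hZ
      have htmax := (EquidimAt4.max_opens_iff t).1 ht
      have htx : U.ι t ⤳ x := hV _ t.2.1 htmax
      obtain ⟨h1, -, -⟩ := he _ htx htmax
      refine ⟨_, (VarDim.maximal_iff_mem_irreducibleComponents (X := Y) _).1 h1,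
        specializes_iff_mem_closure.1 (htx.map f.continuous), ?_⟩
      exact (closure_image_closure (U.ι ≫ f).continuous).trans (congrArg closure Set.image_singleton)
    · obtain ⟨z, rfl, hz⟩ := VarDim.exists_generic_of_mem_irreducibleComponents hZ
      let b := (U.ι ≫ f).fiberι _ z
      have hb : IsMaxFib (U.ι ≫ f) b := (isMaxFib_fiberι (U.ι ≫ f) _ z).2 hz
      have hb' : IsMaxFib f (U.ι b) := (EquidimAt4.isMaxFib_opens_iff f b).1 hb
      refine (VarDim.dim_closure_singleton (toPt (U.ι ≫ f) _) z).trans ?_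
      rw [← rd_fiberι, EquidimAt4.rd_openImmersion]
      refine congrArg Nat.cast (le_antisymm ?_ ?_)
      · have h := b.2.2
        change FlatMor.fibreDimAt f (U.ι b) ≤ (e : WithBot ℕ∞) at h
        rw [FibGen4.fibreDimAt_eq_rd_of_isMaxFib f hb'] at h
        exact_mod_cast h
      · obtain ⟨t, htb, htmax⟩ := EquidimAt4.exists_max_specializes (U.ι b)
        obtain ⟨-, h1, -⟩ := he t (hV t (htb.mem_open V.2 b.2.1) htmax) htmax
        obtain ⟨w, hw⟩ := exists_preimage htb
        obtain ⟨h2, h3, -⟩ := cl_bounds f w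
        rw [hw, FibGen4.fibreDimAt_eq_rd_of_isMaxFib f hb'] at h3
        rw [h1] at h2
        exact_mod_cast h2.trans h3

/-- Equidimensional stalk and the dimension formula give equidimensionality. -/
theorem isEquidimAt_of_dim_formula [IsLocallyNoetherian Y] (x : X)
    (hX : EGA4.IsEquidim (X.presheaf.stalk x))
    (h : ringKrullDim (X.presheaf.stalk x) =
        ringKrullDim (Y.presheaf.stalk (f x)) + ringKrullDim ((f.fiber (f x)).presheaf.stalk (f.asFiber x))) :
    EGA43.IsEquidimAt f x := by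
  haveI : IsLocallyNoetherian X := LocallyOfFiniteType.isLocallyNoetherian f
  haveI : IsLocallyNoetherian (f.fiber (f x)) := LocallyOfFiniteType.isLocallyNoetherian (toPt f (f x))
  obtain ⟨dX, hdX⟩ := exists_nat_dim x
  obtain ⟨dY, hdY⟩ := exists_nat_dim (f x)
  obtain ⟨dF, hdF⟩ := exists_nat_dim (f.asFiber x)
  refine (isEquidimAt_iff f x).2 ⟨dF + rd f x, fun t htx htmax => ?_⟩
  have he : FlatMor.fibreDimAt f x = ((dF + rd f x : ℕ) : WithBot ℕ∞) := by
    rw [localDim_asFiber_eq, hdF]
    push_cast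
    rfl
  rw [hdX, hdY, hdF] at h
  have hsum : dX = dY + dF := by exact_mod_cast h
  obtain ⟨w, hw⟩ := exists_preimage htx
  obtain ⟨a, -, ha1, ha2, ha3⟩ := dim_stalk_cl_add_rd_le f w
  obtain ⟨h2, h3, -⟩ := cl_bounds f w
  rw [(isEquidim_stalk_iff x).1 hX t htx htmax w hw, hdX, hw] at ha3
  rw [hw, hdY] at ha1 ha2
  rw [hw, he] at h3
  have h4 : dX + rd f x ≤ a + rd f t := by exact_mod_cast ha3
  have h5 : rd f t ≤ dF + rd f x := by exact_mod_cast h2.trans h3
  have h6 := ha1 dY le_rfl
  refine ⟨fun y hy => by_contra fun hne => ?_, by omega, he⟩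
  have h7 := ha2 y hy hne dY le_rfl
  omega

/-- The stalks of an irreducible scheme are equidimensional. -/
theorem isEquidim_stalk_of_irreducible [IrreducibleSpace X] (x : X) :
    EGA4.IsEquidim (X.presheaf.stalk x) := by
  refine (isEquidim_stalk_iff x).2 fun t _ htmax w hw => ?_
  have ht : t = genericPoint X := (htmax _ ((genericPoint_spec X).specializes trivial)).symm
  subst ht
  subst hw
  have hs : Function.Surjective (clι (genericPoint X)) := fun a =>
    exists_preimage ((genericPoint_spec X).specializes trivial)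
  rw [ringKrullDim_stalk_eq_coheight, ringKrullDim_stalk_eq_coheight]
  let o : Cl (genericPoint X) ≃o X :=
    { toEquiv := ((clι (genericPoint X)).isEmbedding.toHomeomorphOfSurjective hs).toEquiv
      map_rel_iff' := fun {a b} => by
        rw [Scheme.le_iff_specializes, Scheme.le_iff_specializes]
        exact (clι (genericPoint X)).isEmbedding.isInducing.specializes_iff }
  exact congrArg _ (Order.coheight_orderIso o w).symm

/-- The dimension data of the local rings along the closure of a point. -/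
theorem exists_dims [IsLocallyNoetherian Y] {t x : X} (w : Cl t) (hw : clι t w = x)
    (v : Cl (f t)) (hv : clι (f t) v = f x) :
    ∃ A A' B' k k' : ℕ, ringKrullDim (Y.presheaf.stalk (f x)) = (A : WithBot ℕ∞) ∧
      ringKrullDim ((Cl (f t)).presheaf.stalk v) = (A' : WithBot ℕ∞) ∧
      ringKrullDim ((Cl t).presheaf.stalk w) = (B' : WithBot ℕ∞) ∧
      ringKrullDim ((f.fiber (f x)).presheaf.stalk (f.asFiber x)) = (k : WithBot ℕ∞) ∧
      ringKrullDim (((clι t ≫ f).fiber ((clι t ≫ f) w)).presheaf.stalk ((clι t ≫ f).asFiber w)) = (k' : WithBot ℕ∞) ∧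
      FlatMor.fibreDimAt f x = ((k + rd f x : ℕ) : WithBot ℕ∞) ∧
      FlatMor.fibreDimAt (clι t ≫ f) w = ((k' + rd f x : ℕ) : WithBot ℕ∞) ∧
      A' ≤ A ∧ k' ≤ k ∧ rd f t ≤ k' + rd f x ∧ B' + rd f x ≤ A' + rd f t := by
  haveI : IsLocallyNoetherian X := LocallyOfFiniteType.isLocallyNoetherian f
  haveI : IsLocallyNoetherian (Cl t) := LocallyOfFiniteType.isLocallyNoetherian (clι t)
  haveI : IsLocallyNoetherian (f.fiber (f x)) := LocallyOfFiniteType.isLocallyNoetherian (toPt f (f x))
  haveI : IsLocallyNoetherian ((clι t ≫ f).fiber ((clι t ≫ f) w)) :=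
    LocallyOfFiniteType.isLocallyNoetherian (toPt (clι t ≫ f) _)
  obtain ⟨A, hA⟩ := exists_nat_dim (f x)
  obtain ⟨B', hB'⟩ := exists_nat_dim w
  obtain ⟨k, hk⟩ := exists_nat_dim (f.asFiber x)
  obtain ⟨k', hk'⟩ := exists_nat_dim ((clι t ≫ f).asFiber w)
  subst hw
  obtain ⟨A', hA', hle, -, hineq⟩ := dim_stalk_cl_add_rd_le f w
  obtain ⟨b1, b2, -⟩ := cl_bounds f w
  have hd : FlatMor.fibreDimAt f (clι t w) = ((k + rd f (clι t w) : ℕ) : WithBot ℕ∞) := by
    rw [localDim_asFiber_eq, hk]
    push_cast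
    rfl
  have hd' : FlatMor.fibreDimAt (clι t ≫ f) w = ((k' + rd f (clι t w) : ℕ) : WithBot ℕ∞) := by
    rw [localDim_asFiber_eq, hk', rd_clι]
    push_cast
    rfl
  rw [hd'] at b1 b2
  rw [hd] at b2
  rw [hB'] at hineq
  have h1 : k' + rd f (clι t w) ≤ k + rd f (clι t w) := by exact_mod_cast b2
  refine ⟨A, A', B', k, k', hA, hA' v hv, hB', hk, hk', hd, hd', hle A hA.le, by omega, ?_, ?_⟩
  · exact_mod_cast b1
  · exact_mod_cast hineq

/-- Some component through `x` has a local ring of the full dimension. -/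
theorem exists_cl_dim_eq [IsLocallyNoetherian X] (x : X) :
    ∃ t, t ⤳ x ∧ (∀ y, y ⤳ t → y = t) ∧ ∀ w : Cl t, clι t w = x →
      ringKrullDim ((Cl t).presheaf.stalk w) = ringKrullDim (X.presheaf.stalk x) := by
  obtain ⟨k, hk⟩ := ENat.ne_top_iff_exists.1 (DimF18.coheight_ne_top x)
  obtain ⟨p, hp, hpl⟩ := exists_series_of_le_coheight x (n := k) hk.le
  have hsp : ∀ i, p.last ⤳ p i := fun i => Scheme.le_iff_specializes.1 (p.monotone (Fin.le_last i))
  have hlast : p.last ⤳ x := by
    have h := hsp 0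
    rwa [show p 0 = x from hp] at h
  refine ⟨p.last, hlast, fun y hy => by_contra fun hne => ?_, fun w hw => ?_⟩
  · have hlt : p.last < y := lt_of_le_not_ge (Scheme.le_iff_specializes.2 hy) fun hle =>
      hne (hy.antisymm (Scheme.le_iff_specializes.1 hle)).eq
    have h := length_le_coheight (p := p.snoc y hlt) (x := x) (by rw [RelSeries.head_snoc]; exact hp.ge)
    rw [RelSeries.snoc_length, hpl, ← hk, Nat.cast_le] at h
    omega
  · rw [ringKrullDim_stalk_eq_coheight, ringKrullDim_stalk_eq_coheight, ← hk]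
    refine congrArg _ (le_antisymm ?_ ?_)
    · have hmono : StrictMono (clι p.last : Cl p.last → X) := by
        intro b c hbc
        refine lt_of_le_not_ge (Scheme.le_iff_specializes.2 ((Scheme.le_iff_specializes.1 hbc.le).map
          (clι p.last).continuous)) fun hle => hbc.not_ge (Scheme.le_iff_specializes.2 ?_)
        exact (clι p.last).isEmbedding.isInducing.specializes_iff.1 (Scheme.le_iff_specializes.1 hle)
      refine hk.ge.trans' ?_
      rw [← hw]
      exact coheight_le_coheight_apply_of_strictMono _ hmono w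
    · choose c hc using fun i => exists_preimage (hsp i)
      let l : LTSeries (Cl p.last) := LTSeries.mk p.length c fun i j hij => by
        have h := p.strictMono hij
        rw [← hc i, ← hc j] at h
        refine lt_of_le_not_ge (Scheme.le_iff_specializes.2 ?_) fun hle => h.not_ge ?_
        · exact (clι p.last).isEmbedding.isInducing.specializes_iff.1 (Scheme.le_iff_specializes.1 h.le)
        · exact Scheme.le_iff_specializes.2 ((Scheme.le_iff_specializes.1 hle).map (clι p.last).continuous)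
      have h0 : l.head = w := (clι p.last).isEmbedding.injective ((hc 0).trans (hp.trans hw.symm))
      rw [← hpl]
      exact length_le_coheight (p := l) h0.ge

end Groth.Agent.EquidimStalk4
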