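import Groth.Agent.Lib.FlatGenApp4
import Groth.Agent.Lib.Unibr4.Scheme
import Groth.Agent.Lib.Unibr4.Smooth
import Groth.Agent.Lib.Curve17.IntChart
import Groth.Agent.Lib.FibGenSch4

/-!
# Geometrically pointwise integral fibres over geometrically unibranch points (EGA IV 15.3)
-/

universe u

open CategoryTheory Limits AlgebraicGeometry IsLocalRing Topology Groth.Agent.FibDim14 Groth.Agent.DivDesc12

set_option backward.isDefEq.respectTransparency.types false

namespace Groth.Agent.GeomIntUnibr4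

/-- Geometric unibranchness only depends on the reduction. -/
theorem isGeomUnibranch_of_surjective {A A' : Type u} [CommRing A] [CommRing A'] [IsLocalRing A] [IsLocalRing A']
    (φ : A →+* A') (hφ : Function.Surjective φ) (hker : RingHom.ker φ ≤ nilradical A)
    (h : CAlg2.IsGeomUnibranch A) : CAlg2.IsGeomUnibranch A' := by
  let ψ : A →+* CAlg2.red A' := (Ideal.Quotient.mk (nilradical A')).comp φ
  have hψ : Function.Surjective ψ := Ideal.Quotient.mk_surjective.comp hφ
  have hkψ : RingHom.ker ψ = nilradical A := by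
    ext a
    rw [RingHom.mem_ker, mem_nilradical]
    show Ideal.Quotient.mk (nilradical A') (φ a) = 0 ↔ _
    rw [Ideal.Quotient.eq_zero_iff_mem, mem_nilradical]
    refine ⟨fun ⟨n, hn⟩ => ?_, fun ha => ha.map φ⟩
    obtain ⟨m, hm⟩ := mem_nilradical.1 (hker (show a ^ n ∈ RingHom.ker φ by rw [RingHom.mem_ker, map_pow, hn]))
    exact ⟨n * m, by rw [pow_mul, hm]⟩
  let e : CAlg2.red A ≃+* CAlg2.red A' :=
    (Ideal.quotEquivOfEq hkψ.symm).trans (RingHom.quotientKerEquivOfSurjective hψ)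
  have he : ∀ a, e (Ideal.Quotient.mk (nilradical A) a) = Ideal.Quotient.mk (nilradical A') (φ a) := fun a => rfl
  let eK : FractionRing (CAlg2.red A) ≃+* FractionRing (CAlg2.red A') := IsFractionRing.ringEquivOfRingEquiv e
  have heK : ∀ r, eK (algebraMap (CAlg2.red A) _ r) = algebraMap (CAlg2.red A') _ (e r) :=
    IsFractionRing.ringEquivOfRingEquiv_algebraMap e
  have hint : ∀ x, IsIntegral (CAlg2.red A) x → IsIntegral (CAlg2.red A') (eK x) := fun x hx =>
    hx.map_of_comp_eq e.toRingHom eK.toRingHom (RingHom.ext fun r => (heK r).symm)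
  have hint' : ∀ x, IsIntegral (CAlg2.red A') x → IsIntegral (CAlg2.red A) (eK.symm x) := fun x hx =>
    hx.map_of_comp_eq e.symm.toRingHom eK.symm.toRingHom (RingHom.ext fun r => eK.injective (by
      show eK (algebraMap _ _ (e.symm r)) = eK (eK.symm (algebraMap _ _ r))
      rw [heK, e.apply_symm_apply, eK.apply_symm_apply]))
  let g : CAlg2.normRed A →+* CAlg2.normRed A' :=
    (eK.toRingHom.comp (integralClosure (CAlg2.red A) _).val.toRingHom).codRestrict
      (integralClosure (CAlg2.red A') (FractionRing (CAlg2.red A'))).toSubring fun x => hint _ x.2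
  have hg : Function.Bijective g := by
    refine ⟨fun x y hxy => Subtype.ext (eK.injective (congrArg Subtype.val hxy)),
      fun y => ⟨⟨eK.symm y, hint' _ y.2⟩, Subtype.ext (eK.apply_symm_apply _)⟩⟩
  let eN := RingEquiv.ofBijective g hg
  obtain ⟨⟨hdom, hloc⟩, hins⟩ := h
  haveI := hdom
  haveI := hloc
  refine ⟨⟨e.symm.injective.isDomain e.symm.toRingHom, eN.isLocalRing⟩, fun m' hm' x => ?_⟩
  let m := m'.comap eN.toRingHom
  haveI : m.IsMaximal := Ideal.comap_isMaximal_of_surjective _ eN.surjective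
  let E : CAlg2.normRed A ⧸ m ≃+* CAlg2.normRed A' ⧸ m' :=
    Ideal.quotientEquiv m m' eN (Ideal.map_comap_of_surjective _ eN.surjective m').symm
  obtain ⟨n, a, ha⟩ := hins m (E.symm x)
  refine ⟨n, φ a, ?_⟩
  letI := Ideal.Quotient.field m
  haveI : ExpChar (CAlg2.normRed A' ⧸ m') (ringExpChar (CAlg2.normRed A ⧸ m)) :=
    (E.toRingHom.expChar_iff E.injective _).1 inferInstance
  rw [ringExpChar.eq (CAlg2.normRed A' ⧸ m') (ringExpChar (CAlg2.normRed A ⧸ m))]
  have h1 := congrArg E ha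
  rw [map_pow, E.apply_symm_apply] at h1
  rw [← h1]
  show Ideal.Quotient.mk m' _ = Ideal.Quotient.mk m' _
  refine congrArg _ (Subtype.ext ?_)
  show algebraMap (CAlg2.red A') _ (Ideal.Quotient.mk _ (φ a)) = eK _
  rw [← he, ← heK]
  rfl

variable {X Y : Scheme.{u}} (f : X ⟶ Y)

/-- Geometric unibranchness passes to the reduced closed subscheme with the same space. -/
theorem isGeomUnibranch_stalk_of_surjective {Y' : Scheme.{u}} (h : Y' ⟶ Y) [IsClosedImmersion h] [Surjective h] (w : Y')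
    (hY : CAlg2.IsGeomUnibranch (Y.presheaf.stalk (h w))) : CAlg2.IsGeomUnibranch (Y'.presheaf.stalk w) := by
  refine isGeomUnibranch_of_surjective (h.stalkMap w).hom (h.stalkMap_surjective w) (fun a ha => ?_) hY
  rw [nilradical_eq_sInf, Ideal.mem_sInf]
  intro P hP
  let q : Spec (Y.presheaf.stalk (h w)) := ⟨P, hP⟩
  have hc := (Scheme.range_fromSpecStalk (X := Y) (x := h w)).le ⟨q, rfl⟩
  obtain ⟨c', hc'⟩ := h.surjective (Y.fromSpecStalk (h w) q)
  have hc'w : c' ⤳ w := h.isEmbedding.isInducing.specializes_iff.1 (hc' ▸ hc)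
  obtain ⟨r', hr'⟩ := (Scheme.range_fromSpecStalk (x := w)).ge hc'w
  have hqr : q = Spec.map (h.stalkMap w) r' := by
    apply (Y.fromSpecStalk (h w)).isEmbedding.injective
    rw [← Scheme.Hom.comp_apply (Spec.map (h.stalkMap w)), Scheme.SpecMap_stalkMap_fromSpecStalk,
      Scheme.Hom.comp_apply, hr']
    exact hc'.symm
  show a ∈ (q : PrimeSpectrum _).asIdeal
  rw [hqr]
  show h.stalkMap w a ∈ (r' : PrimeSpectrum _).asIdeal
  rw [show h.stalkMap w a = 0 from ha]
  exact zero_mem _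

/-- A point with domain local ring has a unique maximal generization. -/
theorem eq_of_maximal_of_isDomain {F : Scheme.{u}} {a w₁ w₂ : F} [IsDomain (F.presheaf.stalk a)]
    (h₁ : w₁ ⤳ a) (h₂ : w₂ ⤳ a) (m₁ : ∀ w, w ⤳ w₁ → w = w₁) (m₂ : ∀ w, w ⤳ w₂ → w = w₂) : w₁ = w₂ := by
  let q₀ : Spec (F.presheaf.stalk a) := ⟨⊥, Ideal.isPrime_bot⟩
  have key : ∀ w, w ⤳ a → (∀ w', w' ⤳ w → w' = w) → F.fromSpecStalk a q₀ = w := by
    intro w hw hm
    obtain ⟨q, rfl⟩ := (Scheme.range_fromSpecStalk (X := F) (x := a)).ge hw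
    exact hm _ (((PrimeSpectrum.le_iff_specializes (⟨⊥, Ideal.isPrime_bot⟩ : PrimeSpectrum (F.presheaf.stalk a)) q).1
      bot_le).map (F.fromSpecStalk a).continuous)
  rw [← key w₁ h₁ m₁, ← key w₂ h₂ m₂]

theorem maxFib_unique [LocallyOfFiniteType f] (x : X) [IsDomain ((f.fiber (f x)).presheaf.stalk (f.asFiber x))] {z₁ z₂ : X}
    (h₁ : z₁ ⤳ x) (h₂ : z₂ ⤳ x) (e₁ : f z₁ = f x) (e₂ : f z₂ = f x) (m₁ : IsMaxFib f z₁) (m₂ : IsMaxFib f z₂) :
    z₁ = z₂ := by
  obtain ⟨w₁, rfl⟩ : z₁ ∈ Set.range (f.fiberι (f x)) := (f.range_fiberι (f x)).ge e₁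
  obtain ⟨w₂, rfl⟩ : z₂ ∈ Set.range (f.fiberι (f x)) := (f.range_fiberι (f x)).ge e₂
  have hsp : ∀ w, f.fiberι (f x) w ⤳ x → w ⤳ f.asFiber x := fun w hw => by
    rw [← (f.fiberι (f x)).isEmbedding.isInducing.specializes_iff, f.fiberι_asFiber]
    exact hw
  rw [eq_of_maximal_of_isDomain (hsp _ h₁) (hsp _ h₂) ((isMaxFib_fiberι f _ w₁).1 m₁) ((isMaxFib_fiberι f _ w₂).1 m₂)]

/-- A geometrically pointwise integral point has domain local ring. -/
theorem isDomain_stalk_of_geomPtIntegral {k : Type u} [Field k] {F : Scheme.{u}} (g : F ⟶ Spec (CommRingCat.of k))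
    (w : F) (h : FBase.IsGeomPtIntegralAt g w) : IsDomain (F.presheaf.stalk w) := by
  haveI : IsIso (Spec.map (CommRingCat.ofHom (algebraMap k k))) := by
    rw [show CommRingCat.ofHom (algebraMap k k) = 𝟙 (CommRingCat.of k) from rfl, Spec.map_id]
    infer_instance
  haveI : IsIso (FBase.bcπ g k) := inferInstanceAs (IsIso (pullback.fst _ _))
  obtain ⟨z, rfl⟩ := (FBase.bcπ g k).surjective w
  haveI := h k z rfl
  exact (asIso ((FBase.bcπ g k).stalkMap z)).commRingCatIsoToRingEquiv.injective.isDomain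
    (asIso ((FBase.bcπ g k).stalkMap z)).commRingCatIsoToRingEquiv.toRingHom

theorem isGeomReducedAt_of_geomPtIntegral {k : Type u} [Field k] {F : Scheme.{u}} (g : F ⟶ Spec (CommRingCat.of k))
    (w : F) (h : FBase.IsGeomPtIntegralAt g w) : FBase.IsGeomReducedAt g w := fun K _ _ z hz => by
  haveI := h K z hz
  infer_instance

theorem isGeomPtIntegralAt_of_isPullback {k k' : Type u} [Field k] [Field k'] (φ : k →+* k') {F F' : Scheme.{u}}
    {g : F ⟶ Spec (CommRingCat.of k)} {g' : F' ⟶ Spec (CommRingCat.of k')} {pr : F' ⟶ F}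
    (sq : IsPullback pr g' g (Spec.map (CommRingCat.ofHom φ))) (w : F')
    (hw : FBase.IsGeomPtIntegralAt g (pr w)) : FBase.IsGeomPtIntegralAt g' w := by
  intro K _ _ z hz
  letI : Algebra k K := ((algebraMap k' K).comp φ).toAlgebra
  have hpb : IsPullback (FBase.bcπ g' K) (FBase.bcStr g' K) g'
      (Spec.map (CommRingCat.ofHom (algebraMap k' K))) := IsPullback.of_hasPullback _ _
  have hbig := hpb.paste_horiz sq
  rw [← Spec.map_comp, ← CommRingCat.ofHom_comp] at hbig
  let e := hbig.isoPullback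
  have h1 : IsDomain ((FBase.bc g K).presheaf.stalk (e.hom z)) :=
    hw K (e.hom z) ((congrArg (fun ψ => ψ z) hbig.isoPullback_hom_fst).trans (by
      rw [Scheme.Hom.comp_apply, hz]))
  let ee := (asIso (e.hom.stalkMap z)).commRingCatIsoToRingEquiv.symm
  exact @Function.Injective.isDomain _ _ _ h1 _ _ _ _ ee.toRingHom ee.injective

theorem isGeomPtIntegralAt_baseChange {X' Y' : Scheme.{u}} {p : X' ⟶ X} {f' : X' ⟶ Y'} {h : Y' ⟶ Y}
    (hsq : IsPullback p f' f h) (x' : X')
    (hint : FBase.IsGeomPtIntegralAt (f.fiberToSpecResidueField (f (p x'))) (f.asFiber (p x'))) :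
    FBase.IsGeomPtIntegralAt (f'.fiberToSpecResidueField (f' x')) (f'.asFiber x') := by
  obtain ⟨pr, hpr, sq⟩ := exists_fibre_square hsq (f' x')
  have key : ∀ y, y = f (p x') → ∀ w : f.fiber y, f.fiberι y w = p x' →
      FBase.IsGeomPtIntegralAt (f.fiberToSpecResidueField y) w := by
    rintro _ rfl w hw
    rwa [(f.fiberι (f (p x'))).isEmbedding.injective (hw.trans (f.fiberι_asFiber _).symm)]
  have h1 := key (h (f' x')) (by rw [← Scheme.Hom.comp_apply, ← hsq.w, Scheme.Hom.comp_apply])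
    (pr (f'.asFiber x')) (by rw [hpr, f'.fiberι_asFiber])
  exact isGeomPtIntegralAt_of_isPullback (resExt h (f' x')).hom sq _ h1

/-- Over a geometrically unibranch domain point the local rings at generic points of geometrically reduced
fibres are domains. -/
theorem isDomain_stalk_maxFib [IsLocallyNoetherian Y] [LocallyOfFiniteType f] (ξ : X) (hmax : IsMaxFib f ξ)
    (hred : FBase.IsGeomReducedAt (f.fiberToSpecResidueField (f ξ)) (f.asFiber ξ))
    (hopen : EGA43.IsUnivOpenAt f ξ) [IsDomain (Y.presheaf.stalk (f ξ))]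
    (hY : CAlg2.IsGeomUnibranch (Y.presheaf.stalk (f ξ))) : IsDomain (X.presheaf.stalk ξ) := by
  obtain ⟨V, hV, hyV, hVdom, -⟩ := Curve17.exists_integral_chart (f ξ)
  haveI := hVdom
  obtain ⟨-, -, C, _, _, _, Q, _, hQ, ⟨e⟩⟩ :=
    FlatUnivOpen4.smooth_chart_at_generic f ξ hmax hred hopen hV hyV inferInstance
  obtain ⟨B, _, _, _, hB, hrad, hker⟩ := Unibr4.exists_data hV (f ξ) hyV (Or.inl ‹_›) hY.1
  haveI := (hV.primeIdealOf ⟨f ξ, hyV⟩).2
  haveI := Unibr4.isDomain_localization_of_smooth hB (hrad hY) (by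
    rw [RingHom.injective_iff_ker_eq_bot, hker (Curve17.gen hV) (Curve17.gen_specializes hV hyV)
      (fun _ hg => Curve17.eq_gen_of_specializes hV hg) (Curve17.gen_mem hV)]
    exact Curve17.primeIdealOf_gen hV) Q hQ
  exact e.symm.injective.isDomain e.symm.toRingHom

/-- EGA IV 15.3: the local ring at a point with geometrically pointwise integral fibre is a domain. -/
theorem isDomain_stalk [IsLocallyNoetherian Y] [LocallyOfFiniteType f] (x : X)
    (hopen : ∀ z, z ⤳ x → f z = f x → IsMaxFib f z → EGA43.IsUnivOpenAt f z)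
    (hint : FBase.IsGeomPtIntegralAt (f.fiberToSpecResidueField (f x)) (f.asFiber x))
    [IsDomain (Y.presheaf.stalk (f x))] (hY : CAlg2.IsGeomUnibranch (Y.presheaf.stalk (f x))) :
    IsDomain (X.presheaf.stalk x) ∧ (f.stalkMap x).hom.Flat := by
  haveI : IsLocallyNoetherian X := LocallyOfFiniteType.isLocallyNoetherian f
  haveI := isDomain_stalk_of_geomPtIntegral _ _ hint
  have hred := isGeomReducedAt_of_geomPtIntegral _ _ hint
  have hred' := GeomRedRes4.isReduced_stalk f hred
  have hflat := FlatUnivOpen4.flat_stalkMap f x hopen hred inferInstance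
  refine ⟨?_, hflat⟩
  obtain ⟨z, hzx, hfz, hzmax, -⟩ := FibGen4.exists_isMaxFib f x
  have hdomz : IsDomain (X.presheaf.stalk z) := by
    have hY' : ∀ y, y = f x → IsDomain (Y.presheaf.stalk y) ∧ CAlg2.IsGeomUnibranch (Y.presheaf.stalk y) := by
      rintro _ rfl; exact ⟨inferInstance, hY⟩
    haveI := (hY' (f z) hfz).1
    exact isDomain_stalk_maxFib f z hzmax (FlatUnivOpen4.isGeomReducedAt_of_specializes f hzx hfz hred)
      (hopen z hzx hfz hzmax) (hY' (f z) hfz).2
  refine Function.Injective.isDomain (sp hzx) ((injective_iff_map_eq_zero _).2 fun a ha => ?_)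
  letI := (f.stalkMap x).hom.toAlgebra
  haveI : IsLocalHom (algebraMap (Y.presheaf.stalk (f x)) (X.presheaf.stalk x)) :=
    inferInstanceAs (IsLocalHom (f.stalkMap x).hom)
  haveI : Module.Flat (Y.presheaf.stalk (f x)) (X.presheaf.stalk x) := hflat
  haveI : _root_.IsReduced (X.presheaf.stalk x ⧸ (maximalIdeal (Y.presheaf.stalk (f x))).map
      (algebraMap (Y.presheaf.stalk (f x)) (X.presheaf.stalk x))) := FlatUnivOpen4.isReduced_quotient f x hred'
  refine FlatGen4.eq_zero_of_forall_exists_mul_eq_zero (A := Y.presheaf.stalk (f x)) a fun P hP => ?_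
  obtain ⟨z', hz', hzP, hfz', hmax'⟩ := FlatUnivOpen4.exists_point_of_minimalPrimes f x P hP
  obtain rfl := maxFib_unique f x hzx hz' hfz hfz' hzmax hmax'
  haveI := hP.1.1
  letI := (sp hzx).toAlgebra
  haveI : IsLocalization.AtPrime (X.presheaf.stalk z) P := hzP ▸ LocFact12.isLocalization_sp hzx
  obtain ⟨t, ht⟩ := (IsLocalization.map_eq_zero_iff P.primeCompl (X.presheaf.stalk z) a).1 ha
  exact ⟨t, t.2, ht⟩

end Groth.Agent.GeomIntUnibr4
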