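import Groth.Agent.Lib.AmpleFib.CurveSep
import Groth.Agent.Lib.CurveH1Min27.GorBal
import Groth.Agent.Lib.CurveCoh17.P1Apps
import Groth.Agent.Lib.UVan10.GlobGen

/-!
# Invertible modules of degree at least `2g + 1` on every subcurve embed reduced curves
-/

set_option autoImplicit false
set_option linter.style.haveILetI false
set_option backward.isDefEq.respectTransparency false

universe u

open CategoryTheory Limits AlgebraicGeometry TopologicalSpace Opposite

namespace Groth.Agent.CurveVA1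

open IsLocalRing Groth.Agent.M1 Groth.Agent.M2 Groth.Agent.CurveCoh17 Groth.Agent.AmpleFib
open Groth.Agent.CurveH1Min27 (vI genusOn)

variable {k : Type u} [Field k] {X : Scheme.{u}} [X.Over (Spec (CommRingCat.of k))]

variable (k) in
/-- Degree at least `2g + 1` on every connected subcurve. -/
def DegVA (L : X.Modules) : Prop :=
  ∀ (T : Set X) (hT : IsClosed T), ConnectedSpace (vI T hT).subscheme →
    topologicalKrullDim (vI T hT).subscheme = 1 →
      2 * (genusOn k (vI T hT) : ℤ) + 1 ≤ TFOne27.delta k L 1 (TFOne27.OT T hT)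

variable [IsAlgClosed k] [IsProper (X ↘ Spec (CommRingCat.of k))] [AlgebraicGeometry.IsReduced X] [ConnectedSpace X]

/-- A submodule of colength at most two of such a module has no `H¹`. -/
theorem subsingleton_h1_of_mono (hd : topologicalKrullDim X ≤ 1) {L : X.Modules} (hL : PicF.IsInvertible L)
    (hdeg : DegVA k L) {F : X.Modules} (hFc : Coh.IsCoh F) (ι : F ⟶ L) [Mono ι]
    (hsurj : ∀ η ∈ genericPoints (X : Type u), Function.Surjective (stalkLin ι η))
    (hc : Curv2.euler k X L ≤ Curv2.euler k X F + 2) : Subsingleton (Coh.HH X F 1) := by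
  have hX := CurveAmple18.curveLike k X hd
  haveI := hX.noetherian
  have h1L := (M2.isInvertible_iff_isFinLocFreeOfRank_one L).1 hL
  have hLc := CurveCoh17.isCoh_of_ofRank h1L
  by_contra hne
  have hLt : TorSh.IsTorsionFree L := fun x => by
    obtain ⟨e⟩ := CurveCoh17.nonempty_stalk_equiv h1L x
    let e' := e ≪≫ₗ LinearEquiv.funUnique (Fin 1) _ _
    haveI := TFOne27.isTF1_structureModule.2.1 x
    exact Function.Injective.moduleIsTorsionFree e' e'.injective (map_smul e')
  have hF : TFOne.IsTF1 X F := ⟨hFc, TFOne27.tf_of_mono ι hLt, fun η hη => by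
    obtain ⟨e⟩ := CurveCoh17.nonempty_stalk_equiv h1L η
    exact ⟨LinearEquiv.ofBijective _ ⟨(mono_iff_stalk ι).1 inferInstance η, hsurj η hη⟩ ≪≫ₗ
      (e ≪≫ₗ LinearEquiv.funUnique (Fin 1) _ _)⟩⟩
  obtain ⟨T, hT, G, π, hTg, hG, hconn, hdimT, hle⟩ :=
    CurveH1Min27.exists_subcurve (k := k) hd hF (not_subsingleton_iff_nontrivial.mp hne)
  have h2 := hdeg T hT hconn hdimT
  have h3 := CurveH1Min27.euler_connected_sub (k := k) hd hT hconn
  obtain ⟨heG, hcG, htG, hsG⟩ := hG
  haveI := heG
  let J := Scheme.IdealSheafData.vanishingIdeal (⟨T, hT⟩ : Closeds X)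
  let q : Coh.structureModule X ⟶ TFOne27.OT T hT := ClSub.toSubscheme J
  haveI : Epi q := M2.epi_toSubscheme J
  have hflat : ∀ x : X, Module.Flat (X.presheaf.stalk x) (L.presheaf.stalk x) := fun x =>
    Module.Flat.of_linearEquiv (CurveCoh17.nonempty_stalk_equiv h1L x).some
  have hTJ := shortExact_tensorR (M2.shortExact_idealMod (I := J)) L hflat
  let q' : CohB1.tensorMod (Coh.structureModule X) L ⟶ CohB1.tensorMod (TFOne27.OT T hT) L := (M2.tensorR L).map q
  haveI : Epi q' := hTJ.epi_g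
  let h : L ⟶ CohB1.tensorMod (TFOne27.OT T hT) L := (M2.tensorLUnit L).inv ≫ q'
  haveI : Epi h := epi_comp _ _
  let ρ := ι ≫ h
  have hOc := TFOne27.isCoh_OT (X := X) T hT
  have hOLc : Coh.IsCoh (CohB1.tensorMod (TFOne27.OT T hT) L) := CurveCoh17.isCoh_tensor hOc hLc
  have hOLt : TorSh.IsTorsionFree (CohB1.tensorMod (TFOne27.OT T hT) L) :=
    CurveH1Min27.isTorsionFree_tw hL (TFOne27.isTorsionFree_push T hT hTg TFOne27.isTF1_structureModule.1
      TFOne27.isTF1_structureModule.2.1)
  have hC0c : Coh.IsCoh (cokernel ρ) := M1.isCoh_cokernel hFc.1 hOLc ρ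
  have hImc : Coh.IsCoh (Abelian.image ρ) := CurveCoh17.isCoh_kernel hOLc hC0c.1 _
  have hImt : TorSh.IsTorsionFree (Abelian.image ρ) := TFOne27.tf_of_mono (Abelian.image.ι ρ) hOLt
  have hρs : ∀ η ∈ genericPoints (X : Type u), Function.Surjective (stalkLin ρ η) := fun η hη b => by
    obtain ⟨a, rfl⟩ := TFOne27.surjective_stalkLin h η b
    obtain ⟨a', rfl⟩ := hsurj η hη a
    exact ⟨a', CurveCoh17.stalkLin_comp _ _ η a'⟩
  have hsupp : CohB1.support (CohB1.tensorMod (TFOne27.OT T hT) L) = T :=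
    (CurveH1Min27.support_tw _ hL).trans (TFOne27.support_OT T hT)
  obtain ⟨e, -⟩ := TFOne27.nonempty_iso_of_quot hF.2.2 π (Abelian.factorThruImage ρ) hcG htG hImc hImt fun η hη => by
    rw [hsG]
    refine ⟨fun hηT => ?_, fun hs => ?_⟩
    · obtain ⟨b, hb⟩ := TFOne27.exists_ne_of_mem_support (hsupp.ge hηT)
      obtain ⟨a, rfl⟩ := hρs η hη b
      intro hsub
      haveI : Subsingleton ((Abelian.image ρ).presheaf.stalk η) := hsub
      refine hb ?_
      rw [← Abelian.image.fac ρ, CurveCoh17.stalkLin_comp,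
        Subsingleton.elim (stalkLin (Abelian.factorThruImage ρ) η a) 0, map_zero]
    · by_contra hn
      haveI : Subsingleton ((CohB1.tensorMod (TFOne27.OT T hT) L).presheaf.stalk η) :=
        TFOne27.subsingleton_of_not_mem_support (hsupp.symm ▸ hn)
      haveI : Subsingleton ((stalkAb η).obj (CohB1.tensorMod (TFOne27.OT T hT) L)) :=
        TFOne27.subsingleton_of_not_mem_support (hsupp.symm ▸ hn)
      exact hs ((mono_iff_stalk (Abelian.image.ι ρ)).1 inferInstance η).subsingleton
  have hCιc : Coh.IsCoh (cokernel ι) := M1.isCoh_cokernel hFc.1 hLc ι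
  obtain ⟨S, hS⟩ := exists_suppIn_of_maximal hd hCιc fun g hg =>
    eq_zero_stalk_cokernel ι g (hsurj g (TFOne27.mem_genericPoints.mpr hg))
  obtain ⟨S', hS'⟩ := exists_suppIn_of_maximal hd hC0c fun g hg =>
    eq_zero_stalk_cokernel ρ g (hρs g (TFOne27.mem_genericPoints.mpr hg))
  let w : cokernel ι ⟶ cokernel ρ := cokernel.desc ι (h ≫ cokernel.π ρ) (by
    rw [← Category.assoc]; exact cokernel.condition ρ)
  haveI : Epi w := by
    haveI : Epi (cokernel.π ι ≫ w) := by rw [cokernel.π_desc]; infer_instance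
    exact epi_of_epi (cokernel.π ι) w
  have hle0 := CurveH1Min27.finrank_h0_le_of_epi (k := k) hX w hCιc hC0c fun g hg =>
    ⟨fun a b => (eq_zero_stalk_cokernel ι g (hsurj g hg) a).trans (eq_zero_stalk_cokernel ι g (hsurj g hg) b).symm⟩
  have hFL : (ShortComplex.mk ι (cokernel.π ι) (cokernel.condition ι)).ShortExact :=
    { exact := ShortComplex.exact_of_g_is_cokernel _ (cokernelIsCokernel ι) }
  have e1 : Curv2.euler k X L = Curv2.euler k X F + Curv2.euler k X (cokernel ι) :=
    euler_add (S := ShortComplex.mk ι (cokernel.π ι) (cokernel.condition ι)) hFL (hX.adm hFc) (hX.adm hCιc)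
  have e2 : Curv2.euler k X (CohB1.tensorMod (TFOne27.OT T hT) L) =
      Curv2.euler k X (Abelian.image ρ) + Curv2.euler k X (cokernel ρ) :=
    euler_add (S := cokerSC ρ) (cokerSC_shortExact ρ) (hX.adm hImc) (hX.adm hC0c)
  rw [hS.euler_eq (hX.fin _ hCιc 0)] at e1
  rw [hS'.euler_eq (hX.fin _ hC0c 0), ← euler_iso e] at e2
  have hd2 : TFOne27.delta k L 1 (TFOne27.OT T hT) =
      Curv2.euler k X (CohB1.tensorMod (TFOne27.OT T hT) L) - Curv2.euler k X (TFOne27.OT T hT) := by
    rw [TFOne27.delta]; push_cast; ring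
  have h5 : (Module.finrank k (Coh.HH X (cokernel ρ) 0) : ℤ) ≤ Module.finrank k (Coh.HH X (cokernel ι) 0) := by
    exact_mod_cast hle0
  omega

/-- A nonzero functional at a closed point does not kill all sections of a module of degree `≥ 2g` inside an
invertible module. -/
theorem exists_sec_apply_ne_zero (hdim : topologicalKrullDim X = 1) {L : X.Modules} (hL : PicF.IsInvertible L)
    (hdeg' : DegVA k L)
    {G : X.Modules} (hG : Coh.IsCoh G) (ι : G ⟶ L) [Mono ι]
    (hsurjι : ∀ η ∈ genericPoints (X : Type u), Function.Surjective (stalkLin ι η))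
    (hdeg : Curv2.euler k X L ≤ Curv2.euler k X G + 1) {P : X} (hP : IsClosed ({P} : Set X))
    (φ : G.presheaf.stalk P →ₗ[X.presheaf.stalk P] X.presheaf.stalk P ⧸ maximalIdeal (X.presheaf.stalk P))
    (hφ : φ ≠ 0) : ∃ t : Γ(G, (⊤ : X.Opens)), φ (G.presheaf.germ ⊤ P trivial t) ≠ 0 := by
  classical
  have hX := CurveAmple18.curveLike k X hdim.le
  haveI := hX.noetherian
  let Z := Scheme.IdealSheafData.vanishingIdeal (⟨{P}, hP⟩ : Closeds X)
  let N := ClSub.quotMod Z
  have hsupp : SuppIn N ({P} : Finset X) := suppIn_quotMod_point hP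
  obtain ⟨e⟩ := exists_linearEquiv_residue hP
  obtain ⟨ψ, hψ⟩ := exists_hom_of_stalk hsupp (e.toLinearMap.comp φ)
  have hsurj : Function.Surjective φ := by
    obtain ⟨a, ha⟩ : ∃ a, φ a ≠ 0 := by
      by_contra h
      push Not at h
      exact hφ (LinearMap.ext h)
    intro q
    obtain ⟨b, hb⟩ := Ideal.Quotient.mk_surjective (φ a)
    obtain ⟨c, rfl⟩ := Ideal.Quotient.mk_surjective q
    have hbu : IsUnit b := by
      by_contra hu
      exact ha (hb ▸ Ideal.Quotient.eq_zero_iff_mem.2 ((mem_maximalIdeal b).2 hu))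
    obtain ⟨v, rfl⟩ := hbu
    refine ⟨(c * ↑v⁻¹) • a, ?_⟩
    rw [map_smul, ← hb, Algebra.smul_def, Ideal.Quotient.algebraMap_eq, ← map_mul, mul_assoc, Units.inv_mul, mul_one]
  haveI : Epi ψ := (epi_iff_stalk ψ).2 fun y b => by
    by_cases hy : y = P
    · subst hy
      obtain ⟨a, ha⟩ := hsurj (e.symm b)
      refine ⟨a, ?_⟩
      show stalkLin ψ y a = b
      rw [hψ, LinearMap.comp_apply, ha]
      exact e.apply_symm_apply b
    · exact ⟨0, (hsupp.zero y (by simpa using hy) _).trans (hsupp.zero y (by simpa using hy) b).symm⟩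
  let S : ShortComplex X.Modules := ShortComplex.mk (kernel.ι ψ) ψ (kernel.condition ψ)
  have hS : S.ShortExact := { exact := ShortComplex.exact_of_f_is_kernel _ (kernelIsKernel _) }
  have hK : Coh.IsCoh (kernel ψ) := M1.isCoh_kernel hG (isCoh_quotMod Z).1 ψ
  haveI : Mono (kernel.ι ψ ≫ ι) := inferInstance
  have hgP : ∀ η ∈ genericPoints (X : Type u), η ∉ ({P} : Finset X) := fun η hη h =>
    CurveH1Min27.generic_not_mem k hdim hP (topologicalKrullDim_zero_of_discreteTopology _) hη
      (Finset.mem_singleton.1 h)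
  have hsK : ∀ η ∈ genericPoints (X : Type u), Function.Surjective (stalkLin (kernel.ι ψ ≫ ι) η) := fun η hη y => by
    obtain ⟨a, rfl⟩ := hsurjι η hη y
    obtain ⟨b, hb⟩ := (exact_iff_stalk_eq_zero S).1 hS.exact η a (hsupp.zero η (hgP η hη) _)
    exact ⟨b, (CurveCoh17.stalkLin_comp _ _ η b).trans (congrArg (stalkLin ι η) hb)⟩
  have hfin := hX.fin N (isCoh_quotMod Z) 0
  have hN1 : Module.finrank k (Coh.HH X N 0) = 1 := by
    rw [finrank_quotMod_point (k := k) hP]
    exact finrank_residueField hP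
  have hadd : Curv2.euler k X G = Curv2.euler k X (kernel ψ) + Curv2.euler k X N :=
    euler_kernel ψ (hX.adm hK) (hsupp.adm hfin)
  rw [hsupp.euler_eq hfin, hN1, Nat.cast_one] at hadd
  haveI := subsingleton_h1_of_mono (k := k) hdim.le hL hdeg' hK (kernel.ι ψ ≫ ι) hsK (by linarith)
  have hsurj0 : Function.Surjective (hmap k S.g 0) := fun w =>
    (exact_hmap_hdelta k hS 0 w).1 (Subsingleton.elim _ _)
  obtain ⟨b, hb⟩ : ∃ b : N.presheaf.stalk P, b ≠ 0 :=
    ⟨e (Ideal.Quotient.mk _ 1), fun h =>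
      one_notMem' (Ideal.Quotient.eq_zero_iff_mem.1 ((map_eq_zero_iff e e.injective).1 h))⟩
  obtain ⟨s, hs⟩ := hsupp.exists_section ⊤ (Function.update (fun y => (0 : N.presheaf.stalk y)) P b)
  obtain ⟨z, hz⟩ := hsurj0 ((hh0 N).symm s)
  refine ⟨hh0 G z, fun h => hb ?_⟩
  have h1 : stalkLin ψ P (G.presheaf.germ ⊤ P trivial (hh0 G z)) = N.presheaf.germ ⊤ P trivial (ψ.app ⊤ (hh0 G z)) :=
    germ_naturality _ _ _ _ _
  rw [← hh0_hmap (A := k), show hmap k ψ 0 z = (hh0 N).symm s from hz, AddEquiv.apply_symm_apply,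
    hs P (Finset.mem_singleton_self P) trivial, Function.update_self, hψ, LinearMap.comp_apply, h, map_zero] at h1
  exact h1.symm

/-- A complete linear system of degree at least `2g + 1` on an integral proper curve is a closed immersion. -/
theorem isClosedImmersion_of_degVA (hdim : topologicalKrullDim X = 1)
    {L : X.Modules} (hL : PicF.IsInvertible L) (hdeg : DegVA k L) {n : ℕ}
    (r : X ⟶ CohB1.ProjSpace n k) (hr : r ≫ CohB1.ProjSpace.toSpec n k = X ↘ Spec (CommRingCat.of k))
    (τ : Curve17.pullTwist r ≅ L)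
    (hspan : ∀ t : Γ(L, (⊤ : X.Opens)), ∃ c, τ.hom.app ⊤ (Curve17.vSec (X ↘ Spec (CommRingCat.of k)) r c) = t) :
    IsClosedImmersion r := by
  have hX : CurveLike k X := CurveAmple18.curveLike k X hdim.le
  haveI := hX.noetherian
  have hL1 := (isInvertible_iff_isFinLocFreeOfRank_one L).1 hL
  have hgermv : ∀ (R : X) c, stalkLin τ.hom R ((Curve17.pullTwist r).presheaf.germ ⊤ R trivial
        (Curve17.vSec (X ↘ Spec (CommRingCat.of k)) r c)) =
      L.presheaf.germ ⊤ R trivial (τ.hom.app ⊤ (Curve17.vSec (X ↘ Spec (CommRingCat.of k)) r c)) :=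
    fun R c => germ_naturality _ _ _ _ _
  have hI : ∀ (P : X) (hP : IsClosed ({P} : Set X)), Coh.IsCoh (pointSC hP L).X₁ ∧ Mono (pointIncl hP L) ∧
      (∀ η ∈ genericPoints (X : Type u), Function.Surjective (stalkLin (pointIncl hP L) η)) ∧
      Curv2.euler k X L ≤ Curv2.euler k X (pointSC hP L).X₁ + 1 := fun P hP => by
    have hS := twistSES hL (Scheme.IdealSheafData.vanishingIdeal (⟨{P}, hP⟩ : Closeds X))
    have hLc := CurveCoh17.isCoh_of_ofRank hL1
    have hG : Coh.IsCoh (pointSC hP L).X₁ := CurveCoh17.isCoh_tensor (CurveH1Min27.isCoh_idealMod _) hLc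
    refine ⟨hG, ?_, fun η hη y => ?_, ?_⟩
    · haveI := hS.mono_f
      exact mono_comp _ _
    · have hne : η ≠ P := fun h =>
        CurveH1Min27.generic_not_mem k hdim hP (topologicalKrullDim_zero_of_discreteTopology _) hη h
      obtain ⟨b, hb⟩ := (exact_iff_stalk_eq_zero (pointSC hP L)).1 hS.exact η (stalkLin (tensorLUnit L).inv η y)
        (((suppIn_quotMod_point hP).tensor L).zero η (by simpa using hne) _)
      refine ⟨b, (CurveCoh17.stalkLin_comp _ _ η b).trans ((congrArg (stalkLin (tensorLUnit L).hom η) hb).trans ?_)⟩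
      rw [← stalkLin_comp, Iso.inv_hom_id]
      show (stalkAb η).map (𝟙 L) y = y
      rw [CategoryTheory.Functor.map_id]
      rfl
    · have hfin := hX.fin _ (isCoh_quotMod (Scheme.IdealSheafData.vanishingIdeal (⟨{P}, hP⟩ : Closeds X))) 0
      have hs := suppIn_quotMod_point hP
      have eS := CurveCoh17.nonempty_stalk_equiv hL1
      have ea := euler_add (S := pointSC hP L) hS (hX.adm hG) ((hs.tensor L).adm (hs.finite_tensor hfin L eS))
      have e0 : Curv2.euler k X L = Curv2.euler k X (pointSC hP L).X₂ := euler_iso (tensorLUnit L).symm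
      have h3 : Curv2.euler k X (pointSC hP L).X₃ = 1 := by
        refine ((hs.tensor L).euler_eq (hs.finite_tensor hfin L eS)).trans ?_
        rw [hs.finrank_tensor hfin L eS, finrank_quotMod_point (k := k) hP, finrank_residueField hP]
        norm_num
      linarith [ea, e0, h3]
  have hgermι : ∀ (P : X) (hP : IsClosed ({P} : Set X)) (R : X) (t : Γ((pointSC hP L).X₁, (⊤ : X.Opens))),
      stalkLin (pointIncl hP L) R ((pointSC hP L).X₁.presheaf.germ ⊤ R trivial t) =
        L.presheaf.germ ⊤ R trivial ((pointIncl hP L).app ⊤ t) := fun P hP R t => germ_naturality _ _ _ _ _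
  -- sections of `I_P ⊗ L` give sections vanishing at `P`
  have hc : ∀ (P : X) (hP : IsClosed ({P} : Set X)) (t : Γ((pointSC hP L).X₁, (⊤ : X.Opens))),
      ∃ c, ((Curve17.pullTwist r).presheaf.germ ⊤ P trivial (Curve17.vSec (X ↘ Spec (CommRingCat.of k)) r c) :
          (Curve17.pullTwist r).presheaf.stalk P) ∈
          maximalIdeal (X.presheaf.stalk P) • (⊤ : Submodule (X.presheaf.stalk P) ((Curve17.pullTwist r).presheaf.stalk P)) ∧
        τ.hom.app ⊤ (Curve17.vSec (X ↘ Spec (CommRingCat.of k)) r c) = (pointIncl hP L).app ⊤ t := fun P hP t => by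
    obtain ⟨c, hc⟩ := hspan ((pointIncl hP L).app ⊤ t)
    refine ⟨c, (mem_smul_top_congr τ P _).1 ?_, hc⟩
    rw [hgermv, hc]
    have h := (germ_mem_iff (k := k) hL hP ((hh0 L).symm ((pointIncl hP L).app ⊤ t))).2
      ⟨(hh0 _).symm t, (hh0 L).injective (by rw [hh0_hmap, AddEquiv.apply_symm_apply, AddEquiv.apply_symm_apply])⟩
    rwa [AddEquiv.apply_symm_apply] at h
  -- image of the point inclusion
  have hrange : ∀ (P : X) (hP : IsClosed ({P} : Set X)) (a : L.presheaf.stalk P),
      a ∈ maximalIdeal (X.presheaf.stalk P) • (⊤ : Submodule (X.presheaf.stalk P) (L.presheaf.stalk P)) ↔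
        ∃ b, stalkLin (pointIncl hP L) P b = a := fun P hP a => by
    rw [← stalk_pointSC_eq_zero_iff hL hP, stalkLin_comp]
    have hid : ∀ {M : X.Modules} (z : M.presheaf.stalk P), stalkLin (𝟙 M) P z = z := fun {M} z => by
      show (stalkAb P).map (𝟙 M) z = z
      rw [CategoryTheory.Functor.map_id]
      rfl
    constructor
    · intro h
      obtain ⟨b, hb⟩ := (exact_iff_stalk_eq_zero (pointSC hP L)).1 (twistSES hL _).exact P
        (stalkLin (tensorLUnit L).inv P a) h
      refine ⟨b, ?_⟩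
      rw [stalkLin_comp]
      refine (congrArg (stalkLin (tensorLUnit L).hom P) hb).trans ?_
      rw [← stalkLin_comp, Iso.inv_hom_id, hid]
    · rintro ⟨b, rfl⟩
      rw [← stalkLin_comp, ← stalkLin_comp, Category.assoc]
      erw [Iso.hom_inv_id_assoc]
      rw [(pointSC hP L).zero]
      show (stalkAb P).map (0 : (pointSC hP L).X₁ ⟶ _) b = 0
      rw [Functor.map_zero]
      rfl
  refine (Curve17.isClosedImmersion_iff_sep (n := n) (X ↘ Spec (CommRingCat.of k)) r hr).2
    (fun P Q hP hQ hne => Or.inl ?_) (fun P hP => ?_)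
  · -- separation of points
    obtain ⟨hG, hm, hs, hd⟩ := hI P hP
    obtain ⟨e⟩ := nonempty_stalk_equiv hL1 Q
    have hsurj : Function.Surjective (stalkLin (pointIncl hP L) Q) := fun y => by
      obtain ⟨b, hb⟩ := (exact_iff_stalk_eq_zero (pointSC hP L)).1 (twistSES hL _).exact Q
        (stalkLin (tensorLUnit L).inv Q y) (((suppIn_quotMod_point hP).tensor L).zero Q (by simpa using hne.symm) _)
      refine ⟨b, ?_⟩
      rw [stalkLin_comp]
      refine (congrArg (stalkLin (tensorLUnit L).hom Q) hb).trans ?_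
      rw [← stalkLin_comp, Iso.inv_hom_id]
      show (stalkAb Q).map (𝟙 L) y = y
      rw [CategoryTheory.Functor.map_id]
      rfl
    let φ : (pointSC hP L).X₁.presheaf.stalk Q →ₗ[X.presheaf.stalk Q]
        X.presheaf.stalk Q ⧸ maximalIdeal (X.presheaf.stalk Q) :=
      ((Submodule.mkQ (maximalIdeal (X.presheaf.stalk Q))).comp ((LinearMap.proj 0).comp e.toLinearMap)).comp
        (stalkLin (pointIncl hP L) Q)
    have hφ : φ ≠ 0 := fun h => by
      obtain ⟨a, ha⟩ := hsurj (e.symm 1)
      have := LinearMap.congr_fun h a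
      simp only [φ, LinearMap.comp_apply, ha, LinearEquiv.coe_coe, LinearEquiv.apply_symm_apply,
        LinearMap.proj_apply, Pi.one_apply, LinearMap.zero_apply] at this
      exact one_notMem' ((Submodule.Quotient.mk_eq_zero _).1 this)
    obtain ⟨t, ht⟩ := exists_sec_apply_ne_zero hdim hL hdeg hG (pointIncl hP L) hs hd hQ φ hφ
    obtain ⟨c, hcP, hcv⟩ := hc P hP t
    refine ⟨c, hcP, fun hQm => ht ?_⟩
    have h' := (mem_smul_top_congr τ Q _).2 hQm
    rw [hgermv, hcv, ← hgermι] at h'
    have key : ∀ a ∈ maximalIdeal (X.presheaf.stalk Q) • (⊤ : Submodule (X.presheaf.stalk Q) (L.presheaf.stalk Q)),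
        Submodule.mkQ (maximalIdeal (X.presheaf.stalk Q)) (e a 0) = 0 := fun a ha => by
      refine (Submodule.Quotient.mk_eq_zero _).2 ?_
      induction ha using Submodule.smul_induction_on' with
      | smul x hx b _ => rw [map_smul, Pi.smul_apply, smul_eq_mul]; exact Ideal.mul_mem_right _ _ hx
      | add a _ b _ ha hb => rw [map_add, Pi.add_apply]; exact add_mem ha hb
    exact key _ h'
  · -- separation of tangents
    obtain ⟨hG, hm, hs, hd⟩ := hI P hP
    intro a ha
    by_contra hno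
    let m := maximalIdeal (X.presheaf.stalk P)
    let T : Submodule (X.presheaf.stalk P) ((Curve17.pullTwist r).presheaf.stalk P) :=
      Submodule.span (X.presheaf.stalk P)
        {v | ∃ c : Fin (n + 1) → k, v = (Curve17.pullTwist r).presheaf.germ ⊤ P (Opens.mem_top P)
            (Curve17.vSec (X ↘ Spec (CommRingCat.of k)) r c) ∧
          v ∈ m • (⊤ : Submodule (X.presheaf.stalk P) ((Curve17.pullTwist r).presheaf.stalk P))} ⊔
        m ^ 2 • (⊤ : Submodule (X.presheaf.stalk P) ((Curve17.pullTwist r).presheaf.stalk P))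
    have haT : a ∉ T := hno
    let ιP := stalkLin (pointIncl hP L) P
    let T' : Submodule (X.presheaf.stalk P) ((pointSC hP L).X₁.presheaf.stalk P) :=
      T.comap ((stalkLin τ.inv P).comp ιP)
    obtain ⟨b, hb⟩ := (hrange P hP _).1 ((mem_smul_top_congr τ P a).2 ha)
    have hinv : stalkLin τ.inv P (stalkLin τ.hom P a) = a := by
      rw [← stalkLin_comp, τ.hom_inv_id]
      show (stalkAb P).map (𝟙 _) a = a
      rw [CategoryTheory.Functor.map_id]
      rfl
    have hbT : Submodule.mkQ T' b ≠ 0 := fun h => by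
      have h' : b ∈ T' := (Submodule.Quotient.mk_eq_zero _).1 h
      change stalkLin τ.inv P (stalkLin (pointIncl hP L) P b) ∈ T at h'
      rw [hb, hinv] at h'
      exact haT h'
    have htor : Module.IsTorsionBySet (X.presheaf.stalk P) ((pointSC hP L).X₁.presheaf.stalk P ⧸ T') (m : Set _) := by
      intro q x
      obtain ⟨z, rfl⟩ := Submodule.mkQ_surjective T' q
      rw [← map_smul]
      refine (Submodule.Quotient.mk_eq_zero _).2 ?_
      show stalkLin τ.inv P (stalkLin (pointIncl hP L) P ((x : X.presheaf.stalk P) • z)) ∈ T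
      rw [map_smul, map_smul]
      refine Submodule.mem_sup_right ?_
      rw [pow_two, Submodule.mul_smul]
      exact Submodule.smul_mem_smul x.2 ((mem_smul_top_congr τ.symm P _).2 ((hrange P hP _).2 ⟨z, rfl⟩))
    letI : Module (X.presheaf.stalk P ⧸ m) ((pointSC hP L).X₁.presheaf.stalk P ⧸ T') := htor.module
    haveI : IsScalarTower (X.presheaf.stalk P) (X.presheaf.stalk P ⧸ m)
        ((pointSC hP L).X₁.presheaf.stalk P ⧸ T') := htor.isScalarTower
    letI : Field (X.presheaf.stalk P ⧸ m) := Ideal.Quotient.field m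
    obtain ⟨d, hdb⟩ := Module.Projective.exists_dual_ne_zero (X.presheaf.stalk P ⧸ m) hbT
    let φ := (d.restrictScalars (X.presheaf.stalk P)).comp T'.mkQ
    obtain ⟨t, ht⟩ := exists_sec_apply_ne_zero hdim hL hdeg hG (pointIncl hP L) hs hd hP φ
      (fun h => hdb (LinearMap.congr_fun h b))
    obtain ⟨c, hcP, hcv⟩ := hc P hP t
    have h2 : T'.mkQ ((pointSC hP L).X₁.presheaf.germ ⊤ P trivial t) = 0 := by
      refine (Submodule.Quotient.mk_eq_zero _).2 ?_
      show stalkLin τ.inv P (stalkLin (pointIncl hP L) P _) ∈ T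
      rw [hgermι, ← hcv, ← hgermv]
      refine Submodule.mem_sup_left (Submodule.subset_span ⟨c, ?_, ?_⟩)
      · rw [← stalkLin_comp, τ.hom_inv_id]
        show (stalkAb P).map (𝟙 _) _ = _
        rw [CategoryTheory.Functor.map_id]
        rfl
      · rw [← stalkLin_comp, τ.hom_inv_id]
        show (stalkAb P).map (𝟙 _) _ ∈ _
        rw [CategoryTheory.Functor.map_id]
        exact hcP
    exact ht (show d (T'.mkQ _) = 0 by rw [h2, map_zero])

/-- Sections generate. -/
theorem spanTop_of_degVA (hdim : topologicalKrullDim X = 1) {L : X.Modules} (hL : PicF.IsInvertible L)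
    (hdeg : DegVA k L) : UVan10.SpanTop L :=
  UVan10.spanTop_of_isGloballyGenerated (CurveH1Min27.globallyGenerated_of_degBig hdim hL
    fun T hT _ hc h1 => le_trans (le_add_of_nonneg_right zero_le_one) (hdeg T hT hc h1))

/-- No `H¹`. -/
theorem subsingleton_h1_of_degVA (hdim : topologicalKrullDim X = 1) {L : X.Modules} (hL : PicF.IsInvertible L)
    (hdeg : DegVA k L) : Subsingleton (Coh.HH X L 1) :=
  subsingleton_h1_of_mono hdim.le hL hdeg
    (CurveCoh17.isCoh_of_ofRank ((M2.isInvertible_iff_isFinLocFreeOfRank_one L).1 hL)) (𝟙 L)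
    (fun η _ y => ⟨y, CurveCoh17.stalkLin_id' η y⟩) (by linarith)

end Groth.Agent.CurveVA1
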