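import Mathlib

/-! Curvilinear finite local algebras over an algebraically closed field. -/

namespace Groth.Agent.Curvilinear

open Polynomial IsLocalRing

universe u

variable {k : Type u} [Field k]

theorem truncPoly_ideal (n : ℕ) (I : Ideal (k[X] ⧸ Ideal.span {(X : k[X]) ^ n})) :
    ∃ j : ℕ, I = Ideal.span {(Ideal.Quotient.mk _ (X : k[X])) ^ j} := by
  have hne : (I.comap (Ideal.Quotient.mk _)) = Ideal.span {Submodule.IsPrincipal.generator (I.comap (Ideal.Quotient.mk (Ideal.span {(X : k[X]) ^ n})))} :=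
    (Ideal.span_singleton_generator _).symm
  set g := Submodule.IsPrincipal.generator (I.comap (Ideal.Quotient.mk (Ideal.span {(X : k[X]) ^ n}))) with hg
  have hX : (X : k[X]) ^ n ∈ Ideal.span {g} := by
    rw [← hne, Ideal.mem_comap, Ideal.Quotient.eq_zero_iff_mem.2 (Ideal.mem_span_singleton_self _)]
    exact I.zero_mem
  obtain ⟨j, -, hj⟩ := (dvd_prime_pow Polynomial.prime_X n).1 (Ideal.mem_span_singleton.1 hX)
  refine ⟨j, ?_⟩
  rw [← map_pow, ← Ideal.map_comap_of_surjective _ Ideal.Quotient.mk_surjective I, hne,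
    Ideal.span_singleton_eq_span_singleton.2 hj, Ideal.map_span, Set.image_singleton]

theorem truncPoly_isLocalRing {n : ℕ} (hn : 0 < n) :
    IsLocalRing (k[X] ⧸ Ideal.span {(X : k[X]) ^ n}) := by
  have hnt : Nontrivial (k[X] ⧸ Ideal.span {(X : k[X]) ^ n}) :=
    Ideal.Quotient.nontrivial_iff.2 fun h => by
      rw [Ideal.span_singleton_eq_top] at h
      exact not_isUnit_X ((isUnit_pow_iff hn.ne').1 h)
  refine IsLocalRing.of_unique_max_ideal ⟨Ideal.span {Ideal.Quotient.mk _ (X : k[X])}, ?_, ?_⟩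
  · obtain ⟨M, hM⟩ := Ideal.exists_maximal (k[X] ⧸ Ideal.span {(X : k[X]) ^ n})
    obtain ⟨j, hj⟩ := truncPoly_ideal n M
    have hle : M ≤ Ideal.span {Ideal.Quotient.mk _ (X : k[X])} := by
      rw [hj, Ideal.span_singleton_le_span_singleton]
      rcases Nat.eq_zero_or_pos j with rfl | hj'
      · exact absurd (by rw [hj, pow_zero, Ideal.span_singleton_one]) hM.ne_top
      · exact dvd_pow_self _ hj'.ne'
    have hne : Ideal.span {Ideal.Quotient.mk (Ideal.span {(X : k[X]) ^ n}) (X : k[X])} ≠ ⊤ := by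
      rw [Ne, Ideal.span_singleton_eq_top]
      intro hu
      have h0 : (Ideal.Quotient.mk (Ideal.span {(X : k[X]) ^ n}) (X : k[X])) ^ n = 0 := by
        rw [← map_pow]
        exact Ideal.Quotient.eq_zero_iff_mem.2 (Ideal.mem_span_singleton_self _)
      exact not_isUnit_zero (h0 ▸ hu.pow n)
    rwa [← hM.eq_of_le hne hle]
  · intro M hM
    obtain ⟨j, hj⟩ := truncPoly_ideal n M
    rcases Nat.eq_zero_or_pos j with rfl | hj'
    · exact absurd (by rw [hj, pow_zero, Ideal.span_singleton_one]) hM.ne_top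
    · have hle : M ≤ Ideal.span {Ideal.Quotient.mk _ (X : k[X])} := by
        rw [hj, Ideal.span_singleton_le_span_singleton]
        exact dvd_pow_self _ hj'.ne'
      refine hM.eq_of_le ?_ hle
      rw [Ne, Ideal.span_singleton_eq_top]
      intro hu
      have h0 : (Ideal.Quotient.mk (Ideal.span {(X : k[X]) ^ n}) (X : k[X])) ^ n = 0 := by
        rw [← map_pow]
        exact Ideal.Quotient.eq_zero_iff_mem.2 (Ideal.mem_span_singleton_self _)
      exact not_isUnit_zero (h0 ▸ hu.pow n)

variable [IsAlgClosed k] {B : Type u} [CommRing B] [IsLocalRing B] [Algebra k B] [Module.Finite k B]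

theorem exists_algEquiv_of_span_singleton (t : B) (ht : maximalIdeal B = Ideal.span {t}) :
    Nonempty (B ≃ₐ[k] (k[X] ⧸ Ideal.span {(X : k[X]) ^ Module.finrank k B})) := by
  have : IsArtinianRing B := IsArtinianRing.of_finite k B
  obtain ⟨N, hN⟩ := IsArtinianRing.isNilpotent_jacobson_bot (R := B)
  rw [IsLocalRing.jacobson_eq_maximalIdeal ⊥ bot_ne_top, ht, Ideal.span_singleton_pow,
    Ideal.zero_eq_bot, Ideal.span_singleton_eq_bot] at hN
  have hbij : Function.Bijective (algebraMap k (ResidueField B)) :=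
    IsAlgClosed.algebraMap_bijective_of_isIntegral
  have hdec : ∀ j (b : B), ∃ p : k[X], ∃ c : B, b = aeval t p + t ^ j * c := by
    intro j
    induction j with
    | zero => exact fun b => ⟨0, b, by simp⟩
    | succ j ih =>
      intro b
      obtain ⟨p, c, hc⟩ := ih b
      obtain ⟨a, ha⟩ := hbij.2 (residue B c)
      have hm : c - algebraMap k B a ∈ maximalIdeal B := by
        rw [← residue_eq_zero_iff, map_sub, sub_eq_zero, ← ha]
        rfl
      rw [ht, Ideal.mem_span_singleton] at hm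
      obtain ⟨d, hd⟩ := hm
      refine ⟨p + C a * X ^ j, d, ?_⟩
      rw [map_add, map_mul, aeval_C, map_pow, aeval_X, hc, pow_succ, eq_add_of_sub_eq hd]
      ring
  have hsurj : Function.Surjective (aeval t : k[X] →ₐ[k] B) := fun b => by
    obtain ⟨p, c, hc⟩ := hdec N b
    exact ⟨p, by rw [hc, hN, zero_mul, add_zero]⟩
  set K : Ideal k[X] := RingHom.ker (aeval t : k[X] →ₐ[k] B) with hKdef
  have hXN : (X : k[X]) ^ N ∈ K := by
    show aeval t ((X : k[X]) ^ N) = 0
    rw [map_pow, aeval_X, hN]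
  have hK : K = Ideal.span {Submodule.IsPrincipal.generator K} := (Ideal.span_singleton_generator K).symm
  obtain ⟨j, -, hj⟩ := (dvd_prime_pow Polynomial.prime_X N).1 (Ideal.mem_span_singleton.1 (hK ▸ hXN))
  rw [Ideal.span_singleton_eq_span_singleton.2 hj] at hK
  let e : (k[X] ⧸ Ideal.span {(X : k[X]) ^ j}) ≃ₐ[k] B :=
    (Ideal.quotientEquivAlgOfEq k hK.symm).trans (Ideal.quotientKerAlgEquivOfSurjective hsurj)
  have hj' : Module.finrank k B = j := by
    rw [← e.toLinearEquiv.finrank_eq, finrank_quotient_span_eq_natDegree, natDegree_X_pow]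
  exact ⟨e.symm.trans (Ideal.quotientEquivAlgOfEq k (by rw [hj']))⟩

end Groth.Agent.Curvilinear
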