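import Groth.Agent.S7652
import Groth.Agent.Lib.NormRed18.Branch
import Groth.Prelude.Def_Brnch
import Mathlib.RingTheory.QuasiFinite.Basic
import Mathlib.LinearAlgebra.FreeModule.Finite.Matrix
import Mathlib.FieldTheory.PurelyInseparable.Basic
import Mathlib.RingTheory.DiscreteValuationRing.TFAE

/-! Strictly henselian curve singularities with delta equal to branches minus one are wedges. -/

set_option autoImplicit false
universe u

namespace Groth.Agent.WedgeDVR3

/-- For a reduced ring the normalization in `CAlg2` is the integral closure in the total fraction ring. -/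
theorem exists_normRedEquiv (A : Type u) [CommRing A] [IsReduced A] :
    ∃ ε : ↥(integralClosure A (FractionRing A)) ≃+* CAlg2.normRed A,
      ∀ a, ε (algebraMap A _ a) = algebraMap _ _ (Ideal.Quotient.mk (nilradical A) a) := by
  let B := integralClosure A (FractionRing A)
  have hred : nilradical A = ⊥ := nilradical_eq_zero A
  let r : A ≃+* CAlg2.red A := (RingEquiv.quotientBot A).symm.trans (Ideal.quotEquivOfEq hred.symm)
  have hr : ∀ a, r a = Ideal.Quotient.mk (nilradical A) a := fun a => rfl
  let e : FractionRing A ≃+* FractionRing (CAlg2.red A) :=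
    IsFractionRing.ringEquivOfRingEquiv r
  have he : ∀ a, e (algebraMap A _ a) = algebraMap _ _ (Ideal.Quotient.mk (nilradical A) a) := fun a =>
    (IsFractionRing.ringEquivOfRingEquiv_algebraMap r a).trans (congrArg _ (hr a))
  have hcomp : e.toRingHom.comp (algebraMap A (FractionRing A)) =
      (algebraMap (CAlg2.red A) (FractionRing (CAlg2.red A))).comp (Ideal.Quotient.mk (nilradical A)) :=
    RingHom.ext he
  have hmem : ∀ b : FractionRing A, IsIntegral A b ↔ IsIntegral (CAlg2.red A) (e b) := by
    intro b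
    constructor
    · rintro ⟨p, hp, hpb⟩
      refine ⟨p.map (Ideal.Quotient.mk (nilradical A)), hp.map _, ?_⟩
      rw [Polynomial.eval₂_map, ← hcomp, show e b = e.toRingHom b from rfl, ← Polynomial.hom_eval₂, hpb, map_zero]
    · rintro ⟨p, hp, hpb⟩
      refine ⟨p.map r.symm.toRingHom, hp.map _, e.injective ?_⟩
      rw [map_zero, Polynomial.eval₂_map]
      show e.toRingHom _ = 0
      rw [Polynomial.hom_eval₂, ← RingHom.comp_assoc, hcomp,
        show ((algebraMap (CAlg2.red A) (FractionRing (CAlg2.red A))).comp (Ideal.Quotient.mk (nilradical A))).comp r.symm.toRingHom =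
          algebraMap _ _ from RingHom.ext fun x => congrArg (algebraMap _ _) (r.apply_symm_apply x)]
      exact hpb
  let ε : B ≃+* CAlg2.normRed A := RingEquiv.ofRingHom
    ((e.toRingHom.comp (Subalgebra.val B).toRingHom).codRestrict (integralClosure (CAlg2.red A) (FractionRing (CAlg2.red A))) fun b => (hmem b).1 b.2)
    ((e.symm.toRingHom.comp (Subalgebra.val _).toRingHom).codRestrict B fun c => (hmem (e.symm c.1)).2 (by rw [e.apply_symm_apply]; exact c.2))
    (RingHom.ext fun c => Subtype.ext (e.apply_symm_apply c.1)) (RingHom.ext fun b => Subtype.ext (e.symm_apply_apply b.1))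
  have hε : ∀ a, ε (algebraMap A B a) = algebraMap _ _ (Ideal.Quotient.mk (nilradical A) a) := fun a => Subtype.ext (he a)
  exact ⟨ε, hε⟩

theorem numBranches_eq_card (A : Type u) [CommRing A] [IsLocalRing A] [IsNoetherianRing A] [IsReduced A] :
    Brnch.numBranches A = ENat.card (MaximalSpectrum ↥(integralClosure A (FractionRing A))) := by
  obtain ⟨ε, -⟩ := exists_normRedEquiv A
  unfold Brnch.numBranches
  rw [if_pos (minimalPrimes.finite_of_isNoetherianRing A)]
  exact ENat.card_congr
    { toFun := fun m => ⟨m.asIdeal.comap ε.toRingHom, Ideal.comap_isMaximal_of_surjective _ ε.surjective⟩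
      invFun := fun M => ⟨M.asIdeal.map ε.toRingHom, Ideal.map_isMaximal_of_equiv ε⟩
      left_inv := fun m => MaximalSpectrum.ext (Ideal.map_comap_of_surjective _ ε.surjective _)
      right_inv := fun M => MaximalSpectrum.ext (Ideal.comap_map_of_bijective _ ε.bijective) }

set_option maxHeartbeats 1600000 in
set_option synthInstance.maxHeartbeats 200000 in
theorem wedge' (A : Type u) [CommRing A] [IsLocalRing A]
    [IsReduced A] (hN : CAlg.IsNagata A) (hdim : ringKrullDim A = 1)
    (hle : Curv2.deltaInv A + 1 ≤ ENat.card (MaximalSpectrum ↥(integralClosure A (FractionRing A)))) :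
    (∀ M : MaximalSpectrum (integralClosure A (FractionRing A)),
      Function.Surjective ((Ideal.Quotient.mk M.asIdeal).comp (algebraMap A (integralClosure A (FractionRing A))))) ∧
    ∀ a' : integralClosure A (FractionRing A),
      (∃ a : A, ∀ M : MaximalSpectrum (integralClosure A (FractionRing A)), a' - algebraMap A _ a ∈ M.asIdeal) →
      a' ∈ (algebraMap A (integralClosure A (FractionRing A))).range := by
  classical
  haveI : IsNoetherianRing A := hN.1
  have hfin := (Groth.Agent.S7652.result A hN hdim).1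
  let B := integralClosure A (FractionRing A)
  haveI : Module.Finite A B := hfin
  haveI : Algebra.IsIntegral A B := inferInstance
  obtain ⟨ε, hε⟩ := exists_normRedEquiv A
  have hfinM : Finite (MaximalSpectrum B) := by
    haveI : Algebra.QuasiFinite A B := inferInstance
    have h := Algebra.QuasiFinite.finite_primesOver (S := B) (IsLocalRing.maximalIdeal A)
    haveI := h.to_subtype
    exact Finite.of_injective (fun M => (⟨M.asIdeal, M.isMaximal.isPrime,
      ⟨(IsLocalRing.eq_maximalIdeal (Ideal.isMaximal_comap_of_isIntegral_of_isMaximal M.asIdeal)).symm⟩⟩ :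
        (IsLocalRing.maximalIdeal A).primesOver B)) fun M N h => MaximalSpectrum.ext (congrArg Subtype.val h)
  haveI : Fintype (MaximalSpectrum B) := Fintype.ofFinite _
  let κ := IsLocalRing.ResidueField A
  have hlie : ∀ (M : MaximalSpectrum B), IsLocalRing.maximalIdeal A ≤
      RingHom.ker ((Ideal.Quotient.mk M.asIdeal).comp (algebraMap A B)) := fun M a ha => by
    rw [RingHom.mem_ker, RingHom.comp_apply, Ideal.Quotient.eq_zero_iff_mem]
    rw [← IsLocalRing.eq_maximalIdeal (Ideal.isMaximal_comap_of_isIntegral_of_isMaximal (R := A) M.asIdeal)] at ha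
    exact ha
  letI alg : ∀ M : MaximalSpectrum B, Algebra κ (B ⧸ M.asIdeal) := fun M =>
    RingHom.toAlgebra (R := κ) (S := B ⧸ M.asIdeal)
      (Ideal.Quotient.lift (IsLocalRing.maximalIdeal A) ((Ideal.Quotient.mk M.asIdeal).comp (algebraMap A B)) (fun a ha => RingHom.mem_ker.1 (hlie M ha)))
  haveI tow : ∀ M : MaximalSpectrum B, IsScalarTower A κ (B ⧸ M.asIdeal) := fun M =>
    IsScalarTower.of_algebraMap_eq fun a => rfl
  haveI hfd : ∀ M : MaximalSpectrum B, FiniteDimensional κ (B ⧸ M.asIdeal) := fun M =>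
    Module.Finite.of_restrictScalars_finite A κ _
  have hlen : ∀ M : MaximalSpectrum B, Module.length A (B ⧸ M.asIdeal) = Module.finrank κ (B ⧸ M.asIdeal) := fun M => by
    rw [Module.length_eq_of_surjective (S := A) (R := κ) (M := B ⧸ M.asIdeal) IsLocalRing.residue_surjective,
      Module.length_eq_finrank]
  let Ψ : B →ₗ[A] ∀ M : MaximalSpectrum B, B ⧸ M.asIdeal := LinearMap.pi fun M => (Ideal.Quotient.mkₐ A M.asIdeal).toLinearMap
  have hΨ : Function.Surjective Ψ := by
    intro y
    obtain ⟨b, hb⟩ := Ideal.pi_quotient_surjective (I := fun M : MaximalSpectrum B => M.asIdeal)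
      (fun M N hne => Ideal.isCoprime_of_isMaximal fun h => hne (MaximalSpectrum.ext h)) y
    exact ⟨b, funext hb⟩
  let N : Submodule A (∀ M : MaximalSpectrum B, B ⧸ M.asIdeal) := LinearMap.range (Ψ ∘ₗ Algebra.linearMap A B)
  let q := Submodule.mapQ (LinearMap.range (Algebra.linearMap A B)) N Ψ (by rintro _ ⟨a, rfl⟩; exact ⟨a, rfl⟩)
  have hq : Function.Surjective q := by
    intro z
    obtain ⟨z, rfl⟩ := Submodule.Quotient.mk_surjective _ z
    obtain ⟨b, rfl⟩ := hΨ z
    exact ⟨Submodule.Quotient.mk b, rfl⟩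
  have hN1 : Module.length A N ≤ 1 := by
    let φ : A →ₗ[A] N := (Ψ ∘ₗ Algebra.linearMap A B).rangeRestrict
    letI : AddCommGroup N := Submodule.addCommGroup N
    let f := Submodule.liftQ (M₂ := N) (IsLocalRing.maximalIdeal A) φ
      (fun a ha => LinearMap.mem_ker.2 (Subtype.ext (funext fun M => RingHom.mem_ker.1 (hlie M ha))))
    refine le_trans (Module.length_le_of_surjective f fun z => ?_) ?_
    · obtain ⟨a, ha⟩ := (Ψ ∘ₗ Algebra.linearMap A B).surjective_rangeRestrict z
      exact ⟨Submodule.Quotient.mk a, ha⟩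
    · haveI : IsSimpleModule A (A ⧸ IsLocalRing.maximalIdeal A) :=
        isSimpleModule_iff_isCoatom.2 (IsLocalRing.maximalIdeal.isMaximal A).out
      rw [Module.length_eq_one]
  have hsum : (∑ M : MaximalSpectrum B, (Module.finrank κ (B ⧸ M.asIdeal) : ℕ∞)) ≤
      Module.length A ((∀ M : MaximalSpectrum B, B ⧸ M.asIdeal) ⧸ N) + 1 := by
    letI : AddCommGroup N := Submodule.addCommGroup N
    rw [← Finset.sum_congr rfl (fun M _ => hlen M), ← Module.length_pi_of_fintype,
      Module.length_eq_add_of_exact N.subtype N.mkQ N.injective_subtype N.mkQ_surjective (LinearMap.exact_subtype_mkQ N), add_comm]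
    exact add_le_add le_rfl hN1
  have hone : ∀ M : MaximalSpectrum B, 1 ≤ Module.finrank κ (B ⧸ M.asIdeal) := fun M =>
    haveI : Nontrivial (B ⧸ M.asIdeal) := Ideal.Quotient.nontrivial_iff.2 M.isMaximal.ne_top
    Module.finrank_pos
  have hqle : Module.length A ((∀ M : MaximalSpectrum B, B ⧸ M.asIdeal) ⧸ N) ≤ Curv2.deltaInv A :=
    Module.length_le_of_surjective q hq
  have hr : (∑ M : MaximalSpectrum B, Module.finrank κ (B ⧸ M.asIdeal)) ≤ Fintype.card (MaximalSpectrum B) := by
    have h := (hsum.trans (add_le_add hqle le_rfl)).trans (hle.trans_eq (ENat.card_eq_coe_fintype_card))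
    exact_mod_cast h
  have hd : ∀ M : MaximalSpectrum B, Module.finrank κ (B ⧸ M.asIdeal) = 1 := by
    intro M
    by_contra hne
    have hlt : (∑ _M : MaximalSpectrum B, 1) < ∑ M : MaximalSpectrum B, Module.finrank κ (B ⧸ M.asIdeal) :=
      Finset.sum_lt_sum (fun M _ => hone M) ⟨M, Finset.mem_univ M, lt_of_le_of_ne (hone M) (Ne.symm hne)⟩
    simp at hlt
    omega
  refine ⟨fun M => ?_, fun a' ⟨a, ha⟩ => ?_⟩
  · intro y
    obtain ⟨c, hc⟩ := exists_smul_eq_of_finrank_eq_one (hd M) one_ne_zero y
    obtain ⟨a, rfl⟩ := IsLocalRing.residue_surjective c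
    refine ⟨a, ?_⟩
    rw [← hc, Algebra.smul_def, mul_one]
    rfl
  · by_contra hnot
    let z : B ⧸ LinearMap.range (Algebra.linearMap A B) := Submodule.Quotient.mk (a' - algebraMap A B a)
    have hz : z ≠ 0 := fun h => hnot (by
      obtain ⟨c, hc⟩ := (Submodule.Quotient.mk_eq_zero _).1 h
      exact ⟨c + a, by rw [map_add]; exact eq_sub_iff_add_eq.1 hc⟩)
    have hqz : q z = 0 := by
      show Submodule.Quotient.mk (Ψ (a' - algebraMap A B a)) = 0
      rw [show Ψ (a' - algebraMap A B a) = 0 from funext fun M => Ideal.Quotient.eq_zero_iff_mem.2 (ha M)]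
      rfl
    haveI : Nontrivial (LinearMap.ker q) := ⟨⟨⟨z, hqz⟩, 0, fun h => hz (congrArg Subtype.val h)⟩⟩
    have hdelta : Curv2.deltaInv A =
        Module.length A (LinearMap.ker q) + Module.length A ((∀ M : MaximalSpectrum B, B ⧸ M.asIdeal) ⧸ N) :=
      Module.length_eq_add_of_exact (LinearMap.ker q).subtype q (LinearMap.ker q).injective_subtype hq
        (LinearMap.exact_subtype_ker_map q)
    have hker : 1 ≤ Module.length A (LinearMap.ker q) := Order.one_le_iff_pos.2 Module.length_pos
    have h1 : (Fintype.card (MaximalSpectrum B) : ℕ∞) ≤ Module.length A ((∀ M : MaximalSpectrum B, B ⧸ M.asIdeal) ⧸ N) + 1 :=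
      le_trans (by
        rw [Fintype.card, Finset.card_eq_sum_ones, Nat.cast_sum]
        exact Finset.sum_le_sum fun M _ => by exact_mod_cast hone M) hsum
    have h2 : Curv2.deltaInv A + 1 ≤ Curv2.deltaInv A := by
      refine ((hle.trans_eq (ENat.card_eq_coe_fintype_card)).trans h1).trans ?_
      rw [hdelta, add_comm]
      exact add_le_add hker le_rfl
    exact absurd h2 (not_le.2 (ENat.lt_add_one_iff (ne_top_of_lt (Groth.Agent.S7652.result A hN hdim).2.2) |>.2 le_rfl))

set_option maxHeartbeats 1600000 in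
set_option synthInstance.maxHeartbeats 200000 in
theorem wedge (A : Type u) [CommRing A] [IsLocalRing A]
    [IsSepClosed (IsLocalRing.ResidueField A)] [IsReduced A] (hN : CAlg.IsNagata A) (hdim : ringKrullDim A = 1)
    (heq : Curv2.deltaInv A + 1 = Brnch.numGeomBranches A) :
    (∀ M : MaximalSpectrum (integralClosure A (FractionRing A)),
      Function.Surjective ((Ideal.Quotient.mk M.asIdeal).comp (algebraMap A (integralClosure A (FractionRing A))))) ∧
    ∀ a' : integralClosure A (FractionRing A),
      (∃ a : A, ∀ M : MaximalSpectrum (integralClosure A (FractionRing A)), a' - algebraMap A _ a ∈ M.asIdeal) →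
      a' ∈ (algebraMap A (integralClosure A (FractionRing A))).range := by
  classical
  haveI : IsNoetherianRing A := hN.1
  have hfin := (Groth.Agent.S7652.result A hN hdim).1
  let B := integralClosure A (FractionRing A)
  haveI : Module.Finite A B := hfin
  haveI : Algebra.IsIntegral A B := inferInstance
  obtain ⟨ε, hε⟩ := exists_normRedEquiv A
  have hfinM : Finite (MaximalSpectrum B) := by
    haveI : Algebra.QuasiFinite A B := inferInstance
    have h := Algebra.QuasiFinite.finite_primesOver (S := B) (IsLocalRing.maximalIdeal A)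
    haveI := h.to_subtype
    exact Finite.of_injective (fun M => (⟨M.asIdeal, M.isMaximal.isPrime,
      ⟨(IsLocalRing.eq_maximalIdeal (Ideal.isMaximal_comap_of_isIntegral_of_isMaximal M.asIdeal)).symm⟩⟩ :
        (IsLocalRing.maximalIdeal A).primesOver B)) fun M N h => MaximalSpectrum.ext (congrArg Subtype.val h)
  haveI : Fintype (MaximalSpectrum B) := Fintype.ofFinite _
  let κ := IsLocalRing.ResidueField A
  have hlie : ∀ (M : MaximalSpectrum B), IsLocalRing.maximalIdeal A ≤
      RingHom.ker ((Ideal.Quotient.mk M.asIdeal).comp (algebraMap A B)) := fun M a ha => by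
    rw [RingHom.mem_ker, RingHom.comp_apply, Ideal.Quotient.eq_zero_iff_mem]
    rw [← IsLocalRing.eq_maximalIdeal (Ideal.isMaximal_comap_of_isIntegral_of_isMaximal (R := A) M.asIdeal)] at ha
    exact ha
  letI alg : ∀ M : MaximalSpectrum B, Algebra κ (B ⧸ M.asIdeal) := fun M =>
    RingHom.toAlgebra (R := κ) (S := B ⧸ M.asIdeal)
      (Ideal.Quotient.lift (IsLocalRing.maximalIdeal A) ((Ideal.Quotient.mk M.asIdeal).comp (algebraMap A B)) (fun a ha => RingHom.mem_ker.1 (hlie M ha)))
  haveI tow : ∀ M : MaximalSpectrum B, IsScalarTower A κ (B ⧸ M.asIdeal) := fun M =>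
    IsScalarTower.of_algebraMap_eq fun a => rfl
  haveI hfd : ∀ M : MaximalSpectrum B, FiniteDimensional κ (B ⧸ M.asIdeal) := fun M =>
    Module.Finite.of_restrictScalars_finite A κ _
  have hbr : Brnch.numGeomBranches A ≤ (Fintype.card (MaximalSpectrum B) : ℕ∞) := by
    unfold Brnch.numGeomBranches
    rw [if_pos (minimalPrimes.finite_of_isNoetherianRing A)]
    let Ω := AlgebraicClosure κ
    letI : Algebra κ Ω := AlgebraicClosure.instAlgebra κ
    haveI : ∀ M : MaximalSpectrum B, IsDomain (B ⧸ M.asIdeal) := fun M => inferInstance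
    let χ : ∀ M : MaximalSpectrum B, B ⧸ M.asIdeal ≃+* CAlg2.normRed A ⧸ M.asIdeal.map ε.toRingHom := fun M =>
      Ideal.quotientEquiv _ _ ε rfl
    let eM : MaximalSpectrum (CAlg2.normRed A) ≃ MaximalSpectrum B :=
      { toFun := fun m => ⟨m.asIdeal.comap ε.toRingHom, Ideal.comap_isMaximal_of_surjective _ ε.surjective⟩
        invFun := fun M => ⟨M.asIdeal.map ε.toRingHom, Ideal.map_isMaximal_of_equiv ε⟩
        left_inv := fun m => MaximalSpectrum.ext (Ideal.map_comap_of_surjective _ ε.surjective _)
        right_inv := fun M => MaximalSpectrum.ext (Ideal.comap_map_of_bijective _ ε.bijective) }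
    have hcard : ∀ M : MaximalSpectrum B, ENat.card (Brnch.Emb A (eM.symm M)) ≤ (1 : ℕ∞) := by
      intro M
      let τ : Brnch.Emb A (eM.symm M) → ((B ⧸ M.asIdeal) →ₐ[κ] Ω) := fun σ =>
        { toRingHom := σ.1.comp (χ M).toRingHom
          commutes' := fun z => by
            obtain ⟨a, rfl⟩ := Ideal.Quotient.mk_surjective z
            have h : σ.1 ((χ M) (Ideal.Quotient.mk M.asIdeal (algebraMap A B a))) = Brnch.toClosure A a := by
              rw [show (χ M) (Ideal.Quotient.mk M.asIdeal (algebraMap A B a)) = Brnch.toResidue A (eM.symm M) a from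
                (Ideal.quotientEquiv_mk _ _ ε rfl _).trans (congrArg (Ideal.Quotient.mk _) (hε a))]
              exact RingHom.congr_fun σ.2 a
            exact h }
      have hτ : Function.Injective τ := fun σ σ' h => Subtype.ext (RingHom.ext fun z => by
        obtain ⟨w, rfl⟩ := (χ M).surjective z
        exact DFunLike.congr_fun h w)
      haveI : Algebra.IsAlgebraic κ (B ⧸ M.asIdeal) := Algebra.IsAlgebraic.of_finite _ _
      letI : Field (B ⧸ M.asIdeal) := Ideal.Quotient.field M.asIdeal
      haveI : IsPurelyInseparable κ (B ⧸ M.asIdeal) := inferInstance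
      rw [ENat.card_le_one_iff_subsingleton]
      exact ⟨fun σ σ' => hτ (Subsingleton.elim _ _)⟩
    rw [ENat.card_congr (Equiv.sigmaCongrLeft eM.symm).symm, Groth.Agent.NormRed18.enat_card_sigma, tsum_fintype]
    refine (Finset.sum_le_sum fun M _ => hcard M).trans (le_of_eq ?_)
    simp
  exact wedge' A hN hdim ((heq.le.trans hbr).trans_eq (ENat.card_eq_coe_fintype_card).symm)

theorem dvr (A : Type u) [CommRing A] [IsLocalRing A]
    [IsReduced A] (hN : CAlg.IsNagata A) (hdim : ringKrullDim A = 1)
    (M : MaximalSpectrum (integralClosure A (FractionRing A))) :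
    ∃ _ : IsDomain (Localization.AtPrime M.asIdeal), IsDiscreteValuationRing (Localization.AtPrime M.asIdeal) := by
  haveI : IsNoetherianRing A := hN.1
  obtain ⟨hfin, hp, -⟩ := Groth.Agent.S7652.result A hN hdim
  obtain ⟨hdom, hic⟩ := hp ⟨M.asIdeal, M.isMaximal.isPrime⟩
  refine ⟨hdom, ?_⟩
  haveI : IsNoetherianRing (integralClosure A (FractionRing A)) := IsNoetherianRing.of_finite A _
  haveI : IsNoetherianRing (Localization.AtPrime M.asIdeal) :=
    IsLocalization.isNoetherianRing M.asIdeal.primeCompl _ inferInstance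
  haveI : Algebra.IsIntegral A (integralClosure A (FractionRing A)) := inferInstance
  let g := algebraMap (integralClosure A (FractionRing A)) (Localization.AtPrime M.asIdeal)
  have hM : M.asIdeal.comap (algebraMap A (integralClosure A (FractionRing A))) = IsLocalRing.maximalIdeal A :=
    IsLocalRing.eq_maximalIdeal (Ideal.isMaximal_comap_of_isIntegral_of_isMaximal M.asIdeal)
  haveI : Ring.KrullDimLE 1 A := Ring.krullDimLE_iff.mpr hdim.le
  -- a non-zero-divisor of the maximal ideal stays non-zero
  have hnz : ∀ a ∈ nonZeroDivisors A, g (algebraMap A _ a) ≠ 0 := by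
    intro a ha h0
    obtain ⟨s, hs⟩ := (IsLocalization.map_eq_zero_iff M.asIdeal.primeCompl _ _).1 h0
    refine s.2 ?_
    have h := congrArg Subtype.val hs
    simp only [MulMemClass.coe_mul, ZeroMemClass.coe_zero, Subalgebra.coe_algebraMap] at h
    have hu : IsUnit (algebraMap A (FractionRing A) a) := IsLocalization.map_units _ ⟨a, ha⟩
    rw [show (s : integralClosure A (FractionRing A)) = 0 from Subtype.ext (hu.mul_left_eq_zero.1 h)]
    exact zero_mem _
  obtain ⟨a, ham, ha⟩ : ∃ a ∈ IsLocalRing.maximalIdeal A, a ∈ nonZeroDivisors A := by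
    by_contra hno
    push Not at hno
    have hsub : (IsLocalRing.maximalIdeal A : Set A) ⊆ ⋃ p ∈ minimalPrimes A, (p : Set A) := fun a ha => by
      by_contra h
      refine hno a ha (mem_nonZeroDivisors_iff_right.2 fun b hb => ?_)
      refine IsReduced.eq_zero b (nilpotent_iff_mem_prime.2 fun P hP => ?_)
      obtain ⟨p, hp, hpP⟩ := Ideal.exists_minimalPrimes_le (bot_le : ⊥ ≤ P)
      have hmem : b * a ∈ p := by rw [hb]; exact zero_mem _
      exact hpP ((hp.1.1.mem_or_mem hmem).resolve_right fun h' => h (Set.mem_biUnion hp h'))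
    have hfinm := minimalPrimes.finite_of_isNoetherianRing A
    obtain ⟨p, hp, hle⟩ := (Ideal.subset_union_prime_finite hfinm ⊥ ⊥ (fun p hp _ _ => hp.1.1)).1 hsub
    have hpm : p = IsLocalRing.maximalIdeal A :=
      le_antisymm (IsLocalRing.le_maximalIdeal hp.1.1.ne_top) hle
    have h0 : ringKrullDim A = 0 := by
      haveI := hp.1.1
      rw [← IsLocalRing.maximalIdeal_height_eq_ringKrullDim, ← hpm,
        (Ideal.height_eq_zero_iff (I := p)).2 hp]
      rfl
    rw [hdim] at h0
    exact one_ne_zero h0
  have hnf : ¬ IsField (Localization.AtPrime M.asIdeal) := fun hf => by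
    have hmem : g (algebraMap A _ a) ∈ IsLocalRing.maximalIdeal (Localization.AtPrime M.asIdeal) := by
      rw [← Localization.AtPrime.map_eq_maximalIdeal]
      exact Ideal.mem_map_of_mem g (show algebraMap A _ a ∈ M.asIdeal from hM.ge ham)
    rw [IsLocalRing.isField_iff_maximalIdeal_eq.1 hf] at hmem
    exact hnz a ha hmem
  refine ((IsDiscreteValuationRing.TFAE (Localization.AtPrime M.asIdeal) hnf).out 3 0).1
    (show IsIntegrallyClosed (Localization.AtPrime M.asIdeal) ∧ ∃! P : Ideal (Localization.AtPrime M.asIdeal), P ≠ ⊥ ∧ P.IsPrime from ?_)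
  refine ⟨hic, IsLocalRing.maximalIdeal _,
    ⟨fun h => hnf (IsLocalRing.isField_iff_maximalIdeal_eq.2 h), inferInstance⟩, fun P hP => ?_⟩
  obtain ⟨hP0, hPp⟩ := hP
  haveI := hPp
  by_contra hne
  have hlt : P.comap g < M.asIdeal := by
    refine lt_of_le_of_ne ?_ fun e => hne ?_
    · exact (Ideal.comap_mono (IsLocalRing.le_maximalIdeal hPp.ne_top)).trans_eq
        (IsLocalization.AtPrime.comap_maximalIdeal (Localization.AtPrime M.asIdeal) M.asIdeal)
    · rw [← IsLocalization.map_comap M.asIdeal.primeCompl _ P]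
      show (P.comap g).map g = _
      rw [e, Localization.AtPrime.map_eq_maximalIdeal]
  have hmin : (P.comap g).comap (algebraMap A _) ∈ minimalPrimes A := by
    refine ((Ring.krullDimLE_one_iff.1 inferInstance) _ inferInstance).resolve_right fun hmax => ?_
    exact hlt.ne (Ideal.IsMaximal.eq_of_le (Ideal.isMaximal_of_isIntegral_of_isMaximal_comap (R := A) _ hmax)
      M.isMaximal.ne_top hlt.le)
  obtain ⟨x, hx, hx0⟩ := Submodule.exists_mem_ne_zero_of_ne_bot hP0
  obtain ⟨⟨b, s⟩, hb⟩ := IsLocalization.surj M.asIdeal.primeCompl x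
  have hbP : b ∈ P.comap g := by
    show g b ∈ P
    rw [show g b = x * g s from hb.symm]
    exact P.mul_mem_right _ hx
  have hb0 : b ∉ (⊥ : Ideal (Localization.AtPrime M.asIdeal)).comap g := fun h => hx0 (by
    have h' : x * g s = 0 := hb.trans h
    exact ((IsLocalization.map_units (Localization.AtPrime M.asIdeal) s).mul_left_eq_zero).1 h')
  have hQ := Ideal.comap_lt_comap_of_integral_mem_sdiff (R := A) (I := (⊥ : Ideal (Localization.AtPrime M.asIdeal)).comap g)
    (J := P.comap g) (Ideal.comap_mono bot_le) ⟨hbP, hb0⟩ (Algebra.IsIntegral.isIntegral b)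
  exact hQ.not_ge (hmin.2 ⟨inferInstance, bot_le⟩ hQ.le)

end Groth.Agent.WedgeDVR3
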