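import Groth.Prelude.Def_Curv2
import Mathlib.RingTheory.LocalRing.Length
import Mathlib.RingTheory.Unramified.Field
import Mathlib.RingTheory.DiscreteValuationRing.Basic
import Mathlib.RingTheory.Ideal.KrullsHeightTheorem
import Mathlib.RingTheory.LocalRing.ResidueField.Basic
import Mathlib.LinearAlgebra.TensorProduct.RightExactness
import Groth.Agent.Lib.WedgeDVR3

/-! Base change of the normalization of a one-dimensional reduced local ring along a flat local map
with trivial closed fibre and separable residue extension. -/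

set_option autoImplicit false
universe u

open IsLocalRing
open scoped TensorProduct

namespace Groth.Agent.DeltaBC3

/-- A Noetherian local ring with principal maximal ideal generated by a regular element is a DVR. -/
theorem isDiscreteValuationRing_of_regular {R : Type u} [CommRing R] [IsLocalRing R] [IsNoetherianRing R] (π : R)
    (hπ : maximalIdeal R = Ideal.span {π}) (hreg : IsRegular π) :
    IsDomain R ∧ ∀ [IsDomain R], IsDiscreteValuationRing R := by
  classical
  have hdec : ∀ x : R, x ≠ 0 → ∃ (k : ℕ) (u : Rˣ), x = π ^ k * u := by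
    intro x hx
    have hinf := Ideal.iInf_pow_eq_bot_of_isLocalRing (maximalIdeal R) (maximalIdeal.isMaximal R).ne_top
    have hex : ∃ n, x ∉ maximalIdeal R ^ n := by
      by_contra h
      push Not at h
      exact hx ((Submodule.mem_bot R).1 (hinf ▸ (Submodule.mem_iInf _).2 h))
    obtain ⟨k, hk⟩ : ∃ k, Nat.find hex = k + 1 := Nat.exists_eq_succ_of_ne_zero fun h0 => by
      have := Nat.find_spec hex
      rw [h0, pow_zero, Ideal.one_eq_top] at this
      exact this trivial
    have hk1 : x ∈ maximalIdeal R ^ k := not_not.1 (Nat.find_min hex (by omega))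
    rw [hπ, Ideal.span_singleton_pow, Ideal.mem_span_singleton] at hk1
    obtain ⟨c, hc⟩ := hk1
    have hu : IsUnit c := notMem_maximalIdeal.1 fun hc' => by
      rw [hπ, Ideal.mem_span_singleton] at hc'
      obtain ⟨d, rfl⟩ := hc'
      refine Nat.find_spec hex ?_
      rw [hk, hπ, Ideal.span_singleton_pow, Ideal.mem_span_singleton, hc, ← mul_assoc, ← pow_succ]
      exact dvd_mul_right _ _
    exact ⟨k, hu.unit, hc⟩
  have hdom : IsDomain R := by
    haveI : Nontrivial R := inferInstance
    refine @NoZeroDivisors.to_isDomain R _ _ ⟨fun {a b} hab => ?_⟩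
    by_contra h
    push Not at h
    obtain ⟨i, u, rfl⟩ := hdec a h.1
    obtain ⟨j, v, rfl⟩ := hdec b h.2
    have h0 : π ^ (i + j) * ((u * v : Rˣ) : R) = 0 := by rw [← hab, pow_add, Units.val_mul]; ring
    rw [Units.mul_left_eq_zero] at h0
    exact (hreg.pow (i + j)).ne_zero h0
  refine ⟨hdom, fun {_} => ?_⟩
  refine IsDiscreteValuationRing.ofHasUnitMulPowIrreducibleFactorization ⟨π, ?_, fun {x} hx => ?_⟩
  · have hnu : ¬ IsUnit π := (mem_maximalIdeal π).1 (hπ ▸ Ideal.mem_span_singleton_self π)
    refine ⟨hnu, fun a b hab => ?_⟩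
    by_contra h
    push Not at h
    have ha : a ∈ maximalIdeal R := (mem_maximalIdeal a).2 h.1
    have hb : b ∈ maximalIdeal R := (mem_maximalIdeal b).2 h.2
    rw [hπ, Ideal.mem_span_singleton] at ha hb
    obtain ⟨a', rfl⟩ := ha
    obtain ⟨b', rfl⟩ := hb
    refine hnu (IsUnit.of_mul_eq_one (a' * b') ?_)
    exact mul_left_cancel₀ hreg.ne_zero (by linear_combination -hab)
  · obtain ⟨k, u, rfl⟩ := hdec x hx
    exact ⟨k, u, rfl⟩

theorem isReduced_sep_tensor (κ κB : Type u) [Field κ] [Field κB] [Algebra κ κB] [Algebra.IsSeparable κ κB]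
    (κ' : Type u) [Field κ'] [Algebra κ κ'] : IsReduced (κB ⊗[κ] κ') := by
  haveI : IsReduced (κ' ⊗[κ] κB) := by
    refine IsReduced.tensorProduct_of_flat_of_forall_fg fun D hD => ?_
    have hfl : IsField D := Subalgebra.isField_of_algebraic D
    letI : Field D := hfl.toField
    haveI : Algebra.FiniteType κ D := ⟨Subalgebra.fg_top D |>.2 hD⟩
    haveI : Algebra.IsSeparable κ D := Algebra.IsSeparable.of_algHom κ κB D.val
    haveI : Algebra.FormallyUnramified κ D := Algebra.FormallyUnramified.of_isSeparable κ D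
    exact Algebra.FormallyUnramified.isReduced_of_field κ' (κ' ⊗[κ] D)
  exact isReduced_of_injective (Algebra.TensorProduct.comm κ κB κ').toRingHom
    (Algebra.TensorProduct.comm κ κB κ').injective

theorem exists_mul_eq_self {Q : Type u} [CommRing Q] [IsArtinianRing Q] [IsReduced Q] (x : Q) :
    ∃ y, x * (1 - x * y) = 0 := by
  obtain ⟨n, hn⟩ := IsArtinian.monotone_stabilizes (R := Q) (M := Q)
    ⟨fun i => OrderDual.toDual (Ideal.span {x ^ i}), fun i j h =>
      Ideal.span_singleton_le_span_singleton.2 (pow_dvd_pow x h)⟩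
  have h : Ideal.span {x ^ n} = Ideal.span {x ^ (n + 1)} := OrderDual.toDual.injective (hn (n + 1) (Nat.le_succ n))
  obtain ⟨y, hy⟩ := Ideal.mem_span_singleton'.1 (h ▸ Ideal.mem_span_singleton_self (x ^ n))
  have h0 : x ^ n * (1 - x * y) = 0 := by rw [mul_sub, mul_one, ← mul_assoc, ← pow_succ, mul_comm _ y, hy, sub_self]
  exact ⟨y, IsReduced.eq_zero _ ⟨n + 1, by rw [mul_pow, pow_succ x, pow_succ (1 - x * y)]; linear_combination (x * (1 - x * y) ^ n) * h0⟩⟩

section Fibre

variable {A B R : Type u} [CommRing A] [IsLocalRing A] [CommRing B] [IsLocalRing B] [Algebra A B]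
  [IsLocalHom (algebraMap A B)]
  (hmax : (maximalIdeal A).map (algebraMap A B) = maximalIdeal B)
  [CommRing R] [Algebra A R] [Module.Finite A R]

/-- A separable residue extension gives reduced residual fibres over every maximal ideal of `R`. -/
theorem isReduced_sep_quot [Algebra.IsSeparable (ResidueField A) (ResidueField B)] (M' : Ideal R) [M'.IsMaximal] :
    _root_.IsReduced (ResidueField B ⊗[A] (R ⧸ M')) := by
  have hlie : maximalIdeal A ≤ RingHom.ker ((Ideal.Quotient.mk M').comp (algebraMap A R)) := fun a ha => by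
    rw [RingHom.mem_ker, RingHom.comp_apply, Ideal.Quotient.eq_zero_iff_mem]
    rw [← eq_maximalIdeal (Ideal.isMaximal_comap_of_isIntegral_of_isMaximal (R := A) M')] at ha
    exact ha
  letI : Field (R ⧸ M') := Ideal.Quotient.field M'
  letI : Algebra (ResidueField A) (R ⧸ M') :=
    RingHom.toAlgebra (R := ResidueField A) (S := R ⧸ M')
      (Ideal.Quotient.lift (maximalIdeal A) ((Ideal.Quotient.mk M').comp (algebraMap A R)) fun a ha => RingHom.mem_ker.1 (hlie ha))
  haveI : IsScalarTower A (ResidueField A) (R ⧸ M') := IsScalarTower.of_algebraMap_eq fun a => rfl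
  haveI : TensorProduct.CompatibleSMul A (ResidueField A) (ResidueField B) (R ⧸ M') := ⟨fun c m n => by
    obtain ⟨a, rfl⟩ := IsLocalRing.residue_surjective c
    rw [show (residue A a) • m = a • m from (algebraMap_smul (ResidueField A) a m),
      show (residue A a) • n = a • n from (algebraMap_smul (ResidueField A) a n), TensorProduct.smul_tmul]⟩
  let e : ResidueField B ⊗[ResidueField A] (R ⧸ M') ≃ₐ[A] ResidueField B ⊗[A] (R ⧸ M') :=
    Algebra.TensorProduct.equivOfCompatibleSMul A (ResidueField A) A (ResidueField B) (R ⧸ M')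
  haveI : _root_.IsReduced (ResidueField B ⊗[ResidueField A] (R ⧸ M')) := isReduced_sep_tensor _ _ _
  exact isReduced_of_injective e.symm.toAlgHom.toRingHom e.symm.injective

variable (hred : ∀ M' : Ideal R, M'.IsMaximal → _root_.IsReduced (ResidueField B ⊗[A] (R ⧸ M')))

include hmax hred in
/-- Modulo a maximal ideal of `R` below `M`, a prime `M` of `B ⊗ R` is cut out up to a unit. -/
theorem exists_notMem_mul_mem (M : Ideal (B ⊗[A] R)) [M.IsPrime] (M' : Ideal R) [M'.IsMaximal]
    (hM : M.comap (Algebra.TensorProduct.includeRight : R →ₐ[A] B ⊗[A] R) = M') (x : B ⊗[A] R) (hx : x ∈ M) :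
    ∃ u ∉ M, u * x ∈ M'.map (Algebra.TensorProduct.includeRight : R →ₐ[A] B ⊗[A] R) := by
  have hlie : maximalIdeal A ≤ RingHom.ker ((Ideal.Quotient.mk M').comp (algebraMap A R)) := fun a ha => by
    rw [RingHom.mem_ker, RingHom.comp_apply, Ideal.Quotient.eq_zero_iff_mem]
    rw [← eq_maximalIdeal (Ideal.isMaximal_comap_of_isIntegral_of_isMaximal (R := A) M')] at ha
    exact ha
  letI : Field (R ⧸ M') := Ideal.Quotient.field M'
  letI : Algebra (ResidueField A) (R ⧸ M') :=
    RingHom.toAlgebra (R := ResidueField A) (S := R ⧸ M')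
      (Ideal.Quotient.lift (maximalIdeal A) ((Ideal.Quotient.mk M').comp (algebraMap A R)) fun a ha => RingHom.mem_ker.1 (hlie ha))
  haveI : IsScalarTower A (ResidueField A) (R ⧸ M') := IsScalarTower.of_algebraMap_eq fun a => rfl
  haveI : Module.Finite (ResidueField A) (R ⧸ M') := Module.Finite.of_restrictScalars_finite A _ _
  haveI : TensorProduct.CompatibleSMul A (ResidueField A) (ResidueField B) (R ⧸ M') := ⟨fun c m n => by
    obtain ⟨a, rfl⟩ := IsLocalRing.residue_surjective c
    rw [show (residue A a) • m = a • m from (algebraMap_smul (ResidueField A) a m),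
      show (residue A a) • n = a • n from (algebraMap_smul (ResidueField A) a n), TensorProduct.smul_tmul]⟩
  let κB := ResidueField B
  let e : κB ⊗[ResidueField A] (R ⧸ M') ≃ₐ[A] κB ⊗[A] (R ⧸ M') :=
    Algebra.TensorProduct.equivOfCompatibleSMul A (ResidueField A) A κB (R ⧸ M')
  let f : B →ₐ[A] κB := IsScalarTower.toAlgHom A B κB
  have hf : Function.Surjective f := IsLocalRing.residue_surjective
  let Ψ : B ⊗[A] R →ₐ[A] κB ⊗[ResidueField A] (R ⧸ M') :=
    e.symm.toAlgHom.comp (Algebra.TensorProduct.map f (Ideal.Quotient.mkₐ A M'))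
  have hΨs : Function.Surjective Ψ :=
    e.symm.surjective.comp (Algebra.TensorProduct.map_surjective f _ hf (Ideal.Quotient.mkₐ_surjective A M'))
  have hker : RingHom.ker Ψ ≤ M'.map (Algebra.TensorProduct.includeRight : R →ₐ[A] B ⊗[A] R) := by
    intro z hz
    have hz' : z ∈ RingHom.ker (Algebra.TensorProduct.map f (Ideal.Quotient.mkₐ A M')) := by
      rw [RingHom.mem_ker] at hz ⊢
      exact e.symm.injective (hz.trans (map_zero _).symm)
    rw [Algebra.TensorProduct.map_ker f _ hf (Ideal.Quotient.mkₐ_surjective A M')] at hz'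
    refine (sup_le ?_ ?_ : _ ≤ M'.map _) hz'
    · rw [Ideal.map_le_iff_le_comap]
      intro b hb
      have hb' : b ∈ maximalIdeal B := (IsLocalRing.residue_eq_zero_iff b).1 hb
      rw [← hmax] at hb'
      refine (Ideal.map_le_iff_le_comap.2 (fun a ha => ?_) : (maximalIdeal A).map (algebraMap A B) ≤ _) hb'
      show Algebra.TensorProduct.includeLeft (R := A) (S := A) (algebraMap A B a) ∈ M'.map _
      rw [show Algebra.TensorProduct.includeLeft (R := A) (S := A) (A := B) (B := R) (algebraMap A B a) =
        (Algebra.TensorProduct.includeRight : R →ₐ[A] B ⊗[A] R) (algebraMap A R a) by rw [AlgHom.commutes, AlgHom.commutes]]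
      exact Ideal.mem_map_of_mem _ (Ideal.Quotient.eq_zero_iff_mem.1 (RingHom.mem_ker.1 (hlie ha)))
    · rw [show RingHom.ker (Ideal.Quotient.mkₐ A M') = M' from Ideal.Quotient.mkₐ_ker A M']
  haveI := hred M' inferInstance
  haveI : IsReduced (κB ⊗[ResidueField A] (R ⧸ M')) := isReduced_of_injective e.toAlgHom.toRingHom e.injective
  haveI : IsArtinianRing (κB ⊗[ResidueField A] (R ⧸ M')) := IsArtinianRing.of_finite κB _
  obtain ⟨y, hy⟩ := exists_mul_eq_self (Ψ x)
  obtain ⟨w, rfl⟩ := hΨs y
  refine ⟨1 - x * w, fun h => ?_, hker ?_⟩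
  · exact Ideal.IsPrime.ne_top ‹M.IsPrime› ((Ideal.eq_top_iff_one _).2 (by
      simpa using M.add_mem h (M.mul_mem_right w hx)))
  · rw [RingHom.mem_ker, mul_comm, map_mul, map_sub, map_one, map_mul, hy]

include hmax hred in
theorem dvr_localization [IsNoetherianRing A] [IsNoetherianRing B] [Module.Flat A B] {f : A} (hfm : f ∈ maximalIdeal A)
    (hfR : ∀ r : R, f • r = 0 → r = 0)
    (hR : ∀ M' : MaximalSpectrum R, ∃ _ : IsDomain (Localization.AtPrime M'.asIdeal),
      IsDiscreteValuationRing (Localization.AtPrime M'.asIdeal))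
    (M : Ideal (B ⊗[A] R)) [M.IsMaximal] :
    ∃ _ : IsDomain (Localization.AtPrime M), IsDiscreteValuationRing (Localization.AtPrime M) := by
  let ι : R →ₐ[A] B ⊗[A] R := Algebra.TensorProduct.includeRight
  have hMm : M.comap (algebraMap B (B ⊗[A] R)) = maximalIdeal B :=
    eq_maximalIdeal (Ideal.isMaximal_comap_of_isIntegral_of_isMaximal M)
  let M' : Ideal R := M.comap ι
  haveI : M'.IsPrime := Ideal.IsPrime.comap _
  haveI hM'max : M'.IsMaximal := by
    refine Ideal.isMaximal_of_isIntegral_of_isMaximal_comap (R := A) M' ?_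
    have : M'.comap (algebraMap A R) = maximalIdeal A := by
      refine le_antisymm (le_maximalIdeal ((Ideal.IsPrime.comap _).ne_top)) fun a ha => ?_
      show ι (algebraMap A R a) ∈ M
      rw [AlgHom.commutes, IsScalarTower.algebraMap_apply A B (B ⊗[A] R)]
      exact hMm.ge (hmax.le (Ideal.mem_map_of_mem _ ha))
    rw [this]; infer_instance
  obtain ⟨hd, hv⟩ := hR ⟨M', hM'max⟩
  haveI := hd; haveI := hv
  obtain ⟨π, hπ⟩ := IsDiscreteValuationRing.exists_irreducible (Localization.AtPrime M')
  have hπm := hπ.maximalIdeal_eq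
  let φ : Localization.AtPrime M' →+* Localization.AtPrime M := Localization.localRingHom M' M ι.toRingHom rfl
  haveI : IsNoetherianRing (B ⊗[A] R) := IsNoetherianRing.of_finite B _
  haveI : IsNoetherianRing (Localization.AtPrime M) := IsLocalization.isNoetherianRing M.primeCompl _ inferInstance
  let g := algebraMap (B ⊗[A] R) (Localization.AtPrime M)
  have hgen : maximalIdeal (Localization.AtPrime M) = Ideal.span {φ π} := by
    refine le_antisymm ?_ ?_
    · rw [← Localization.AtPrime.map_eq_maximalIdeal, Ideal.map_le_iff_le_comap]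
      intro x hx
      obtain ⟨u, hu, hux⟩ := exists_notMem_mul_mem hmax hred M M' rfl x hx
      have h1 : (M'.map ι).map g ≤ Ideal.span {φ π} := by
        rw [Ideal.map_le_iff_le_comap, Ideal.map_le_iff_le_comap]
        intro r hr
        show g (ι r) ∈ (Ideal.span {φ π} : Ideal (Localization.AtPrime M))
        rw [show g (ι r) = φ (algebraMap R _ r) from (Localization.localRingHom_to_map M' M ι.toRingHom rfl r).symm]
        have : algebraMap R (Localization.AtPrime M') r ∈ maximalIdeal _ := by
          rw [← Localization.AtPrime.map_eq_maximalIdeal]; exact Ideal.mem_map_of_mem _ hr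
        rw [hπm, Ideal.mem_span_singleton] at this
        exact Ideal.mem_span_singleton.2 (map_dvd φ this)
      have h2 := h1 (Ideal.mem_map_of_mem g hux)
      rw [map_mul] at h2
      exact (Ideal.unit_mul_mem_iff_mem _ (IsLocalization.map_units (Localization.AtPrime M) (⟨u, hu⟩ : M.primeCompl))).1 h2
    · rw [Ideal.span_le, Set.singleton_subset_iff]
      haveI : IsLocalHom φ := Localization.isLocalHom_localRingHom M' M _ rfl
      exact map_nonunit φ π hπ.not_isUnit
  have hreg : IsRegular (φ π) := by
    have hfl : IsRegular (g (algebraMap A (B ⊗[A] R) f)) := by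
      refine isLeftRegular_iff_isRegular.1 (isLeftRegular_iff_right_eq_zero_of_mul.2 fun z hz => ?_)
      obtain ⟨⟨b, s⟩, hb⟩ := IsLocalization.surj M.primeCompl z
      have h0 : g (algebraMap A (B ⊗[A] R) f * b) = 0 := by
        rw [map_mul, show g b = z * g s from hb.symm, ← mul_assoc, hz, zero_mul]
      obtain ⟨t, ht⟩ := (IsLocalization.map_eq_zero_iff M.primeCompl _ _).1 h0
      have hinj : Function.Injective ((LinearMap.lsmul A R f).lTensor B) := by
        refine Module.Flat.lTensor_preserves_injective_linearMap _ ((injective_iff_map_eq_zero _).2 fun r hr => hfR r hr)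
      have hfl' : ∀ c : B ⊗[A] R, (LinearMap.lsmul A R f).lTensor B c = f • c := fun c => by
        induction c using TensorProduct.induction_on with
        | zero => simp
        | tmul b r => simp [TensorProduct.tmul_smul]
        | add c c' h h' => rw [map_add, h, h', smul_add]
      have htb : (t : B ⊗[A] R) * b = 0 := hinj (by
        rw [hfl', map_zero, Algebra.smul_def, ← mul_assoc, mul_comm (algebraMap A (B ⊗[A] R) f), mul_assoc]
        exact ht)
      have hz0 : g b = 0 := (IsLocalization.map_eq_zero_iff M.primeCompl _ _).2 ⟨t, htb⟩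
      exact ((IsLocalization.map_units (Localization.AtPrime M) s).mul_left_eq_zero).1 (hb.trans hz0)
    have hfπ : algebraMap R (Localization.AtPrime M') (algebraMap A R f) ∈ maximalIdeal _ := by
      rw [← Localization.AtPrime.map_eq_maximalIdeal]
      refine Ideal.mem_map_of_mem _ ?_
      show ι (algebraMap A R f) ∈ M
      rw [AlgHom.commutes, IsScalarTower.algebraMap_apply A B (B ⊗[A] R)]
      exact hMm.ge (hmax.le (Ideal.mem_map_of_mem _ hfm))
    rw [hπm, Ideal.mem_span_singleton'] at hfπ
    obtain ⟨c, hc⟩ := hfπ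
    have e : g (algebraMap A (B ⊗[A] R) f) = φ c * φ π := by
      rw [← map_mul, hc]
      refine Eq.trans ?_ (Localization.localRingHom_to_map M' M ι.toRingHom rfl _).symm
      exact congrArg g (ι.commutes f).symm
    rw [e] at hfl
    exact (isRegular_mul_iff.1 hfl).2
  obtain ⟨hdom, hdvr⟩ := isDiscreteValuationRing_of_regular (φ π) hgen hreg
  haveI := hdom
  exact ⟨hdom, hdvr⟩

end Fibre

theorem exists_regular_mem (A : Type u) [CommRing A] [IsLocalRing A] [IsNoetherianRing A] [_root_.IsReduced A]
    (hdim : ringKrullDim A = 1) : ∃ a ∈ maximalIdeal A, a ∈ nonZeroDivisors A := by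
  by_contra hno
  push Not at hno
  have hsub : (maximalIdeal A : Set A) ⊆ ⋃ p ∈ minimalPrimes A, (p : Set A) := fun a ha => by
    by_contra h
    refine hno a ha (mem_nonZeroDivisors_iff_right.2 fun b hb => ?_)
    refine IsReduced.eq_zero b (nilpotent_iff_mem_prime.2 fun P hP => ?_)
    obtain ⟨p, hp, hpP⟩ := Ideal.exists_minimalPrimes_le (bot_le : ⊥ ≤ P)
    have hmem : b * a ∈ p := by rw [hb]; exact zero_mem _
    exact hpP ((hp.1.1.mem_or_mem hmem).resolve_right fun h' => h (Set.mem_biUnion hp h'))
  obtain ⟨p, hp, hle⟩ := (Ideal.subset_union_prime_finite (minimalPrimes.finite_of_isNoetherianRing A) ⊥ ⊥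
    (fun p hp _ _ => hp.1.1)).1 hsub
  have hpm : p = maximalIdeal A := le_antisymm (le_maximalIdeal hp.1.1.ne_top) hle
  haveI := hp.1.1
  have h0 : ringKrullDim A = 0 := by
    rw [← maximalIdeal_height_eq_ringKrullDim, ← hpm, (Ideal.height_eq_zero_iff (I := p)).2 hp]
    rfl
  rw [hdim] at h0
  exact one_ne_zero h0

theorem maximalIdeal_le_radical (A : Type u) [CommRing A] [IsLocalRing A] (hdim : ringKrullDim A = 1)
    {f : A} (hf : f ∈ nonZeroDivisors A) : maximalIdeal A ≤ (Ideal.span {f}).radical := by
  haveI : Ring.KrullDimLE 1 A := Ring.krullDimLE_iff.mpr hdim.le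
  rw [Ideal.radical_eq_sInf]
  refine le_sInf fun P hP => ?_
  have hPp := hP.2
  rcases Ring.krullDimLE_one_iff.1 inferInstance P hPp with h | h
  · exact absurd hf (Set.disjoint_left.1 (Ideal.disjoint_nonZeroDivisors_of_mem_minimalPrimes h) (hP.1 (Ideal.mem_span_singleton_self f)))
  · exact (eq_maximalIdeal h).ge

theorem exists_dvd_pow (S : Type u) [CommRing S] [IsLocalRing S] [IsNoetherianRing S] {f : S}
    (hfm : f ∈ maximalIdeal S) (hf : maximalIdeal S ≤ (Ideal.span {f}).radical) {b : S} (hb : b ∈ nonZeroDivisors S) :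
    ∃ n, b ∣ f ^ n := by
  have hmin : maximalIdeal S ∈ (Ideal.span {f}).minimalPrimes :=
    ⟨⟨inferInstance, (Ideal.span_singleton_le_iff_mem _).2 hfm⟩, fun P hP _ => hf.trans (hP.1.radical_le_iff.2 hP.2)⟩
  haveI : Ring.KrullDimLE 1 S := Ring.krullDimLE_iff.mpr (by
    rw [← maximalIdeal_height_eq_ringKrullDim]
    exact_mod_cast Ideal.height_le_one_of_isPrincipal_of_mem_minimalPrimes (Ideal.span {f}) _ hmin)
  have : f ∈ (Ideal.span {b}).radical := by
    rw [Ideal.radical_eq_sInf, Ideal.mem_sInf]
    intro P hP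
    rcases Ring.krullDimLE_one_iff.1 inferInstance P hP.2 with h | h
    · exact absurd hb (Set.disjoint_left.1 (Ideal.disjoint_nonZeroDivisors_of_mem_minimalPrimes h) (hP.1 (Ideal.mem_span_singleton_self b)))
    · exact (eq_maximalIdeal h).ge hfm
  obtain ⟨n, hn⟩ := this
  exact ⟨n, Ideal.mem_span_singleton.1 hn⟩

theorem nzd_map {A B : Type u} [CommRing A] [CommRing B] [Algebra A B] [Module.Flat A B] {a : A}
    (ha : a ∈ nonZeroDivisors A) : algebraMap A B a ∈ nonZeroDivisors B := by
  refine mem_nonZeroDivisors_iff_right.2 fun b hb => ?_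
  have hinj : Function.Injective ((LinearMap.lsmul A A a).lTensor B) :=
    Module.Flat.lTensor_preserves_injective_linearMap _ ((injective_iff_map_eq_zero _).2 fun x hx =>
      mem_nonZeroDivisors_iff_left.1 ha x hx)
  have h0 : (b ⊗ₜ[A] (1 : A)) = 0 := hinj (by
    rw [map_zero, LinearMap.lTensor_tmul, LinearMap.lsmul_apply, ← TensorProduct.smul_tmul,
      show a • b = 0 by rw [Algebra.smul_def, mul_comm, hb], TensorProduct.zero_tmul])
  simpa using congrArg (TensorProduct.rid A B) h0

set_option maxHeartbeats 2000000 in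
set_option synthInstance.maxHeartbeats 200000 in
theorem local_dvd {B C L : Type u} [CommRing B] [CommRing C] [CommRing L] [Algebra B C] [Algebra B L] [IsFractionRing B L]
    (Φ : C →ₐ[B] L) (f : B) (N : ℕ) (hCN : ∀ z : C, ∃ b : B, algebraMap B C b = algebraMap B C (f ^ N) * z)
    (hdvd : ∀ b ∈ nonZeroDivisors B, ∃ n, b ∣ f ^ n) (M : Ideal C) [M.IsPrime] [IsDomain (Localization.AtPrime M)]
    [IsIntegrallyClosed (Localization.AtPrime M)]
    (hf : algebraMap C (Localization.AtPrime M) (algebraMap B C f) ≠ 0) (x : L) (hx : IsIntegral B x) (n : ℕ) (z : C)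
    (hz : Φ z = algebraMap B L (f ^ n) * x) : ∃ s ∉ M, s * z ∈ Ideal.span {algebraMap B C (f ^ n)} := by
  let CM := Localization.AtPrime M
  let K := FractionRing CM
  let gC : C →+* K := (algebraMap CM K).comp (algebraMap C CM)
  let gB : B →+* K := gC.comp (algebraMap B C)
  have hgf : gB f ≠ 0 := fun h0 => hf (IsFractionRing.injective CM K (h0.trans (map_zero (algebraMap CM K)).symm))
  have hgB : ∀ b : nonZeroDivisors B, IsUnit (gB b.1) := fun b => by
    obtain ⟨m, d, hd'⟩ := hdvd b.1 b.2
    refine isUnit_iff_ne_zero.2 fun h0 => pow_ne_zero m hgf ?_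
    rw [← map_pow, hd', map_mul, h0, zero_mul]
  let gL : L →+* K := IsLocalization.lift hgB
  have hcomp : gL.comp (algebraMap B L) = gB := IsLocalization.lift_comp hgB
  have hgLΦ : ∀ w, gL (Φ w) = gC w := fun w => by
    obtain ⟨b', hb'⟩ := hCN w
    refine mul_left_cancel₀ (pow_ne_zero N hgf) ?_
    calc gB f ^ N * gL (Φ w) = gL (Φ (algebraMap B C (f ^ N) * w)) := by
          rw [map_mul, map_mul, Φ.commutes, ← map_pow, IsLocalization.lift_eq]
      _ = gB f ^ N * gC w := by
          rw [← hb', Φ.commutes, IsLocalization.lift_eq, ← map_pow]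
          show gC (algebraMap B C b') = gC (algebraMap B C (f ^ N)) * gC w
          rw [hb', map_mul]
  have hint : IsIntegral CM (gL x) := by
    obtain ⟨p, hp, hpx⟩ := hx
    refine ⟨p.map ((algebraMap C CM).comp (algebraMap B C)), hp.map _, ?_⟩
    rw [Polynomial.eval₂_map, ← RingHom.comp_assoc]
    show Polynomial.eval₂ gB (gL x) p = 0
    rw [← hcomp, ← Polynomial.hom_eval₂, hpx, map_zero]
  obtain ⟨y, hy⟩ := IsIntegrallyClosed.isIntegral_iff.1 hint
  obtain ⟨⟨w, s⟩, hws⟩ := IsLocalization.surj M.primeCompl y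
  have h2 : algebraMap C CM z = algebraMap C CM (algebraMap B C (f ^ n)) * y := IsFractionRing.injective CM K (by
    rw [map_mul, hy]
    show gC z = gB (f ^ n) * gL x
    rw [← hgLΦ z, hz, map_mul, IsLocalization.lift_eq])
  have h3 : algebraMap C CM (s * z) = algebraMap C CM (algebraMap B C (f ^ n) * w) := by
    rw [map_mul, map_mul, h2, ← hws]; ring
  obtain ⟨t, ht⟩ := (IsLocalization.eq_iff_exists M.primeCompl CM).1 h3
  refine ⟨t * s, M.primeCompl.mul_mem t.2 s.2, ?_⟩
  rw [mul_assoc, ht, mul_left_comm]
  exact Ideal.mul_mem_right _ _ (Ideal.mem_span_singleton_self _)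

set_option maxHeartbeats 1600000 in
set_option synthInstance.maxHeartbeats 200000 in
theorem deltaInv_eq_of_reduced_fibres (A B : Type u) [CommRing A] [IsLocalRing A] [_root_.IsReduced A] [CommRing B] [IsLocalRing B]
    [IsNoetherianRing B] [Algebra A B] [IsLocalHom (algebraMap A B)] [Module.Flat A B]
    (hN : CAlg.IsNagata A) (hdim : ringKrullDim A = 1)
    (hmax : (maximalIdeal A).map (algebraMap A B) = maximalIdeal B)
    (hred : ∀ M' : Ideal ↥(integralClosure A (FractionRing A)), M'.IsMaximal →
      _root_.IsReduced (ResidueField B ⊗[A] (↥(integralClosure A (FractionRing A)) ⧸ M'))) :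
    Curv2.deltaInv B = Curv2.deltaInv A := by
  classical
  haveI : IsNoetherianRing A := hN.1
  let L0 := FractionRing A
  let L := FractionRing B
  let R := integralClosure A L0
  haveI hfin : Module.Finite A R := (Groth.Agent.S7652.result A hN hdim).1
  obtain ⟨f, hfm, hf⟩ := exists_regular_mem A hdim
  have hfB : f ∈ maximalIdeal A ∧ algebraMap A B f ∈ maximalIdeal B := ⟨hfm, hmax ▸ Ideal.mem_map_of_mem _ hfm⟩
  have hradA := maximalIdeal_le_radical A hdim hf
  have hradB : maximalIdeal B ≤ (Ideal.span {algebraMap A B f}).radical := by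
    rw [← hmax]
    refine (Ideal.map_mono hradA).trans ((Ideal.map_radical_le _).trans ?_)
    rw [Ideal.map_span, Set.image_singleton]
  have hfu : IsUnit (algebraMap A L0 f) := IsLocalization.map_units _ ⟨f, hf⟩
  have hfR : ∀ r : R, f • r = 0 → r = 0 := fun r hr => Subtype.ext (hfu.mul_right_eq_zero.1 (by
    have := congrArg Subtype.val hr
    rwa [SetLike.val_smul, Algebra.smul_def] at this))
  let C := B ⊗[A] R
  haveI : IsNoetherianRing C := IsNoetherianRing.of_finite B _
  have hsmul : ∀ (a : A) (c : C), a • c = algebraMap A C a * c := fun a c => Algebra.smul_def a c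
  -- the map to the total fraction ring
  have hu : ∀ a : nonZeroDivisors A, IsUnit (algebraMap A L a.1) := fun a => by
    rw [IsScalarTower.algebraMap_apply A B L]
    exact IsLocalization.map_units L (⟨_, nzd_map a.2⟩ : nonZeroDivisors B)
  let ι0 : L0 →ₐ[A] L := { IsLocalization.lift (g := algebraMap A L) hu with commutes' := fun a => IsLocalization.lift_eq hu a }
  let Φ : C →ₐ[B] L := Algebra.TensorProduct.lift (Algebra.ofId B L) (ι0.comp R.val) fun x y => mul_comm _ _
  -- conductor exponent
  obtain ⟨N, hN'⟩ : ∃ N : ℕ, ∀ r : R, ∃ a : A, algebraMap A R a = f ^ N • r := by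
    have h1 : ∀ r : R, ∃ n : ℕ, ∃ a : A, algebraMap A R a = f ^ n • r := fun r => by
      obtain ⟨⟨a, b⟩, hab⟩ := IsLocalization.surj (nonZeroDivisors A) r.1
      obtain ⟨n, c, hc⟩ := exists_dvd_pow A hfm hradA b.2
      refine ⟨n, c * a, Subtype.ext ?_⟩
      rw [SetLike.val_smul, Algebra.smul_def, hc, map_mul]
      simp only [MulMemClass.coe_mul, Subalgebra.coe_algebraMap, map_mul]
      rw [show algebraMap A L0 a = r.1 * algebraMap A L0 b.1 from hab.symm]
      ring
    choose n hn using h1
    obtain ⟨s, hs⟩ := hfin.fg_top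
    refine ⟨s.sup n, fun r => ?_⟩
    have : (⊤ : Submodule A R) ≤ Submodule.comap (LinearMap.lsmul A R (f ^ s.sup n)) (LinearMap.range (Algebra.linearMap A R)) := by
      rw [← hs, Submodule.span_le]
      intro x hx
      obtain ⟨a, ha⟩ := hn x
      refine ⟨f ^ (s.sup n - n x) * a, ?_⟩
      simp only [Algebra.linearMap_apply, map_mul, ha, LinearMap.lsmul_apply]
      rw [← Algebra.smul_def, smul_smul, ← pow_add, Nat.sub_add_cancel (Finset.le_sup (f := n) hx)]
    exact this (Submodule.mem_top (x := r))
  have hCN : ∀ z : C, ∃ b : B, algebraMap B C b = f ^ N • z := fun z => by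
    induction z using TensorProduct.induction_on with
    | zero => exact ⟨0, by simp⟩
    | tmul b r =>
      obtain ⟨a, ha⟩ := hN' r
      refine ⟨a • b, ?_⟩
      rw [← TensorProduct.tmul_smul, ← ha, Algebra.TensorProduct.algebraMap_apply, Algebra.algebraMap_self, RingHom.id_apply,
        Algebra.algebraMap_eq_smul_one a, TensorProduct.smul_tmul]
    | add z w hz hw =>
      obtain ⟨b, hb⟩ := hz; obtain ⟨c, hc⟩ := hw
      exact ⟨b + c, by rw [map_add, hb, hc, smul_add]⟩
  have hfC : ∀ z : C, f • z = 0 → z = 0 := fun z hz => by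
    have hfl : ∀ c : C, (LinearMap.lsmul A R f).lTensor B c = f • c := fun c => by
      induction c using TensorProduct.induction_on with
      | zero => simp
      | tmul b r => simp [TensorProduct.tmul_smul]
      | add c c' h h' => rw [map_add, h, h', smul_add]
    exact Module.Flat.lTensor_preserves_injective_linearMap (LinearMap.lsmul A R f)
      ((injective_iff_map_eq_zero _).2 fun r hr => hfR r hr) (by rw [hfl, map_zero]; exact hz)
  have hfCn : ∀ (n : ℕ) (z : C), f ^ n • z = 0 → z = 0 := fun n => by
    induction n with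
    | zero => intro z hz; simpa using hz
    | succ n ih => intro z hz; rw [pow_succ, mul_smul] at hz; exact hfC z (ih _ hz)
  have hΦinj : Function.Injective Φ := (injective_iff_map_eq_zero _).2 fun z hz => by
    obtain ⟨b, hb⟩ := hCN z
    have h0 : algebraMap B L b = 0 := by
      rw [← Φ.commutes, hb, hsmul, map_mul, hz, mul_zero]
    refine hfCn N z ?_
    rw [← hb, IsFractionRing.injective B L (h0.trans (map_zero _).symm), map_zero]
  -- the image is the integral closure
  have hsurj : ∀ x : L, IsIntegral B x → ∃ z, Φ z = x := by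
    intro x hx
    obtain ⟨⟨a, b⟩, hab⟩ := IsLocalization.surj (nonZeroDivisors B) x
    obtain ⟨n, c, hc⟩ := exists_dvd_pow B hfB.2 hradB b.2
    let z : C := algebraMap B C (c * a)
    have hz : Φ z = algebraMap A L (f ^ n) * x := by
      rw [Φ.commutes, IsScalarTower.algebraMap_apply A B L, map_pow (algebraMap A B), hc, map_mul, map_mul,
        show algebraMap B L a = x * algebraMap B L b.1 from hab.symm]
      ring
    let F : C := algebraMap A C (f ^ n)
    let J : Ideal C := Submodule.comap (LinearMap.mulRight C z) (Ideal.span {F})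
    have hJ : J = ⊤ := by
      by_contra hne
      obtain ⟨M, hM, hJM⟩ := Ideal.exists_le_maximal J hne
      haveI := hM
      obtain ⟨hd, hv⟩ := dvr_localization hmax hred hfm hfR (fun M' => Groth.Agent.WedgeDVR3.dvr A hN hdim M') M
      haveI := hd; haveI := hv
      have hFB : ∀ m : ℕ, algebraMap B C (algebraMap A B f ^ m) = algebraMap A C (f ^ m) := fun m => by
        rw [← map_pow, ← IsScalarTower.algebraMap_apply A B C]
      have hfM : algebraMap C (Localization.AtPrime M) (algebraMap B C (algebraMap A B f)) ≠ 0 := fun h0 => by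
        obtain ⟨t, ht⟩ := (IsLocalization.map_eq_zero_iff M.primeCompl (Localization.AtPrime M) _).1 h0
        refine t.2 ?_
        rw [hfC (t : C) (by rw [hsmul, mul_comm, IsScalarTower.algebraMap_apply A B C]; exact ht)]
        exact zero_mem _
      obtain ⟨s, hs, hsz⟩ := local_dvd Φ (algebraMap A B f) N
        (fun w => by obtain ⟨b', hb'⟩ := hCN w; exact ⟨b', by rw [hb', hFB, hsmul]⟩)
        (fun b' hb' => exists_dvd_pow B hfB.2 hradB hb') M hfM x hx n z
        (by rw [hz, IsScalarTower.algebraMap_apply A B L, map_pow (algebraMap A B)])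
      rw [hFB] at hsz
      exact hs (hJM hsz)
    have h1 : z ∈ Ideal.span {F} := by
      have : (1 : C) * z ∈ Ideal.span {F} := (hJ ▸ Submodule.mem_top : (1 : C) ∈ J)
      rwa [one_mul] at this
    obtain ⟨w, hw⟩ := Ideal.mem_span_singleton'.1 h1
    refine ⟨w, ?_⟩
    have hu' : IsUnit (algebraMap A L (f ^ n)) := hu ⟨f ^ n, pow_mem hf n⟩
    refine hu'.mul_left_cancel ?_
    rw [← hz, ← hw, map_mul, mul_comm]
    congr 1
    exact ((Φ.restrictScalars A).commutes _).symm
  let Φ' : C →ₐ[B] integralClosure B L := Φ.codRestrict _ fun z => (Algebra.IsIntegral.isIntegral z).map Φ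
  have hΦ' : Function.Bijective Φ' := ⟨fun z w h => hΦinj (congrArg Subtype.val h),
    fun y => by obtain ⟨z, hz⟩ := hsurj y.1 y.2; exact ⟨z, Subtype.ext hz⟩⟩
  let e := AlgEquiv.ofBijective Φ' hΦ'
  let P := LinearMap.range (Algebra.linearMap A R)
  let q : C →ₗ[B] B ⊗[A] (R ⧸ P) := P.mkQ.baseChange B
  have hq : Function.Surjective q := LinearMap.lTensor_surjective B P.mkQ_surjective
  have hker : LinearMap.range (Algebra.linearMap B C) = LinearMap.ker q := by
    ext z
    have hex := lTensor_exact B (f := Algebra.linearMap A R) (g := P.mkQ)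
      (LinearMap.exact_iff.2 (Submodule.ker_mkQ _)) P.mkQ_surjective
    rw [LinearMap.mem_ker]
    constructor
    · rintro ⟨b, rfl⟩
      refine (hex _).2 ⟨b ⊗ₜ (1 : A), ?_⟩
      show b ⊗ₜ[A] (algebraMap A R (1 : A)) = b ⊗ₜ[A] (1 : R)
      rw [map_one]
    · intro h
      obtain ⟨y, rfl⟩ := (hex _).1 h
      refine ⟨TensorProduct.rid A B y, ?_⟩
      clear h
      induction y using TensorProduct.induction_on with
      | zero => simp
      | tmul b a =>
        show (TensorProduct.rid A B (b ⊗ₜ[A] a)) ⊗ₜ[A] (1 : R) = b ⊗ₜ[A] (algebraMap A R a)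
        rw [TensorProduct.rid_tmul, Algebra.algebraMap_eq_smul_one (A := R) a, TensorProduct.smul_tmul]
      | add y y' h h' => simp only [map_add, h, h']
  have hrange : (LinearMap.range (Algebra.linearMap B C)).map e.toLinearEquiv.toLinearMap =
      LinearMap.range (Algebra.linearMap B (integralClosure B L)) := by
    rw [← LinearMap.range_comp]
    congr 1
    exact LinearMap.ext fun b => e.commutes b
  show Module.length B (integralClosure B L ⧸ LinearMap.range (Algebra.linearMap B (integralClosure B L))) = _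
  rw [← (Submodule.Quotient.equiv _ _ e.toLinearEquiv hrange).length_eq,
    ((Submodule.quotEquivOfEq _ _ hker).trans (q.quotKerEquivOfSurjective hq)).length_eq,
    IsLocalRing.length_baseChange A B (R ⧸ P), hmax]
  haveI : IsSimpleModule B (B ⧸ maximalIdeal B) := isSimpleModule_iff_isCoatom.2 (maximalIdeal.isMaximal B).out
  rw [Module.length_eq_one B (B ⧸ maximalIdeal B), mul_one]
  rfl

set_option maxHeartbeats 400000 in
set_option synthInstance.maxHeartbeats 200000 in
/-- The δ-invariant is unchanged by a flat local map with trivial closed fibre and separable residue extension. -/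
theorem deltaInv_eq (A B : Type u) [CommRing A] [IsLocalRing A] [_root_.IsReduced A] [CommRing B] [IsLocalRing B]
    [IsNoetherianRing B] [Algebra A B] [IsLocalHom (algebraMap A B)] [Module.Flat A B]
    [Algebra.IsSeparable (ResidueField A) (ResidueField B)]
    (hN : CAlg.IsNagata A) (hdim : ringKrullDim A = 1)
    (hmax : (maximalIdeal A).map (algebraMap A B) = maximalIdeal B) :
    Curv2.deltaInv B = Curv2.deltaInv A := by
  haveI : IsNoetherianRing A := hN.1
  haveI : Module.Finite A ↥(integralClosure A (FractionRing A)) := (Groth.Agent.S7652.result A hN hdim).1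
  exact deltaInv_eq_of_reduced_fibres A B hN hdim hmax fun M' _ => isReduced_sep_quot M'

theorem length_congr_semilinear {R R' M N : Type*} [Ring R] [Ring R'] [AddCommGroup M] [AddCommGroup N] [Module R M]
    [Module R' N] (σ : R →+* R') (hσ : Function.Surjective σ) (e : M ≃+ N) (he : ∀ r m, e (r • m) = σ r • e m) :
    Module.length R M = Module.length R' N := by
  letI : Module R N := Module.compHom N σ
  rw [LinearEquiv.length_eq (R := R) { e with map_smul' := he }]
  let o : Submodule R N ≃o Submodule R' N :=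
    { toFun := fun p => { p with smul_mem' := fun s n hn => by obtain ⟨r, rfl⟩ := hσ s; exact p.smul_mem r hn }
      invFun := fun p => { p with smul_mem' := fun r n hn => p.smul_mem (σ r) hn }
      left_inv := fun p => rfl
      right_inv := fun p => rfl
      map_rel_iff' := Iff.rfl }
  have := Order.krullDim_eq_of_orderIso o
  rw [← Module.coe_length, ← Module.coe_length, WithBot.coe_inj] at this
  exact this

/-- The δ-invariant only depends on the ring up to isomorphism. -/
theorem deltaInv_congr {A B : Type u} [CommRing A] [CommRing B] (e : A ≃+* B) :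
    Curv2.deltaInv A = Curv2.deltaInv B := by
  let g : FractionRing A ≃+* FractionRing B := IsFractionRing.ringEquivOfRingEquiv e
  have hg : ∀ a, g (algebraMap A _ a) = algebraMap B _ (e a) :=
    fun a => IsFractionRing.ringEquivOfRingEquiv_algebraMap e a
  have hgs : ∀ b, g.symm (algebraMap B _ b) = algebraMap A _ (e.symm b) := fun b => by
    rw [RingEquiv.symm_apply_eq, hg, RingEquiv.apply_symm_apply]
  have h1 : ∀ x, IsIntegral A x → IsIntegral B (g x) := fun x hx =>
    hx.map_of_comp_eq e.toRingHom g.toRingHom (RingHom.ext fun a => (hg a).symm)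
  have h2 : ∀ x, IsIntegral B x → IsIntegral A (g.symm x) := fun x hx =>
    hx.map_of_comp_eq e.symm.toRingHom g.symm.toRingHom (RingHom.ext fun b => (hgs b).symm)
  let G : ↥(integralClosure A (FractionRing A)) ≃+ ↥(integralClosure B (FractionRing B)) :=
    { toFun := fun x => ⟨g x.1, h1 x.1 x.2⟩
      invFun := fun x => ⟨g.symm x.1, h2 x.1 x.2⟩
      left_inv := fun x => Subtype.ext (g.symm_apply_apply x.1)
      right_inv := fun x => Subtype.ext (g.apply_symm_apply x.1)
      map_add' := fun x y => Subtype.ext (map_add g x.1 y.1) }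
  let PA := LinearMap.range (Algebra.linearMap A ↥(integralClosure A (FractionRing A)))
  let PB := LinearMap.range (Algebra.linearMap B ↥(integralClosure B (FractionRing B)))
  have hP : PA.toAddSubgroup.map G.toAddMonoidHom = PB.toAddSubgroup := by
    ext y
    constructor
    · rintro ⟨x, ⟨a, rfl⟩, rfl⟩
      exact ⟨e a, Subtype.ext (hg a).symm⟩
    · rintro ⟨b, rfl⟩
      exact ⟨algebraMap A _ (e.symm b), ⟨e.symm b, rfl⟩,
        Subtype.ext ((hg (e.symm b)).trans (congrArg _ (e.apply_symm_apply b)))⟩
  let E := QuotientAddGroup.congr PA.toAddSubgroup PB.toAddSubgroup G hP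
  refine length_congr_semilinear e.toRingHom e.surjective E fun a m => ?_
  induction m using Submodule.Quotient.induction_on with
  | _ x =>
    show Submodule.Quotient.mk (G (a • x)) = Submodule.Quotient.mk (e a • G x)
    congr 1
    apply Subtype.ext
    show g (a • x.1) = e a • g x.1
    rw [Algebra.smul_def, Algebra.smul_def, map_mul, hg]

end Groth.Agent.DeltaBC3
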