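import Groth.Agent.Lib.DeltaBC3
import Groth.Agent.Lib.UnibrConn6.Local
import Mathlib.RingTheory.TensorProduct.Quotient
import Mathlib.RingTheory.LocalRing.ResidueField.Ideal
import Mathlib.RingTheory.Localization.Integral

/-! The δ-invariant of a localization of `A ⊗ K` when the residue fields of the normalization of `A`
stay reduced after tensoring with `K`. -/

set_option autoImplicit false
universe u

open IsLocalRing
open scoped TensorProduct

namespace Groth.Agent.DeltaGeom3

section Tensor

variable (k : Type u) [Field k] {A : Type u} [CommRing A] [Algebra k A] {K : Type u} [Field K] [Algebra k K]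

theorem isReduced_fibre (P : Ideal (A ⊗[k] K)) [P.IsPrime] (F : Type u) [CommRing F] [Algebra A F] [Algebra k F]
    [IsScalarTower k A F] [_root_.IsReduced (K ⊗[k] F)] : _root_.IsReduced (Localization.AtPrime P ⊗[A] F) := by
  let e1 := Algebra.TensorProduct.cancelBaseChange k A F F K
  haveI : _root_.IsReduced (F ⊗[k] K) :=
    isReduced_of_injective (Algebra.TensorProduct.comm k F K).toAlgHom.toRingHom (Algebra.TensorProduct.comm k F K).injective
  haveI : _root_.IsReduced (F ⊗[A] (A ⊗[k] K)) := isReduced_of_injective e1.toAlgHom.toRingHom e1.injective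
  haveI : _root_.IsReduced (F ⊗[A] Localization.AtPrime P) :=
    UnibrConn6.isReduced_tensor_localization (C := A ⊗[k] K) P.primeCompl F
  exact isReduced_of_injective (Algebra.TensorProduct.comm A (Localization.AtPrime P) F).toAlgHom.toRingHom
    (Algebra.TensorProduct.comm A (Localization.AtPrime P) F).injective

end Tensor

section Residue

variable {A B : Type u} [CommRing A] [IsLocalRing A] [CommRing B] [IsLocalRing B] [Algebra A B]

theorem isReduced_residue_tensor (hmax : (maximalIdeal A).map (algebraMap A B) = maximalIdeal B)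
    (F : Type u) [CommRing F] [Algebra A F] (hF : ∀ a ∈ maximalIdeal A, algebraMap A F a = 0)
    [_root_.IsReduced (B ⊗[A] F)] : _root_.IsReduced (ResidueField B ⊗[A] F) := by
  let f : B →ₐ[A] ResidueField B := IsScalarTower.toAlgHom A B (ResidueField B)
  have hf : Function.Surjective f := IsLocalRing.residue_surjective
  let g : B ⊗[A] F →ₐ[A] ResidueField B ⊗[A] F := Algebra.TensorProduct.map f (AlgHom.id A F)
  have hgs : Function.Surjective g := Algebra.TensorProduct.map_surjective f _ hf Function.surjective_id
  have hgi : Function.Injective g := (injective_iff_map_eq_zero g).2 fun z hz => by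
    have hz' : z ∈ RingHom.ker g := hz
    rw [Algebra.TensorProduct.map_ker f _ hf Function.surjective_id] at hz'
    refine Ideal.mem_bot.1 ((sup_le ?_ ?_ : _ ≤ (⊥ : Ideal (B ⊗[A] F))) hz')
    · rw [Ideal.map_le_iff_le_comap]
      intro b hb
      have hb' : b ∈ maximalIdeal B := (IsLocalRing.residue_eq_zero_iff b).1 hb
      rw [← hmax] at hb'
      refine (Ideal.map_le_iff_le_comap.2 (fun a ha => ?_) : (maximalIdeal A).map (algebraMap A B) ≤ _) hb'
      show Algebra.TensorProduct.includeLeft (R := A) (S := A) (algebraMap A B a) ∈ (⊥ : Ideal (B ⊗[A] F))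
      rw [show Algebra.TensorProduct.includeLeft (R := A) (S := A) (A := B) (B := F) (algebraMap A B a) =
        (Algebra.TensorProduct.includeRight : F →ₐ[A] B ⊗[A] F) (algebraMap A F a) by rw [AlgHom.commutes, AlgHom.commutes],
        hF a ha, map_zero]
      exact zero_mem _
    · rw [Ideal.map_le_iff_le_comap]
      intro x hx
      rw [RingHom.mem_ker, AlgHom.id_apply] at hx
      rw [hx]
      exact zero_mem _
  let e := RingEquiv.ofBijective g ⟨hgi, hgs⟩
  exact isReduced_of_injective e.symm.toRingHom e.symm.injective

theorem map_maximalIdeal_eq [IsNoetherianRing A] [IsNoetherianRing B] [_root_.IsReduced A] [Module.Flat A B]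
    [IsLocalHom (algebraMap A B)] (hdA : ringKrullDim A = 1) (hdB : ringKrullDim B = 1)
    [_root_.IsReduced (B ⊗[A] (A ⧸ maximalIdeal A))] :
    (maximalIdeal A).map (algebraMap A B) = maximalIdeal B := by
  refine le_antisymm (Ideal.map_le_iff_le_comap.2 fun a ha => map_nonunit (algebraMap A B) a ha) ?_
  obtain ⟨f, hfm, hf⟩ := DeltaBC3.exists_regular_mem A hdA
  have hr : ((maximalIdeal A).map (algebraMap A B)).IsRadical := by
    rw [Ideal.isRadical_iff_quotient_reduced]
    exact isReduced_of_injective (Algebra.TensorProduct.quotIdealMapEquivTensorQuot B (maximalIdeal A)).toAlgHom.toRingHom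
      (Algebra.TensorProduct.quotIdealMapEquivTensorQuot B (maximalIdeal A)).injective
  refine (DeltaBC3.maximalIdeal_le_radical B hdB (DeltaBC3.nzd_map hf)).trans (hr.radical_le_iff.2 ?_)
  exact (Ideal.span_singleton_le_iff_mem _).2 (Ideal.mem_map_of_mem _ hfm)

end Residue

section Main

variable (k : Type u) [Field k] (A : Type u) [CommRing A] [IsLocalRing A] [IsDomain A] [Algebra k A]
  (K : Type u) [Field K] [Algebra k K]

set_option maxHeartbeats 1000000 in
set_option synthInstance.maxHeartbeats 200000 in
theorem deltaInv_tensor_localization (hN : CAlg.IsNagata A) (hdim : ringKrullDim A = 1)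
    (P : Ideal (A ⊗[k] K)) [P.IsPrime] (hP : P.comap (algebraMap A (A ⊗[k] K)) = maximalIdeal A)
    [IsNoetherianRing (Localization.AtPrime P)] (hdB : ringKrullDim (Localization.AtPrime P) = 1)
    (hred : ∀ M' : Ideal ↥(integralClosure A (FractionRing A)), M'.IsMaximal →
      _root_.IsReduced (K ⊗[k] (↥(integralClosure A (FractionRing A)) ⧸ M'))) :
    Curv2.deltaInv (Localization.AtPrime P) = Curv2.deltaInv A := by
  haveI : IsNoetherianRing A := hN.1
  have hcomap : (maximalIdeal (Localization.AtPrime P)).comap (algebraMap A (Localization.AtPrime P)) = maximalIdeal A := by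
    have h : (maximalIdeal (Localization.AtPrime P)).comap (algebraMap (A ⊗[k] K) (Localization.AtPrime P)) = P :=
      IsLocalization.AtPrime.comap_maximalIdeal _ _
    rw [IsScalarTower.algebraMap_eq A (A ⊗[k] K) (Localization.AtPrime P), ← Ideal.comap_comap, h, hP]
  haveI : IsLocalHom (algebraMap A (Localization.AtPrime P)) := ((local_hom_TFAE _).out 4 0).1 hcomap
  haveI : Module.Flat (A ⊗[k] K) (Localization.AtPrime P) := IsLocalization.flat _ P.primeCompl
  haveI : Module.Flat A (Localization.AtPrime P) := Module.Flat.trans A (A ⊗[k] K) _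
  have hsub : ∀ M' : Ideal ↥(integralClosure A (FractionRing A)), M'.IsMaximal →
      M'.comap (algebraMap A _) = maximalIdeal A := fun M' _ =>
    eq_maximalIdeal (Ideal.isMaximal_comap_of_isIntegral_of_isMaximal (R := A) M')
  haveI : _root_.IsReduced (K ⊗[k] (A ⧸ maximalIdeal A)) := by
    obtain ⟨M', hM'⟩ := Ideal.exists_maximal ↥(integralClosure A (FractionRing A))
    haveI := hred M' hM'
    let j : (A ⧸ maximalIdeal A) →ₐ[k] (↥(integralClosure A (FractionRing A)) ⧸ M') :=
      Ideal.quotientMapₐ M' (IsScalarTower.toAlgHom k A ↥(integralClosure A (FractionRing A))) (hsub M' hM').ge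
    have hj : Function.Injective j := Ideal.quotientMap_injective' (H := (hsub M' hM').ge) (hsub M' hM').le
    exact isReduced_of_injective (Algebra.TensorProduct.map (AlgHom.id k K) j).toRingHom
      (Module.Flat.lTensor_preserves_injective_linearMap (M := K) j.toLinearMap hj)
  haveI := isReduced_fibre k P (A ⧸ maximalIdeal A)
  have hmax := map_maximalIdeal_eq (A := A) (B := Localization.AtPrime P) hdim hdB
  refine DeltaBC3.deltaInv_eq_of_reduced_fibres A (Localization.AtPrime P) hN hdim hmax fun M' hM' => ?_
  haveI := hred M' hM'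
  haveI := isReduced_fibre k P (↥(integralClosure A (FractionRing A)) ⧸ M')
  refine isReduced_residue_tensor hmax (↥(integralClosure A (FractionRing A)) ⧸ M') fun a ha => ?_
  exact Ideal.Quotient.eq_zero_iff_mem.2 ((hsub M' hM').ge ha)

set_option maxHeartbeats 400000 in
theorem deltaInv_tensor_localization' (hN : CAlg.IsNagata A) (hdim : ringKrullDim A = 1)
    (P : Ideal (K ⊗[k] A)) [P.IsPrime]
    (hP : P.comap (Algebra.TensorProduct.includeRight : A →ₐ[k] K ⊗[k] A).toRingHom = maximalIdeal A)
    [IsNoetherianRing (Localization.AtPrime P)] (hdB : ringKrullDim (Localization.AtPrime P) = 1)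
    (hred : ∀ M' : Ideal ↥(integralClosure A (FractionRing A)), M'.IsMaximal →
      _root_.IsReduced (K ⊗[k] (↥(integralClosure A (FractionRing A)) ⧸ M'))) :
    Curv2.deltaInv (Localization.AtPrime P) = Curv2.deltaInv A := by
  let c : A ⊗[k] K ≃+* K ⊗[k] A := (Algebra.TensorProduct.comm k A K).toRingEquiv
  let P' : Ideal (A ⊗[k] K) := P.comap c.toRingHom
  haveI : P'.IsPrime := Ideal.IsPrime.comap _
  let e : Localization.AtPrime P' ≃+* Localization.AtPrime P :=
    IsLocalization.ringEquivOfRingEquiv (M := P'.primeCompl) (T := P.primeCompl) _ _ c (by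
      ext x
      constructor
      · rintro ⟨y, hy, rfl⟩
        exact hy
      · intro hx
        refine ⟨c.symm x, fun h => hx ?_, c.apply_symm_apply x⟩
        exact (c.apply_symm_apply x) ▸ (Ideal.mem_comap.1 h : c (c.symm x) ∈ P))
  haveI : IsNoetherianRing (Localization.AtPrime P') := isNoetherianRing_of_ringEquiv _ e.symm
  rw [← DeltaBC3.deltaInv_congr e]
  refine deltaInv_tensor_localization k A K hN hdim P' ?_ ((ringKrullDim_eq_of_ringEquiv e).trans hdB) hred
  rw [← hP, Ideal.comap_comap]
  congr 1

end Main

section Normalization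

set_option maxHeartbeats 1000000 in
set_option synthInstance.maxHeartbeats 200000 in
/-- Residue fields of the normalization of `S_p` are those of the normalization of `S` over `p`. -/
theorem isReduced_tensor_quot_integralClosure (k K : Type u) [Field k] [Field K] [Algebra k K]
    (S A K0 : Type u) [CommRing S] [IsDomain S] [CommRing A] [IsDomain A] [IsLocalRing A] [Field K0]
    [Algebra S A] [Algebra S K0] [IsFractionRing S K0] [Algebra k S] [Algebra k A] [IsScalarTower k S A]
    (p : Ideal S) [p.IsPrime] [IsLocalization.AtPrime A p]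
    (hχ : ∀ q : Ideal ↥(integralClosure S K0), q.IsPrime → q.comap (algebraMap S ↥(integralClosure S K0)) = p →
      ∃ (F : Type u) (_ : Field F) (_ : Algebra k F) (χ : ↥(integralClosure S K0) →+* F),
        RingHom.ker χ = q ∧
        (∀ c : k, χ (algebraMap S ↥(integralClosure S K0) (algebraMap k S c)) = algebraMap k F c) ∧
        _root_.IsReduced (K ⊗[k] F))
    (M' : Ideal ↥(integralClosure A (FractionRing A))) [M'.IsMaximal] :
    _root_.IsReduced (K ⊗[k] (↥(integralClosure A (FractionRing A)) ⧸ M')) := by
  have hSA : Function.Injective (algebraMap S A) :=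
    IsLocalization.injective A p.primeCompl_le_nonZeroDivisors
  haveI : FaithfulSMul S (FractionRing A) := (faithfulSMul_iff_algebraMap_injective _ _).2 (by
    rw [IsScalarTower.algebraMap_eq S A (FractionRing A)]
    exact (IsFractionRing.injective A _).comp hSA)
  haveI : IsFractionRing S (FractionRing A) := IsFractionRing.of_field _ _ fun z => by
    obtain ⟨a, b, hb, rfl⟩ := IsFractionRing.div_surjective A z
    obtain ⟨⟨a', s⟩, ha⟩ := IsLocalization.surj p.primeCompl a
    obtain ⟨⟨b', t⟩, hb'⟩ := IsLocalization.surj p.primeCompl b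
    replace ha : a * algebraMap S A s = algebraMap S A a' := ha
    replace hb' : b * algebraMap S A t = algebraMap S A b' := hb'
    refine ⟨a' * t, b' * s, ?_⟩
    have hu : ∀ r : p.primeCompl, algebraMap A (FractionRing A) (algebraMap S A r) ≠ 0 := fun r =>
      ((IsLocalization.map_units A r).map (algebraMap A (FractionRing A))).ne_zero
    have hu1 := hu s
    have hu2 := hu t
    have h1 : algebraMap A (FractionRing A) a * algebraMap A (FractionRing A) (algebraMap S A s) =
        algebraMap A (FractionRing A) (algebraMap S A a') := by rw [← map_mul, ha]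
    have h2 : algebraMap A (FractionRing A) b * algebraMap A (FractionRing A) (algebraMap S A t) =
        algebraMap A (FractionRing A) (algebraMap S A b') := by rw [← map_mul, hb']
    simp only [IsScalarTower.algebraMap_apply S A (FractionRing A), map_mul, ← h1, ← h2]
    field_simp
  let θ0 : K0 ≃ₐ[S] FractionRing A := IsLocalization.algEquiv (nonZeroDivisors S) K0 (FractionRing A)
  let θ : ↥(integralClosure S K0) →+* ↥(integralClosure A (FractionRing A)) :=
    (θ0.toAlgHom.toRingHom.comp (integralClosure S K0).val.toRingHom).codRestrict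
      (integralClosure A (FractionRing A)) fun x => (x.2.map θ0.toAlgHom).tower_top
  let ψ0 : ↥(integralClosure S K0) →+* ↥(integralClosure A (FractionRing A)) ⧸ M' := (Ideal.Quotient.mk M').comp θ
  let q : Ideal ↥(integralClosure S K0) := RingHom.ker ψ0
  haveI : q.IsPrime := RingHom.ker_isPrime ψ0
  have hθS : ∀ s : S, θ (algebraMap S _ s) = algebraMap A _ (algebraMap S A s) := fun s => Subtype.ext (by
    show θ0 (algebraMap S K0 s) = algebraMap A (FractionRing A) (algebraMap S A s)
    rw [AlgEquiv.commutes, ← IsScalarTower.algebraMap_apply])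
  have hqp : q.comap (algebraMap S ↥(integralClosure S K0)) = p := by
    rw [← IsLocalization.AtPrime.comap_maximalIdeal A p,
      ← eq_maximalIdeal (Ideal.isMaximal_comap_of_isIntegral_of_isMaximal (R := A) M')]
    ext s
    simp only [q, ψ0, Ideal.mem_comap, RingHom.mem_ker, RingHom.comp_apply, hθS, Ideal.Quotient.eq_zero_iff_mem]
  obtain ⟨F, hF, hkF, χ, hker, hk, hredF⟩ := hχ q inferInstance hqp
  letI : Field (↥(integralClosure A (FractionRing A)) ⧸ M') := Ideal.Quotient.field M'
  have hu1 : q.primeCompl ≤ (IsUnit.submonoid _).comap ψ0 := fun x hx =>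
    isUnit_iff_ne_zero.2 fun h => hx h
  have hu2 : q.primeCompl ≤ (IsUnit.submonoid F).comap χ := fun x hx =>
    isUnit_iff_ne_zero.2 fun h => hx (hker.le h)
  let g : q.ResidueField →+* ↥(integralClosure A (FractionRing A)) ⧸ M' := Ideal.ResidueField.lift q ψ0 le_rfl hu1
  let h : q.ResidueField →+* F := Ideal.ResidueField.lift q χ hker.ge hu2
  have hg : ∀ b, g (algebraMap _ _ b) = ψ0 b := fun b => Ideal.ResidueField.lift_algebraMap _ _ _ hu1 b
  have hh : ∀ b, h (algebraMap _ _ b) = χ b := fun b => Ideal.ResidueField.lift_algebraMap _ _ _ hu2 b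
  have hgs : Function.Surjective g := by
    intro z
    obtain ⟨a, rfl⟩ := Ideal.Quotient.mk_surjective z
    obtain ⟨m, hm⟩ := IsIntegral.exists_multiple_integral_of_isLocalization p.primeCompl a.1 a.2
    let b : ↥(integralClosure S K0) := ⟨θ0.symm (m • a.1), hm.map θ0.symm.toAlgHom⟩
    have hb : θ b = θ (algebraMap S _ m.1) * a := by
      apply Subtype.ext
      show θ0 (θ0.symm (m • a.1)) = θ0 (algebraMap S K0 m.1) * a.1
      rw [AlgEquiv.apply_symm_apply, AlgEquiv.commutes, ← Algebra.smul_def]
      rfl
    have hs : ψ0 (algebraMap S _ m.1) ≠ 0 := fun h0 => m.2 (hqp.le (Ideal.mem_comap.2 h0))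
    refine ⟨algebraMap _ _ b / algebraMap _ _ (algebraMap S ↥(integralClosure S K0) m.1), ?_⟩
    rw [map_div₀, hg, hg, div_eq_iff hs]
    show Ideal.Quotient.mk M' (θ b) = _
    rw [hb, map_mul, mul_comm]
    rfl
  let e := RingEquiv.ofBijective g ⟨g.injective, hgs⟩
  let j : (↥(integralClosure A (FractionRing A)) ⧸ M') →ₐ[k] F :=
    { h.comp e.symm.toRingHom with
      commutes' := fun c => by
        show h (e.symm (algebraMap k _ c)) = algebraMap k F c
        have : algebraMap k (↥(integralClosure A (FractionRing A)) ⧸ M') c =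
            e (algebraMap _ q.ResidueField (algebraMap S ↥(integralClosure S K0) (algebraMap k S c))) := by
          show _ = g _
          rw [hg, ← Ideal.Quotient.mk_algebraMap]
          show _ = Ideal.Quotient.mk M' (θ _)
          rw [hθS, ← IsScalarTower.algebraMap_apply k S A, ← IsScalarTower.algebraMap_apply k A]
        rw [this, RingEquiv.symm_apply_apply, hh, hk] }
  exact isReduced_of_injective (Algebra.TensorProduct.map (AlgHom.id k K) j).toRingHom
    (Module.Flat.lTensor_preserves_injective_linearMap (M := K) j.toLinearMap j.toRingHom.injective)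

end Normalization

end Groth.Agent.DeltaGeom3
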