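import Groth.Agent.Lib.DeltaGeom3
import Groth.Agent.Lib.GeomNorm15.Stalk
import Groth.Agent.Lib.HensConnFib6.Basic
import Groth.Agent.Lib.NormFin18.Apps
import Groth.Agent.Lib.NormFin18.Nagata
import Groth.Agent.Lib.PropsNagata1.Basic

/-! The δ-invariant under extension of the base field. -/

set_option autoImplicit false
universe u

open CategoryTheory CategoryTheory.Limits AlgebraicGeometry
open scoped TensorProduct

namespace Groth.Agent.DeltaGeomSch3

variable (k : Type u) [Field k] (X : Scheme.{u}) [X.Over (Spec (CommRingCat.of k))]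

theorem isNagata_stalk [LocallyOfFiniteType (X ↘ (Spec (CommRingCat.of k)))] (x : X) :
    CAlg.IsNagata (X.presheaf.stalk x) := by
  obtain ⟨U, hU, hxU, -⟩ := exists_isAffineOpen_mem_and_subset (show x ∈ (⊤ : X.Opens) from trivial)
  haveI := hU.isLocalization_stalk ⟨x, hxU⟩
  let M := (hU.primeIdealOf ⟨x, hxU⟩).asIdeal.primeCompl
  letI : Algebra Γ(X, U) (X.presheaf.stalk x) := TopCat.Presheaf.algebra_section_stalk X.presheaf ⟨x, hxU⟩
  haveI : IsLocalization M (X.presheaf.stalk x) := hU.isLocalization_stalk ⟨x, hxU⟩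
  exact PropsNagata1.isNagata_of_ringEquiv (IsLocalization.algEquiv M (Localization M) (X.presheaf.stalk x)).toRingEquiv
    (NormFin18.isNagata_localization _ (NormFin18.isNagata_sections (X ↘ (Spec (CommRingCat.of k))) ⟨U, hU⟩) M)

theorem ker_evaluation {Y : Scheme.{u}} {V : Y.Opens} (hV : IsAffineOpen V) (y : PrimeSpectrum Γ(Y, V))
    (hy : hV.fromSpec y ∈ V) : RingHom.ker (Y.evaluation V (hV.fromSpec y) hy).hom = y.asIdeal := by
  letI : Algebra Γ(Y, V) (Y.presheaf.stalk (hV.fromSpec y)) :=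
    TopCat.Presheaf.algebra_section_stalk Y.presheaf ⟨hV.fromSpec y, hy⟩
  haveI : IsLocalization.AtPrime (Y.presheaf.stalk (hV.fromSpec y)) y.asIdeal := hV.isLocalization_stalk' y hy
  refine Eq.trans ?_ (IsLocalization.AtPrime.comap_maximalIdeal (Y.presheaf.stalk (hV.fromSpec y)) y.asIdeal)
  ext s
  exact IsLocalRing.residue_eq_zero_iff _

variable [IsIntegral X] [LocallyOfFiniteType (X ↘ (Spec (CommRingCat.of k)))]
    [QuasiCompact (X.fromSpecStalk (genericPoint X))] [QuasiSeparated (X.fromSpecStalk (genericPoint X))]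

set_option maxHeartbeats 2000000 in
set_option synthInstance.maxHeartbeats 200000 in
theorem isReduced_tensor_residue (K : Type u) [Field K] [Algebra k K] (x : X)
    (hsep : letI : (Curv2.normalization X).Over (Spec (CommRingCat.of k)) :=
        ⟨Curv2.normalizationι X ≫ (X ↘ (Spec (CommRingCat.of k)))⟩
      ∀ x' : ↥(Curv2.normalization X), (Curv2.normalizationι X).base x' = x →
        GeometricallyReduced (Spec.map (CommRingCat.ofHom (Curv2.resMap k (Curv2.normalization X) x')))) :
    letI := Curv2.stalkAlgebra k X x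
    ∀ M' : Ideal ↥(integralClosure (X.presheaf.stalk x) (FractionRing (X.presheaf.stalk x))), M'.IsMaximal →
      _root_.IsReduced (K ⊗[k]
        (↥(integralClosure (X.presheaf.stalk x) (FractionRing (X.presheaf.stalk x))) ⧸ M')) := by
  letI : (Curv2.normalization X).Over (Spec (CommRingCat.of k)) :=
    ⟨Curv2.normalizationι X ≫ (X ↘ (Spec (CommRingCat.of k)))⟩
  letI := Curv2.stalkAlgebra k X x
  intro M' hM'
  obtain ⟨U, hU, hxU, -⟩ := exists_isAffineOpen_mem_and_subset (show x ∈ (⊤ : X.Opens) from trivial)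
  haveI : Nonempty U := ⟨⟨x, hxU⟩⟩
  have hη : genericPoint X ∈ U := ((genericPoint_spec X).mem_open_set_iff U.isOpen).mpr ⟨x, trivial, hxU⟩
  let g := X.fromSpecStalk (genericPoint X)
  letI : Algebra Γ(X, U) Γ(Spec (X.presheaf.stalk (genericPoint X)), g ⁻¹ᵁ U) := (g.app U).hom.toAlgebra
  have hpre : g ⁻¹ᵁ U = ⊤ := by
    apply top_le_iff.1
    intro z _
    show g z ∈ U
    exact (show g z ⤳ genericPoint X from by
      have : g z ∈ {w | w ⤳ genericPoint X} := by rw [← Scheme.range_fromSpecStalk]; exact ⟨z, rfl⟩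
      exact this).mem_open U.2 hη
  let e₀ : X.functionField ≅ Γ(Spec (X.presheaf.stalk (genericPoint X)), g ⁻¹ᵁ U) :=
    (Scheme.ΓSpecIso (X.presheaf.stalk (genericPoint X))).symm ≪≫
      (Spec (X.presheaf.stalk (genericPoint X))).presheaf.mapIso (eqToIso hpre).op
  have he₀ : g.app U = X.germToFunctionField U ≫ e₀.hom := by
    rw [Scheme.fromSpecStalk_app hη]
    rfl
  let e : X.functionField ≃ₐ[Γ(X, U)] Γ(Spec (X.presheaf.stalk (genericPoint X)), g ⁻¹ᵁ U) :=
    AlgEquiv.ofRingEquiv (f := e₀.commRingCatIsoToRingEquiv) fun a => by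
      show e₀.hom ((X.germToFunctionField U) a) = (g.app U) a
      rw [he₀]; rfl
  haveI := functionField_isFractionRing_of_isAffineOpen X U hU
  haveI : IsFractionRing Γ(X, U) Γ(Spec (X.presheaf.stalk (genericPoint X)), g ⁻¹ᵁ U) :=
    IsLocalization.isLocalization_of_algEquiv _ e
  letI : Field Γ(Spec (X.presheaf.stalk (genericPoint X)), g ⁻¹ᵁ U) := (e.symm.toMulEquiv.isField (Field.toIsField _)).toField
  let K0 := Γ(Spec (X.presheaf.stalk (genericPoint X)), g ⁻¹ᵁ U)
  let B0 := integralClosure Γ(X, U) K0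
  let ι := Curv2.normalizationι X
  let V := ι ⁻¹ᵁ U
  have hV : IsAffineOpen V := hU.preimage g.fromNormalization
  let ε : Γ(Curv2.normalization X, V) ≅ CommRingCat.of B0 := g.normalizationObjIso hU
  have happ : ι.app U = CommRingCat.ofHom (algebraMap Γ(X, U) B0) ≫ ε.inv := g.fromNormalization_app hU
  let q0 := (X ↘ (Spec (CommRingCat.of k)))
  letI : Algebra k Γ(X, U) :=
    ((X.presheaf.map (homOfLE (le_top : U ≤ ⊤)).op).hom.comp (Coh.toGlobal q0)).toAlgebra
  letI : Algebra Γ(X, U) (X.presheaf.stalk x) := TopCat.Presheaf.algebra_section_stalk X.presheaf ⟨x, hxU⟩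
  haveI : IsScalarTower k Γ(X, U) (X.presheaf.stalk x) := IsScalarTower.of_algebraMap_eq fun c => by
    show X.presheaf.germ ⊤ x trivial (Coh.toGlobal q0 c) =
      X.presheaf.germ U x hxU (X.presheaf.map (homOfLE (le_top : U ≤ ⊤)).op (Coh.toGlobal q0 c))
    exact (TopCat.Presheaf.germ_res_apply X.presheaf (homOfLE (le_top : U ≤ ⊤)) x hxU _).symm
  haveI : IsLocalization.AtPrime (X.presheaf.stalk x) (hU.primeIdealOf ⟨x, hxU⟩).asIdeal :=
    hU.isLocalization_stalk ⟨x, hxU⟩
  refine DeltaGeom3.isReduced_tensor_quot_integralClosure k K Γ(X, U) (X.presheaf.stalk x) K0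
    (hU.primeIdealOf ⟨x, hxU⟩).asIdeal (fun q hq hqp => ?_) M'
  let y : PrimeSpectrum Γ(Curv2.normalization X, V) := ⟨q.comap ε.hom.hom, Ideal.IsPrime.comap _⟩
  have hy : hV.fromSpec y ∈ V := by
    rw [← SetLike.mem_coe, ← hV.range_fromSpec]; exact ⟨y, rfl⟩
  have hιx : ι.base (hV.fromSpec y) = x := by
    have h1 := congrArg (fun f : Spec Γ(Curv2.normalization X, V) ⟶ X => f y)
      (IsAffineOpen.SpecMap_appLE_fromSpec ι hU hV le_rfl)
    refine Eq.trans (Eq.symm h1) ?_
    show hU.fromSpec (Spec.map (ι.appLE U V le_rfl) y) = x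
    refine Eq.trans ?_ (hU.fromSpec_primeIdealOf ⟨x, hxU⟩)
    congr 1
    apply PrimeSpectrum.ext
    show Ideal.comap (ι.appLE U V le_rfl).hom (q.comap ε.hom.hom) = _
    rw [← Scheme.Hom.app_eq_appLE, happ, CommRingCat.hom_comp, Ideal.comap_comap, ← RingHom.comp_assoc,
      ← CommRingCat.hom_comp ε.inv ε.hom, ε.inv_hom_id, CommRingCat.hom_id, RingHom.id_comp]
    exact hqp
  letI := Curv2.resAlgebra k (Curv2.normalization X) (hV.fromSpec y)
  refine ⟨(Curv2.normalization X).residueField (hV.fromSpec y), inferInstance, inferInstance,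
    ((Curv2.normalization X).evaluation V (hV.fromSpec y) hy).hom.comp ε.inv.hom, ?_, fun c => ?_, ?_⟩
  · rw [← RingHom.comap_ker, ker_evaluation hV y hy, Ideal.comap_comap, ← CommRingCat.hom_comp, ε.inv_hom_id,
      CommRingCat.hom_id, Ideal.comap_id]
  · show (Curv2.normalization X).evaluation V (hV.fromSpec y) hy
      (ε.inv (algebraMap Γ(X, U) B0 (X.presheaf.map (homOfLE (le_top : U ≤ ⊤)).op (Coh.toGlobal q0 c)))) = _
    have h2 : ∀ s, ε.inv (algebraMap Γ(X, U) B0 s) = ι.app U s := fun s => by rw [happ]; rfl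
    rw [h2]
    have h3 : ι.app U (X.presheaf.map (homOfLE (le_top : U ≤ ⊤)).op (Coh.toGlobal q0 c)) =
        (Curv2.normalization X).presheaf.map (homOfLE (le_top : V ≤ ⊤)).op (Coh.toGlobal (ι ≫ q0) c) := by
      show (X.presheaf.map (homOfLE (le_top : U ≤ ⊤)).op ≫ ι.app U) (Coh.toGlobal q0 c) = _
      rw [Scheme.Hom.naturality]
      rfl
    rw [h3]
    show (Curv2.normalization X).residue _ ((Curv2.normalization X).presheaf.germ V (hV.fromSpec y) hy _) = _
    exact congrArg _ (TopCat.Presheaf.germ_res_apply (Curv2.normalization X).presheaf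
      (homOfLE (le_top : V ≤ ⊤)) (hV.fromSpec y) hy _)
  · haveI := hsep (hV.fromSpec y) hιx
    exact HensConnFib6.isReduced_tensor_of_geometricallyReduced k
      ((Curv2.normalization X).residueField (hV.fromSpec y)) K

set_option maxHeartbeats 1000000 in
theorem deltaInv_eq (K : Type u) [Field K] [Algebra k K] (y : ↥(Curv2.bc k X K))
    (hdx : ringKrullDim (X.presheaf.stalk ((Curv2.bcFst k X K).base y)) = 1)
    (hsep : letI : (Curv2.normalization X).Over (Spec (CommRingCat.of k)) :=
        ⟨Curv2.normalizationι X ≫ (X ↘ (Spec (CommRingCat.of k)))⟩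
      ∀ x' : ↥(Curv2.normalization X), (Curv2.normalizationι X).base x' = (Curv2.bcFst k X K).base y →
        GeometricallyReduced (Spec.map (CommRingCat.ofHom (Curv2.resMap k (Curv2.normalization X) x'))))
    (hdy : ringKrullDim ((Curv2.bc k X K).presheaf.stalk y) = 1) :
    Curv2.deltaInv (X.presheaf.stalk ((Curv2.bcFst k X K).base y)) =
      Curv2.deltaInv ((Curv2.bc k X K).presheaf.stalk y) := by
  haveI : IsLocallyNoetherian (Curv2.bc k X K) := LocallyOfFiniteType.isLocallyNoetherian (Curv2.bcSnd k X K)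
  have key : ∀ x, (Curv2.bcFst k X K).base y = x → ringKrullDim (X.presheaf.stalk x) = 1 →
      (letI := Curv2.stalkAlgebra k X x
      ∀ M' : Ideal ↥(integralClosure (X.presheaf.stalk x) (FractionRing (X.presheaf.stalk x))), M'.IsMaximal →
        _root_.IsReduced (K ⊗[k]
          (↥(integralClosure (X.presheaf.stalk x) (FractionRing (X.presheaf.stalk x))) ⧸ M'))) →
      Curv2.deltaInv (X.presheaf.stalk x) = Curv2.deltaInv ((Curv2.bc k X K).presheaf.stalk y) := by
    intro x hx hdx' hred
    letI := Curv2.stalkAlgebra k X x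
    obtain ⟨pt, hst, hover, hsurj⟩ := GeomNorm15.exists_stalk_points k X x K
    obtain ⟨P, rfl⟩ := hsurj y hx
    obtain ⟨e⟩ := hst P
    have hP : P.asIdeal.comap (Algebra.TensorProduct.includeRight : X.presheaf.stalk x →ₐ[k] K ⊗[k] X.presheaf.stalk x).toRingHom =
        IsLocalRing.maximalIdeal (X.presheaf.stalk x) := by
      have h1 : X.fromSpecStalk x (PrimeSpectrum.comap
          (Algebra.TensorProduct.includeRight (R := k) (A := K) (B := X.presheaf.stalk x)).toRingHom P) =
          X.fromSpecStalk x (IsLocalRing.closedPoint (X.presheaf.stalk x)) :=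
        (hover P).symm.trans (hx.trans Scheme.fromSpecStalk_closedPoint.symm)
      exact congrArg PrimeSpectrum.asIdeal ((IsPreimmersion.base_embedding (X.fromSpecStalk x)).injective h1)
    haveI : IsNoetherianRing (Localization.AtPrime P.asIdeal) := isNoetherianRing_of_ringEquiv _ e
    rw [DeltaBC3.deltaInv_congr e]
    exact (DeltaGeom3.deltaInv_tensor_localization' k (X.presheaf.stalk x) K (isNagata_stalk k X x) hdx' P.asIdeal hP
      ((ringKrullDim_eq_of_ringEquiv e).symm.trans hdy) hred).symm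
  exact key _ rfl hdx (isReduced_tensor_residue k X K _ hsep)

end Groth.Agent.DeltaGeomSch3
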