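import Groth.Agent.Lib.DeltaBC3
import Groth.Agent.Lib.DeltaGeomSch3

/-! The δ-invariant does not drop along a flat local map. -/

set_option autoImplicit false
universe u

open IsLocalRing
open scoped TensorProduct

namespace Groth.Agent.DeltaLe3

open Groth.Agent.DeltaBC3

set_option maxHeartbeats 1000000 in
set_option synthInstance.maxHeartbeats 200000 in
theorem deltaInv_le (A B : Type u) [CommRing A] [IsLocalRing A] [_root_.IsReduced A] [CommRing B] [IsLocalRing B]
    [Algebra A B] [IsLocalHom (algebraMap A B)] [Module.Flat A B] [IsNoetherianRing A]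
    (hdim : ringKrullDim A = 1) : Curv2.deltaInv A ≤ Curv2.deltaInv B := by
  classical
  let L0 := FractionRing A
  let L := FractionRing B
  let R := integralClosure A L0
  obtain ⟨f, hfm, hf⟩ := exists_regular_mem A hdim
  have hradA := maximalIdeal_le_radical A hdim hf
  have hfu : IsUnit (algebraMap A L0 f) := IsLocalization.map_units _ ⟨f, hf⟩
  let C := B ⊗[A] R
  have hsmul : ∀ (a : A) (c : C), a • c = algebraMap A C a * c := fun a c => Algebra.smul_def a c
  have hu : ∀ a : nonZeroDivisors A, IsUnit (algebraMap A L a.1) := fun a => by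
    rw [IsScalarTower.algebraMap_apply A B L]
    exact IsLocalization.map_units L (⟨_, nzd_map a.2⟩ : nonZeroDivisors B)
  let ι0 : L0 →ₐ[A] L := { IsLocalization.lift (g := algebraMap A L) hu with commutes' := fun a => IsLocalization.lift_eq hu a }
  let Φ : C →ₐ[B] L := Algebra.TensorProduct.lift (Algebra.ofId B L) (ι0.comp R.val) fun x y => mul_comm _ _
  have hfR : ∀ (n : ℕ) (r : R), f ^ n • r = 0 → r = 0 := fun n r hr => Subtype.ext ((hfu.pow n).mul_right_eq_zero.1 (by
    have := congrArg Subtype.val hr
    rwa [SetLike.val_smul, Algebra.smul_def, map_pow] at this))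
  have hCN : ∀ z : C, ∃ (n : ℕ) (b : B), algebraMap B C b = f ^ n • z := fun z => by
    induction z using TensorProduct.induction_on with
    | zero => exact ⟨0, 0, by simp⟩
    | tmul b r =>
      obtain ⟨⟨a, d⟩, had⟩ := IsLocalization.surj (nonZeroDivisors A) r.1
      obtain ⟨n, c, hc⟩ := exists_dvd_pow A hfm hradA d.2
      have ha : algebraMap A R (c * a) = f ^ n • r := Subtype.ext (by
        rw [SetLike.val_smul, Algebra.smul_def, hc, map_mul]
        simp only [MulMemClass.coe_mul, Subalgebra.coe_algebraMap, map_mul]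
        rw [show algebraMap A L0 a = r.1 * algebraMap A L0 d.1 from had.symm]
        ring)
      refine ⟨n, (c * a) • b, ?_⟩
      rw [← TensorProduct.tmul_smul, ← ha, Algebra.TensorProduct.algebraMap_apply, Algebra.algebraMap_self, RingHom.id_apply,
        Algebra.algebraMap_eq_smul_one (c * a), TensorProduct.smul_tmul]
    | add z w hz hw =>
      obtain ⟨i, b, hb⟩ := hz; obtain ⟨j, c, hc⟩ := hw
      refine ⟨i + j, algebraMap A B (f ^ j) * b + algebraMap A B (f ^ i) * c, ?_⟩
      rw [map_add, map_mul, map_mul, hb, hc, smul_add, hsmul, hsmul, hsmul, hsmul, pow_add, map_mul,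
        ← IsScalarTower.algebraMap_apply A B C, ← IsScalarTower.algebraMap_apply A B C]
      ring
  have hΦinj : Function.Injective Φ := (injective_iff_map_eq_zero _).2 fun z hz => by
    obtain ⟨n, b, hb⟩ := hCN z
    have h0 : algebraMap B L b = 0 := by rw [← Φ.commutes, hb, hsmul, map_mul, hz, mul_zero]
    have hfl : ∀ c : C, (LinearMap.lsmul A R (f ^ n)).lTensor B c = f ^ n • c := fun c => by
      induction c using TensorProduct.induction_on with
      | zero => simp
      | tmul b r => simp [TensorProduct.tmul_smul]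
      | add c c' h h' => rw [map_add, h, h', smul_add]
    refine Module.Flat.lTensor_preserves_injective_linearMap (LinearMap.lsmul A R (f ^ n))
      ((injective_iff_map_eq_zero _).2 fun r hr => hfR n r hr) ?_
    rw [hfl, map_zero, ← hb, IsFractionRing.injective B L (h0.trans (map_zero _).symm), map_zero]
  let Φ' : C →ₐ[B] integralClosure B L := Φ.codRestrict _ fun z => (Algebra.IsIntegral.isIntegral z).map Φ
  have hΦ' : Function.Injective Φ' := fun z w h => hΦinj (congrArg Subtype.val h)
  let P := LinearMap.range (Algebra.linearMap A R)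
  let q : C →ₗ[B] B ⊗[A] (R ⧸ P) := P.mkQ.baseChange B
  have hq : Function.Surjective q := LinearMap.lTensor_surjective B P.mkQ_surjective
  have hker : LinearMap.range (Algebra.linearMap B C) = LinearMap.ker q := by
    ext z
    have hex := lTensor_exact B (f := Algebra.linearMap A R) (g := P.mkQ)
      (LinearMap.exact_iff.2 (Submodule.ker_mkQ _)) P.mkQ_surjective
    rw [LinearMap.mem_ker]
    constructor
    · rintro ⟨b, rfl⟩
      refine (hex _).2 ⟨b ⊗ₜ (1 : A), ?_⟩
      show b ⊗ₜ[A] (algebraMap A R (1 : A)) = b ⊗ₜ[A] (1 : R)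
      rw [map_one]
    · intro h
      obtain ⟨y, rfl⟩ := (hex _).1 h
      refine ⟨TensorProduct.rid A B y, ?_⟩
      clear h
      induction y using TensorProduct.induction_on with
      | zero => simp
      | tmul b a =>
        show (TensorProduct.rid A B (b ⊗ₜ[A] a)) ⊗ₜ[A] (1 : R) = b ⊗ₜ[A] (algebraMap A R a)
        rw [TensorProduct.rid_tmul, Algebra.algebraMap_eq_smul_one (A := R) a, TensorProduct.smul_tmul]
      | add y y' h h' => simp only [map_add, h, h']
  let PC := LinearMap.range (Algebra.linearMap B C)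
  let PL := LinearMap.range (Algebra.linearMap B (integralClosure B L))
  have hPC : PC = PL.comap Φ'.toLinearMap := by
    ext z
    constructor
    · rintro ⟨b, rfl⟩
      exact ⟨b, (Φ'.commutes b).symm⟩
    · rintro ⟨b, hb⟩
      exact ⟨b, hΦ' ((Φ'.commutes b).trans hb)⟩
  have hle : Module.length B (C ⧸ PC) ≤ Curv2.deltaInv B :=
    Module.length_le_of_injective (PC.mapQ PL Φ'.toLinearMap hPC.le)
      (LinearMap.ker_eq_bot.1 (Submodule.ker_mapQ _ _ _ _ |>.trans (by rw [← hPC, Submodule.mkQ_map_self])))
  refine le_trans ?_ hle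
  rw [((Submodule.quotEquivOfEq _ _ hker).trans (q.quotKerEquivOfSurjective hq)).length_eq,
    IsLocalRing.length_baseChange A B (R ⧸ P)]
  refine le_mul_of_one_le_right zero_le ?_
  haveI : Nontrivial (B ⧸ (maximalIdeal A).map (algebraMap A B)) := Ideal.Quotient.nontrivial_iff.2
    (ne_top_of_le_ne_top (maximalIdeal.isMaximal B).ne_top
      (Ideal.map_le_iff_le_comap.2 fun a ha => map_nonunit (algebraMap A B) a ha))
  exact Order.one_le_iff_pos.2 Module.length_pos

end Groth.Agent.DeltaLe3

namespace Groth.Agent.DeltaLe3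

open CategoryTheory CategoryTheory.Limits AlgebraicGeometry

/-- The δ-invariant does not drop under extension of the base field at a geometrically reduced point. -/
theorem deltaInv_le_bc (k : Type u) [Field k] (X : Scheme.{u}) [X.Over (Spec (CommRingCat.of k))]
    [LocallyOfFiniteType (X ↘ (Spec (CommRingCat.of k)))] (K : Type u) [Field K] [Algebra k K]
    (y : Curv2.bc k X K) (hx : Curv2.IsGeomReducedAt k X (Curv2.bcFst k X K y))
    (hdx : ringKrullDim (X.presheaf.stalk (Curv2.bcFst k X K y)) = 1) :
    Curv2.deltaInv (X.presheaf.stalk (Curv2.bcFst k X K y)) ≤ Curv2.deltaInv ((Curv2.bc k X K).presheaf.stalk y) := by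
  let g := Curv2.bcFst k X K
  letI : Algebra (X.presheaf.stalk (g y)) ((Curv2.bc k X K).presheaf.stalk y) := (g.stalkMap y).hom.toAlgebra
  haveI : IsLocalHom (algebraMap (X.presheaf.stalk (g y)) ((Curv2.bc k X K).presheaf.stalk y)) :=
    inferInstanceAs (IsLocalHom (g.stalkMap y).hom)
  haveI : Flat g := inferInstance
  haveI : Module.Flat (X.presheaf.stalk (g y)) ((Curv2.bc k X K).presheaf.stalk y) := Flat.stalkMap g y
  haveI : _root_.IsReduced ((Curv2.bc k X K).presheaf.stalk y) := hx K y rfl
  haveI : Module.FaithfullyFlat (X.presheaf.stalk (g y)) ((Curv2.bc k X K).presheaf.stalk y) :=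
    Module.FaithfullyFlat.of_flat_of_isLocalHom
  haveI : _root_.IsReduced (X.presheaf.stalk (g y)) :=
    isReduced_of_injective (algebraMap (X.presheaf.stalk (g y)) ((Curv2.bc k X K).presheaf.stalk y))
      (FaithfulSMul.algebraMap_injective _ _)
  haveI : IsLocallyNoetherian X := LocallyOfFiniteType.isLocallyNoetherian (X ↘ (Spec (CommRingCat.of k)))
  exact deltaInv_le _ _ hdx

end Groth.Agent.DeltaLe3
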