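import Groth.Prelude.Def_CAlgX
import Groth.Agent.Lib.SMT.Pairing
import Mathlib.RingTheory.Smooth.Locus
import Mathlib.LinearAlgebra.Matrix.SchurComplement

/-! # The smooth locus of a generic determinantal ring -/

set_option autoImplicit false
set_option linter.style.haveILetI false
universe u

open Matrix

namespace Groth.Agent.DetSmooth3

/-- A small perturbation does not change a determinant with small cofactors. -/
theorem det_add_eq {R : Type u} [CommRing R] {N : ℕ} (M E : Matrix (Fin N) (Fin N) R) (K 𝔪 : Ideal R)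
    (hKm : K ≤ 𝔪) (hK : ∀ a ∈ K, ∀ b ∈ 𝔪, a * b = 0) (hE : ∀ i j, E i j ∈ K)
    (hM : ∀ i j, adjugate M i j ∈ 𝔪) : (M + E).det = M.det := by
  classical
  let Ms : Finset (Fin N) → Matrix (Fin N) (Fin N) R := fun s =>
    Matrix.of fun i j => M i j + if i ∈ s then E i j else 0
  have hadj : ∀ s i j, adjugate (Ms s) i j ∈ 𝔪 := fun s i j => by
    rw [← Ideal.Quotient.eq_zero_iff_mem]
    have h1 : (Ideal.Quotient.mk 𝔪).mapMatrix (Ms s) = (Ideal.Quotient.mk 𝔪).mapMatrix M := by
      ext a b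
      simp only [RingHom.mapMatrix_apply, Matrix.map_apply, Ms, Matrix.of_apply]
      rw [Ideal.Quotient.eq, add_sub_cancel_left]
      split_ifs
      · exact hKm (hE a b)
      · exact zero_mem _
    have h2 := congrFun (congrFun (congrArg adjugate h1) i) j
    rw [← RingHom.map_adjugate, ← RingHom.map_adjugate] at h2
    exact h2.trans (Ideal.Quotient.eq_zero_iff_mem.2 (hM i j))
  have key : ∀ s, (Ms s).det = M.det := by
    intro s
    induction s using Finset.induction with
    | empty => congr 1; ext i j; simp [Ms]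
    | @insert a s ha ih =>
      have e1 : Ms (insert a s) = (Ms s).updateRow a (Ms s a + E a) := by
        ext i j
        rcases eq_or_ne i a with rfl | hne
        · simp [Ms, ha]
        · simp [Ms, hne]
      rw [e1, Matrix.det_updateRow_add, Matrix.updateRow_eq_self, ih, add_eq_left]
      have e2 : ((Ms s).updateRow a (E a)).det = ∑ j, adjugate (Ms s) j a * E a j := by
        rw [← Matrix.det_transpose, ← Matrix.updateCol_transpose, ← Matrix.cramer_apply, Matrix.cramer_eq_adjugate_mulVec,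
          ← Matrix.adjugate_transpose]
        rfl
      rw [e2]
      exact Finset.sum_eq_zero fun j _ => by rw [mul_comm]; exact hK _ (hE a j) _ (hadj s j a)
  rw [← key Finset.univ]
  congr 1
  ext i j
  simp [Ms]

theorem adjugate_mem_minorIdeal {R : Type u} [CommRing R] {n m r : ℕ} (A : Matrix (Fin n) (Fin m) R)
    (f : Fin (r + 1) → Fin n) (g : Fin (r + 1) → Fin m) (i j : Fin (r + 1)) :
    adjugate (A.submatrix f g) i j ∈ CAlgX.minorIdeal A r := by
  rw [Matrix.adjugate_fin_succ_eq_det_submatrix, Matrix.submatrix_submatrix]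
  exact Ideal.mul_mem_left _ _ (Ideal.subset_span ⟨⟨f ∘ j.succAbove, g ∘ i.succAbove⟩, rfl⟩)

/-- A determinant killed by a surjection onto a formally smooth algebra, with small cofactors. -/
theorem det_mem_of_formallySmooth (k : Type u) {A B : Type u} [CommRing k] [CommRing A] [CommRing B] [Algebra k A]
    [Algebra k B] [Algebra.FormallySmooth k B] (π : A →ₐ[k] B) (hπs : Function.Surjective π) (𝔪 : Ideal A)
    (hJm : RingHom.ker π ≤ 𝔪) {N : ℕ} (M : Matrix (Fin N) (Fin N) A) (hdet : π M.det = 0)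
    (hadj : ∀ i j, adjugate M i j ∈ 𝔪) : M.det ∈ 𝔪 * RingHom.ker π := by
  let K := 𝔪 * RingHom.ker π
  let q := Ideal.Quotient.mkₐ k K
  have hK : ∀ a ∈ 𝔪 * RingHom.ker π, π a = 0 := fun a ha => by
    have h2 : 𝔪 * RingHom.ker π ≤ RingHom.ker π := Ideal.mul_le_right
    exact RingHom.mem_ker.mp (h2 ha)
  let π' : (A ⧸ K) →ₐ[k] B := Ideal.Quotient.liftₐ K π hK
  have hπ' : ∀ a, π' (q a) = π a := fun a => rfl
  have hπ's : Function.Surjective π' := fun b => by
    obtain ⟨a, rfl⟩ := hπs b; exact ⟨q a, rfl⟩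
  have hker : RingHom.ker π'.toRingHom = (RingHom.ker π).map (Ideal.Quotient.mk K) := by
    refine le_antisymm (fun x hx => ?_) (Ideal.map_le_iff_le_comap.2 fun x hx => hx)
    obtain ⟨x, rfl⟩ := Ideal.Quotient.mk_surjective x
    exact Ideal.mem_map_of_mem _ (hx : π x = 0)
  have hzero : ∀ a ∈ (RingHom.ker π).map (Ideal.Quotient.mk K), ∀ b ∈ 𝔪.map (Ideal.Quotient.mk K), a * b = 0 :=
    fun a ha b hb => by
    obtain ⟨a, ha', rfl⟩ := (Ideal.mem_map_iff_of_surjective _ Ideal.Quotient.mk_surjective).1 ha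
    obtain ⟨b, hb', rfl⟩ := (Ideal.mem_map_iff_of_surjective _ Ideal.Quotient.mk_surjective).1 hb
    rw [← map_mul, Ideal.Quotient.eq_zero_iff_mem, mul_comm]
    exact Ideal.mul_mem_mul hb' ha'
  have hnil : IsNilpotent (RingHom.ker π'.toRingHom) := by
    refine ⟨2, ?_⟩
    rw [hker, pow_two, Ideal.zero_eq_bot, eq_bot_iff, Ideal.mul_le]
    exact fun a ha b hb => by rw [Ideal.mem_bot]; exact hzero a ha b (Ideal.map_mono hJm hb)
  let σ := Algebra.FormallySmooth.liftOfSurjective (AlgHom.id k B) π' hπ's hnil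
  have hσ : ∀ b, π' (σ b) = b := Algebra.FormallySmooth.liftOfSurjective_apply _ _ _ _
  refine Ideal.Quotient.eq_zero_iff_mem.1 (show q M.det = 0 from ?_)
  have h1 : (σ.comp π) M.det = 0 := by rw [AlgHom.comp_apply, hdet, map_zero]
  rw [AlgHom.map_det] at h1 ⊢
  rw [← det_add_eq (q.mapMatrix M) ((σ.comp π).mapMatrix M - q.mapMatrix M)
    ((RingHom.ker π).map (Ideal.Quotient.mk K)) (𝔪.map (Ideal.Quotient.mk K)) (Ideal.map_mono hJm) hzero ?_ ?_,
    add_sub_cancel, h1]
  · intro i j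
    rw [← hker, RingHom.mem_ker, Matrix.sub_apply, map_sub, sub_eq_zero]
    exact hσ _
  · intro i j
    rw [← AlgHom.map_adjugate q M]
    exact Ideal.mem_map_of_mem (Ideal.Quotient.mk K) (hadj i j)

/-- Bordered minors give the Schur complement identity. -/
theorem schur {R : Type u} [CommRing R] {n m r : ℕ} (A : Matrix (Fin n) (Fin m) R)
    (hA : ∀ f g, (A.submatrix f g : Matrix (Fin (r + 1)) (Fin (r + 1)) R).det = 0)
    (f : Fin r → Fin n) (g : Fin r → Fin m) (hu : IsUnit (A.submatrix f g).det) :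
    A.submatrix id g * (A.submatrix f g)⁻¹ * A.submatrix f id = A := by
  ext i j
  let D := A.submatrix f g
  letI : Invertible D := Matrix.invertibleOfIsUnitDet D hu
  have h := hA (Sum.elim f (fun _ : Fin 1 => i) ∘ finSumFinEquiv.symm) (Sum.elim g (fun _ : Fin 1 => j) ∘ finSumFinEquiv.symm)
  rw [← Matrix.submatrix_submatrix, Matrix.det_submatrix_equiv_self] at h
  have e : A.submatrix (Sum.elim f fun _ : Fin 1 => i) (Sum.elim g fun _ : Fin 1 => j) =
      Matrix.fromBlocks D (Matrix.of fun a (_ : Fin 1) => A (f a) j) (Matrix.of fun (_ : Fin 1) b => A i (g b))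
        (Matrix.of fun _ _ => A i j) := by
    ext (a | a) (b | b) <;> rfl
  rw [e, Matrix.det_fromBlocks₁₁] at h
  have h' := (IsUnit.mul_right_eq_zero hu).1 h
  rw [Matrix.det_fin_one, Matrix.sub_apply, sub_eq_zero] at h'
  refine Eq.trans ?_ h'.symm
  rw [Matrix.invOf_eq_nonsing_inv]
  simp only [Matrix.mul_apply]
  rfl

variable (k : Type u) [Field k] (n m r : ℕ)

local notation "Pol" => MvPolynomial (Fin n × Fin m) k
local notation "Xm" => (Matrix.of fun (i : Fin n) (j : Fin m) => (MvPolynomial.X (i, j) : MvPolynomial (Fin n × Fin m) k))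
local notation "Id1" => CAlgX.minorIdeal Xm (r + 1)

theorem formallySmooth_away (f : Fin r → Fin n) (g : Fin r → Fin m) :
    Algebra.FormallySmooth k (Localization.Away (Ideal.Quotient.mk Id1 ((Xm).submatrix f g).det)) := by
  let δ : Pol := ((Xm).submatrix f g).det
  let Rd := Localization.Away δ
  let Bd := Localization.Away (Ideal.Quotient.mk Id1 δ)
  haveI : Algebra.FormallySmooth k Rd := inferInstance
  let Y : Matrix (Fin n) (Fin m) Rd := (Xm).map (algebraMap Pol Rd)
  have hY : (Y.submatrix f g).det = algebraMap Pol Rd δ := by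
    rw [RingHom.map_det, RingHom.mapMatrix_apply, Matrix.submatrix_map]
  have hYu : IsUnit (Y.submatrix f g).det := hY ▸ IsLocalization.Away.algebraMap_isUnit δ
  let S := Y.submatrix id g * (Y.submatrix f g)⁻¹ * Y.submatrix f id
  let φ₀ : Pol →ₐ[k] Rd := MvPolynomial.aeval fun p => S p.1 p.2
  have hφX : (Xm).map φ₀ = S := by ext i j; simp [φ₀]
  have hφI : ∀ p ∈ Id1, φ₀ p = 0 := by
    have : Id1 ≤ RingHom.ker φ₀.toRingHom := by
      refine Ideal.span_le.2 ?_
      rintro _ ⟨⟨a, b⟩, rfl⟩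
      show φ₀ ((Xm).submatrix a b).det = 0
      rw [AlgHom.map_det, AlgHom.mapMatrix_apply, ← Matrix.submatrix_map, hφX]
      show ((Y.submatrix id g * (Y.submatrix f g)⁻¹ * Y.submatrix f id).submatrix a b).det = 0
      rw [← Matrix.submatrix_mul_equiv _ _ a (Equiv.refl (Fin r)) b]
      exact SMT.det_mul_eq_zero_of_lt (Nat.lt_succ_self r) _ _
    exact fun p hp => this hp
  let φ₁ : (Pol ⧸ Id1) →ₐ[k] Rd := Ideal.Quotient.liftₐ Id1 φ₀ hφI
  have hφδ : IsUnit (φ₁ (Ideal.Quotient.mk Id1 δ)) := by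
    show IsUnit (φ₀ δ)
    rw [AlgHom.map_det, AlgHom.mapMatrix_apply, ← Matrix.submatrix_map, hφX]
    have : S.submatrix f g = Y.submatrix f g := by
      show (Y.submatrix id g * (Y.submatrix f g)⁻¹ * Y.submatrix f id).submatrix f g = _
      rw [← Matrix.submatrix_mul_equiv _ _ f (Equiv.refl (Fin r)) g,
        ← Matrix.submatrix_mul_equiv _ _ f (Equiv.refl (Fin r)) (Equiv.refl (Fin r))]
      simp only [Matrix.submatrix_submatrix, Equiv.coe_refl, Function.comp_id, Function.id_comp,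
        Matrix.submatrix_id_id]
      rw [Matrix.mul_nonsing_inv _ hYu, one_mul]
    rw [this]
    exact hYu
  have hψ₀ : ∀ y : Submonoid.powers δ, IsUnit ((IsScalarTower.toAlgHom k (Pol ⧸ Id1) Bd).comp
      (Ideal.Quotient.mkₐ k Id1) y) := by
    rintro ⟨_, e, rfl⟩
    show IsUnit (algebraMap (Pol ⧸ Id1) Bd (Ideal.Quotient.mk Id1 (δ ^ e)))
    rw [map_pow, map_pow]
    exact (IsLocalization.Away.algebraMap_isUnit _).pow e
  let Ψ : Rd →ₐ[k] Bd := IsLocalization.liftAlgHom (M := Submonoid.powers δ) hψ₀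
  have hφ₁ : ∀ y : Submonoid.powers (Ideal.Quotient.mk Id1 δ), IsUnit (φ₁ y) := by
    rintro ⟨_, e, rfl⟩
    show IsUnit (φ₁ (_ ^ e))
    rw [map_pow]
    exact hφδ.pow e
  let Φ : Bd →ₐ[k] Rd := IsLocalization.liftAlgHom (M := Submonoid.powers (Ideal.Quotient.mk Id1 δ)) hφ₁
  have hΨ : ∀ p : Pol, Ψ (algebraMap Pol Rd p) = algebraMap (Pol ⧸ Id1) Bd (Ideal.Quotient.mk Id1 p) :=
    fun p => IsLocalization.lift_eq _ p
  have hΦ : ∀ p : Pol ⧸ Id1, Φ (algebraMap _ Bd p) = φ₁ p := fun p => IsLocalization.lift_eq _ p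
  have hid : Ψ.comp Φ = AlgHom.id k Bd := by
    apply IsLocalization.algHom_ext (Submonoid.powers (Ideal.Quotient.mk Id1 δ))
    refine Ideal.Quotient.algHom_ext k (MvPolynomial.algHom_ext fun p => ?_)
    show Ψ (Φ (algebraMap (Pol ⧸ Id1) Bd (Ideal.Quotient.mk Id1 (MvPolynomial.X p)))) =
      algebraMap (Pol ⧸ Id1) Bd (Ideal.Quotient.mk Id1 (MvPolynomial.X p))
    rw [hΦ, show φ₁ (Ideal.Quotient.mk Id1 (MvPolynomial.X p)) = φ₀ (MvPolynomial.X p) from rfl]
    simp only [φ₀, MvPolynomial.aeval_X]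
    let ι := (algebraMap (Pol ⧸ Id1) Bd).comp (Ideal.Quotient.mk Id1)
    let Z := (Xm).map ι
    have hZY : Y.map Ψ = Z := by ext i j; exact hΨ _
    have hZ : ∀ a b, (Z.submatrix a b : Matrix (Fin (r + 1)) (Fin (r + 1)) Bd).det = 0 := fun a b => by
      show ((((Xm).submatrix a b).map ι)).det = 0
      rw [← RingHom.mapMatrix_apply, ← RingHom.map_det, RingHom.comp_apply,
        Ideal.Quotient.eq_zero_iff_mem.2 (show ((Xm).submatrix a b).det ∈ Id1 from Ideal.subset_span ⟨⟨a, b⟩, rfl⟩), map_zero]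
    have hZu : IsUnit (Z.submatrix f g).det := by
      show IsUnit (((Xm).submatrix f g).map ι).det
      rw [← RingHom.mapMatrix_apply, ← RingHom.map_det]
      show IsUnit (algebraMap (Pol ⧸ Id1) Bd (Ideal.Quotient.mk Id1 δ))
      exact IsLocalization.Away.algebraMap_isUnit _
    have hinv : ((Y.submatrix f g)⁻¹).map Ψ = (Z.submatrix f g)⁻¹ := by
      refine (Matrix.inv_eq_left_inv ?_).symm
      rw [← hZY]
      show (Y.submatrix f g)⁻¹.map Ψ * (Y.submatrix f g).map Ψ = 1
      rw [← Matrix.map_mul, Matrix.nonsing_inv_mul _ hYu, Matrix.map_one _ (map_zero Ψ) (map_one Ψ)]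
    have hS : S.map Ψ = Z := by
      show (Y.submatrix id g * (Y.submatrix f g)⁻¹ * Y.submatrix f id).map Ψ = Z
      rw [Matrix.map_mul, Matrix.map_mul, hinv, ← Matrix.submatrix_map, ← Matrix.submatrix_map, hZY]
      exact schur Z hZ f g hZu
    exact congrFun (congrFun hS p.1) p.2
  refine Algebra.FormallySmooth.of_split Ψ ((Ideal.Quotient.mkₐ k _).comp Φ) ?_
  refine Eq.trans ?_ hid
  rfl

set_option maxHeartbeats 400000 in
theorem det_eq_zero_of_formallySmooth (P : Ideal (Pol ⧸ Id1)) [P.IsPrime]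
    (hP : (CAlgX.minorIdeal Xm r).map (Ideal.Quotient.mk Id1) ≤ P)
    [Algebra.FormallySmooth k (Localization.AtPrime P)] : Id1 = ⊥ := by
  let Q : Ideal Pol := P.comap (Ideal.Quotient.mk Id1)
  haveI : Q.IsPrime := Ideal.IsPrime.comap _
  let A := Localization.AtPrime Q
  let Bp := Localization.AtPrime P
  have hu : ∀ y : Q.primeCompl, IsUnit ((IsScalarTower.toAlgHom k (Pol ⧸ Id1) Bp).comp (Ideal.Quotient.mkₐ k Id1) y) :=
    fun y => IsLocalization.map_units Bp (⟨_, y.2⟩ : P.primeCompl)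
  let π : A →ₐ[k] Bp := IsLocalization.liftAlgHom (M := Q.primeCompl) hu
  have hπ : ∀ p : Pol, π (algebraMap Pol A p) = algebraMap (Pol ⧸ Id1) Bp (Ideal.Quotient.mk Id1 p) :=
    fun p => IsLocalization.lift_eq _ p
  have hπs : Function.Surjective π := fun b => by
    obtain ⟨⟨a, s⟩, h⟩ := IsLocalization.surj P.primeCompl b
    obtain ⟨a, rfl⟩ := Ideal.Quotient.mk_surjective a
    obtain ⟨t, ht⟩ := Ideal.Quotient.mk_surjective (s : Pol ⧸ Id1)
    have htQ : t ∈ Q.primeCompl := fun hh => s.2 (ht ▸ hh)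
    refine ⟨IsLocalization.mk' A a ⟨t, htQ⟩, ?_⟩
    have e := congrArg π (IsLocalization.mk'_spec A a ⟨t, htQ⟩)
    rw [map_mul, hπ, hπ] at e
    simp only [ht] at e
    exact (IsLocalization.map_units Bp s).mul_right_cancel (e.trans h.symm)
  let J := RingHom.ker π
  let 𝔪 := IsLocalRing.maximalIdeal A
  have hJI : J ≤ (Id1).map (algebraMap Pol A) := fun x hx => by
    obtain ⟨⟨a, s⟩, h⟩ := IsLocalization.surj Q.primeCompl x
    have h0 : π (algebraMap Pol A a) = 0 := by rw [← h, map_mul, RingHom.mem_ker.1 hx, zero_mul]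
    rw [hπ, IsLocalization.map_eq_zero_iff P.primeCompl] at h0
    obtain ⟨⟨u, hu⟩, h0⟩ := h0
    obtain ⟨u, rfl⟩ := Ideal.Quotient.mk_surjective u
    rw [← map_mul, Ideal.Quotient.eq_zero_iff_mem] at h0
    have := Ideal.mem_map_of_mem (algebraMap Pol A) h0
    rw [map_mul, Ideal.unit_mul_mem_iff_mem _ (IsLocalization.map_units A (⟨u, hu⟩ : Q.primeCompl)), ← h] at this
    exact (Ideal.mul_unit_mem_iff_mem _ (IsLocalization.map_units A s)).1 this
  have hJm : J ≤ 𝔪 := IsLocalRing.le_maximalIdeal fun h => by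
    have : π 1 = 0 := RingHom.mem_ker.1 (h.ge (Submodule.mem_top : (1 : A) ∈ ⊤))
    rw [map_one] at this
    exact one_ne_zero this
  have hI1 : Id1 ≤ (𝔪 * J).comap (algebraMap Pol A) := by
    refine Ideal.span_le.2 ?_
    rintro _ ⟨⟨a, b⟩, rfl⟩
    rw [SetLike.mem_coe, Ideal.mem_comap, RingHom.map_det]
    refine det_mem_of_formallySmooth k π hπs 𝔪 hJm _ ?_ fun i j => ?_
    · rw [← RingHom.map_det, hπ,
        Ideal.Quotient.eq_zero_iff_mem.2 (show ((Xm).submatrix a b).det ∈ Id1 from Ideal.subset_span ⟨⟨a, b⟩, rfl⟩), map_zero]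
    · rw [← RingHom.map_adjugate]
      have : adjugate ((Xm).submatrix a b) i j ∈ Q := hP (Ideal.mem_map_of_mem _ (adjugate_mem_minorIdeal (Xm) a b i j))
      show algebraMap Pol A _ ∈ 𝔪
      rw [show 𝔪 = Q.map (algebraMap Pol A) from Localization.AtPrime.map_eq_maximalIdeal.symm]
      exact Ideal.mem_map_of_mem _ this
  have hJ0 : J = ⊥ := by
    refine Submodule.eq_bot_of_le_smul_of_le_jacobson_bot 𝔪 J (IsNoetherian.noetherian J)
      (hJI.trans (Ideal.map_le_iff_le_comap.2 hI1)) (IsLocalRing.maximalIdeal_le_jacobson ⊥)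
  refine eq_bot_iff.2 fun p hp => ?_
  have : algebraMap Pol A p ∈ J := by
    rw [RingHom.mem_ker, hπ, Ideal.Quotient.eq_zero_iff_mem.2 hp, map_zero]
  rw [hJ0, Ideal.mem_bot] at this
  exact Ideal.mem_bot.2 (IsLocalization.injective A Q.primeCompl_le_nonZeroDivisors (this.trans (map_zero _).symm))

theorem minorIdeal_ne_bot (hr : r < min n m) : Id1 ≠ ⊥ := by
  intro h
  let f : Fin (r + 1) → Fin n := Fin.castLE (by omega)
  let g : Fin (r + 1) → Fin m := Fin.castLE (by omega)
  let ev : Pol →ₐ[k] k := MvPolynomial.aeval fun p => if p.1.val = p.2.val then 1 else 0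
  have h0 : ((Xm).submatrix f g).det = 0 := Ideal.mem_bot.1 (h.le (Ideal.subset_span ⟨⟨f, g⟩, rfl⟩))
  have h1 := congrArg ev h0
  rw [AlgHom.map_det, map_zero, show ev.mapMatrix ((Xm).submatrix f g) = 1 by
    ext i j; simp [ev, f, g, Matrix.one_apply, Fin.ext_iff]] at h1
  simp at h1

theorem mem_smoothLocus_iff (hr : r < min n m) (P : PrimeSpectrum (Pol ⧸ Id1)) :
    P ∈ Algebra.smoothLocus k (Pol ⧸ Id1) ↔
      ¬ (CAlgX.minorIdeal Xm r).map (Ideal.Quotient.mk Id1) ≤ P.asIdeal := by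
  constructor
  · intro h hP
    haveI : Algebra.FormallySmooth k (Localization.AtPrime P.asIdeal) := h
    exact minorIdeal_ne_bot k n m r hr (det_eq_zero_of_formallySmooth k n m r P.asIdeal hP)
  · intro hP
    rw [Ideal.map_le_iff_le_comap] at hP
    obtain ⟨_, ⟨⟨f, g⟩, rfl⟩, hP⟩ : ∃ x ∈ Set.range (fun fg : (Fin r → Fin n) × (Fin r → Fin m) => ((Xm).submatrix fg.1 fg.2).det),
        Ideal.Quotient.mk Id1 x ∉ P.asIdeal := by
      by_contra h
      push Not at h
      exact hP (Ideal.span_le.2 h)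
    let d := Ideal.Quotient.mk Id1 ((Xm).submatrix f g).det
    haveI : Algebra.FormallySmooth k (Localization.Away d) := formallySmooth_away k n m r f g
    have hu : ∀ y : Submonoid.powers d, IsUnit (algebraMap (Pol ⧸ Id1) (Localization.AtPrime P.asIdeal) y) := by
      rintro ⟨_, e, rfl⟩
      exact IsLocalization.map_units _ (⟨d ^ e, fun hh => hP (P.2.mem_of_pow_mem e hh)⟩ : P.asIdeal.primeCompl)
    letI : Algebra (Localization.Away d) (Localization.AtPrime P.asIdeal) := (IsLocalization.lift hu).toAlgebra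
    haveI : IsScalarTower (Pol ⧸ Id1) (Localization.Away d) (Localization.AtPrime P.asIdeal) :=
      IsScalarTower.of_algebraMap_eq fun x => (IsLocalization.lift_eq hu x).symm
    haveI : IsScalarTower k (Localization.Away d) (Localization.AtPrime P.asIdeal) :=
      IsScalarTower.to₁₃₄ k (Pol ⧸ Id1) (Localization.Away d) (Localization.AtPrime P.asIdeal)
    haveI : IsLocalization (P.asIdeal.primeCompl.map (algebraMap (Pol ⧸ Id1) (Localization.Away d)))
        (Localization.AtPrime P.asIdeal) :=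
      IsLocalization.isLocalization_of_submonoid_le (Localization.Away d) (Localization.AtPrime P.asIdeal)
        (Submonoid.powers d) P.asIdeal.primeCompl (Submonoid.powers_le.2 hP)
    haveI : Algebra.FormallySmooth (Localization.Away d) (Localization.AtPrime P.asIdeal) :=
      Algebra.FormallySmooth.of_isLocalization (P.asIdeal.primeCompl.map (algebraMap (Pol ⧸ Id1) (Localization.Away d)))
    exact Algebra.FormallySmooth.comp k (Localization.Away d) (Localization.AtPrime P.asIdeal)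

end Groth.Agent.DetSmooth3
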