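import Groth.Agent.Lib.H2Alg.WeakAss
import Mathlib.LinearAlgebra.TensorProduct.Basis
import Mathlib.LinearAlgebra.TensorProduct.Tower
import Mathlib.RingTheory.Localization.BaseChange
import Mathlib.RingTheory.Flat.Stability
import Mathlib.RingTheory.Flat.EquationalCriterion
import Mathlib.LinearAlgebra.TensorProduct.RightExactness
import Mathlib.RingTheory.Ideal.GoingUp
import Mathlib.RingTheory.LocalRing.Module
import Mathlib.RingTheory.Artinian.Ring
import Mathlib.RingTheory.Spectrum.Prime.RingHom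
import Mathlib.RingTheory.QuasiFinite.Basic

/-!
Weakly associated primes and flat base change `A → B`.

* `mem_weakAss_iff`: criterion.
* `weakAss_baseChange_of_flat`: `p ∈ weakAss M`, `u` minimal over `p` ⇒ `u ∈ weakAss (B ⊗ M)`.
* `weakAss_of_baseChange_finite_flat`: converse for finite flat algebras.
* `weakAss_localizedModule_iff`: localisation.
* `weakAss_linearEquiv`.
-/

universe u

open TensorProduct

namespace Groth.Agent.WeakAssBC4

open H2Alg

lemma mem_weakAss_iff {R M : Type*} [CommRing R] [AddCommGroup M] [Module R M] {p : Ideal R} [p.IsPrime] :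
    p ∈ FlatCA.weakAss R M ↔ ∃ m : M, (∀ s, s ∉ p → s • m ≠ 0) ∧
      ∀ a ∈ p, ∃ (k : ℕ) (s : R), s ∉ p ∧ (s * a ^ k) • m = 0 := by
  rw [mem_weakAss]
  refine exists_congr fun m => ?_
  rw [mem_minimalPrimes_iff_exists_mul_pow_mem]
  simp only [mem_annEl]
  refine and_congr ⟨fun h s hs h0 => hs (h (mem_annEl.2 h0)), fun h a ha => ?_⟩ Iff.rfl
  by_contra hap
  exact h a hap (mem_annEl.1 ha)

lemma weakAss_of_injective {R M N : Type*} [CommRing R] [AddCommGroup M] [Module R M] [AddCommGroup N] [Module R N]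
    (f : M →ₗ[R] N) (hf : Function.Injective f) {p : Ideal R} (h : p ∈ FlatCA.weakAss R M) :
    p ∈ FlatCA.weakAss R N := by
  obtain ⟨m, hm⟩ := h
  have : annEl R (f m) = annEl R m := by
    ext r; rw [mem_annEl, mem_annEl, ← map_smul, map_eq_zero_iff f hf]
  exact ⟨f m, (congrArg (fun I : Ideal R => p ∈ I.minimalPrimes) this).mpr hm⟩

lemma weakAss_linearEquiv {R M N : Type*} [CommRing R] [AddCommGroup M] [Module R M] [AddCommGroup N] [Module R N]
    (e : M ≃ₗ[R] N) {p : Ideal R} : p ∈ FlatCA.weakAss R M ↔ p ∈ FlatCA.weakAss R N :=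
  ⟨weakAss_of_injective e.toLinearMap e.injective, weakAss_of_injective e.symm.toLinearMap e.symm.injective⟩

section flat

variable {A B : Type*} [CommRing A] [CommRing B] [Algebra A B] {M : Type*} [AddCommGroup M] [Module A M]

/-- The annihilator of `1 ⊗ m` in a flat base change. -/
lemma annEl_one_tmul_le [Module.Flat A B] (m : M) :
    annEl B ((1 : B) ⊗ₜ[A] m) ≤ (annEl A m).map (algebraMap A B) := by
  intro b hb
  rw [mem_annEl, TensorProduct.smul_tmul', smul_eq_mul, mul_one] at hb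
  let φ : A →ₗ[A] M := LinearMap.toSpanSingleton A M m
  let ι : LinearMap.ker φ →ₗ[A] A := (LinearMap.ker φ).subtype
  have hex : Function.Exact ι φ := LinearMap.exact_subtype_ker_map φ
  obtain ⟨z, hz⟩ := (Module.Flat.lTensor_exact B hex (b ⊗ₜ[A] (1 : A))).mp
    (by rw [LinearMap.lTensor_tmul]; simpa [φ] using hb)
  have key : ∀ z : B ⊗[A] LinearMap.ker φ,
      TensorProduct.rid A B (ι.lTensor B z) ∈ (annEl A m).map (algebraMap A B) := by
    intro z
    induction z using TensorProduct.induction_on with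
    | zero => simp
    | tmul c k =>
      rw [LinearMap.lTensor_tmul, TensorProduct.rid_tmul, Algebra.smul_def]
      refine Ideal.mul_mem_right _ _ (Ideal.mem_map_of_mem _ (mem_annEl.2 ?_))
      exact (LinearMap.toSpanSingleton_apply A M m (k : A)).symm.trans k.2
    | add x y hx hy => rw [map_add, map_add]; exact add_mem hx hy
  have := key z
  rwa [hz, TensorProduct.rid_tmul, one_smul] at this

/-- Weakly associated primes go up along a flat map, to primes minimal in their fibre. -/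
theorem weakAss_baseChange_of_flat [Module.Flat A B] {p : Ideal A} [p.IsPrime] (u : Ideal B) [u.IsPrime]
    [u.LiesOver p] (hu : ∀ q : Ideal B, q.IsPrime → q ≤ u → p ≤ q.comap (algebraMap A B) → q = u)
    (h : p ∈ FlatCA.weakAss A M) : u ∈ FlatCA.weakAss B (B ⊗[A] M) := by
  obtain ⟨m, hm⟩ := h
  have hpu : p = u.comap (algebraMap A B) := Ideal.over_def u p
  have h1 : (annEl A m).map (algebraMap A B) ≤ u := Ideal.map_le_iff_le_comap.2 (hpu ▸ hm.le)
  refine ⟨(1 : B) ⊗ₜ m, ⟨inferInstance, (annEl_one_tmul_le m).trans h1⟩, fun q hq hqu => ?_⟩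
  have : q.IsPrime := hq.1
  refine (hu q hq.1 hqu (hm.2 ⟨inferInstance, ?_⟩ ?_)).ge
  · intro a ha
    refine Ideal.mem_comap.2 (hq.2 (mem_annEl.2 ?_))
    rw [algebraMap_smul, ← TensorProduct.tmul_smul, mem_annEl.1 ha, TensorProduct.tmul_zero]
  · rw [hpu]; exact Ideal.comap_mono hqu

/-- Weakly associated primes of `B`-modules as modules over `A`, `B` finite over `A`. -/
theorem weakAss_restrict_of_finite [Module.Finite A B] {N : Type*} [AddCommGroup N] [Module B N] [Module A N]
    [IsScalarTower A B N] {p : Ideal A} [p.IsPrime] (u : Ideal B) [u.IsPrime] [u.LiesOver p]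
    (h : u ∈ FlatCA.weakAss B N) : p ∈ FlatCA.weakAss A N := by
  classical
  have hpu : p = u.comap (algebraMap A B) := Ideal.over_def u p
  have hfin : (p.primesOver B).Finite := Algebra.QuasiFinite.finite_primesOver p
  obtain ⟨c, hcu, hc⟩ : ∃ c ∈ u, ∀ Q ∈ p.primesOver B, c ∈ Q → Q = u := by
    have hne : ¬ ((u : Set B) ⊆ ⋃ Q ∈ (↑(hfin.toFinset.erase u) : Set (Ideal B)), (Q : Set B)) := by
      rw [Ideal.subset_union_prime u u fun Q hQ _ _ => ((hfin.mem_toFinset).1 (Finset.mem_of_mem_erase hQ)).1]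
      rintro ⟨Q, hQ, hle⟩
      obtain ⟨hne, hQ⟩ := Finset.mem_erase.1 hQ
      obtain ⟨hQp, hQo⟩ := hfin.mem_toFinset.1 hQ
      have := hQp
      exact hne (Algebra.QuasiFinite.eq_of_le_of_under_eq (R := A) u Q hle (by rw [← u.over_def p, ← hQo.over])).symm
    obtain ⟨c, hcu, hc⟩ := Set.not_subset.1 hne
    refine ⟨c, hcu, fun Q hQ hcQ => by_contra fun hne => hc ?_⟩
    exact Set.mem_biUnion (Finset.mem_coe.2 (Finset.mem_erase.2 ⟨hne, hfin.mem_toFinset.2 hQ⟩)) hcQ
  obtain ⟨n, hn⟩ := h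
  obtain ⟨hle, hpow⟩ := mem_minimalPrimes_iff_exists_mul_pow_mem.1 hn
  obtain ⟨k, s, hs, hsc⟩ := hpow c hcu
  have hle' : annEl B (s • n) ≤ u := fun b hb =>
    ((‹u.IsPrime›).mem_or_mem (hle (mem_annEl.2 (by rw [mul_smul, mem_annEl.1 hb])))).resolve_right hs
  have hcomap : annEl A (s • n) = (annEl B (s • n)).comap (algebraMap A B) := annEl_eq_comap _
  refine ⟨s • n, ⟨inferInstance, hcomap.le.trans (le_of_le_of_eq (Ideal.comap_mono hle') hpu.symm)⟩, fun p' hp' hp'p => ?_⟩
  have : p'.IsPrime := hp'.1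
  obtain ⟨q, hq0, hq, hqp'⟩ := Ideal.exists_ideal_over_prime_of_isIntegral p' (annEl B (s • n)) (hcomap.ge.trans hp'.2)
  have hp'' : q.comap (algebraMap A B) ≤ p := hqp' ▸ hp'p
  obtain ⟨Q, hqQ, hQ, hQp⟩ := Ideal.exists_ideal_over_prime_of_isIntegral p q hp''
  have hckQ : c ^ k ∈ Q := hqQ (hq0 (mem_annEl.2 (by rw [← mul_smul, mul_comm, mem_annEl.1 hsc])))
  have hQu : Q = u := hc Q ⟨hQ, ⟨hQp.symm⟩⟩ (hQ.mem_of_pow_mem _ hckQ)
  subst hQu
  have hnq : annEl B n ≤ q := fun b hb => hq0 (mem_annEl.2 (by rw [smul_comm, mem_annEl.1 hb, smul_zero]))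
  have hqu : Q ≤ q := hn.2 ⟨hq, hnq⟩ hqQ
  rw [← hqp', hpu]
  exact Ideal.comap_mono hqu

/-- For `B` finite flat over `A`, weakly associated primes of `B ⊗ M` over `A` are those of `M`. -/
theorem weakAss_of_baseChange_self [Module.Finite A B] [Module.Flat A B] {p : Ideal A} [p.IsPrime]
    (h : p ∈ FlatCA.weakAss A (B ⊗[A] M)) : p ∈ FlatCA.weakAss A M := by
  classical
  obtain ⟨n, hn, hpow⟩ := mem_weakAss_iff.1 h
  let R := Localization.AtPrime p
  have : Module.Free R (R ⊗[A] B) := Module.free_of_flat_of_isLocalRing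
  let 𝔟 := Module.Free.chooseBasis R (R ⊗[A] B)
  let e := (TensorProduct.AlgebraTensorModule.distribBaseChange A R B M).trans
    (TensorProduct.equivFinsuppOfBasisLeft 𝔟)
  let ν : B ⊗[A] M →ₗ[A] R ⊗[A] (B ⊗[A] M) := TensorProduct.mk A R (B ⊗[A] M) 1
  let μ : M →ₗ[A] R ⊗[A] M := TensorProduct.mk A R M 1
  have hν : IsLocalizedModule p.primeCompl ν := inferInstance
  have hμ : IsLocalizedModule p.primeCompl μ := inferInstance
  have hz : e (ν n) ≠ 0 := by
    intro h0
    rw [LinearEquiv.map_eq_zero_iff, IsLocalizedModule.eq_zero_iff p.primeCompl ν] at h0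
    obtain ⟨t, ht⟩ := h0
    exact hn t t.2 ht
  obtain ⟨i, hi⟩ := Finsupp.ne_iff.1 hz
  obtain ⟨⟨m0, s0⟩, hm0⟩ := IsLocalizedModule.surj p.primeCompl μ (e (ν n) i)
  refine mem_weakAss_iff.2 ⟨m0, fun t ht h0 => hi ?_, fun a ha => ?_⟩
  · have h1 : μ m0 = 0 := (IsLocalizedModule.eq_zero_iff p.primeCompl μ).2 ⟨⟨t, ht⟩, h0⟩
    simp only at hm0
    rw [h1] at hm0
    exact IsLocalizedModule.smul_injective μ s0 (hm0.trans (smul_zero _).symm)
  · obtain ⟨k, t, ht, h0⟩ := hpow a ha
    have h1 : (t * a ^ k) • μ m0 = 0 := by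
      simp only at hm0
      rw [← hm0, smul_comm]
      have : (t * a ^ k) • (e (ν n) i) = 0 := by
        rw [← Finsupp.smul_apply, ← LinearEquiv.coe_coe, ← LinearMap.map_smul_of_tower, ← map_smul, h0]
        simp
      rw [this, smul_zero]
    rw [← map_smul, IsLocalizedModule.eq_zero_iff p.primeCompl μ] at h1
    obtain ⟨t', ht'⟩ := h1
    refine ⟨k, (t' : A) * t, fun h => ((‹p.IsPrime›).mem_or_mem h).elim t'.2 ht, ?_⟩
    rw [mul_assoc, mul_smul]
    exact ht'

/-- Converse of `weakAss_baseChange_of_flat` for finite flat algebras. -/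
theorem weakAss_of_baseChange_finite_flat [Module.Finite A B] [Module.Flat A B] {p : Ideal A} [p.IsPrime]
    (u : Ideal B) [u.IsPrime] [u.LiesOver p] (h : u ∈ FlatCA.weakAss B (B ⊗[A] M)) :
    p ∈ FlatCA.weakAss A M :=
  weakAss_of_baseChange_self (weakAss_restrict_of_finite (N := B ⊗[A] M) u h)

end flat

section loc

variable {B B' : Type*} [CommRing B] [CommRing B'] [Algebra B B'] (S : Submonoid B) [IsLocalization S B']
  {N N' : Type*} [AddCommGroup N] [Module B N] [AddCommGroup N'] [Module B N'] [Module B' N']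
  [IsScalarTower B B' N'] (f : N →ₗ[B] N') [IsLocalizedModule S f]

include S f in
theorem weakAss_localizedModule_iff (u' : Ideal B') [u'.IsPrime] :
    u' ∈ FlatCA.weakAss B' N' ↔ u'.comap (algebraMap B B') ∈ FlatCA.weakAss B N := by
  set u := u'.comap (algebraMap B B') with hu
  have hSu : ∀ s ∈ S, s ∉ u := fun s hs h =>
    ((IsLocalization.isPrime_iff_isPrime_disjoint S B' u').1 inferInstance).2.le_bot ⟨hs, h⟩
  constructor
  · intro h
    obtain ⟨n, hn, hpow⟩ := mem_weakAss_iff.1 h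
    obtain ⟨⟨n0, s⟩, hs⟩ := IsLocalizedModule.surj S f n
    simp only [Submonoid.smul_def] at hs
    refine mem_weakAss_iff.2 ⟨n0, fun t ht h0 => hn (algebraMap B B' (t * s)) ?_ ?_, fun a ha => ?_⟩
    · exact fun h => (‹u'.IsPrime›.comap (algebraMap B B')).mem_or_mem (x := t) (y := s) h |>.elim ht (hSu s s.2)
    · rw [algebraMap_smul, mul_smul, hs, ← map_smul, h0, map_zero]
    · obtain ⟨k, t', ht', h0⟩ := hpow (algebraMap B B' a) ha
      obtain ⟨t, s1, rfl⟩ := IsLocalization.exists_mk'_eq S t'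
      have htu : t ∉ u := fun h => ht' (IsLocalization.mk'_mem_iff.2 h)
      have h1 : f ((t * a ^ k) • n0) = 0 := by
        have h2 := congrArg (fun x => ((s : B) * s1) • x) h0
        simp only [smul_zero] at h2
        rw [← algebraMap_smul B' ((s : B) * s1), ← mul_smul, map_mul, mul_assoc, ← mul_assoc (algebraMap B B' s1),
          IsLocalization.mk'_spec'] at h2
        rw [map_smul, ← hs, ← mul_smul, ← algebraMap_smul B', map_mul, map_mul, map_pow]
        linear_combination (norm := module) h2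
      obtain ⟨s2, hs2⟩ := (IsLocalizedModule.eq_zero_iff S f).1 h1
      refine ⟨k, (s2 : B) * t, fun h => ?_, ?_⟩
      · exact ((‹u'.IsPrime›.comap (algebraMap B B')).mem_or_mem h).elim (hSu _ s2.2) htu
      · rw [mul_assoc, mul_smul]; exact hs2
  · intro h
    obtain ⟨n, hn, hpow⟩ := mem_weakAss_iff.1 h
    refine mem_weakAss_iff.2 ⟨f n, fun t' ht' h0 => ?_, fun a' ha' => ?_⟩
    · obtain ⟨t, s1, rfl⟩ := IsLocalization.exists_mk'_eq S t'
      have h1 : f (t • n) = 0 := by
        rw [map_smul, ← algebraMap_smul B', ← IsLocalization.mk'_spec' B' t s1, mul_smul, h0, smul_zero]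
      obtain ⟨s2, hs2⟩ := (IsLocalizedModule.eq_zero_iff S f).1 h1
      refine hn ((s2 : B) * t) (fun h => ?_) (by rw [mul_smul]; exact hs2)
      exact ((‹u'.IsPrime›.comap (algebraMap B B')).mem_or_mem h).elim (hSu _ s2.2)
        (fun h => ht' (IsLocalization.mk'_mem_iff.2 h))
    · obtain ⟨a, s1, rfl⟩ := IsLocalization.exists_mk'_eq S a'
      obtain ⟨k, t, ht, h0⟩ := hpow a (IsLocalization.mk'_mem_iff.1 ha')
      refine ⟨k, algebraMap B B' t, ht, ?_⟩
      have : algebraMap B B' t * IsLocalization.mk' B' a s1 ^ k =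
          IsLocalization.mk' B' 1 (s1 ^ k) * algebraMap B B' (t * a ^ k) := by
        rw [← IsLocalization.mk'_pow, IsLocalization.mul_mk'_eq_mk'_of_mul, ← IsLocalization.mk'_one (M := S) B' (t * a ^ k),
          ← IsLocalization.mk'_mul, one_mul, mul_one]
      rw [this, mul_smul, algebraMap_smul, ← map_smul, h0, map_zero, smul_zero]

include S in
/-- Localisation, for base changed modules. -/
theorem weakAss_baseChange_localization_iff {A : Type*} [CommRing A] [Algebra A B] [Algebra A B']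
    [IsScalarTower A B B'] (M : Type*) [AddCommGroup M] [Module A M] (u' : Ideal B') [u'.IsPrime] :
    u' ∈ FlatCA.weakAss B' (B' ⊗[A] M) ↔ u'.comap (algebraMap B B') ∈ FlatCA.weakAss B (B ⊗[A] M) := by
  rw [← weakAss_localizedModule_iff S (TensorProduct.mk B B' (B ⊗[A] M) 1) u']
  exact (weakAss_linearEquiv (TensorProduct.AlgebraTensorModule.cancelBaseChange A B B' B' M)).symm

end loc

end Groth.Agent.WeakAssBC4
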