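import Groth.Agent.Lib.UCat26.DimEq
import Groth.Agent.Lib.DimFormula14.Scheme
import Groth.Agent.Lib.EquidimStalk4

/-!
# The dimension formula for schemes over a universally catenary base
-/

universe u

open CategoryTheory AlgebraicGeometry Topology TensorProduct

set_option backward.isDefEq.respectTransparency.types false

namespace Groth.Agent.DimEqScheme4

open DimFormula14

theorem tr_congr {A B A' B' : Type u} [CommRing A] [CommRing B] [CommRing A'] [CommRing B'] [IsDomain B']
    [Nontrivial A] [Algebra A B] [Algebra A' B'] [Algebra A A'] [Algebra B B'] [Algebra A B']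
    [IsScalarTower A B B'] [IsScalarTower A A' B'] [FaithfulSMul A B] [FaithfulSMul A A'] [FaithfulSMul B B']
    [FaithfulSMul A' B'] [Algebra.IsAlgebraic A A'] [Algebra.IsAlgebraic B B'] :
    tr A B = tr A' B' := by
  have h1 := trdeg_add_eq A B (A := B')
  have h2 := trdeg_add_eq A A' (A := B')
  rw [trdeg_eq_zero (R := B) (A := B'), add_zero] at h1
  rw [trdeg_eq_zero (R := A) (A := A'), zero_add] at h2
  rw [tr, tr, h1, h2]

/-- quotients of localisations are algebraic -/
theorem isAlgebraic_quotient {B S : Type u} [CommRing B] [CommRing S] [Algebra B S] (M : Submonoid B)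
    [IsLocalization M S] (q : Ideal B) [q.IsPrime] (hd : Disjoint (M : Set B) q) (Q : Ideal S) [Q.IsPrime]
    [Q.LiesOver q] : Algebra.IsAlgebraic (B ⧸ q) (S ⧸ Q) := by
  refine ⟨fun z => ?_⟩
  obtain ⟨z, rfl⟩ := Ideal.Quotient.mk_surjective z
  obtain ⟨⟨b, s⟩, hs⟩ := IsLocalization.surj M z
  refine ⟨Polynomial.C (Ideal.Quotient.mk q (s : B)) * Polynomial.X - Polynomial.C (Ideal.Quotient.mk q b), ?_, ?_⟩
  · intro h
    have h1 := congrArg (fun f => Polynomial.coeff f 1) h
    simp [Polynomial.coeff_C] at h1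
    exact Set.disjoint_left.1 hd s.2 (Ideal.Quotient.eq_zero_iff_mem.1 h1)
  · simp only [map_sub, map_mul, Polynomial.aeval_C, Polynomial.aeval_X]
    rw [show algebraMap (B ⧸ q) (S ⧸ Q) (Ideal.Quotient.mk q (s : B)) = Ideal.Quotient.mk Q (algebraMap B S s) from rfl,
      show algebraMap (B ⧸ q) (S ⧸ Q) (Ideal.Quotient.mk q b) = Ideal.Quotient.mk Q (algebraMap B S b) from rfl,
      ← map_mul, ← map_sub, mul_comm, hs, sub_self, map_zero]

theorem height_add_tr_eq_local {A B : Type u} [CommRing A] [IsDomain A] [CommRing B] [IsDomain B] [Algebra A B]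
    [FaithfulSMul A B] [Algebra.FiniteType A B] (p : Ideal A) [p.IsPrime] (q : Ideal B) [q.IsPrime] [q.LiesOver p]
    (hA : CAlg.IsUniversallyCatenary (Localization.AtPrime p)) :
    q.height + tr (A ⧸ p) (B ⧸ q) = p.height + tr A B := by
  let R := Localization.AtPrime p
  let S := R ⊗[A] B
  let M := Algebra.algebraMapSubmonoid B p.primeCompl
  letI : Algebra B S := Algebra.TensorProduct.rightAlgebra
  haveI : IsLocalization M S := IsLocalization.tensorRight R p.primeCompl
  haveI : IsScalarTower A B S := IsScalarTower.of_algebraMap_eq fun a => by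
    show _ = (1 : R) ⊗ₜ[A] algebraMap A B a
    rw [Algebra.algebraMap_eq_smul_one a (A := B), tmul_smul, ← Algebra.TensorProduct.one_def,
      Algebra.algebraMap_eq_smul_one]
  have hp0 : (0 : A) ∉ p.primeCompl := fun h => h p.zero_mem
  have hM : M ≤ nonZeroDivisors B := by
    rintro _ ⟨a, ha, rfl⟩
    refine mem_nonZeroDivisors_of_ne_zero fun h => ha ?_
    rw [FaithfulSMul.algebraMap_injective A B (h.trans (map_zero _).symm)]
    exact p.zero_mem
  haveI : IsDomain S := IsLocalization.isDomain_of_le_nonZeroDivisors (M := M) S hM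
  haveI : IsDomain R := IsLocalization.isDomain_localization p.primeCompl_le_nonZeroDivisors
  haveI : FaithfulSMul B S := (faithfulSMul_iff_algebraMap_injective B S).2 (IsLocalization.injective S hM)
  haveI : FaithfulSMul A R := (faithfulSMul_iff_algebraMap_injective A R).2
    (IsLocalization.injective R p.primeCompl_le_nonZeroDivisors)
  haveI : FaithfulSMul R S := (faithfulSMul_iff_algebraMap_injective R S).2 <| by
    rw [injective_iff_map_eq_zero]
    intro r hr
    obtain ⟨⟨a, s⟩, hs⟩ := IsLocalization.surj p.primeCompl r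
    have h1 : algebraMap A S a = 0 := by
      rw [IsScalarTower.algebraMap_apply A R S, ← hs, map_mul, hr, zero_mul]
    have h2 : algebraMap A B a = 0 := by
      refine FaithfulSMul.algebraMap_injective B S ?_
      rw [← IsScalarTower.algebraMap_apply A B S, h1, map_zero]
    have h3 : a = 0 := FaithfulSMul.algebraMap_injective A B (h2.trans (map_zero _).symm)
    rw [h3, map_zero] at hs
    exact (mul_eq_zero.1 hs).resolve_right fun h => s.2 (by
      rw [FaithfulSMul.algebraMap_injective A R (h.trans (map_zero _).symm)]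
      exact p.zero_mem)
  haveI : Algebra.IsAlgebraic A R := IsLocalization.isAlgebraic R p.primeCompl
  haveI : Algebra.IsAlgebraic B S := IsLocalization.isAlgebraic S M
  haveI : Algebra.FiniteType R S := inferInstance
  have hd : Disjoint (M : Set B) q := by
    refine Set.disjoint_left.2 ?_
    rintro _ ⟨a, ha, rfl⟩ haq
    exact ha ((Ideal.LiesOver.over (P := q) (p := p)).ge haq)
  let Q : Ideal S := q.map (algebraMap B S)
  haveI : Q.IsPrime := IsLocalization.isPrime_of_isPrime_disjoint M S q ‹_› hd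
  have hQq : Q.under B = q := IsLocalization.under_map_of_isPrime_disjoint M S ‹_› hd
  haveI : Q.LiesOver q := ⟨hQq.symm⟩
  let P : Ideal R := IsLocalRing.maximalIdeal R
  have hPp : P.under A = p := IsLocalization.AtPrime.comap_maximalIdeal R p
  have hQA : (Q.under R).under A = p := by
    rw [Ideal.under_under, ← Ideal.under_under (B := B) Q, hQq]
    exact (Ideal.LiesOver.over (P := q) (p := p)).symm
  haveI : Q.LiesOver P := ⟨by
    haveI : (Q.under R).IsPrime := inferInstance
    rw [← IsLocalization.map_comap p.primeCompl R P, ← IsLocalization.map_comap p.primeCompl R (Q.under R)]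
    exact congrArg (Ideal.map (algebraMap A R)) (hPp.trans hQA.symm)⟩
  haveI : P.LiesOver p := ⟨hPp.symm⟩
  haveI : Q.LiesOver p := Ideal.LiesOver.trans Q P p
  have key := UCat26.height_add_tr_eq R hA S P Q
  have e1 : Q.height = q.height := by rw [← IsLocalization.height_under M Q, hQq]
  have e2 : P.height = p.height := by rw [← IsLocalization.height_under p.primeCompl P, hPp]
  haveI := faithfulSMul_quotient p q
  haveI := faithfulSMul_quotient p P
  haveI := faithfulSMul_quotient q Q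
  haveI := faithfulSMul_quotient P Q
  haveI : Algebra.IsAlgebraic (B ⧸ q) (S ⧸ Q) := isAlgebraic_quotient M q hd Q
  haveI : Algebra.IsAlgebraic (A ⧸ p) (R ⧸ P) :=
    isAlgebraic_quotient p.primeCompl p (Set.disjoint_left.2 fun a ha h => ha h) P
  letI : Algebra (A ⧸ p) (S ⧸ Q) := Ideal.Quotient.algebraQuotientOfLEComap
    (Ideal.LiesOver.over (P := Q) (p := p)).le
  haveI : IsScalarTower (A ⧸ p) (B ⧸ q) (S ⧸ Q) := IsScalarTower.of_algebraMap_eq fun z => by
    obtain ⟨a, rfl⟩ := Ideal.Quotient.mk_surjective z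
    exact congrArg (Ideal.Quotient.mk Q) (IsScalarTower.algebraMap_apply A B S a)
  haveI : IsScalarTower (A ⧸ p) (R ⧸ P) (S ⧸ Q) := IsScalarTower.of_algebraMap_eq fun z => by
    obtain ⟨a, rfl⟩ := Ideal.Quotient.mk_surjective z
    exact congrArg (Ideal.Quotient.mk Q) (IsScalarTower.algebraMap_apply A R S a)
  have e3 : tr (A ⧸ p) (B ⧸ q) = tr (R ⧸ P) (S ⧸ Q) := tr_congr
  have e4 : tr A B = tr R S := tr_congr
  rw [← e1, ← e2, e3, e4]
  exact key

open FibDim14 EquidimStalk4

/-- The dimension formula for a dominant morphism of integral schemes. -/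
theorem stalkDim_add_rd_eq {A B : Scheme.{u}} (f : A ⟶ B) [IsIntegral A] [IsIntegral B] [IsLocallyNoetherian B]
    [LocallyOfFiniteType f] {g : A} {g₀ : B} (hg : ∀ a, g ⤳ a) (hg₀ : ∀ b, g₀ ⤳ b) (hfg : f g = g₀) (x : A)
    (hcat : CAlg.IsUniversallyCatenary (B.presheaf.stalk (f x))) :
    ringKrullDim (A.presheaf.stalk x) + (rd f x : WithBot ℕ∞) =
      ringKrullDim (B.presheaf.stalk (f x)) + (rd f g : WithBot ℕ∞) := by
  obtain ⟨U, V, hU, hV, e, hx⟩ := VarDim.exists_chart f x
  haveI : Nonempty U := ⟨⟨x, hx⟩⟩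
  haveI : Nonempty V := ⟨⟨f x, e hx⟩⟩
  have hgU : g ∈ U := (hg x).mem_open U.2 hx
  letI : Algebra Γ(B, V) Γ(A, U) := (f.appLE V U e).hom.toAlgebra
  haveI : Algebra.FiniteType Γ(B, V) Γ(A, U) := f.finiteType_appLE hV hU e
  have hP : ∀ (z : A) (hz : z ∈ U), (hV.primeIdealOf ⟨f z, e hz⟩).asIdeal =
      (hU.primeIdealOf ⟨z, hz⟩).asIdeal.under Γ(B, V) := fun z hz =>
    congrArg PrimeSpectrum.asIdeal (IsAffineOpen.comap_primeIdealOf_appLE V hV U hU e hz).symm
  have hbotA : (hU.primeIdealOf ⟨g, hgU⟩).asIdeal = ⊥ := by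
    refine le_bot_iff.1 ?_
    let z : Spec Γ(A, U) := ⟨⊥, Ideal.isPrime_bot⟩
    have hz : hU.fromSpec z ∈ U := VarDim.fromSpec_mem hU z
    have h1 := (VarDim.primeIdealOf_le_iff hU ⟨g, hgU⟩ ⟨_, hz⟩).2 (hg _)
    rw [VarDim.primeIdealOf_fromSpec hU z] at h1
    exact h1
  have hbotB : (hV.primeIdealOf ⟨f g, e hgU⟩).asIdeal = ⊥ := by
    refine le_bot_iff.1 ?_
    let z : Spec Γ(B, V) := ⟨⊥, Ideal.isPrime_bot⟩
    have hz : hV.fromSpec z ∈ V := VarDim.fromSpec_mem hV z
    have h1 := (VarDim.primeIdealOf_le_iff hV ⟨f g, e hgU⟩ ⟨_, hz⟩).2 (hfg.symm ▸ hg₀ _)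
    rw [VarDim.primeIdealOf_fromSpec hV z] at h1
    exact h1
  have hker : RingHom.ker (algebraMap Γ(B, V) Γ(A, U)) = ⊥ := by
    rw [RingHom.ker_eq_comap_bot, ← hbotA, ← hbotB]
    exact (hP g hgU).symm
  haveI : FaithfulSMul Γ(B, V) Γ(A, U) :=
    (faithfulSMul_iff_algebraMap_injective _ _).2 ((RingHom.injective_iff_ker_eq_bot _).2 hker)
  let p := (hV.primeIdealOf ⟨f x, e hx⟩).asIdeal
  let q := (hU.primeIdealOf ⟨x, hx⟩).asIdeal
  haveI : p.IsPrime := (hV.primeIdealOf ⟨f x, e hx⟩).2
  haveI : q.IsPrime := (hU.primeIdealOf ⟨x, hx⟩).2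
  haveI : q.LiesOver p := ⟨hP x hx⟩
  have hcat' : CAlg.IsUniversallyCatenary (Localization.AtPrime p) := by
    letI := TopCat.Presheaf.algebra_section_stalk B.presheaf (⟨f x, e hx⟩ : V)
    haveI : IsLocalization.AtPrime (B.presheaf.stalk (f x)) p := hV.isLocalization_stalk ⟨f x, e hx⟩
    let eq := IsLocalization.algEquiv p.primeCompl (B.presheaf.stalk (f x)) (Localization.AtPrime p)
    exact UCat.isUniversallyCatenary_of_surjective eq.toRingEquiv.toRingHom eq.surjective hcat
  have key := height_add_tr_eq_local p q hcat'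
  have e2 : tr (Γ(B, V) ⧸ p) (Γ(A, U) ⧸ q) = (rd f x : ℕ∞) := tr_eq_rd f hU hV e hx
  have e1 : tr Γ(B, V) Γ(A, U) = (rd f g : ℕ∞) := by
    let P := (hV.primeIdealOf ⟨f g, e hgU⟩).asIdeal
    let Q := (hU.primeIdealOf ⟨g, hgU⟩).asIdeal
    haveI : P.IsPrime := (hV.primeIdealOf ⟨f g, e hgU⟩).2
    haveI : Q.IsPrime := (hU.primeIdealOf ⟨g, hgU⟩).2
    haveI : Q.LiesOver P := ⟨hP g hgU⟩
    haveI := faithfulSMul_quotient P Q
    rw [← tr_eq_rd f hU hV e hgU]
    haveI : FaithfulSMul Γ(B, V) (Γ(B, V) ⧸ P) := (faithfulSMul_iff_algebraMap_injective _ _).2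
      ((RingHom.injective_iff_ker_eq_bot _).2 (Ideal.mk_ker.trans hbotB))
    haveI : FaithfulSMul Γ(A, U) (Γ(A, U) ⧸ Q) := (faithfulSMul_iff_algebraMap_injective _ _).2
      ((RingHom.injective_iff_ker_eq_bot _).2 (Ideal.mk_ker.trans hbotA))
    haveI : Algebra.IsAlgebraic Γ(B, V) (Γ(B, V) ⧸ P) := ⟨fun z => by
      obtain ⟨b, rfl⟩ := Ideal.Quotient.mk_surjective z
      exact isAlgebraic_algebraMap b⟩
    haveI : Algebra.IsAlgebraic Γ(A, U) (Γ(A, U) ⧸ Q) := ⟨fun z => by
      obtain ⟨b, rfl⟩ := Ideal.Quotient.mk_surjective z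
      exact isAlgebraic_algebraMap b⟩
    haveI : IsScalarTower Γ(B, V) (Γ(B, V) ⧸ P) (Γ(A, U) ⧸ Q) := IsScalarTower.of_algebraMap_eq fun z => rfl
    exact tr_congr
  rw [e1, e2] at key
  rw [stalkDim_eq_height hU hx, stalkDim_eq_height hV (e hx)]
  exact_mod_cast key

/-- The dimension formula along the closure of a point, over a universally catenary base. -/
theorem dim_stalk_cl_eq {X Y : Scheme.{u}} [IsLocallyNoetherian Y] (f : X ⟶ Y) [LocallyOfFiniteType f] {t : X}
    (w : Cl t) (hcat : CAlg.IsUniversallyCatenary (Y.presheaf.stalk (f (clι t w)))) (v : Cl (f t))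
    (hv : clι (f t) v = f (clι t w)) :
    ringKrullDim ((Cl t).presheaf.stalk w) + (rd f (clι t w) : WithBot ℕ∞) =
      ringKrullDim ((Cl (f t)).presheaf.stalk v) + (rd f t : WithBot ℕ∞) := by
  haveI := isReduced_cl t
  haveI := isReduced_cl (f t)
  obtain ⟨g, hg, hgen⟩ := exists_gen t
  obtain ⟨g₀, hg₀, hgen₀⟩ := exists_gen (f t)
  have irr : ∀ {Z : Scheme.{u}} (z : Z), (∀ a, z ⤳ a) → IrreducibleSpace Z := fun {Z} z hz => by
    haveI : Nonempty Z := ⟨z⟩
    haveI : PreirreducibleSpace Z := ⟨by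
      rintro u v hu hv ⟨a, -, ha⟩ ⟨b, -, hb⟩
      exact ⟨z, trivial, (hz a).mem_open hu ha, (hz b).mem_open hv hb⟩⟩
    exact ⟨inferInstance⟩
  haveI := irr g hgen
  haveI := irr g₀ hgen₀
  haveI : IsIntegral (Cl t) := isIntegral_of_irreducibleSpace_of_isReduced _
  haveI : IsIntegral (Cl (f t)) := isIntegral_of_irreducibleSpace_of_isReduced _
  obtain ⟨g', hg'⟩ := RedSepLib.exists_lift_of_range_subset (clι t ≫ f) (clι (f t)) (by
    rintro _ ⟨a, rfl⟩
    rw [range_clι, ← specializes_iff_mem_closure]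
    exact (specializes_clι t a).map f.continuous)
  haveI : IsLocallyNoetherian (Cl (f t)) := LocallyOfFiniteType.isLocallyNoetherian (clι (f t))
  haveI : LocallyOfFiniteType (g' ≫ clι (f t)) := by rw [hg']; infer_instance
  haveI : LocallyOfFiniteType g' := locallyOfFiniteType_of_comp g' (clι (f t))
  have hrd : ∀ a, rd g' a = rd f (clι t a) := fun a => by
    have h1 := rd_clι f t a
    rw [← rd_clι f t a]
    simp only [← hg']
    rw [rd_comp, rd_of_surjectiveOnStalks (clι (f t)), zero_add]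
  have hval : ∀ a, clι (f t) (g' a) = f (clι t a) := fun a => by
    rw [← Scheme.Hom.comp_apply, hg']
    rfl
  have hv' : v = g' w := (clι (f t)).isEmbedding.injective (hv.trans (hval w).symm)
  subst hv'
  have hcat' : CAlg.IsUniversallyCatenary ((Cl (f t)).presheaf.stalk (g' w)) :=
    UCat.isUniversallyCatenary_of_surjective ((clι (f t)).stalkMap (g' w)).hom
      (Scheme.Hom.stalkMap_surjective (clι (f t)) (g' w)) ((hval w).symm ▸ hcat)
  have hgg : g' g = g₀ := (clι (f t)).isEmbedding.injective (by rw [hval, hg, hg₀])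
  have key := stalkDim_add_rd_eq g' hgen hgen₀ hgg w hcat'
  rwa [hrd, hrd, hg] at key

variable {X Y : Scheme.{u}} [IsLocallyNoetherian Y] (f : X ⟶ Y) [LocallyOfFiniteType f]

theorem exists_component_of_dim_eq {z : X} (hz : FlatMor.fibreDimAt f z = (rd f z : WithBot ℕ∞))
    (hd : ringKrullDim (X.presheaf.stalk z) = ringKrullDim (Y.presheaf.stalk (f z))) :
    ∃ t, t ⤳ z ∧ (∀ y, y ⤳ t → y = t) ∧ (∀ y, y ⤳ f t → y = f t) ∧ rd f t = rd f z ∧
      ∀ v : Cl (f t), clι (f t) v = f z →
        ringKrullDim ((Cl (f t)).presheaf.stalk v) = ringKrullDim (Y.presheaf.stalk (f z)) := by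
  haveI : IsLocallyNoetherian X := LocallyOfFiniteType.isLocallyNoetherian f
  obtain ⟨t, htz, htmax, hdim⟩ := exists_cl_dim_eq z
  obtain ⟨w, rfl⟩ := exists_preimage htz
  obtain ⟨n, hn⟩ := exists_nat_dim (f (clι t w))
  obtain ⟨a, hav, hle, hlt, hineq⟩ := dim_stalk_cl_add_rd_le f w
  obtain ⟨b1, b2, -⟩ := cl_bounds f w
  rw [hdim w rfl, hd, hn] at hineq
  have h1 : n + rd f (clι t w) ≤ a + rd f t := by exact_mod_cast hineq
  have h2 : rd f t ≤ rd f (clι t w) := by
    have := b1.trans b2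
    rw [hz] at this
    exact_mod_cast this
  have h3 := hle n hn.le
  refine ⟨t, htz, htmax, fun y hy => by_contra fun hne => ?_, by omega, fun v hv => ?_⟩
  · have := hlt y hy hne n hn.le
    omega
  · rw [hav v hv, hn, show a = n by omega]

theorem dim_eq_of_component {t x : X} (htx : t ⤳ x)
    (hcat : CAlg.IsUniversallyCatenary (Y.presheaf.stalk (f x)))
    (hF : FlatMor.fibreDimAt f x = (rd f t : WithBot ℕ∞))
    (hW : ∀ v : Cl (f t), clι (f t) v = f x →
      ringKrullDim ((Cl (f t)).presheaf.stalk v) = ringKrullDim (Y.presheaf.stalk (f x))) :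
    ringKrullDim (X.presheaf.stalk x) =
        ringKrullDim (Y.presheaf.stalk (f x)) + ringKrullDim ((f.fiber (f x)).presheaf.stalk (f.asFiber x)) ∧
      ∀ w : Cl t, clι t w = x → ringKrullDim ((Cl t).presheaf.stalk w) = ringKrullDim (X.presheaf.stalk x) := by
  haveI : IsLocallyNoetherian X := LocallyOfFiniteType.isLocallyNoetherian f
  obtain ⟨w, rfl⟩ := exists_preimage htx
  obtain ⟨v, hv⟩ := exists_preimage (htx.map f.continuous)
  obtain ⟨A, A', B', k, k', hA, hA', hB', hk, -, hd, -, -⟩ := exists_dims f w rfl v hv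
  have E := dim_stalk_cl_eq f w hcat v hv
  rw [hB', hA'] at E
  rw [hF] at hd
  have hA'' := hW v hv
  rw [hA, hA'] at hA''
  have e1 : A' = A := by exact_mod_cast hA''
  have e2 : rd f t = k + rd f (clι t w) := by exact_mod_cast hd
  have e3 : B' + rd f (clι t w) = A' + rd f t := by exact_mod_cast E
  have hle := EGA43Top.ringKrullDim_stalk_le_add f (clι t w)
  have hge : ringKrullDim ((Cl t).presheaf.stalk w) ≤ ringKrullDim (X.presheaf.stalk (clι t w)) :=
    ringKrullDim_le_of_surjective ((clι t).stalkMap w).hom (Scheme.Hom.stalkMap_surjective (clι t) w)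
  have hsum : ringKrullDim ((Cl t).presheaf.stalk w) =
      ringKrullDim (Y.presheaf.stalk (f (clι t w))) +
        ringKrullDim ((f.fiber (f (clι t w))).presheaf.stalk (f.asFiber (clι t w))) := by
    rw [hB', hA, hk, show B' = A + k by omega]
    push_cast
    rfl
  refine ⟨le_antisymm hle (hsum.ge.trans hge), fun w' hw' => ?_⟩
  rw [(clι t).isEmbedding.injective hw']
  exact le_antisymm hge (hle.trans hsum.ge)

/-- The dimension formula and equidimensionality of the local ring. -/
theorem dim_of_isEquidimAt {x : X} (hY : EGA4.IsEquidim (Y.presheaf.stalk (f x)))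
    (hcat : CAlg.IsUniversallyCatenary (Y.presheaf.stalk (f x))) (h : EGA43.IsEquidimAt f x) :
    (ringKrullDim (X.presheaf.stalk x) =
        ringKrullDim (Y.presheaf.stalk (f x)) + ringKrullDim ((f.fiber (f x)).presheaf.stalk (f.asFiber x))) ∧
      EGA4.IsEquidim (X.presheaf.stalk x) := by
  haveI : IsLocallyNoetherian X := LocallyOfFiniteType.isLocallyNoetherian f
  obtain ⟨e, he⟩ := (isEquidimAt_iff f x).1 h
  have key : ∀ t, t ⤳ x → (∀ y, y ⤳ t → y = t) → _ := fun t htx htmax => by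
    obtain ⟨h1, h2, h3⟩ := he t htx htmax
    exact dim_eq_of_component f htx hcat (h3.trans (by rw [h2]))
      fun v hv => (isEquidim_stalk_iff (f x)).1 hY (f t) (htx.map f.continuous) h1 v hv
  obtain ⟨t, htx, htmax, -⟩ := exists_cl_dim_eq x
  exact ⟨(key t htx htmax).1, (isEquidim_stalk_iff x).2 fun t htx htmax w hw => (key t htx htmax).2 w hw⟩

end Groth.Agent.DimEqScheme4
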