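import Groth.Agent.Lib.FMAdj9.Left
import Groth.Agent.Lib.RelPCS4.PushFlat
import Groth.Agent.Lib.DMon9.LPExtra

/-!
# The dualizing module under a flat base change
-/

set_option autoImplicit false
set_option linter.style.haveILetI false
set_option linter.unusedSectionVars false
set_option backward.isDefEq.respectTransparency false
set_option backward.isDefEq.respectTransparency.types false
set_option maxHeartbeats 800000

universe u

open CategoryTheory CategoryTheory.Limits MonoidalCategory AlgebraicGeometry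

attribute [local instance] HasDerivedCategory.standard

noncomputable section

namespace Groth.Agent.DlzBC1

open DMon9

variable {X Y : Scheme.{u}}

/-- An exact functor commutes with cohomology sheaves. -/
theorem nonempty_HD_mapDerived (F : X.Modules ⥤ Y.Modules) [F.Additive] [PreservesFiniteLimits F]
    [PreservesFiniteColimits F] (E : DCoh.D X) (i : ℤ) :
    Nonempty (DCoh.HD (F.mapDerivedCategory.obj E) i ≅ F.obj (DCoh.HD E i)) := by
  let K := DerivedCategory.Q.objPreimage E
  let eK : DCoh.toD X K ≅ E := DerivedCategory.Q.objObjPreimageIso E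
  let L := (F.mapHomologicalComplex (ComplexShape.up ℤ)).obj K
  exact ⟨(DerivedCategory.homologyFunctor Y.Modules i).mapIso
      (F.mapDerivedCategory.mapIso eK.symm ≪≫ F.mapDerivedCategoryFactors.app K) ≪≫
    (DerivedCategory.homologyFunctorFactors Y.Modules i).app L ≪≫ ShortComplex.mapHomologyIso (K.sc i) F ≪≫
    F.mapIso (((DerivedCategory.homologyFunctorFactors X.Modules i).app K).symm ≪≫
      (DerivedCategory.homologyFunctor X.Modules i).mapIso eK)⟩

/-- Flat pullback commutes with cohomology sheaves. -/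
theorem nonempty_HD_lP_flat (f : Y ⟶ X) [Flat f] (E : DCoh.D X) (i : ℤ) :
    Nonempty (DCoh.HD ((lP f).obj E) i ≅ (Scheme.Modules.pullback f).obj (DCoh.HD E i)) := by
  haveI := KFlat.Sch.hasLpull f
  haveI : PreservesFiniteColimits (Scheme.Modules.pullback f) :=
    haveI : (Scheme.Modules.pullback f).IsLeftAdjoint :=
      (Scheme.Modules.pullbackPushforwardAdjunction f).isLeftAdjoint
    PreservesColimitsOfSize.preservesFiniteColimits _
  obtain ⟨a⟩ := nonempty_lpull_iso_lP f E
  obtain ⟨b⟩ := RelPCS4.nonempty_lpull_iso_pullD f E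
  obtain ⟨c⟩ := nonempty_HD_mapDerived (Scheme.Modules.pullback f) E i
  exact ⟨(DerivedCategory.homologyFunctor _ i).mapIso (a.symm ≪≫ b) ≪≫ c⟩

/-- The dualizing module of a flat base change of a proper flat morphism. -/
theorem nonempty_dualizingMod_baseChange {S X' Y' : Scheme.{u}} {f : X' ⟶ S} {g : Y' ⟶ S} {P : Scheme.{u}}
    {f' : P ⟶ Y'} {g' : P ⟶ X'} (hsq : IsPullback g' f' f g) [IsProper f] [Flat f] [LocallyOfFinitePresentation f]
    [Flat g'] [CompactSpace S] [QuasiSeparatedSpace S] [CompactSpace Y'] [QuasiSeparatedSpace Y']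
    [DCoh.HasRpush f] (hf : DCoh.RpushPreservesQCoh f) [DCoh.HasShriek f hf]
    [DCoh.HasRpush f'] (hf' : DCoh.RpushPreservesQCoh f') [DCoh.HasShriek f' hf']
    (O : DCoh.DQCoh S) (hO : Nonempty (O.obj ≅ DCoh.inD S (Coh.structureModule S)))
    (O' : DCoh.DQCoh Y') (hO' : Nonempty (O'.obj ≅ DCoh.inD Y' (Coh.structureModule Y'))) (n : ℕ) :
    Nonempty ((Scheme.Modules.pullback g').obj (DCoh.dualizingMod f hf O n) ≅ DCoh.dualizingMod f' hf' O' n) := by
  obtain ⟨eO⟩ := hO
  obtain ⟨eO'⟩ := hO'
  obtain ⟨O'', ⟨e''⟩, ⟨bc⟩⟩ := FMAdj9.nonempty_dualizing_baseChange hsq (DCoh.shriekAdj f hf)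
    (DCoh.shriekAdj f' hf') O eO
  let i : O'' ≅ O' := ObjectProperty.isoMk _ (e'' ≪≫ eO'.symm)
  obtain ⟨h⟩ := nonempty_HD_lP_flat g' ((DCoh.shriek f hf).obj O).obj (-(n : ℤ))
  exact ⟨h.symm ≪≫ (DerivedCategory.homologyFunctor _ _).mapIso (bc.symm ≪≫
    (ObjectProperty.ι _).mapIso ((DCoh.shriek f' hf').mapIso i))⟩

end Groth.Agent.DlzBC1

end
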