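import Groth.Agent.Lib.AmpleImm18.Local
import Groth.Agent.Lib.VeryAmple11.RelCrit
import Groth.Agent.Lib.RHom.Proj
import Groth.Agent.Lib.TensorNat17.Basic
import Groth.Agent.Lib.VB17.Pair
import Groth.Agent.Lib.PicPn.Family
import Groth.Agent.Lib.Twist.ProjSpace
import Groth.Agent.Lib.TensorMod.QCohTensor
import Groth.Agent.Lib.RelAmple18.Generation

/-! Quasi-coherent modules on projective space are quotients of sums of negative twists from the base. -/

set_option autoImplicit false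
set_option linter.style.haveILetI false
set_option backward.isDefEq.respectTransparency false
set_option maxHeartbeats 1000000

universe u

open CategoryTheory CategoryTheory.Limits AlgebraicGeometry TopologicalSpace Opposite

noncomputable section

namespace Groth.Agent.EpiTwist27

open Groth.Agent.Amp Groth.Agent.M2

variable {X : Scheme.{u}}

/-- The two maps agree on global sections of the twist by `M`. -/
def Agree {F C : X.Modules} (u v : F ⟶ C) (M : X.Modules) : Prop :=
  ∀ z : Γ(CohB1.tensorMod F M, ⊤), (tensorMap u (𝟙 M)).app ⊤ z = (tensorMap v (𝟙 M)).app ⊤ z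

theorem Agree.of_iso {F C : X.Modules} {u v : F ⟶ C} {M M' : X.Modules} (h : Agree u v M) (e : M ≅ M') :
    Agree u v M' := by
  intro z
  have key : ∀ w : F ⟶ C, tensorMap w (𝟙 M') =
      tensorMap (𝟙 F) e.inv ≫ tensorMap w (𝟙 M) ≫ tensorMap (𝟙 C) e.hom := fun w => by
    rw [← tensorMap_comp, ← tensorMap_comp]
    simp
  rw [key u, key v]
  exact congrArg ((tensorMap (𝟙 C) e.hom).app ⊤) (h _)

/-- Maps agreeing on global sections of all positive twists by an ample module are equal. -/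
theorem eq_of_agree {L : X.Modules} (hL : CohB1.IsAmple L) {F C : X.Modules} (hF : Coh.IsQCoh F) (u v : F ⟶ C)
    (h : ∀ m, 0 < m → Agree u v (CohB1.tensorPow L m)) : u = v := by
  haveI := hF
  haveI := hL.2.1
  haveI := quasiSeparatedSpace_of_isAmple hL
  refine Scheme.Modules.hom_ext _ _ fun D => ?_
  ext t
  refine M1.section_ext _ _ fun x hx => ?_
  obtain ⟨n, G, ⟨s, rfl⟩, hxG, hGD, -⟩ := exists_hasSec_le hL hx
  let M := CohB1.tensorPow L (n + 1)
  have hM : PicF.IsInvertible M := M2.isInvertible_tensorPow hL.1 _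
  let G := CohB1.genLocus M s
  let a : Γ(F, G) := res F hGD t
  obtain ⟨q, hq⟩ := exists_extend_genLocus hM s F a
  obtain ⟨t', ht'⟩ := hq (q + 1) (Nat.le_succ q)
  let N := CohB1.tensorPow M (q + 1)
  let b : Γ(N, G) := pw (res M le_top (gval s)) (q + 1)
  have hag : Agree u v N := (h _ (Nat.mul_pos (Nat.succ_pos n) (Nat.succ_pos q))).of_iso
    (tensorPowPow L (n + 1) (q + 1)).symm
  have hb : Gen (gm N x hxG b) := gen_pw hM hxG _ (q + 1) (by rw [gm_res]; exact (mem_genLocus_iff hM _).mp hxG)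
  have hw : ∀ w : F ⟶ C, res _ (le_top : G ≤ ⊤) ((tensorMap w (𝟙 N)).app ⊤ t') = tsec C N (w.app G a) b := fun w => by
    refine (M1.app_mres (tensorMap w (𝟙 N)) (le_top : G ≤ ⊤) t').symm.trans ?_
    refine (congrArg ((tensorMap w (𝟙 N)).app G) ht').trans ?_
    exact tensorMap_tsec w (𝟙 N) a b
  have he : tsec C N (u.app G a) b = tsec C N (v.app G a) b := by
    rw [← hw u, ← hw v, hag t']
  have h1 := congrArg (fun z => stalkEquiv C N x (gm _ x hxG z)) he
  simp only at h1
  erw [stalkEquiv_tsec C N x hxG, stalkEquiv_tsec C N x hxG] at h1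
  let E := LinearEquiv.ofBijective (LinearMap.toSpanSingleton (X.presheaf.stalk x) _ (gm N x hxG b)) hb
  have h2 := congrArg (fun z => TensorProduct.rid (X.presheaf.stalk x) _ (E.symm.toLinearMap.lTensor _ z)) h1
  have hE : E.symm (gm N x hxG b) = 1 := E.symm_apply_eq.2 (by simp [E])
  simp only [LinearMap.lTensor_tmul, LinearEquiv.coe_coe, hE, TensorProduct.rid_tmul, one_smul] at h2
  have hu : ∀ w : F ⟶ C, gm C x hx (w.app D t) = gm C x hxG (w.app G a) := fun w => by
    refine (gm_res hGD hxG (w.app D t)).symm.trans ?_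
    exact congrArg (gm C x hxG) (M1.app_mres w hGD t).symm
  exact (hu u).trans (h2.trans (hu v).symm)

/-- Powers of `O(1)`. -/
theorem nonempty_tensorPow_twistOver (n : ℕ) (S : Scheme.{u}) : ∀ m : ℕ,
    Nonempty (CohB1.tensorPow (_root_.Twist.twistOver n S 1) m ≅ _root_.Twist.twistOver n S (m : ℤ))
  | 0 => ⟨(PicPn.nonempty_twistOver_zero n (S := S)).some.symm⟩
  | m + 1 => by
    obtain ⟨e⟩ := nonempty_tensorPow_twistOver n S m
    obtain ⟨t⟩ := PicPn.nonempty_twistOver_tensor n (S := S) (m : ℤ) 1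
    exact ⟨tensorIso e (Iso.refl _) ≪≫ t ≪≫ eqToIso (congrArg (_root_.Twist.twistOver n S) (by push_cast; rfl))⟩

/-- Cancelling a twist, naturally. -/
theorem untwist_natural {M N : X.Modules} (c : CohB1.tensorMod M N ≅ Coh.structureModule X) {A B : X.Modules} (w : A ⟶ B) :
    tensorMap (tensorMap w (𝟙 M)) (𝟙 N) ≫
        (tensorAssoc B M N ≪≫ tensorIso (Iso.refl B) c ≪≫ tensorRUnit B).hom =
      (tensorAssoc A M N ≪≫ tensorIso (Iso.refl A) c ≪≫ tensorRUnit A).hom ≫ w := by
  simp only [Iso.trans_hom, tensorIso, Iso.refl_hom, Category.assoc]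
  rw [← Category.assoc, tensorAssoc_natural, Category.assoc, ← tensorRUnit_natural, tensorMap_id]
  congr 1
  rw [← Category.assoc, ← Category.assoc, ← tensorMap_comp, ← tensorMap_comp]
  simp

/-- Twisting by an invertible module cancels. -/
theorem cancel_twist {M N : X.Modules} (hN : PicF.IsInvertible N) (c : CohB1.tensorMod M N ≅ Coh.structureModule X)
    {P F C : X.Modules} (e : P ⟶ CohB1.tensorMod F M) (u v : F ⟶ C)
    (h : (tensorMap e (𝟙 N) ≫ (tensorAssoc F M N ≪≫ tensorIso (Iso.refl F) c ≪≫ tensorRUnit F).hom) ≫ u =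
      (tensorMap e (𝟙 N) ≫ (tensorAssoc F M N ≪≫ tensorIso (Iso.refl F) c ≪≫ tensorRUnit F).hom) ≫ v) :
    e ≫ tensorMap u (𝟙 M) = e ≫ tensorMap v (𝟙 M) := by
  rw [Category.assoc, Category.assoc, ← untwist_natural, ← untwist_natural, ← Category.assoc, ← Category.assoc,
    cancel_mono, ← tensorMap_comp, ← tensorMap_comp, Category.comp_id] at h
  haveI := VB17.isEquivalence_tensorR hN
  exact (tensorR N).map_injective h

/-- Maps agreeing on all relative sections of positive twists are equal. -/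
theorem eq_of_push {Y : Scheme.{u}} (f : X ⟶ Y) {L : X.Modules}
    (hL : ∀ V : Y.affineOpens, CohB1.IsAmple (L.restrict (f ⁻¹ᵁ V.1).ι)) {F C : X.Modules} (hF : Coh.IsQCoh F)
    (u v : F ⟶ C)
    (key : ∀ (m : ℕ), 0 < m → (Scheme.Modules.pushforward f).map (tensorMap u (𝟙 (CohB1.tensorPow L m))) =
      (Scheme.Modules.pushforward f).map (tensorMap v (𝟙 (CohB1.tensorPow L m)))) : u = v := by
  have hW : ∀ V : Y.affineOpens, (Scheme.Modules.restrictFunctor (f ⁻¹ᵁ V.1).ι).map u =
      (Scheme.Modules.restrictFunctor (f ⁻¹ᵁ V.1).ι).map v := by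
    intro V
    let j := (f ⁻¹ᵁ V.1).ι
    refine eq_of_agree (hL V) (M1.isQCoh_restrict hF _) _ _ fun m hm => ?_
    refine Agree.of_iso ?_ (restrictTensorPowIso j L m)
    intro z
    let z' := (restrictTensorIso j F (CohB1.tensorPow L m)).inv.app ⊤ z
    have hnat : ∀ w : F ⟶ C, (tensorMap ((Scheme.Modules.restrictFunctor j).map w)
        (𝟙 ((CohB1.tensorPow L m).restrict j))).app ⊤ z =
        (restrictTensorIso j C (CohB1.tensorPow L m)).hom.app ⊤
          ((tensorMap w (𝟙 (CohB1.tensorPow L m))).app (j ''ᵁ ⊤) z') := fun w => by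
      have h := RHom.restrictTensorIso_natural j w (𝟙 (CohB1.tensorPow L m))
      rw [CategoryTheory.Functor.map_id] at h
      have h' := congrArg (fun χ => χ.app ⊤ z') h
      refine Eq.trans ?_ h'.symm
      exact (congrArg (fun χ : CohB1.tensorMod _ _ ⟶ CohB1.tensorMod _ _ => χ.app ⊤ z)
        (Iso.inv_hom_id_assoc (restrictTensorIso j F (CohB1.tensorPow L m)) _)).symm
    rw [hnat u, hnat v]
    congr 1
    have e : j ''ᵁ ⊤ = f ⁻¹ᵁ V.1 := M1.image_ι_top _
    refine (M1.section_ext _ _ fun x hx => ?_)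
    have e' := congrArg (fun ψ : (Scheme.Modules.pushforward f).obj (CohB1.tensorMod F (CohB1.tensorPow L m)) ⟶
      (Scheme.Modules.pushforward f).obj (CohB1.tensorMod C (CohB1.tensorPow L m)) =>
        M1.mres (CohB1.tensorMod C (CohB1.tensorPow L m)) e.le (ψ.app V.1 (M1.mres (CohB1.tensorMod F (CohB1.tensorPow L m)) e.ge z'))) (key m hm)
    change M1.mres _ _ ((tensorMap u _).app (f ⁻¹ᵁ V.1) _) = M1.mres _ _ ((tensorMap v _).app (f ⁻¹ᵁ V.1) _) at e'
    rw [← M1.app_mres, ← M1.app_mres] at e'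
    erw [M1.mres_mres, M1.mres_id] at e'
    exact congrArg _ e'
  refine Scheme.Modules.hom_ext _ _ fun D => ?_
  ext t
  refine M1.section_ext _ _ fun x hx => ?_
  obtain ⟨V, hV, hxV, -⟩ := exists_isAffineOpen_mem_and_subset (show f x ∈ (⊤ : Y.Opens) from trivial)
  let j := (f ⁻¹ᵁ V).ι
  let W := j ''ᵁ (j ⁻¹ᵁ D)
  have hW' : W ≤ D := (Scheme.Hom.image_preimage_eq_opensRange_inf j D).le.trans inf_le_right
  have hxW : x ∈ W := ⟨⟨x, hxV⟩, hx, rfl⟩
  have e₂ : u.app W (M1.mres F hW' t) = v.app W (M1.mres F hW' t) :=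
    congrArg (fun ψ : (Scheme.Modules.restrictFunctor j).obj F ⟶ (Scheme.Modules.restrictFunctor j).obj C =>
      ψ.app (j ⁻¹ᵁ D) (M1.mres F hW' t)) (hW ⟨V, hV⟩)
  erw [M1.app_mres, M1.app_mres] at e₂
  rw [← TopCat.Presheaf.germ_res_apply C.presheaf (homOfLE hW') x hxW (u.app D t),
    ← TopCat.Presheaf.germ_res_apply C.presheaf (homOfLE hW') x hxW (v.app D t)]
  exact congrArg _ e₂


/-- Quasi-coherent modules are quotients of twisted pullbacks of direct images. -/
theorem exists_epi_of_ample {Y : Scheme.{u}} (f : X ⟶ Y) [QuasiCompact f] [QuasiSeparated f] {L : X.Modules}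
    (hL : PicF.IsInvertible L) (hA : ∀ V : Y.affineOpens, CohB1.IsAmple (L.restrict (f ⁻¹ᵁ V.1).ι))
    (N : ℕ → X.Modules) (hN : ∀ m, PicF.IsInvertible (N m))
    (c : ∀ m, CohB1.tensorMod (CohB1.tensorPow L m) (N m) ≅ Coh.structureModule X)
    (F : X.Modules) (hF : Coh.IsQCoh F) :
    ∃ (ι : Type u) (G : ι → Y.Modules) (m : ι → ℕ)
      (p : (∐ fun j => CohB1.tensorMod ((Scheme.Modules.pullback f).obj (G j)) (N (m j))) ⟶ F),
      (∀ j, Coh.IsQCoh (G j)) ∧ (∀ j, 0 < m j) ∧ Epi p := by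
  let Fm : ℕ → X.Modules := fun k => CohB1.tensorMod F (CohB1.tensorPow L k)
  let G : ULift.{u} ℕ → Y.Modules := fun j => (Scheme.Modules.pushforward f).obj (Fm (j.down + 1))
  let ε : ∀ j : ULift.{u} ℕ, (Scheme.Modules.pullback f).obj (G j) ⟶ Fm (j.down + 1) := fun j =>
    (Scheme.Modules.pullbackPushforwardAdjunction f).counit.app (Fm (j.down + 1))
  let T : ULift.{u} ℕ → X.Modules := fun j =>
    CohB1.tensorMod ((Scheme.Modules.pullback f).obj (G j)) (N (j.down + 1))
  let q : ∀ j, T j ⟶ F := fun j => tensorMap (ε j) (𝟙 (N (j.down + 1))) ≫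
    (tensorAssoc F (CohB1.tensorPow L (j.down + 1)) (N (j.down + 1)) ≪≫ tensorIso (Iso.refl F) (c (j.down + 1)) ≪≫
      tensorRUnit F).hom
  have hepi : Epi (Sigma.desc q) := ⟨fun {C} u v huv => by
    refine eq_of_push f hA hF u v fun m hm => ?_
    obtain ⟨m, rfl⟩ := Nat.exists_eq_succ_of_ne_zero hm.ne'
    have hj : q (ULift.up m) ≫ u = q (ULift.up m) ≫ v := by
      rw [← Sigma.ι_desc q (ULift.up m), Category.assoc, Category.assoc, huv]
    have hj' := cancel_twist (hN (m + 1)) (c (m + 1)) (ε (ULift.up m)) u v hj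
    have := congrArg ((Scheme.Modules.pullbackPushforwardAdjunction f).homEquiv _ _) hj'
    simpa [ε, G, Adjunction.homEquiv_unit] using this⟩
  exact ⟨ULift.{u} ℕ, G, fun j => j.down + 1, Sigma.desc q,
    fun j => M1.isQCoh_push f (isQCoh_tensor hF (Twist.isQCoh_of_isInvertible (M2.isInvertible_tensorPow hL _))),
    fun j => Nat.succ_pos _, hepi⟩

/-- Quotient of a sum of negative twists of modules pulled back from the base. -/
theorem exists_epi (Y : Scheme.{u}) (n : ℕ) [QuasiCompact (CohB1.ProjSpaceOver.toBase n Y)]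
    [QuasiSeparated (CohB1.ProjSpaceOver.toBase n Y)] (F : (CohB1.ProjSpaceOver n Y).Modules) (hF : Coh.IsQCoh F) :
    ∃ (ι : Type u) (G : ι → Y.Modules) (m : ι → ℕ)
      (p : (∐ fun j => CohB1.tensorMod ((Scheme.Modules.pullback (CohB1.ProjSpaceOver.toBase n Y)).obj (G j))
        (_root_.Twist.twistOver n Y (-((m j : ℕ) : ℤ)))) ⟶ F),
      (∀ j, Coh.IsQCoh (G j)) ∧ (∀ j, 0 < m j) ∧ Epi p := by
  have hc : ∀ m : ℕ, Nonempty (CohB1.tensorMod (CohB1.tensorPow (_root_.Twist.twistOver n Y 1) m)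
      (_root_.Twist.twistOver n Y (-(m : ℤ))) ≅ Coh.structureModule _) := fun m => by
    obtain ⟨e⟩ := nonempty_tensorPow_twistOver n Y m
    obtain ⟨t⟩ := PicPn.nonempty_twistOver_tensor n (S := Y) (m : ℤ) (-(m : ℤ))
    obtain ⟨z⟩ := PicPn.nonempty_twistOver_zero n (S := Y)
    exact ⟨tensorIso e (Iso.refl _) ≪≫ t ≪≫ eqToIso (congrArg (_root_.Twist.twistOver n Y) (add_neg_cancel _)) ≪≫ z⟩
  refine exists_epi_of_ample (CohB1.ProjSpaceOver.toBase n Y) (L := _root_.Twist.twistOver n Y 1)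
    (Twist.isInvertible_twistOver n Y 1) (fun V => ?_) (fun m => _root_.Twist.twistOver n Y (-(m : ℤ)))
    (fun m => Twist.isInvertible_twistOver n Y _) (fun m => (hc m).some) F hF
  exact isAmple_of_iso ((Scheme.Modules.restrictFunctor _).mapIso
      ((Scheme.Modules.pullbackId _).app (_root_.Twist.twistOver n Y 1)))
    (AmpleImm18.isAmple_restrict_twistOver (CohB1.ProjSpaceOver.toBase n Y) (𝟙 _) (Category.id_comp _) V.2)

end Groth.Agent.EpiTwist27
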