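import Groth.Agent.Lib.SectionCompFlat4
import Groth.Agent.Lib.FlatGenApp4
import Groth.Agent.Lib.FppfSource.Ring
import Groth.Agent.Lib.CMEquiDim4
import Groth.Agent.Lib.AffineFin18.Basic
import Groth.Agent.Lib.EGA43Top.OpenCriterion

/-!
# Reducedness along flat morphisms with geometrically reduced fibres, no Noetherian hypotheses
-/

universe u

open CategoryTheory CategoryTheory.Limits AlgebraicGeometry TensorProduct

set_option backward.isDefEq.respectTransparency.types false
set_option linter.style.haveILetI false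

namespace Groth.Agent.RedFlat4

theorem isGeomReducedAt_openImm_field {k : Type u} [Field k] {F F' : Scheme.{u}} (g : F ⟶ Spec (CommRingCat.of k))
    (g' : F' ⟶ Spec (CommRingCat.of k)) (pr : F' ⟶ F) [IsOpenImmersion pr] (hg : pr ≫ g = g') (w : F')
    (hw : FBase.IsGeomReducedAt g (pr w)) : FBase.IsGeomReducedAt g' w := by
  subst hg
  intro K _ _ z hz
  let b := Spec.map (CommRingCat.ofHom (algebraMap k K))
  let m : pullback (pr ≫ g) b ⟶ pullback g b := pullback.map _ _ _ _ pr (𝟙 _) (𝟙 _) (by simp) (by simp)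
  refine (GeomRed.isReduced_stalk_congr m z).1 (hw K (m z) ?_)
  show (m ≫ pullback.fst g b) z = pr w
  rw [show m ≫ pullback.fst g b = pullback.fst (pr ≫ g) b ≫ pr from pullback.lift_fst _ _ _, Scheme.Hom.comp_apply]
  exact congrArg _ hz

theorem isGeomReducedAt_openImmersion_comp {W X S : Scheme.{u}} (j : W ⟶ X) [IsOpenImmersion j] (f : X ⟶ S) (w : W)
    (h : FBase.IsGeomReducedAt (f.fiberToSpecResidueField (f (j w))) (f.asFiber (j w))) :
    FBase.IsGeomReducedAt ((j ≫ f).fiberToSpecResidueField ((j ≫ f) w)) ((j ≫ f).asFiber w) := by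
  haveI : IsOpenImmersion (FibDim14.fibMap j f ((j ≫ f) w)) :=
    MorphismProperty.of_isPullback (CMEquiDim4.isPullback_fibMap j f ((j ≫ f) w)) ‹IsOpenImmersion j›
  have hpt : FibDim14.fibMap j f ((j ≫ f) w) ((j ≫ f).asFiber w) = f.asFiber (j w) := by
    refine (f.fiberι (f (j w))).isEmbedding.injective ?_
    rw [f.fiberι_asFiber]
    refine (FibDim14.fiberι_fibMap j f ((j ≫ f) w) _).trans ?_
    rw [(j ≫ f).fiberι_asFiber]
  exact isGeomReducedAt_openImm_field (k := S.residueField ((j ≫ f) w)) (f.fiberToSpecResidueField ((j ≫ f) w)) _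
    (FibDim14.fibMap j f ((j ≫ f) w)) (pullback.lift_snd _ _ _) _ (by rw [hpt]; exact h)

theorem isReduced_stalk_tensor (A : Type u) [CommRing A] [_root_.IsReduced A] (B₀ : Subalgebra ℤ A) (hB₀ : B₀.FG)
    (C : Type u) [CommRing C] [Algebra B₀ C] [Algebra.FinitePresentation B₀ C] [Module.Flat B₀ C]
    (z : Spec (CommRingCat.of (A ⊗[B₀] C)))
    (hred : FBase.IsGeomReducedAt
      ((Spec.map (CommRingCat.ofHom (algebraMap A (A ⊗[B₀] C)))).fiberToSpecResidueField
        ((Spec.map (CommRingCat.ofHom (algebraMap A (A ⊗[B₀] C)))) z))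
      ((Spec.map (CommRingCat.ofHom (algebraMap A (A ⊗[B₀] C)))).asFiber z)) :
    _root_.IsReduced ((Spec (CommRingCat.of (A ⊗[B₀] C))).presheaf.stalk z) := by
  classical
  haveI : IsNoetherianRing B₀ := by
    haveI : Algebra.FiniteType ℤ B₀ := B₀.fg_iff_finiteType.1 hB₀
    exact Algebra.FiniteType.isNoetherianRing ℤ B₀
  let P := A ⊗[B₀] C
  let 𝔮 := (z : PrimeSpectrum P).asIdeal
  suffices h : _root_.IsReduced (Localization.AtPrime 𝔮) by
    let e := (StructureSheaf.stalkIso P z).toRingEquiv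
    exact isReduced_of_injective e.symm.toRingHom e.symm.injective
  refine ⟨fun x hx => ?_⟩
  obtain ⟨b, s, rfl⟩ := IsLocalization.exists_mk'_eq 𝔮.primeCompl x
  obtain ⟨n, hn⟩ := hx
  rw [← IsLocalization.mk'_pow, IsLocalization.mk'_eq_zero_iff] at hn
  obtain ⟨t, ht⟩ := hn
  obtain ⟨Sb, hSb⟩ := TensorProduct.exists_finset b
  obtain ⟨St, hSt⟩ := TensorProduct.exists_finset (t : P)
  let B₁ : Subalgebra B₀ A := Algebra.adjoin B₀ (↑((Sb ∪ St).image Prod.fst) : Set A)
  haveI : Algebra.FiniteType B₀ B₁ := B₁.fg_iff_finiteType.1 (Subalgebra.fg_adjoin_finset _)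
  haveI : IsNoetherianRing B₁ := Algebra.FiniteType.isNoetherianRing B₀ B₁
  haveI : _root_.IsReduced B₁ := isReduced_of_injective B₁.val.toRingHom Subtype.val_injective
  let j : B₁ ⊗[B₀] C →ₐ[B₀] P := Algebra.TensorProduct.map B₁.val (AlgHom.id B₀ C)
  have hj : Function.Injective j :=
    Module.Flat.rTensor_preserves_injective_linearMap (M := C) B₁.val.toLinearMap Subtype.val_injective
  have hlift : ∀ S : Finset (A × C), S ⊆ Sb ∪ St → ∃ d, j d = S.sum fun i => i.1 ⊗ₜ[B₀] i.2 := fun S hS =>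
    ⟨S.attach.sum fun i => (⟨i.1.1, Algebra.subset_adjoin (Finset.mem_coe.2
        (Finset.mem_image_of_mem Prod.fst (hS i.2)))⟩ : B₁) ⊗ₜ[B₀] i.1.2, by
      rw [map_sum, ← Finset.sum_attach (s := S) (f := fun i => i.1 ⊗ₜ[B₀] i.2)]
      rfl⟩
  obtain ⟨b₁, hb₁⟩ := hlift Sb Finset.subset_union_left
  obtain ⟨t₁, ht₁⟩ := hlift St Finset.subset_union_right
  rw [← hSb] at hb₁
  rw [← hSt] at ht₁
  let F : Spec (CommRingCat.of P) ⟶ Spec (CommRingCat.of A) := Spec.map (CommRingCat.ofHom (algebraMap A P))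
  let F₁ : Spec (CommRingCat.of (B₁ ⊗[B₀] C)) ⟶ Spec (CommRingCat.of B₁) :=
    Spec.map (CommRingCat.ofHom (algebraMap B₁ (B₁ ⊗[B₀] C)))
  let J : Spec (CommRingCat.of P) ⟶ Spec (CommRingCat.of (B₁ ⊗[B₀] C)) := Spec.map (CommRingCat.ofHom j.toRingHom)
  let I : Spec (CommRingCat.of A) ⟶ Spec (CommRingCat.of B₁) := Spec.map (CommRingCat.ofHom B₁.val.toRingHom)
  have sqA := (isPullback_SpecMap_of_isPushout _ _ _ _
    (CommRingCat.isPushout_tensorProduct B₀ A C)).flip
  have sqB := (isPullback_SpecMap_of_isPushout _ _ _ _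
    (CommRingCat.isPushout_tensorProduct B₀ B₁ C)).flip
  have sq : IsPullback J F F₁ I := by
    refine IsPullback.of_right ?_ ?_ sqB
    · convert sqA using 1
      · rw [← Spec.map_comp]
        congr 1
      · rw [← Spec.map_comp]
        congr 1
    · rw [← Spec.map_comp, ← Spec.map_comp]
      congr 1
  have hred₁ := SectionCompFlat4.isGeomReducedAt_of_baseChange F₁ sq z hred
  haveI : Flat F₁ := Flat.SpecMap_iff.2 (RingHom.flat_algebraMap_iff.2 inferInstance)
  haveI : LocallyOfFinitePresentation F₁ :=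
    (HasRingHomProperty.Spec_iff (P := @LocallyOfFinitePresentation)).2
      (RingHom.finitePresentation_algebraMap.2 inferInstance)
  haveI : IsLocallyNoetherian (Spec (CommRingCat.of B₁)) := inferInstance
  have h₁ : _root_.IsReduced ((Spec (CommRingCat.of (B₁ ⊗[B₀] C))).presheaf.stalk (J z)) :=
    FlatUnivOpen4.isReduced_stalk_of_geomReduced F₁ (J z)
      (fun w _ _ _ => (EGA43Top.universallyOpen_iff_forall_isUnivOpenAt F₁).1 inferInstance w) hred₁ inferInstance
  let 𝔮₁ : Ideal (B₁ ⊗[B₀] C) := ((J z : PrimeSpectrum (B₁ ⊗[B₀] C))).asIdeal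
  have hmem : ∀ d, d ∈ 𝔮₁ ↔ j d ∈ 𝔮 := fun d => Iff.rfl
  haveI : _root_.IsReduced (Localization.AtPrime 𝔮₁) := by
    let e := (StructureSheaf.stalkIso (B₁ ⊗[B₀] C) (J z)).toRingEquiv
    haveI : _root_.IsReduced ↑((structurePresheafInCommRingCat (B₁ ⊗[B₀] C)).stalk (J z)) := h₁
    exact isReduced_of_injective e.toRingHom e.injective
  have hzero : t₁ * b₁ ^ n = 0 := hj (by rw [map_mul, map_pow, ht₁, hb₁, map_zero]; exact ht)
  have hn : IsNilpotent (algebraMap _ (Localization.AtPrime 𝔮₁) b₁) := by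
    refine ⟨n, ?_⟩
    rw [← map_pow, IsLocalization.map_eq_zero_iff 𝔮₁.primeCompl]
    refine ⟨⟨t₁, fun h => t.2 ?_⟩, hzero⟩
    rw [← ht₁]
    exact (hmem _).1 h
  obtain ⟨t₂, ht₂⟩ := (IsLocalization.map_eq_zero_iff 𝔮₁.primeCompl _ _).1 hn.eq_zero
  rw [IsLocalization.mk'_eq_zero_iff]
  refine ⟨⟨j t₂, fun h => t₂.2 ((hmem _).2 h)⟩, ?_⟩
  rw [← hb₁]
  show j t₂ * j b₁ = 0
  rw [← map_mul, ht₂, map_zero]

/-- EGA IV 11.3.13 (ii), reduced case. -/
theorem isReduced_stalk_SpecMap {A B : CommRingCat.{u}} (φ : A ⟶ B) [_root_.IsReduced A] (hflat : φ.hom.Flat)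
    (hfp : φ.hom.FinitePresentation) (z : Spec B)
    (hred : FBase.IsGeomReducedAt ((Spec.map φ).fiberToSpecResidueField ((Spec.map φ) z)) ((Spec.map φ).asFiber z)) :
    _root_.IsReduced ((Spec B).presheaf.stalk z) := by
  algebraize [φ.hom]
  obtain ⟨B₀, C, _, _, hB₀, _, _, ⟨e⟩⟩ := FppfSource.exists_flat_model ℤ A B
  let ψ : B ≅ CommRingCat.of (A ⊗[B₀] C) := e.toRingEquiv.toCommRingCatIso
  have hψ : φ ≫ ψ.hom = CommRingCat.ofHom (algebraMap A (A ⊗[B₀] C)) := by
    ext a
    exact e.commutes a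
  let w : Spec (CommRingCat.of (A ⊗[B₀] C)) := Spec.map ψ.inv z
  have hw : Spec.map ψ.hom w = z := by
    show Spec.map ψ.hom (Spec.map ψ.inv z) = z
    rw [← Scheme.Hom.comp_apply, ← Spec.map_comp, Iso.hom_inv_id, Spec.map_id]
    rfl
  rw [← hw] at hred ⊢
  rw [GeomRed.isReduced_stalk_congr]
  refine isReduced_stalk_tensor A B₀ hB₀ C w ?_
  have h1 := isGeomReducedAt_openImmersion_comp (Spec.map ψ.hom) (Spec.map φ) w hred
  rw [← hψ]
  have key : ∀ F : Spec (CommRingCat.of (A ⊗[B₀] C)) ⟶ Spec A, Spec.map ψ.hom ≫ Spec.map φ = F →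
      FBase.IsGeomReducedAt (F.fiberToSpecResidueField (F w)) (F.asFiber w) := by
    rintro F rfl; exact h1
  exact key _ (Spec.map_comp _ _).symm

theorem isReduced_stalk_aux {X Y : Scheme.{u}} (f : X ⟶ Y) [Flat f] [LocallyOfFinitePresentation f]
    {R : CommRingCat.{u}} [_root_.IsReduced R] (h : Spec R ⟶ Y) [Flat h] [IsPreimmersion h]
    (x' : ↥(pullback f h))
    (hred : FBase.IsGeomReducedAt (f.fiberToSpecResidueField (f (pullback.fst f h x')))
      (f.asFiber (pullback.fst f h x'))) :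
    _root_.IsReduced (X.presheaf.stalk (pullback.fst f h x')) := by
  let f' := pullback.snd f h
  let p := pullback.fst f h
  haveI : IsPreimmersion p := MorphismProperty.pullback_fst _ _ inferInstance
  haveI : LocallyOfFinitePresentation f' := MorphismProperty.pullback_snd _ _ inferInstance
  haveI : Flat f' := MorphismProperty.pullback_snd _ _ inferInstance
  have hred' := FlatUnivOpen4.isGeomReducedAt_baseChange f (IsPullback.of_hasPullback f h) x' hred
  obtain ⟨W, hW, hxW, -⟩ := exists_isAffineOpen_mem_and_subset (X := pullback f h) (x := x') (U := ⊤) trivial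
  obtain ⟨w, hw⟩ : x' ∈ Set.range hW.fromSpec := hW.range_fromSpec.ge hxW
  obtain ⟨φ, hφ⟩ : ∃ φ, Spec.map φ = hW.fromSpec ≫ f' := ⟨_, Spec.map_preimage _⟩
  have hflat : φ.hom.Flat := by
    have : Flat (Spec.map φ) := by rw [hφ]; infer_instance
    exact Flat.SpecMap_iff.1 this
  have hfp : φ.hom.FinitePresentation := by
    have : LocallyOfFinitePresentation (Spec.map φ) := by rw [hφ]; infer_instance
    exact (HasRingHomProperty.Spec_iff (P := @LocallyOfFinitePresentation)).1 this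
  subst hw
  have hredW := isGeomReducedAt_openImmersion_comp hW.fromSpec f' w hred'
  have key : ∀ F, hW.fromSpec ≫ f' = F →
      FBase.IsGeomReducedAt (F.fiberToSpecResidueField (F w)) (F.asFiber w) := by
    rintro F rfl; exact hredW
  have h1 := (GeomRed.isReduced_stalk_congr hW.fromSpec w).2
    (isReduced_stalk_SpecMap φ hflat hfp w (key _ hφ.symm))
  haveI : IsIso (p.stalkMap (hW.fromSpec w)) := AffineFin18.isIso_stalkMap_of_flat_preimmersion p _
  let e := (asIso (p.stalkMap (hW.fromSpec w))).commRingCatIsoToRingEquiv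
  exact isReduced_of_injective e.toRingHom e.injective

/-- Reducedness ascends along flat morphisms with geometrically reduced fibres at a point. -/
theorem isReduced_stalk {X Y : Scheme.{u}} (f : X ⟶ Y) [Flat f] [LocallyOfFinitePresentation f] (x : X)
    (hy : _root_.IsReduced (Y.presheaf.stalk (f x)))
    (hred : FBase.IsGeomReducedAt (f.fiberToSpecResidueField (f x)) (f.asFiber x)) :
    _root_.IsReduced (X.presheaf.stalk x) := by
  haveI : Flat (Y.fromSpecStalk (f x)) := Descend.flat_fromSpecStalk _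
  haveI := hy
  obtain ⟨x', hx', -⟩ := Scheme.Pullback.exists_preimage_pullback (f := f) (g := Y.fromSpecStalk (f x)) x
    (IsLocalRing.closedPoint _) Scheme.fromSpecStalk_closedPoint.symm
  have h1 := isReduced_stalk_aux f (Y.fromSpecStalk (f x)) x' (by rw [hx']; exact hred)
  rwa [hx'] at h1

end Groth.Agent.RedFlat4
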