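import Mathlib

/-!
`Ext` out of a quotient by a regular sequence and `Ext` of the residue field in the depth degree.
-/

namespace Groth.Agent.ExtRegular

universe u

open CategoryTheory Abelian RingTheory.Sequence
open scoped Pointwise

variable {A : Type u} [CommRing A]

/-- Multiplication by `x` on `A ⧸ J`, followed by the projection to `A ⧸ J'` when `J' = J + (x)`. -/
noncomputable abbrev quotSC {J J' : Ideal A} (x : A) (h : J ⊔ Ideal.span {x} = J') :
    ShortComplex (ModuleCat.{u} A) :=
  ShortComplex.mk (X₁ := ModuleCat.of A (A ⧸ J)) (X₂ := ModuleCat.of A (A ⧸ J))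
    (X₃ := ModuleCat.of A (A ⧸ J'))
    (ModuleCat.ofHom (x • LinearMap.id)) (ModuleCat.ofHom (Submodule.factor (show J ≤ J' from h ▸ le_sup_left))) (by
      ext
      show Submodule.factor (show J ≤ J' from h ▸ le_sup_left) (x • Submodule.Quotient.mk (1 : A)) = 0
      rw [← Submodule.Quotient.mk_smul, ← Submodule.mkQ_apply, Submodule.factor_mk,
        Submodule.mkQ_apply, Submodule.Quotient.mk_eq_zero, smul_eq_mul, mul_one, ← h]
      exact Ideal.mem_sup_right (Ideal.mem_span_singleton_self x))

theorem quotSC_shortExact {J J' : Ideal A} (x : A) (h : J ⊔ Ideal.span {x} = J')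
    (hx : IsSMulRegular (A ⧸ J) x) : (quotSC x h).ShortExact where
  exact := by
    rw [ShortComplex.moduleCat_exact_iff]
    intro (y : A ⧸ J) hy
    obtain ⟨y, rfl⟩ := Submodule.Quotient.mk_surjective _ y
    change (Submodule.Quotient.mk y : A ⧸ J') = 0 at hy
    rw [Submodule.Quotient.mk_eq_zero, ← h, Submodule.mem_sup] at hy
    obtain ⟨a, ha, b, hb, rfl⟩ := hy
    obtain ⟨c, rfl⟩ := Ideal.mem_span_singleton'.mp hb
    refine ⟨Submodule.Quotient.mk c, ?_⟩
    show x • Submodule.Quotient.mk c = (Submodule.Quotient.mk (a + c * x) : A ⧸ J)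
    rw [← Submodule.Quotient.mk_smul, Submodule.Quotient.eq, smul_eq_mul,
      show x * c - (a + c * x) = -a by ring]
    exact J.neg_mem ha
  mono_f := (ModuleCat.mono_iff_injective _).mpr hx
  epi_g := (ModuleCat.epi_iff_surjective _).mpr (Submodule.factor_surjective (show J ≤ J' from h ▸ le_sup_left))

/-- Evaluation at `1`. -/
noncomputable def homQuotBotEquiv (M : Type u) [AddCommGroup M] [Module A M] :
    (ModuleCat.of A (A ⧸ (⊥ : Ideal A)) ⟶ ModuleCat.of A M) ≃ₗ[A] M :=
  ModuleCat.homLinearEquiv.trans <|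
    ((Submodule.quotEquivOfEqBot _ rfl).arrowCongr (LinearEquiv.refl A M)).trans
      (LinearMap.ringLmapEquivSelf A A M)

theorem ext_quotient_of_weaklyRegular (xs : List A) (hreg : IsWeaklyRegular A xs) (M : Type u)
    [AddCommGroup M] [Module A M] :
    Nonempty (Ext (ModuleCat.of A (A ⧸ Ideal.ofList xs)) (ModuleCat.of A M) xs.length ≃ₗ[A]
      (M ⧸ (Ideal.ofList xs • (⊤ : Submodule A M)))) ∧
    ∀ i, xs.length < i →
      Subsingleton (Ext (ModuleCat.of A (A ⧸ Ideal.ofList xs)) (ModuleCat.of A M) i) := by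
  induction xs using List.reverseRecOn with
  | nil =>
    rw [Ideal.ofList_nil]
    refine ⟨⟨Ext.linearEquiv₀.trans ((homQuotBotEquiv M).trans
      (Submodule.quotEquivOfEqBot _ (by simp)).symm)⟩, fun i hi => ?_⟩
    have : Module.Free A (A ⧸ (⊥ : Ideal A)) :=
      Module.Free.of_equiv (Submodule.quotEquivOfEqBot (⊥ : Ideal A) rfl).symm
    obtain ⟨i, rfl⟩ : ∃ j, i = j + 1 := ⟨i - 1, by simp at hi; omega⟩
    exact Ext.subsingleton_of_projective _ _ i
  | append_singleton init x ih =>
    rw [isWeaklyRegular_append_iff, isWeaklyRegular_singleton_iff] at hreg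
    obtain ⟨hinit, hx⟩ := hreg
    have hx' : IsSMulRegular (A ⧸ Ideal.ofList init) x := by
      rwa [(Submodule.quotEquivOfEq _ _ (show Ideal.ofList init • (⊤ : Submodule A A) = Ideal.ofList init
        by rw [smul_eq_mul, Ideal.mul_top])).isSMulRegular_congr] at hx
    obtain ⟨⟨e⟩, hvan⟩ := ih hinit
    have h : Ideal.ofList init ⊔ Ideal.span {x} = Ideal.ofList (init ++ [x]) := by
      rw [Ideal.ofList_append, Ideal.ofList_singleton]
    have hS := quotSC_shortExact x h hx'
    have hf : ∀ {n} (z : Ext (ModuleCat.of A (A ⧸ Ideal.ofList init)) (ModuleCat.of A M) n),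
        (Ext.mk₀ (quotSC x h).f).comp z (zero_add n) = x • z := fun z => by
      show (Ext.mk₀ (x • 𝟙 (ModuleCat.of A (A ⧸ Ideal.ofList init)))).comp z _ = _
      rw [Ext.mk₀_smul, Ext.smul_comp, Ext.mk₀_id_comp]
    have hg0 : ∀ {n} (_ : init.length < n) (z : Ext (quotSC x h).X₂ (ModuleCat.of A M) n), z = 0 :=
      fun hn z => @Subsingleton.elim _ (hvan _ hn) _ _
    refine ⟨?_, fun i hi => subsingleton_of_forall_eq 0 fun a => ?_⟩
    · have hlen : (init ++ [x]).length = init.length + 1 := by simp
      let δ : Ext (ModuleCat.of A (A ⧸ Ideal.ofList init)) (ModuleCat.of A M) init.length →ₗ[A]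
          Ext (ModuleCat.of A (A ⧸ Ideal.ofList (init ++ [x]))) (ModuleCat.of A M) (init ++ [x]).length :=
        { toFun := fun z => hS.extClass.comp z (by simp [add_comm])
          map_add' := fun z w => Ext.comp_add _ z w _
          map_smul' := fun r z => Ext.comp_smul _ z _ r }
      let φ : M →ₗ[A] _ := δ.comp (e.symm.toLinearMap.comp (Submodule.mkQ _))
      have hφs : Function.Surjective φ := fun a => by
        obtain ⟨z, hz⟩ := Ext.contravariant_sequence_exact₃ hS (ModuleCat.of A M) a
          (hg0 (by simp) _) (n₀ := init.length) (by simp [add_comm])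
        obtain ⟨m, hm⟩ := Submodule.mkQ_surjective _ (e z)
        exact ⟨m, by show δ (e.symm (Submodule.mkQ _ m)) = a; rw [hm, e.symm_apply_apply]; exact hz⟩
      have hker : LinearMap.ker φ = Ideal.ofList (init ++ [x]) • (⊤ : Submodule A M) := by
        have hJ : Ideal.ofList (init ++ [x]) • (⊤ : Submodule A M) =
            Ideal.ofList init • (⊤ : Submodule A M) ⊔ x • ⊤ := by
          rw [← h, Submodule.sup_smul, Submodule.ideal_span_singleton_smul]
        rw [hJ]
        ext m
        constructor
        · intro hm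
          obtain ⟨z, hz⟩ := Ext.contravariant_sequence_exact₁ hS (ModuleCat.of A M)
            (e.symm (Submodule.Quotient.mk m)) (hn₁ := by simp [add_comm]) hm
          rw [hf] at hz
          obtain ⟨w, hw⟩ := Submodule.mkQ_surjective _ (e z)
          have : Submodule.Quotient.mk m = (Submodule.Quotient.mk (x • w) :
              M ⧸ (Ideal.ofList init • (⊤ : Submodule A M))) := by
            rw [Submodule.Quotient.mk_smul, ← Submodule.mkQ_apply _ w, hw, ← map_smul e]
            exact e.symm_apply_eq.mp hz.symm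
          rw [Submodule.Quotient.eq] at this
          exact Submodule.mem_sup.mpr ⟨m - x • w, this, x • w,
            Submodule.smul_mem_pointwise_smul _ _ _ Submodule.mem_top, sub_add_cancel _ _⟩
        · intro hm
          obtain ⟨a, ha, b, hb, rfl⟩ := Submodule.mem_sup.mp hm
          obtain ⟨w, -, rfl⟩ := (Submodule.mem_smul_pointwise_iff_exists _ _ _).mp hb
          rw [LinearMap.mem_ker, map_add,
            show φ a = 0 by simp [φ, (Submodule.Quotient.mk_eq_zero _).mpr ha], zero_add]
          show δ (e.symm (Submodule.Quotient.mk (x • w))) = 0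
          rw [Submodule.Quotient.mk_smul, map_smul, ← hf]
          exact Ext.comp_assoc_of_second_deg_zero _ _ _ _ |>.symm.trans (by
            rw [hS.extClass_comp, Ext.zero_comp]; simp [add_comm])
      exact ⟨(φ.quotKerEquivOfSurjective hφs).symm.trans (Submodule.quotEquivOfEq _ _ hker)⟩
    · obtain ⟨j, rfl⟩ : ∃ j, i = 1 + j := ⟨i - 1, by simp at hi; omega⟩
      obtain ⟨z, hz⟩ := Ext.contravariant_sequence_exact₃ hS (ModuleCat.of A M) a
        (hg0 (by simp at hi; omega) _) (n₀ := j) rfl
      rw [← hz, show z = 0 from @Subsingleton.elim _ (hvan j (by simp at hi; omega)) _ _,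
        Ext.comp_zero]

/-- `Ext` against a module killed-source in the first degree allowed by a regular sequence. -/
theorem ext_of_regular_killed (N : Type u) [AddCommGroup N] [Module A N] (rs : List A)
    (hkill : ∀ r ∈ rs, ∀ n : N, r • n = 0) :
    ∀ (M : Type u) [AddCommGroup M] [Module A M], IsWeaklyRegular M rs →
    Nonempty (Ext (ModuleCat.of A N) (ModuleCat.of A M) rs.length ≃ₗ[A]
      (N →ₗ[A] M ⧸ (Ideal.ofList rs • (⊤ : Submodule A M)))) ∧
    ∀ i, i < rs.length → Subsingleton (Ext (ModuleCat.of A N) (ModuleCat.of A M) i) := by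
  induction rs with
  | nil =>
    intro M _ _ _
    refine ⟨⟨Ext.linearEquiv₀.trans (ModuleCat.homLinearEquiv.trans
      ((LinearEquiv.refl A N).arrowCongr (Submodule.quotEquivOfEqBot _ (by simp)).symm))⟩,
      fun i hi => absurd hi (by simp)⟩
  | cons r rs ih =>
    intro M _ _ hM
    rw [isWeaklyRegular_cons_iff] at hM
    have hkill' : ∀ r ∈ rs, ∀ n : N, r • n = 0 := fun s hs => hkill s (List.mem_cons_of_mem _ hs)
    obtain ⟨⟨e⟩, hvanQ⟩ := ih hkill' (QuotSMulTop r M) hM.2
    have hS := IsSMulRegular.smulShortComplex_shortExact (M := ModuleCat.of A M) hM.1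
    have hzero : ∀ {n} (z : Ext (ModuleCat.of A N) (ModuleCat.of A M) n),
        z.comp (Ext.mk₀ ((ModuleCat.of A M).smulShortComplex r).f) (add_zero n) = 0 := fun {n} z => by
      show z.comp (Ext.mk₀ (r • 𝟙 (ModuleCat.of A M))) _ = (0 : Ext (ModuleCat.of A N) (ModuleCat.of A M) n)
      have hk : r • 𝟙 (ModuleCat.of A N) = 0 := by
        ext y
        exact hkill r (List.mem_cons_self ..) y
      rw [Ext.mk₀_smul, Ext.comp_smul, Ext.comp_mk₀_id, ← Ext.mk₀_id_comp z, ← Ext.smul_comp,
        ← Ext.mk₀_smul, hk, Ext.mk₀_zero, Ext.zero_comp]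
    have hvan : ∀ i, i < rs.length + 1 → Subsingleton (Ext (ModuleCat.of A N) (ModuleCat.of A M) i) := by
      intro i hi
      refine subsingleton_of_forall_eq 0 fun a => ?_
      cases i with
      | zero =>
        obtain ⟨g, rfl⟩ := (Ext.mk₀_bijective _ _).2 a
        have : g = 0 := by
          ext y
          apply hM.1
          show r • g.hom y = r • 0
          rw [← map_smul, hkill r (List.mem_cons_self ..) y, map_zero, smul_zero]
        rw [this, Ext.mk₀_zero]
      | succ j =>
        obtain ⟨b, hb⟩ := Ext.covariant_sequence_exact₁ _ hS a (hzero a) (n₀ := j) rfl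
        rw [← hb, show b = 0 from @Subsingleton.elim _ (hvanQ j (by omega)) _ _, Ext.zero_comp]
        rfl
    refine ⟨?_, fun i hi => hvan i (by simpa using hi)⟩
    let δ : Ext (ModuleCat.of A N) (ModuleCat.of A (QuotSMulTop r M)) rs.length →ₗ[A]
        Ext (ModuleCat.of A N) (ModuleCat.of A M) (rs.length + 1) :=
      { toFun := fun z => z.comp hS.extClass rfl
        map_add' := fun z w => Ext.add_comp z w _ _
        map_smul' := fun s z => Ext.smul_comp z _ _ s }
    have hδ : Function.Bijective δ := by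
      refine ⟨(injective_iff_map_eq_zero δ).mpr fun z hz => ?_, fun a => ?_⟩
      · obtain ⟨w, hw⟩ := Ext.covariant_sequence_exact₃ _ hS z rfl hz
        rw [← hw, show w = 0 from @Subsingleton.elim _ (hvan rs.length (Nat.lt_succ_self _)) _ _,
          Ext.zero_comp]
        rfl
      · exact Ext.covariant_sequence_exact₁ _ hS a (hzero a) rfl
    exact ⟨(LinearEquiv.ofBijective δ hδ).symm.trans (e.trans
      ((LinearEquiv.refl A N).arrowCongr (Submodule.quotOfListConsSMulTopEquivQuotSMulTopInner M r rs).symm))⟩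

end Groth.Agent.ExtRegular
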