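import Mathlib.AlgebraicGeometry.Restrict
import Mathlib.AlgebraicGeometry.Morphisms.ClosedImmersion

/-! Lifts of maps along square-zero thickenings stay inside open subschemes. -/

namespace Groth.Agent.FLiftOpen4

open AlgebraicGeometry CategoryTheory

universe u

theorem range_subset {A : Type u} [CommRing A] (I : Ideal A) (hI : I ^ 2 = ⊥) {X : Scheme.{u}}
    {U : X.Opens} (l : Spec (CommRingCat.of A) ⟶ X)
    (a : Spec (CommRingCat.of (A ⧸ I)) ⟶ U.toScheme)
    (h : Spec.map (CommRingCat.ofHom (Ideal.Quotient.mk I)) ≫ l = a ≫ U.ι) :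
    Set.range l ⊆ Set.range U.ι := by
  rintro _ ⟨p, rfl⟩
  have hp : p ∈ Set.range (PrimeSpectrum.comap (Ideal.Quotient.mk I)) := by
    rw [range_comap_of_surjective _ _ Ideal.Quotient.mk_surjective, Ideal.mk_ker]
    intro x hx
    refine p.isPrime.mem_of_pow_mem 2 ?_
    have : x ^ 2 ∈ I ^ 2 := Ideal.pow_mem_pow hx 2
    rw [hI, Ideal.mem_bot] at this
    rw [this]
    exact Ideal.zero_mem _
  obtain ⟨q, rfl⟩ := hp
  refine ⟨a q, ?_⟩
  have := congrArg (fun k => k q) h
  exact this.symm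

end Groth.Agent.FLiftOpen4
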