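import Groth.Agent.Lib.FPExt8.Main
import Groth.Agent.Lib.CAlgLow.FPColimit

/-!
# Extensions of functors from finitely presented modules by filtered colimits

A functor on modules that preserves filtered colimits is additive, respectively right exact, as
soon as its restriction to finitely presented modules is.
-/

set_option autoImplicit false

set_option linter.style.haveILetI false
set_option backward.isDefEq.respectTransparency false

universe u v' u'

open CategoryTheory CategoryTheory.Limits

namespace Groth.Agent.FPAdd28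

open Groth.Agent.CAlgLow

variable {A : Type u} [CommRing A] (M : ModuleCat.{u} A)

open scoped Classical

/-- The diagram of finite presentations over a module. -/
noncomputable abbrev diag : Pres A M ⥤ ModuleCat.{u} A :=
  ModuleCat.directLimitDiagram (Pres.G (R := A) (M := M)) Pres.f

/-- A module as the colimit of the finite presentations over it. -/
noncomputable def presCocone : Cocone (diag M) where
  pt := M
  ι := { app := fun a => ModuleCat.ofHom (Pres.π a)
         naturality := fun a b h => by
           ext x
           obtain ⟨y, rfl⟩ := Submodule.mkQ_surjective _ x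
           rfl }

noncomputable def presIsColimit : IsColimit (presCocone M) := by
  let c := ModuleCat.directLimitCocone (Pres.G (R := A) (M := M)) Pres.f
  have hc : IsColimit c := ModuleCat.directLimitIsColimit _ _
  have : IsIso (hc.desc (presCocone M)) := by
    rw [ConcreteCategory.isIso_iff_bijective]
    refine ⟨?_, fun m => ?_⟩
    · rw [injective_iff_map_eq_zero]
      intro z hz
      obtain ⟨a, x, rfl⟩ := Module.DirectLimit.exists_of z
      obtain ⟨y, rfl⟩ := Submodule.mkQ_surjective _ x
      have hz' : Pres.π a (Submodule.mkQ _ y) = 0 :=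
        ((ConcreteCategory.congr_hom (hc.fac (presCocone M) a) (Submodule.mkQ _ y)).symm.trans hz)
      have hy : Finsupp.linearCombination A (id : M → M) y.1 = 0 := hz'
      let b : Pres A M := ⟨a.s, a.K ⊔ Submodule.span A {y.1}, a.fg.sup (Submodule.fg_span_singleton _),
        sup_le a.supp ((Submodule.span_singleton_le_iff_mem _ _).2 y.2),
        sup_le a.rel ((Submodule.span_singleton_le_iff_mem _ _).2 hy)⟩
      have hab : a ≤ b := ⟨subset_rfl, le_sup_left⟩
      rw [← Module.DirectLimit.of_f (hij := hab)]
      have : Pres.f a b hab (Submodule.mkQ _ y) = 0 :=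
        (Submodule.Quotient.mk_eq_zero _).2 (Submodule.mem_sup_right (Submodule.mem_span_singleton_self _))
      rw [this, map_zero]
    · let a : Pres A M := ⟨{m}, ⊥, Submodule.fg_bot, bot_le, bot_le⟩
      let y : Finsupp.supported A A (a.s : Set M) := ⟨Finsupp.single m 1,
        Finsupp.single_mem_supported A 1 (Finset.mem_coe.2 (Finset.mem_singleton_self m))⟩
      refine ⟨c.ι.app a (Submodule.mkQ _ y), (ConcreteCategory.congr_hom (hc.fac (presCocone M) a) _).trans ?_⟩
      exact (Finsupp.linearCombination_single (R := A) (v := (id : M → M)) 1 m).trans (one_smul A m)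
  exact IsColimit.ofPointIso (t := presCocone M) hc

variable {B : Type u'} [Category.{v'} B] [Preadditive B] (F' : ModuleCat.{u} A ⥤ B)
  [PreservesFilteredColimitsOfSize.{u, u} F']

theorem hom_ext {Z : B} {g g' : F'.obj M ⟶ Z}
    (h : ∀ a : Pres A M, F'.map (ModuleCat.ofHom (Pres.π a)) ≫ g = F'.map (ModuleCat.ofHom (Pres.π a)) ≫ g') :
    g = g' :=
  (isColimitOfPreserves F' (presIsColimit M)).hom_ext h

theorem map_add_of_fp [(ObjectProperty.ι (fun M : ModuleCat.{u} A => Module.FinitePresentation A M) ⋙ F').Additive]
    {P Q : ModuleCat.{u} A} [Module.FinitePresentation A P] [Module.FinitePresentation A Q] (f g : P ⟶ Q) :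
    F'.map (f + g) = F'.map f + F'.map g := by
  let R := ObjectProperty.ι (fun M : ModuleCat.{u} A => Module.FinitePresentation A M) ⋙ F'
  exact R.map_add (X := ⟨P, ‹_›⟩) (Y := ⟨Q, ‹_›⟩) (f := ObjectProperty.homMk f) (g := ObjectProperty.homMk g)

theorem additive [(ObjectProperty.ι (fun M : ModuleCat.{u} A => Module.FinitePresentation A M) ⋙ F').Additive] :
    F'.Additive where
  map_add {M N f g} := hom_ext M F' fun a => by
    haveI : Module.FinitePresentation A (ModuleCat.of A (Pres.G a)) := a.finitePresentation
    let P := ModuleCat.of A (Pres.G a)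
    let π : P ⟶ M := ModuleCat.ofHom (Pres.π a)
    let i₁ : P ⟶ ModuleCat.of A (P × P) := ModuleCat.ofHom (LinearMap.inl A P P)
    let i₂ : P ⟶ ModuleCat.of A (P × P) := ModuleCat.ofHom (LinearMap.inr A P P)
    let h : ModuleCat.of A (P × P) ⟶ N := ModuleCat.ofHom (LinearMap.coprod (π ≫ f).hom (π ≫ g).hom)
    have h₁ : i₁ ≫ h = π ≫ f := ModuleCat.hom_ext (LinearMap.coprod_inl _ _)
    have h₂ : i₂ ≫ h = π ≫ g := ModuleCat.hom_ext (LinearMap.coprod_inr _ _)
    haveI : Module.FinitePresentation A (ModuleCat.of A (P × P)) := inferInstanceAs (Module.FinitePresentation A (_ × _))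
    calc F'.map π ≫ F'.map (f + g) = F'.map ((i₁ + i₂) ≫ h) := by
          rw [← F'.map_comp, Preadditive.comp_add, Preadditive.add_comp, h₁, h₂]
      _ = F'.map π ≫ (F'.map f + F'.map g) := by
          rw [F'.map_comp, map_add_of_fp F' i₁ i₂, Preadditive.add_comp, ← F'.map_comp, ← F'.map_comp, h₁, h₂,
            Preadditive.comp_add, F'.map_comp, F'.map_comp]

theorem preservesCoproducts [HasFiniteBiproducts B] [F'.Additive] (J : Type u) :
    PreservesColimitsOfShape (Discrete J) F' := ⟨fun {K} => by
  classical
  let D := CoproductsFromFiniteFiltered.liftToFinsetObj K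
  let L := CoproductsFromFiniteFiltered.liftToFinsetColimitCocone K
  refine preservesColimit_of_preserves_colimit_cocone L.isColimit ?_
  let hD := isColimitOfPreserves F' (colimit.isColimit D)
  haveI : PreservesFiniteCoproducts F' := inferInstance
  haveI hS : ∀ S : Finset (Discrete J), PreservesColimitsOfShape (Discrete S) F' := fun S => inferInstance
  let hco (S : Finset (Discrete J)) :=
    isColimitOfPreserves F' (coproductIsCoproduct (fun x : S => K.obj x.1))
  let d (t : Cocone (K ⋙ F')) (S : Finset (Discrete J)) : F'.obj (D.obj S) ⟶ t.pt :=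
    (hco S).desc ⟨t.pt, Discrete.natTrans fun x => t.ι.app x.as.1⟩
  have hd (t : Cocone (K ⋙ F')) (S : Finset (Discrete J)) (x : S) :
      F'.map (Sigma.ι (fun x : S => K.obj x.1) x) ≫ d t S = t.ι.app x.1 :=
    (hco S).fac ⟨t.pt, Discrete.natTrans fun x => t.ι.app x.as.1⟩ ⟨x⟩
  let c (t : Cocone (K ⋙ F')) : Cocone (D ⋙ F') :=
    { pt := t.pt
      ι :=
      { app := fun S => d t S
        naturality := fun S T h => (hco S).hom_ext fun ⟨x⟩ => by
          change F'.map (Sigma.ι (fun x : S => K.obj x.1) x) ≫ F'.map (D.map h) ≫ d t T =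
            F'.map (Sigma.ι (fun x : S => K.obj x.1) x) ≫ d t S ≫ 𝟙 _
          rw [Category.comp_id, hd, ← Category.assoc, ← F'.map_comp]
          refine Eq.trans ?_ (hd t T ⟨x.1, h.down.down x.2⟩)
          congr 2
          simp [D, CoproductsFromFiniteFiltered.liftToFinsetObj] } }
  exact
    { desc := fun t => hD.desc (c t)
      fac := fun t j => by
        change F'.map (Sigma.ι (fun x : ({j} : Finset (Discrete J)) => K.obj x.1) ⟨j, by simp⟩ ≫
          colimit.ι D {j}) ≫ hD.desc (c t) = _
        rw [F'.map_comp, Category.assoc]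
        exact (congrArg _ (hD.fac (c t) {j})).trans (hd t {j} _)
      uniq := fun t m hm => hD.hom_ext fun S => (hco S).hom_ext fun ⟨x⟩ => by
        refine Eq.trans ?_ ((congrArg _ (hD.fac (c t) S)).trans (hd t S x)).symm
        rw [← hm x.1]
        change F'.map (Sigma.ι (fun x : S => K.obj x.1) x) ≫ F'.map (colimit.ι D S) ≫ m =
          F'.map (L.cocone.ι.app x.1) ≫ m
        rw [← Category.assoc, ← F'.map_comp]
        congr 2
        simp only [L, CoproductsFromFiniteFiltered.liftToFinsetColimitCocone, Discrete.natTrans_app]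
        rw [← colimit.w D (homOfLE (Finset.singleton_subset_iff.2 x.2))]
        simp [D, CoproductsFromFiniteFiltered.liftToFinsetObj] }⟩

theorem additive_restriction
    [PreservesFiniteColimits (ObjectProperty.ι (fun M : ModuleCat.{u} A => Module.FinitePresentation A M) ⋙ F')]
    [HasFiniteBiproducts B] :
    (ObjectProperty.ι (fun M : ModuleCat.{u} A => Module.FinitePresentation A M) ⋙ F').Additive := by
  let R := ObjectProperty.ι (FPExt8.fp A) ⋙ F'
  haveI : PreservesFiniteColimits R := ‹_›
  haveI : HasFiniteBiproducts (FPExt8.fp A).FullSubcategory := HasFiniteBiproducts.of_hasFiniteProducts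
  haveI : HasBinaryBiproducts (FPExt8.fp A).FullSubcategory := hasBinaryBiproducts_of_finite_biproducts _
  haveI : HasZeroObject B := hasZeroObject_of_hasFiniteBiproducts B
  haveI : HasZeroObject (FPExt8.fp A).FullSubcategory := hasZeroObject_of_hasFiniteBiproducts _
  haveI : R.PreservesZeroMorphisms := Functor.preservesZeroMorphisms_of_map_zero_object
    (((isZero_zero _).isInitial.isInitialObj R _).uniqueUpToIso (isZero_zero B).isInitial)
  haveI : PreservesBinaryBiproducts R := preservesBinaryBiproducts_of_preservesBinaryCoproducts R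
  exact Functor.additive_of_preservesBinaryBiproducts R

theorem epi_and_exists_desc
    [PreservesFiniteColimits (ObjectProperty.ι (fun M : ModuleCat.{u} A => Module.FinitePresentation A M) ⋙ F')]
    [F'.Additive] {P Q R : ModuleCat.{u} A} [Module.FinitePresentation A P] [Module.FinitePresentation A Q]
    [Module.FinitePresentation A R] (i : P ⟶ Q) (p : Q ⟶ R) (hp : Function.Surjective p.hom)
    (hip : LinearMap.range i.hom = LinearMap.ker p.hom) :
    Epi (F'.map p) ∧
      ∀ {Z : B} (t : F'.obj Q ⟶ Z), F'.map i ≫ t = 0 → ∃ d : F'.obj R ⟶ Z, F'.map p ≫ d = t := by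
  let T := ObjectProperty.ι (FPExt8.fp A) ⋙ F'
  haveI : PreservesFiniteColimits T := ‹_›
  haveI : T.Additive := by dsimp [T]; infer_instance
  let i' : (⟨P, ‹_›⟩ : (FPExt8.fp A).FullSubcategory) ⟶ ⟨Q, ‹_›⟩ := ObjectProperty.homMk i
  let e' : (FPExt8.cokObj i').obj ≃ₗ[A] R :=
    (Submodule.quotEquivOfEq (LinearMap.range i.hom) _ hip).trans (LinearMap.quotKerEquivOfSurjective p.hom hp)
  let hc := CokernelCofork.mapIsColimit _ (FPExt8.cokIsColimit i') T
  have hp' : F'.map p = T.map (FPExt8.cokπ i') ≫ F'.map (e'.toModuleIso.hom) := by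
    change F'.map p = F'.map _ ≫ F'.map _
    rw [← F'.map_comp]
    rfl
  refine ⟨⟨fun {Z} g g' h => ?_⟩, fun {Z} t ht => ?_⟩
  · rw [hp', Category.assoc, Category.assoc] at h
    exact (cancel_epi (F'.map e'.toModuleIso.hom)).1 (Cofork.IsColimit.hom_ext hc h)
  · obtain ⟨d, hd⟩ := CokernelCofork.IsColimit.desc' hc t ht
    refine ⟨F'.map e'.toModuleIso.inv ≫ d, ?_⟩
    rw [hp', Category.assoc, ← Category.assoc (F'.map _) (F'.map _), ← F'.map_comp, Iso.hom_inv_id,
      CategoryTheory.Functor.map_id, Category.id_comp]
    exact hd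

set_option maxHeartbeats 1600000 in
theorem preservesCokernel
    [PreservesFiniteColimits (ObjectProperty.ι (fun M : ModuleCat.{u} A => Module.FinitePresentation A M) ⋙ F')]
    [F'.Additive] {M N : ModuleCat.{u} A} (f : M ⟶ N) : PreservesColimit (parallelPair f 0) F' := by
  classical
  refine preservesColimit_of_preserves_colimit_cocone (ModuleCat.cokernelIsColimit f) ?_
  set q : N ⟶ ModuleCat.of A (N ⧸ LinearMap.range f.hom) := ModuleCat.ofHom (LinearMap.range f.hom).mkQ with hq
  have hw : f ≫ q = 0 := ModuleCat.hom_ext (LinearMap.range_mkQ_comp _)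
  refine (CokernelCofork.isColimitMapCoconeEquiv (CokernelCofork.ofπ q hw) F').symm ?_
  let C := ModuleCat.of A (N ⧸ LinearMap.range f.hom)
  let σ : C → N := Function.surjInv (Submodule.mkQ_surjective (LinearMap.range f.hom))
  have hσ : ∀ x, q.hom (σ x) = x := Function.surjInv_eq _
  let Fr (c : Pres A C) := ModuleCat.of A (Finsupp.supported A A (c.s : Set C))
  haveI hFr : ∀ c : Pres A C, Module.FinitePresentation A (Fr c) := fun c =>
    Module.FinitePresentation.of_equiv (Finsupp.supportedEquivFinsupp (R := A) (M := A) (c.s : Set C)).symm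
  haveI hG : ∀ c : Pres A C, Module.FinitePresentation A (ModuleCat.of A (Pres.G c)) := fun c =>
    c.finitePresentation
  let r (c : Pres A C) : Fr c ⟶ N :=
    ModuleCat.ofHom ((Finsupp.linearCombination A σ).comp (Finsupp.supported A A (c.s : Set C)).subtype)
  let mk (c : Pres A C) : Fr c ⟶ ModuleCat.of A (Pres.G c) := ModuleCat.ofHom (Submodule.mkQ _)
  have hrq (c : Pres A C) : r c ≫ q = mk c ≫ ModuleCat.ofHom (Pres.π c) := by
    refine ModuleCat.hom_ext (LinearMap.ext fun y => ?_)
    change q.hom (Finsupp.linearCombination A σ y.1) = Finsupp.linearCombination A (id : C → C) y.1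
    rw [Finsupp.apply_linearCombination, show (q.hom ∘ σ) = id from funext hσ]
  -- relations of a presentation and their lift
  have hrel (c : Pres A C) : ∃ (n : ℕ) (i : ModuleCat.of A (ULift.{u} (Fin n) → A) ⟶ Fr c)
      (l : ModuleCat.of A (ULift.{u} (Fin n) → A) ⟶ M),
      LinearMap.range i.hom = LinearMap.ker (mk c).hom ∧ i ≫ r c = l ≫ f := by
    have hfg : (c.K.comap (Finsupp.supported A A (c.s : Set C)).subtype).FG := by
      refine Submodule.fg_of_fg_map_injective _ (Submodule.injective_subtype _) ?_
      rw [Submodule.map_comap_eq, Submodule.range_subtype, inf_eq_right.2 c.supp]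
      exact c.fg
    obtain ⟨n, g, hg⟩ := Submodule.fg_iff_exists_fin_generating_family.1 hfg
    have hm : ∀ j, ∃ m : M, f.hom m = r c (g j) := fun j => by
      have hj : g j ∈ c.K.comap (Finsupp.supported A A (c.s : Set C)).subtype := hg ▸ Submodule.subset_span ⟨j, rfl⟩
      have : q.hom (r c (g j)) = 0 := (ConcreteCategory.congr_hom (hrq c) (g j)).trans (c.rel hj)
      exact (Submodule.Quotient.mk_eq_zero _).1 this
    choose m hm using hm
    refine ⟨n, ModuleCat.ofHom (Fintype.linearCombination A (fun j : ULift (Fin n) => g j.down)),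
      ModuleCat.ofHom (Fintype.linearCombination A (fun j : ULift (Fin n) => m j.down)), ?_, ?_⟩
    · change LinearMap.range (Fintype.linearCombination A (fun j : ULift (Fin n) => g j.down)) =
        LinearMap.ker (Submodule.mkQ _)
      rw [Fintype.range_linearCombination, Submodule.ker_mkQ, ← hg]
      exact congrArg _ (Equiv.ulift.surjective.range_comp g)
    · refine ModuleCat.hom_ext (LinearMap.ext fun x => ?_)
      change r c (Fintype.linearCombination A _ x) = f.hom (Fintype.linearCombination A _ x)
      simp only [Fintype.linearCombination_apply, map_sum, map_smul, hm]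
  have hepi (c : Pres A C) : Epi (F'.map (mk c)) := by
    obtain ⟨n, i, l, hi, -⟩ := hrel c
    exact (epi_and_exists_desc F' i (mk c) (Submodule.mkQ_surjective _) hi).1
  have hd {Z : B} (t : F'.obj N ⟶ Z) (ht : F'.map f ≫ t = 0) (c : Pres A C) :
      ∃ d : F'.obj (ModuleCat.of A (Pres.G c)) ⟶ Z, F'.map (mk c) ≫ d = F'.map (r c) ≫ t := by
    obtain ⟨n, i, l, hi, hil⟩ := hrel c
    refine (epi_and_exists_desc F' i (mk c) (Submodule.mkQ_surjective _) hi).2 _ ?_
    rw [← Category.assoc, ← F'.map_comp, hil, F'.map_comp, Category.assoc, ht, comp_zero]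
  haveI hqepi : Epi (F'.map q) := ⟨fun {Z} g g' h => hom_ext C F' fun c => by
    haveI := hepi c
    rw [← cancel_epi (F'.map (mk c)), ← Category.assoc, ← Category.assoc, ← F'.map_comp, ← hrq c,
      F'.map_comp, Category.assoc, Category.assoc, h]⟩
  suffices H : ∀ {Z : B} (t : F'.obj N ⟶ Z), F'.map f ≫ t = 0 → ∃ d, F'.map q ≫ d = t from
    CokernelCofork.IsColimit.ofπ (F'.map q) (by rw [← F'.map_comp, hw, F'.map_zero]) (fun t ht => (H t ht).choose) (fun t ht => (H t ht).choose_spec)
      (fun {Z} t ht m hm => by
        rw [← cancel_epi (F'.map q)]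
        exact hm.trans (H t ht).choose_spec.symm)
  intro Z t ht
  refine ⟨(isColimitOfPreserves F' (presIsColimit C)).desc
      { pt := Z
        ι :=
        { app := fun c => (hd t ht c).choose
          naturality := fun c c' h => by
            haveI := hepi c
            change F'.map _ ≫ (hd t ht c').choose = (hd t ht c).choose ≫ 𝟙 _
            let inc : Fr c ⟶ Fr c' :=
              ModuleCat.ofHom (Submodule.inclusion (Finsupp.supported_mono (Finset.coe_subset.2 h.le.1)))
            rw [Category.comp_id, ← cancel_epi (F'.map (mk c)), (hd t ht c).choose_spec, ← Category.assoc,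
              ← F'.map_comp, show mk c ≫ (diag C).map h = inc ≫ mk c' from rfl, F'.map_comp, Category.assoc,
              (hd t ht c').choose_spec, ← Category.assoc, ← F'.map_comp, show inc ≫ r c' = r c from rfl] } }, ?_⟩
  refine hom_ext N F' fun a => ?_
  haveI : Module.FinitePresentation A (ModuleCat.of A (Finsupp.supported A A (a.s : Set N))) :=
    Module.FinitePresentation.of_equiv (Finsupp.supportedEquivFinsupp (R := A) (M := A) (a.s : Set N)).symm
  haveI : Module.FinitePresentation A (ModuleCat.of A (Pres.G a)) := a.finitePresentation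
  let P := ModuleCat.of A (Finsupp.supported A A (a.s : Set N))
  let p : P ⟶ ModuleCat.of A (Pres.G a) := ModuleCat.ofHom (Submodule.mkQ _)
  let φ : P ⟶ N := p ≫ ModuleCat.ofHom (Pres.π a)
  let c : Pres A C := ⟨a.s.image q.hom, ⊥, Submodule.fg_bot, bot_le, bot_le⟩
  let μ : P ⟶ Fr c := ModuleCat.ofHom (((Finsupp.lmapDomain A A q.hom).comp
    (Finsupp.supported A A (a.s : Set N)).subtype).codRestrict _ fun y => by
      intro x hx
      obtain ⟨z, hz, rfl⟩ := Finset.mem_image.1 (Finsupp.mapDomain_support hx)
      exact Finset.mem_coe.2 (Finset.mem_image.2 ⟨z, y.2 hz, rfl⟩))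
  have hμ : μ ≫ mk c ≫ ModuleCat.ofHom (Pres.π c) = φ ≫ q := by
    refine ModuleCat.hom_ext (LinearMap.ext fun y => ?_)
    change Finsupp.linearCombination A (id : C → C) (Finsupp.mapDomain q.hom y.1) =
      q.hom (Finsupp.linearCombination A (id : N → N) y.1)
    rw [Finsupp.linearCombination_mapDomain, Finsupp.apply_linearCombination]
    rfl
  obtain ⟨l, hl⟩ : ∃ l : P ⟶ M, l ≫ f = μ ≫ r c - φ := by
    have hx : ∀ x : N, ∃ m : M, f.hom m = σ (q.hom x) - x := fun x => by
      refine (Submodule.Quotient.mk_eq_zero (LinearMap.range f.hom)).1 ?_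
      change q.hom (σ (q.hom x) - x) = 0
      rw [map_sub, hσ, sub_self]
    choose m hm using hx
    refine ⟨ModuleCat.ofHom ((Finsupp.linearCombination A m).comp
      (Finsupp.supported A A (a.s : Set N)).subtype), ModuleCat.hom_ext (LinearMap.ext fun y => ?_)⟩
    change f.hom (Finsupp.linearCombination A m y.1) =
      Finsupp.linearCombination A σ (Finsupp.mapDomain q.hom y.1) - Finsupp.linearCombination A (id : N → N) y.1
    rw [Finsupp.apply_linearCombination, Finsupp.linearCombination_mapDomain]
    simp only [Finsupp.linearCombination_apply, Finsupp.sum, ← Finset.sum_sub_distrib, Function.comp, id, hm, smul_sub]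
  haveI : Epi (F'.map p) := by
    haveI : Module.Finite A (ModuleCat.of A (Pres.G a)) := inferInstance
    have hfg : (LinearMap.ker p.hom).FG := Module.FinitePresentation.fg_ker _ (Submodule.mkQ_surjective _)
    obtain ⟨n, g, hg⟩ := Submodule.fg_iff_exists_fin_generating_family.1 hfg
    refine (epi_and_exists_desc F' (P := ModuleCat.of A (ULift.{u} (Fin n) → A))
      (ModuleCat.ofHom (Fintype.linearCombination A (fun j : ULift (Fin n) => g j.down))) p
      (Submodule.mkQ_surjective _) ?_).1
    change LinearMap.range (Fintype.linearCombination A (fun j : ULift (Fin n) => g j.down)) = _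
    rw [Fintype.range_linearCombination, ← hg]
    exact congrArg _ (Equiv.ulift.surjective.range_comp g)
  rw [← cancel_epi (F'.map p), ← Category.assoc, ← Category.assoc, ← Category.assoc, ← F'.map_comp]
  change (F'.map φ ≫ F'.map q) ≫ _ = F'.map φ ≫ t
  rw [← F'.map_comp, ← hμ, F'.map_comp, F'.map_comp, Category.assoc, Category.assoc]
  refine (congrArg (fun z => F'.map μ ≫ F'.map (mk c) ≫ z)
    ((isColimitOfPreserves F' (presIsColimit C)).fac _ c)).trans ?_
  refine (congrArg (F'.map μ ≫ ·) (hd t ht c).choose_spec).trans ?_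
  rw [← Category.assoc, ← F'.map_comp, eq_add_of_sub_eq hl.symm, F'.map_add, F'.map_comp,
    Preadditive.add_comp, Category.assoc, ht, comp_zero, zero_add]

theorem preservesFiniteColimits
    [PreservesFiniteColimits (ObjectProperty.ι (fun M : ModuleCat.{u} A => Module.FinitePresentation A M) ⋙ F')]
    [F'.Additive] [HasFiniteBiproducts B] : PreservesFiniteColimits F' := by
  haveI : HasZeroObject B := hasZeroObject_of_hasFiniteBiproducts B
  haveI : ∀ {X Y : ModuleCat.{u} A} (f : X ⟶ Y), PreservesColimit (parallelPair f 0) F' := fun f => preservesCokernel F' f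
  exact Functor.preservesFiniteColimits_of_preservesCokernels F'

end Groth.Agent.FPAdd28
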