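import Groth.Agent.S15351
import Groth.Agent.S1583
import Groth.Agent.Lib.SectionCompFlat4

/-! Open union of fibre components meeting the image of a universally open map. -/

set_option autoImplicit false
open CategoryTheory CategoryTheory.Limits AlgebraicGeometry
universe u

set_option backward.isDefEq.respectTransparency.types false

namespace Groth.Agent.FibComp3

theorem exists_open_affine {S T X : Scheme.{u}} [IsAffine T] (f : X ⟶ S) [Smooth f]
    [QuasiSeparated f] (g : T ⟶ S) [UniversallyOpen g] (e : T ⟶ X) (he : e ≫ f = g) :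
    ∃ U : Set X, IsOpen U ∧
      U = ⋃ t : T, connectedComponentIn (f.base ⁻¹' {g.base t}) (e.base t) := by
  let p := pullback.fst f g
  let f' := pullback.snd f g
  let σ : T ⟶ pullback f g := pullback.lift e (𝟙 T) (by simpa using he)
  have hσ : σ ≫ f' = 𝟙 T := pullback.lift_snd _ _ _
  have hσp : σ ≫ p = e := pullback.lift_fst _ _ _
  haveI : Smooth f' := MorphismProperty.pullback_snd _ _ inferInstance
  haveI : QuasiSeparated f' := MorphismProperty.pullback_snd _ _ inferInstance
  haveI : QuasiSeparatedSpace ↥(pullback f g) := (quasiSeparated_iff_quasiSeparatedSpace f').mp inferInstance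
  haveI : UniversallyOpen p := MorphismProperty.pullback_fst _ _ inferInstance
  refine ⟨p.base '' MoreMor.sectionComponents f' σ,
    p.isOpenMap _ (S15351.result f' σ hσ), Set.Subset.antisymm ?_ ?_⟩
  · rintro _ ⟨w, hw, rfl⟩
    refine Set.mem_iUnion.mpr ⟨f'.base w, ?_⟩
    have hmaps : p.base '' connectedComponentIn (f' ⁻¹' {f' w}) (σ (f' w)) ⊆ f.base ⁻¹' {g.base (f'.base w)} := by
      rintro _ ⟨v, hv, rfl⟩
      show f.base (p.base v) = g.base (f'.base w)
      have h1 : f' v = f' w := connectedComponentIn_subset (⇑f' ⁻¹' {f' w}) _ hv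
      rw [← Scheme.Hom.comp_apply, pullback.condition, Scheme.Hom.comp_apply]
      exact congrArg g.base h1
    refine ((isPreconnected_connectedComponentIn).image _ p.continuous.continuousOn).subset_connectedComponentIn
      ⟨σ (f' w), mem_connectedComponentIn ?_, ?_⟩ hmaps ⟨w, hw, rfl⟩
    · show (σ ≫ f') (f' w) = f' w
      rw [hσ]; rfl
    · show (σ ≫ p) (f' w) = e (f' w)
      rw [hσp]
  · refine Set.iUnion_subset fun t x hx => ?_
    set s := g.base t
    let k := S.residueField s
    let K := T.residueField t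
    letI : Algebra k K := (g.residueFieldMap t).hom.toAlgebra
    let P := f.fiber s
    let ι' := f.fiberι s
    letI : P.Over (Spec (CommRingCat.of k)) := ⟨f.fiberToSpecResidueField s⟩
    let π := Curv2.bcFst k P K
    let sn := Curv2.bcSnd k P K
    have hsq : Spec.map (CommRingCat.ofHom (algebraMap k K)) ≫ S.fromSpecResidueField s =
        T.fromSpecResidueField t ≫ g := Scheme.Hom.SpecMap_residueFieldMap_fromSpecResidueField g t
    have hP : ι' ≫ f = (P ↘ Spec (CommRingCat.of k)) ≫ S.fromSpecResidueField s := pullback.condition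
    let q : Curv2.bc k P K ⟶ pullback f g := pullback.lift (π ≫ ι') (sn ≫ T.fromSpecResidueField t) (by
      rw [Category.assoc, hP, ← Category.assoc, pullback.condition, Category.assoc, hsq, Category.assoc])
    let a : Spec (CommRingCat.of K) ⟶ P := pullback.lift (T.fromSpecResidueField t ≫ e)
      (Spec.map (CommRingCat.ofHom (algebraMap k K))) (by rw [Category.assoc, he]; exact hsq.symm)
    let q₀ : Spec (CommRingCat.of K) ⟶ Curv2.bc k P K := pullback.lift a (𝟙 _) (by
      rw [Category.id_comp]; exact pullback.lift_snd _ _ _)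
    have hq₀ : q₀ ≫ q = T.fromSpecResidueField t ≫ σ := by
      refine pullback.hom_ext ?_ ?_
      · rw [Category.assoc, pullback.lift_fst, Category.assoc, hσp, ← Category.assoc, pullback.lift_fst]
        exact pullback.lift_fst _ _ _
      · rw [Category.assoc, pullback.lift_snd, Category.assoc, hσ, ← Category.assoc, pullback.lift_snd,
          Category.id_comp, Category.comp_id]
    let z := q₀.base (IsLocalRing.closedPoint K)
    have hzσ : q.base z = σ.base t := by
      show (q₀ ≫ q).base _ = _
      rw [hq₀, Scheme.Hom.comp_apply, Scheme.fromSpecResidueField_apply]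
    have hze : ι'.base (π.base z) = e.base t := by
      show (π ≫ ι').base z = _
      rw [← (pullback.lift_fst _ _ _ : q ≫ p = π ≫ ι'), Scheme.Hom.comp_apply, hzσ,
        ← Scheme.Hom.comp_apply, hσp]
    have himg : ι'.base '' connectedComponent (π.base z) =
        connectedComponentIn (f.base ⁻¹' {s}) (e.base t) := by
      rw [← connectedComponentIn_univ, SectionCompOpen4.image_connectedComponentIn ι'.isEmbedding
        (Set.mem_univ _), Set.image_univ, hze]
      rw [show Set.range ι'.base = f.base ⁻¹' {s} from f.range_fiberι s]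
    obtain ⟨y, hy, rfl⟩ := himg.ge hx
    obtain ⟨w, hw, rfl⟩ : y ∈ π.base '' connectedComponent z := by
      rw [S1583.result k P K z]; exact hy
    refine ⟨q.base w, ?_, ?_⟩
    · have hmaps : q.base '' connectedComponent z ⊆ f'.base ⁻¹' {t} := by
        rintro _ ⟨v, -, rfl⟩
        show (q ≫ f').base v = t
        rw [show q ≫ f' = sn ≫ T.fromSpecResidueField t from pullback.lift_snd _ _ _,
          Scheme.Hom.comp_apply, Scheme.fromSpecResidueField_apply]
      have h1 : f'.base (q.base w) = t := hmaps ⟨w, hw, rfl⟩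
      show q w ∈ connectedComponentIn (f' ⁻¹' {f' (q w)}) (σ (f' (q w)))
      rw [show f' (q w) = t from h1]
      exact (isPreconnected_connectedComponent.image _ q.continuous.continuousOn).subset_connectedComponentIn
        ⟨z, mem_connectedComponent, hzσ⟩ hmaps ⟨w, hw, rfl⟩
    · show (q ≫ p).base w = (π ≫ ι').base w
      rw [show q ≫ p = π ≫ ι' from pullback.lift_fst _ _ _]

/-- The union of the fibre components meeting the image of `e` is open. -/
theorem exists_open {S S' X : Scheme.{u}} (f : X ⟶ S) [Smooth f]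
    [QuasiSeparated f] (g : S' ⟶ S) [UniversallyOpen g] (e : S' ⟶ X) (he : e ≫ f = g) :
    ∃ U : X.Opens, (U : Set X) = ⋃ t : S', connectedComponentIn (f.base ⁻¹' {g.base t}) (e.base t) := by
  have h : ∀ W : S'.affineOpens, IsOpen
      (⋃ t : W.1.toScheme, connectedComponentIn (f.base ⁻¹' {g.base (W.1.ι.base t)}) (e.base (W.1.ι.base t))) := by
    intro W
    haveI : IsAffine W.1.toScheme := W.2
    obtain ⟨U, hU, hUe⟩ := exists_open_affine f (W.1.ι ≫ g) (W.1.ι ≫ e) (by rw [Category.assoc, he])
    exact hUe ▸ hU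
  refine ⟨⟨_, isOpen_iUnion h⟩, Set.ext fun x => ?_⟩
  constructor
  · intro hx
    obtain ⟨W, hW⟩ := Set.mem_iUnion.mp hx
    obtain ⟨t, ht⟩ := Set.mem_iUnion.mp hW
    exact Set.mem_iUnion.mpr ⟨_, ht⟩
  · intro hx
    obtain ⟨t, ht⟩ := Set.mem_iUnion.mp hx
    obtain ⟨_, ⟨W, hW, rfl⟩, htW, -⟩ :=
      S'.isBasis_affineOpens.exists_subset_of_mem_open (Set.mem_univ t) isOpen_univ
    exact Set.mem_iUnion.mpr ⟨⟨W, hW⟩, Set.mem_iUnion.mpr ⟨⟨t, htW⟩, ht⟩⟩

end Groth.Agent.FibComp3
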