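import Groth.Agent.Lib.FibGenApp4
import Groth.Agent.Lib.VarDim.Irred
import Groth.Agent.Lib.RedSep.Basic

/-!
# Fibres of a morphism restricted to a subscheme, as subsets
-/

universe u

open CategoryTheory AlgebraicGeometry Topology TopologicalSpace Groth.Agent.FibDim14

set_option backward.isDefEq.respectTransparency.types false

namespace Groth.Agent.FibSub4

variable {Z X Y : Scheme.{u}} (j : Z ⟶ X) [IsPreimmersion j] (f : X ⟶ Y)

theorem dim_inter_preimage {S : Set X} (hS : Set.range j = S) (y : Y) :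
    topologicalKrullDim ↥(S ∩ f.base ⁻¹' {y}) = topologicalKrullDim ((j ≫ f).fiber y) := by
  subst hS
  let e : ((j ≫ f) ⁻¹' {y} : Set Z) → X := fun z => j z.1
  have he : IsEmbedding e := j.isEmbedding.comp IsEmbedding.subtypeVal
  have hr : Set.range e = Set.range j ∩ f.base ⁻¹' {y} := by
    ext a
    constructor
    · rintro ⟨⟨z, hz⟩, rfl⟩
      exact ⟨⟨z, rfl⟩, hz⟩
    · rintro ⟨⟨z, rfl⟩, hz⟩
      exact ⟨⟨z, hz⟩, rfl⟩
  exact (IsHomeomorph.topologicalKrullDim_eq _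
    (((j ≫ f).fiberHomeo y).trans (he.toHomeomorph.trans (Homeomorph.setCongr hr))).isHomeomorph).symm

theorem localDim_inter_preimage {S : Set X} (hS : Set.range j = S) (w : Z) {x : X} (hw : j w = x) {y : Y}
    (hy : f x = y) (hx : x ∈ S) :
    FlatMor.localDim ↥(S ∩ f.base ⁻¹' {y}) ⟨x, hx, hy⟩ = FlatMor.fibreDimAt (j ≫ f) w := by
  subst hy hS hw
  rw [fibreDimAt_eq_localDim_preimage]
  symm
  refine localDim_of_range (e := fun z : ((j ≫ f) ⁻¹' {(j ≫ f) w} : Set Z) => j z.1)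
    (T := Set.range j ∩ f.base ⁻¹' {f (j w)}) (j.isEmbedding.comp IsEmbedding.subtypeVal) ?_ ⟨w, rfl⟩ rfl ⟨hx, rfl⟩
  ext a
  constructor
  · rintro ⟨⟨z, hz⟩, rfl⟩
    exact ⟨⟨z, rfl⟩, hz⟩
  · rintro ⟨⟨z, rfl⟩, hz⟩
    exact ⟨⟨z, hz⟩, rfl⟩

/-- A fibre which has a single maximal point. -/
theorem dim_fiber_eq_rd (g : Z ⟶ Y) [LocallyOfFiniteType g] {w : Z} (hgen : ∀ a, g a = g w → w ⤳ a) :
    topologicalKrullDim (g.fiber (g w)) = (rd g w : WithBot ℕ∞) := by
  have hmax : IsMaxFib g w := fun a ha he => (ha.antisymm (hgen a he)).eq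
  refine le_antisymm ((FibGen4.dim_fiber_le_iff g _ _).2 fun a ha => ?_) ?_
  · obtain ⟨b, -, hb, hbmax, hd⟩ := FibGen4.exists_isMaxFib g a
    rw [← hd, FibGen4.fibreDimAt_eq_rd_of_isMaxFib g hbmax,
      hbmax w (hgen b (hb.trans ha)) (hb.trans ha).symm]
  · have h := (FibGen4.dim_fiber_le_iff g (g w) _).1 le_rfl w rfl
    rwa [FibGen4.fibreDimAt_eq_rd_of_isMaxFib g hmax] at h

variable [LocallyOfFiniteType f]

theorem rd_preimmersion [LocallyOfFiniteType j] (z : Z) : rd (j ≫ f) z = rd f (j z) := by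
  rw [rd_comp, rd_of_surjectiveOnStalks j, add_zero]

/-- The fibres of the closure of a point `t`. -/
theorem closure_fibre (t : X) :
    (topologicalKrullDim ↥(closure {t} ∩ f.base ⁻¹' {f t}) = (rd f t : WithBot ℕ∞)) ∧
    ∀ (x : X) (hx : x ∈ closure ({t} : Set X)), IsMaxFib f x →
      FlatMor.localDim ↥(closure {t} ∩ f.base ⁻¹' {f x}) ⟨x, hx, rfl⟩ = (rd f x : WithBot ℕ∞) := by
  let C : Closeds X := ⟨closure {t}, isClosed_closure⟩
  let j := (Scheme.IdealSheafData.vanishingIdeal C).subschemeι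
  have hrange : Set.range j = closure {t} := by
    rw [Scheme.IdealSheafData.range_subschemeι, Scheme.IdealSheafData.coe_support_vanishingIdeal]
    rfl
  refine ⟨?_, fun x hx hmax => ?_⟩
  · obtain ⟨g, hg⟩ : t ∈ Set.range j := by rw [hrange]; exact subset_closure rfl
    have hgen : ∀ a, g ⤳ a := fun a => by
      refine j.isEmbedding.isInducing.specializes_iff.1 ?_
      rw [hg, specializes_iff_mem_closure, ← hrange]
      exact ⟨a, rfl⟩
    rw [dim_inter_preimage j f hrange, show f t = (j ≫ f) g by rw [Scheme.Hom.comp_apply, hg],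
      dim_fiber_eq_rd (j ≫ f) fun a _ => hgen a, rd_preimmersion, hg]
  · obtain ⟨w, hw⟩ : x ∈ Set.range j := by rw [hrange]; exact hx
    rw [localDim_inter_preimage j f hrange w hw rfl hx]
    have hwmax : IsMaxFib (j ≫ f) w := fun a ha he => j.isEmbedding.injective
      (hw ▸ hmax (j a) (hw ▸ ha.map j.continuous) (hw ▸ he))
    rw [FibGen4.fibreDimAt_eq_rd_of_isMaxFib _ hwmax, rd_preimmersion, hw]

theorem rd_le_dim_open {U : X.Opens} {a : X} (ha : a ∈ U) :
    (rd f a : WithBot ℕ∞) ≤ topologicalKrullDim ↥((U : Set X) ∩ f.base ⁻¹' {f a}) := by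
  rw [dim_inter_preimage U.ι f U.range_ι]
  have h1 := rd_le_fibreDimAt (U.ι ≫ f) (specializes_refl ⟨a, ha⟩) rfl
  rw [rd_preimmersion] at h1
  exact h1.trans ((FibGen4.dim_fiber_le_iff (U.ι ≫ f) (f a) _).1 le_rfl ⟨a, ha⟩ rfl)

theorem exists_rd_ge_of_le_dim_open {U : X.Opens} {y : Y} {e : ℕ}
    (h : (e : WithBot ℕ∞) ≤ topologicalKrullDim ↥((U : Set X) ∩ f.base ⁻¹' {y})) :
    ∃ a ∈ U, f a = y ∧ e ≤ rd f a ∧ IsMaxFib f a := by
  rw [dim_inter_preimage U.ι f U.range_ι] at h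
  by_contra hn
  push Not at hn
  have key : ∀ a, (U.ι ≫ f) a = y → ∃ b : ℕ, b < e ∧ FlatMor.fibreDimAt (U.ι ≫ f) a = (b : WithBot ℕ∞) := by
    intro a ha
    obtain ⟨b, hb, hfb, hmax, hd⟩ := FibGen4.exists_isMaxFib (U.ι ≫ f) a
    have hb' : IsMaxFib f (U.ι b) := fun c hc he => congrArg U.ι
      (hmax ⟨c, hc.mem_open U.2 b.2⟩ (U.ι.isEmbedding.isInducing.specializes_iff.1 hc) he)
    refine ⟨rd f (U.ι b), lt_of_not_ge fun hle => hn _ b.2 (hfb.trans ha) hle hb', ?_⟩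
    rw [← hd, FibGen4.fibreDimAt_eq_rd_of_isMaxFib _ hmax, rd_preimmersion]
  cases e with
  | zero =>
    have h' : topologicalKrullDim ((U.ι ≫ f).fiber y) ≤ ⊥ := (FibGen4.dim_fiber_le_iff _ _ _).2 fun a ha => by
      obtain ⟨b, hb, -⟩ := key a ha
      exact absurd hb (Nat.not_lt_zero b)
    simpa using h.trans h'
  | succ e =>
    have h' : topologicalKrullDim ((U.ι ≫ f).fiber y) ≤ (e : WithBot ℕ∞) :=
      (FibGen4.dim_fiber_le_iff _ _ _).2 fun a ha => by
        obtain ⟨b, hb, hd⟩ := key a ha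
        rw [hd]
        exact_mod_cast Nat.lt_succ_iff.1 hb
    have : e + 1 ≤ e := by exact_mod_cast h.trans h'
    omega

/-- An open neighbourhood meeting only the components through the point. -/
theorem exists_opens_max_specializes [IsLocallyNoetherian X] (x : X) :
    ∃ U : X.Opens, x ∈ U ∧ ∀ t ∈ U, (∀ y, y ⤳ t → y = t) → t ⤳ x := by
  obtain ⟨A, hA, hxA, -⟩ := exists_isAffineOpen_mem_and_subset (U := (⊤ : X.Opens)) (x := x) trivial
  haveI : IsAffine (A : Scheme.{u}) := hA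
  haveI : IsNoetherian (A : Scheme.{u}) := ⟨⟩
  have hfin := TopologicalSpace.NoetherianSpace.finite_irreducibleComponents (α := (A : Scheme.{u}))
  let bad := {T ∈ irreducibleComponents (A : Scheme.{u}) | (⟨x, hxA⟩ : (A : Scheme.{u})) ∉ T}
  have hbad : IsClosed (⋃ T ∈ bad, T) :=
    (hfin.subset fun T hT => hT.1).isClosed_biUnion fun T hT => isClosed_of_mem_irreducibleComponents T hT.1
  refine ⟨A.ι ''ᵁ ⟨(⋃ T ∈ bad, T)ᶜ, hbad.isOpen_compl⟩, ⟨⟨x, hxA⟩, fun h => ?_, rfl⟩, ?_⟩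
  · obtain ⟨T, hT, hxT⟩ := Set.mem_iUnion₂.1 h
    exact hT.2 hxT
  · rintro _ ⟨v, hv, rfl⟩ hmax
    have hvmax : closure {v} ∈ irreducibleComponents (A : Scheme.{u}) :=
      (VarDim.maximal_iff_mem_irreducibleComponents (X := (A : Scheme.{u})) v).1
        fun b hb => A.ι.isOpenEmbedding.injective (hmax _ (hb.map A.ι.continuous))
    have hmem : (⟨x, hxA⟩ : (A : Scheme.{u})) ∈ closure {v} := by
      by_contra hn
      exact hv (Set.mem_biUnion (⟨hvmax, hn⟩ : closure {v} ∈ bad) (subset_closure rfl))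
    exact (specializes_iff_mem_closure.2 hmem).map A.ι.continuous

end Groth.Agent.FibSub4
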