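import Groth.Agent.Lib.FibDim4.Constr
import Groth.Agent.Lib.EGA43Top.OpenCriterion
import Groth.Agent.Lib.Unibr4.Criterion
import Groth.Agent.Lib.FibSub4
import Groth.Agent.Lib.EquidimAt4
import Groth.Agent.S1333

/-!
# Local constancy of fibre dimensions of open maps
-/

universe u

open CategoryTheory AlgebraicGeometry Topology Groth.Agent.FibDim14

set_option backward.isDefEq.respectTransparency.types false

namespace Groth.Agent.FibDimLocConst4

variable {X Y : Scheme.{u}} [IsLocallyNoetherian Y] (f : X ⟶ Y) [LocallyOfFiniteType f]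

/-- Along an open map fibre dimensions do not drop under generization. -/
theorem dim_fiber_le_of_isOpenMap (hf : IsOpenMap f.base) {a b : Y} (hab : a ⤳ b) :
    topologicalKrullDim ↥(f.fiber b) ≤ topologicalKrullDim ↥(f.fiber a) := by
  haveI : IsLocallyNoetherian X := LocallyOfFiniteType.isLocallyNoetherian f
  refine (FibGen4.dim_fiber_le_iff f b _).2 fun x hx => ?_
  obtain ⟨z, hzx, hfz, hmax, hd⟩ := FibGen4.exists_isMaxFib f x
  have hop : EGA43.IsOpenAt f.base z := fun U hU => by
    obtain ⟨O, hOU, hO, hzO⟩ := mem_nhds_iff.1 hU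
    exact Filter.mem_of_superset ((hf O hO).mem_nhds ⟨z, hzO, rfl⟩) (Set.image_mono hOU)
  obtain ⟨c, hcz, hfc, hrd⟩ := Unibr4.exists_lift_rd_ge f z (EGA43Top.liftsAt_of_isOpenAt hop)
    (r := a) ((hfz.trans hx).symm ▸ hab)
  rw [← hd, FibGen4.fibreDimAt_eq_rd_of_isMaxFib f hmax]
  refine le_trans (Nat.cast_le.2 hrd) (le_trans ?_ ((FibGen4.dim_fiber_le_iff f a _).1 le_rfl c hfc))
  exact rd_le_fibreDimAt f specializes_rfl rfl

/-- EGA IV 14.2.5. -/
theorem exists_nhds [QuasiCompact f] (hf : IsOpenMap f.base) (y : Y)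
    (h : ∀ η : Y, η ⤳ y → (∀ a, a ⤳ η → a = η) →
      topologicalKrullDim ↥(f.fiber y) = topologicalKrullDim ↥(f.fiber η)) :
    {z : Y | topologicalKrullDim ↥(f.fiber z) = topologicalKrullDim ↥(f.fiber y)} ∈ 𝓝 y := by
  haveI : IsLocallyNoetherian X := LocallyOfFiniteType.isLocallyNoetherian f
  refine EGA43Top.mem_nhds_of_generizations (S1333.result f _) fun z hz => ?_
  obtain ⟨η, hη, hmax⟩ := EquidimAt4.exists_max_specializes z
  exact le_antisymm ((dim_fiber_le_of_isOpenMap f hf hη).trans (h η (hη.trans hz) hmax).ge)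
    (dim_fiber_le_of_isOpenMap f hf hz)

end Groth.Agent.FibDimLocConst4
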