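import Mathlib.AlgebraicGeometry.Fiber
import Mathlib.AlgebraicGeometry.Properties
import Mathlib.AlgebraicGeometry.OpenImmersion
import Mathlib.RingTheory.Flat.Basic
import Mathlib.RingTheory.Ideal.MinimalPrime.Basic
import Mathlib.LinearAlgebra.TensorProduct.Pi
import Mathlib.RingTheory.TensorProduct.Pi
import Mathlib.RingTheory.LocalRing.ResidueField.Fiber

set_option backward.isDefEq.respectTransparency.types false

/-! Scheme fibres versus fibre rings on affine charts. -/

namespace Groth.Agent.FibRing4

open AlgebraicGeometry CategoryTheory Limits TensorProduct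

universe u

variable {X Y : Scheme.{u}} {A B : Type u} [CommRing A] [CommRing B] [Algebra A B]

/-- The fibre ring on a chart is an open piece of the scheme fibre. -/
theorem exists_openImmersion_fiber (f : X ⟶ Y) (j : Spec (.of B) ⟶ X) [IsOpenImmersion j]
    (r : Spec (.of A) ⟶ Y) [IsOpenImmersion r]
    (w : j ≫ f = Spec.map (CommRingCat.ofHom (algebraMap A B)) ≫ r) (p : PrimeSpectrum A) :
    ∃ i : Spec (CommRingCat.of (p.asIdeal.Fiber B)) ⟶ f.fiber (r p), IsOpenImmersion i := by
  let φ := Spec.map (CommRingCat.ofHom (algebraMap A B))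
  have sq : IsPullback (𝟙 _) φ (j ≫ f) r :=
    ⟨⟨by rw [Category.id_comp]; exact w⟩, ⟨PullbackCone.IsLimit.mk _ (fun s => s.fst)
      (fun s => Category.comp_id _)
      (fun s => by rw [← cancel_mono r, Category.assoc, ← w]; exact s.condition)
      (fun s m h1 _ => (Category.comp_id m).symm.trans h1)⟩⟩
  haveI : IsIso (Spec.map (r.residueFieldMap p)) := inferInstance
  let m₁ := pullback.map φ ((Spec (.of A)).fromSpecResidueField p) (j ≫ f)
    (Y.fromSpecResidueField (r p)) (𝟙 _) (Spec.map (r.residueFieldMap p)) r sq.w.symm (by simp)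
  haveI : IsIso m₁ := (isPullback_fiberToSpecResidueField_of_isPullback sq p).isIso_fst_of_isIso
  let m₂ := pullback.map (j ≫ f) (Y.fromSpecResidueField (r p)) f (Y.fromSpecResidueField (r p))
    j (𝟙 _) (𝟙 _) (by simp) (by simp)
  haveI : IsOpenImmersion m₂ :=
    MorphismProperty.pullbackMap (P := @IsOpenImmersion) inferInstance inferInstance rfl
      (Category.id_comp _).symm
  let e₀ : Spec (CommRingCat.of (p.asIdeal.Fiber B)) ⟶ φ.fiber p :=
    (Arrow.leftFunc.mapIso (Spec.fiberToSpecResidueFieldIso A B p)).inv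
  haveI : IsIso e₀ :=
    inferInstanceAs (IsIso (Arrow.leftFunc.mapIso (Spec.fiberToSpecResidueFieldIso A B p)).inv)
  haveI : IsOpenImmersion e₀ := inferInstance
  haveI : IsOpenImmersion m₁ := inferInstance
  haveI h12 : IsOpenImmersion (m₁ ≫ m₂) :=
    MorphismProperty.comp_mem @IsOpenImmersion m₁ m₂ inferInstance inferInstance
  exact ⟨e₀ ≫ m₁ ≫ m₂, MorphismProperty.comp_mem @IsOpenImmersion e₀ (m₁ ≫ m₂) inferInstance h12⟩

/-- Reducedness of a scheme fibre passes to fibre rings of charts. -/
theorem isReduced_fiberRing (f : X ⟶ Y) (j : Spec (.of B) ⟶ X) [IsOpenImmersion j]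
    (r : Spec (.of A) ⟶ Y) [IsOpenImmersion r]
    (w : j ≫ f = Spec.map (CommRingCat.ofHom (algebraMap A B)) ≫ r) (p : PrimeSpectrum A)
    (h : IsReduced (f.fiber (r p))) : _root_.IsReduced (p.asIdeal.Fiber B) := by
  obtain ⟨i, hi⟩ := exists_openImmersion_fiber f j r w p
  haveI := h
  haveI := isReduced_of_isOpenImmersion i
  exact (affine_isReduced_iff (CommRingCat.of (p.asIdeal.Fiber B))).1 this

open Classical in
/-- A flat algebra over a reduced ring with finitely many minimal primes, with reduced generic
fibres, is reduced. -/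
theorem isReduced_of_flat [Module.Flat A B] [_root_.IsReduced A] (hfin : (minimalPrimes A).Finite)
    (h : ∀ p : PrimeSpectrum A, p.asIdeal ∈ minimalPrimes A → _root_.IsReduced (p.asIdeal.Fiber B)) :
    _root_.IsReduced B := by
  let ι := {p : PrimeSpectrum A // p.asIdeal ∈ minimalPrimes A}
  haveI : Finite ι :=
    haveI := hfin.to_subtype
    Finite.of_injective (fun p : ι => (⟨p.1.asIdeal, p.2⟩ : minimalPrimes A)) fun a b hab =>
      Subtype.ext (PrimeSpectrum.ext (congrArg Subtype.val hab))
  haveI := Fintype.ofFinite ι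
  let K := ∀ p : ι, p.1.asIdeal.ResidueField
  have hinj : Function.Injective (algebraMap A K) := by
    rw [injective_iff_map_eq_zero]
    intro a ha
    refine IsReduced.eq_zero _ (mem_nilradical.1 ?_)
    rw [nilradical_eq_sInf, Submodule.mem_sInf]
    intro q hq
    haveI : Ideal.IsPrime q := hq
    obtain ⟨p, hp, hpq⟩ := Ideal.exists_minimalPrimes_le (J := q) (bot_le : ⊥ ≤ q)
    haveI := Ideal.minimalPrimes_isPrime hp
    exact hpq (Ideal.algebraMap_residueField_eq_zero.1
      (congr_fun ha ⟨⟨p, Ideal.minimalPrimes_isPrime hp⟩, hp⟩))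
  let incl : B →ₐ[A] B ⊗[A] K := Algebra.TensorProduct.includeLeft
  have hincl : Function.Injective incl := Algebra.TensorProduct.includeLeft_injective hinj
  let e : B ⊗[A] K ≃ₐ[A] ∀ p : ι, B ⊗[A] p.1.asIdeal.ResidueField :=
    Algebra.TensorProduct.piRight A A B _
  haveI : ∀ p : ι, _root_.IsReduced (B ⊗[A] p.1.asIdeal.ResidueField) := fun p => by
    haveI := h p.1 p.2
    exact isReduced_of_injective (Algebra.TensorProduct.comm A B p.1.asIdeal.ResidueField).toAlgHom
      (Algebra.TensorProduct.comm A B p.1.asIdeal.ResidueField).injective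
  exact isReduced_of_injective (e.toAlgHom.comp incl) (e.injective.comp hincl)

/-- A point with no proper generization is the generic point of an irreducible component. -/
theorem closure_mem_irreducibleComponents {T : Type*} [TopologicalSpace T] [QuasiSober T] [T0Space T]
    (x : T) (h : ∀ y, y ⤳ x → y = x) : closure {x} ∈ irreducibleComponents T := by
  have hx : x ∈ irreducibleComponent x := mem_irreducibleComponent
  have hirr : IsIrreducible (irreducibleComponent x) := isIrreducible_irreducibleComponent
  obtain ⟨η, hη⟩ := QuasiSober.sober hirr isClosed_irreducibleComponent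
  have : η = x := h η (hη.specializes hx)
  subst this
  rw [hη.def]
  exact irreducibleComponent_mem_irreducibleComponents η

theorem closure_mem_irreducibleComponents_of_minimal (r : Spec (.of A) ⟶ Y) [IsOpenImmersion r]
    (p : PrimeSpectrum A) (hp : p.asIdeal ∈ minimalPrimes A) :
    closure {r p} ∈ irreducibleComponents ↥Y := by
  refine closure_mem_irreducibleComponents _ fun y hy => ?_
  obtain ⟨q, rfl⟩ := hy.mem_open r.isOpenEmbedding.isOpen_range ⟨p, rfl⟩
  refine congrArg r ?_
  have hqp : q ⤳ p := r.isOpenEmbedding.isEmbedding.isInducing.specializes_iff.1 hy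
  have hle : q.asIdeal ≤ p.asIdeal := (PrimeSpectrum.le_iff_specializes q p).2 hqp
  exact PrimeSpectrum.ext (le_antisymm hle (hp.2 ⟨q.2, bot_le⟩ hle))

theorem minimalPrimes_finite (r : Spec (.of A) ⟶ Y) [IsOpenImmersion r]
    (hfin : (irreducibleComponents ↥Y).Finite) : (minimalPrimes A).Finite := by
  haveI := hfin.to_subtype
  refine Set.finite_coe_iff.1 (Finite.of_injective
    (fun p : minimalPrimes A => (⟨closure {r ⟨p.1, Ideal.minimalPrimes_isPrime p.2⟩},
      closure_mem_irreducibleComponents_of_minimal r ⟨p.1, _⟩ p.2⟩ : irreducibleComponents ↥Y)) ?_)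
  intro p q hpq
  have h1 := IsGenericPoint.eq (isGenericPoint_closure) ((congrArg Subtype.val hpq).symm)
  exact Subtype.ext (congrArg PrimeSpectrum.asIdeal (r.isOpenEmbedding.injective h1))

end Groth.Agent.FibRing4
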