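import Mathlib

/-! Directed families of subschemes of a Noetherian scheme containing all infinitesimal neighbourhoods. -/

set_option autoImplicit false
open AlgebraicGeometry CategoryTheory Topology
universe u v

namespace Groth.Agent.FiltSub3

/-- An antitone directed family of ideals of a Noetherian ring which, at each prime `q`, eventually lies in
every symbolic power of `q`, is eventually zero. -/
theorem exists_eq_bot {B : Type u} [CommRing B] [IsNoetherianRing B] {D : Type v} [Preorder D]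
    [IsDirected D (fun a b => a ≤ b)] [Nonempty D] (I : D → Ideal B) (hI : Antitone I)
    (h : ∀ (q : Ideal B), q.IsPrime → ∀ N : ℕ, ∃ i, ∀ b ∈ I i, ∃ s ∉ q, s * b ∈ q ^ N) :
    ∃ i, I i = ⊥ := by
  obtain ⟨a, ⟨i, rfl⟩, hmax⟩ := set_has_maximal_iff_noetherian.mpr ‹IsNoetherianRing B›
    (Set.range fun i => Submodule.annihilator (I i)) (Set.range_nonempty _)
  by_cases htop : Submodule.annihilator (I i) = ⊤
  · exact ⟨i, Submodule.annihilator_eq_top_iff.mp htop⟩
  exfalso
  obtain ⟨⟨ξ, hξ⟩⟩ := Ideal.nonempty_minimalPrimes htop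
  haveI hξp : ξ.IsPrime := hξ.1.1
  have hle : Submodule.annihilator (I i) ≤ ξ := hξ.1.2
  set A := Localization.AtPrime ξ
  have hrad : ξ ≤ (((Submodule.annihilator (I i)).map (algebraMap B A)).comap (algebraMap B A)).radical := by
    rw [← Ideal.comap_radical, IsLocalization.AtPrime.radical_map_of_mem_minimalPrimes A ξ _ hξ]
    exact Ideal.le_comap_map
  obtain ⟨N, hN⟩ := Ideal.exists_pow_le_of_le_radical_of_fg hrad (IsNoetherian.noetherian ξ)
  obtain ⟨c, hc⟩ := Ideal.exists_pow_inf_eq_pow_smul ξ (M := B) (I i)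
  obtain ⟨j₀, hj₀⟩ := h ξ hξp (N + c)
  obtain ⟨j, hij, hj₀j⟩ := exists_ge_ge i j₀
  have key : ∀ b ∈ I j, ∃ t ∉ ξ, t * b = 0 := by
    intro b hb
    obtain ⟨s, hs, hsb⟩ := hj₀ b (hI hj₀j hb)
    have hmem : s * b ∈ ξ ^ (N + c) • (⊤ : Submodule B B) ⊓ I i :=
      ⟨by simpa using hsb, (I i).mul_mem_left s (hI hij hb)⟩
    rw [hc (N + c) (by omega), Nat.add_sub_cancel] at hmem
    have hmem' : s * b ∈ ξ ^ N * I i :=
      Submodule.smul_mono le_rfl inf_le_right hmem
    have : ∃ t ∉ ξ, t * (s * b) = 0 := by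
      refine Submodule.mul_induction_on hmem' ?_ ?_
      · intro x hx y hy
        have hx' := hN hx
        rw [Ideal.mem_comap, IsLocalization.algebraMap_mem_map_algebraMap_iff ξ.primeCompl] at hx'
        obtain ⟨m, hm, hmx⟩ := hx'
        refine ⟨m, hm, ?_⟩
        have := Submodule.mem_annihilator.mp hmx y hy
        rwa [smul_eq_mul, mul_assoc] at this
      · rintro x y ⟨t, ht, htx⟩ ⟨t', ht', hty⟩
        refine ⟨t * t', fun h => (hξp.mem_or_mem h).elim ht ht', ?_⟩
        rw [mul_add, mul_right_comm, htx, zero_mul, mul_assoc, hty, mul_zero, add_zero]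
    obtain ⟨t, ht, htb⟩ := this
    exact ⟨t * s, fun h => (hξp.mem_or_mem h).elim ht hs, by rw [mul_assoc, htb]⟩
  classical
  choose! t ht htb using key
  obtain ⟨S, hS⟩ := IsNoetherian.noetherian (I j)
  have hSj : ∀ b ∈ S, b ∈ I j := fun b hb => hS ▸ Submodule.subset_span hb
  have hprod : ∏ b ∈ S, t b ∈ Submodule.annihilator (I j) := by
    rw [← hS, Submodule.mem_annihilator_span]
    rintro ⟨b, hb⟩
    show (∏ x ∈ S, t x) * b = 0
    rw [← Finset.prod_erase_mul S t hb, mul_assoc, htb b (hSj b hb), mul_zero]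
  have heq : Submodule.annihilator (I i) = Submodule.annihilator (I j) := by
    by_contra hne
    exact hmax _ ⟨j, rfl⟩ (lt_of_le_of_ne (Submodule.annihilator_mono (hI hij)) hne)
  rw [← heq] at hprod
  obtain ⟨b, hb, hb'⟩ := Ideal.IsPrime.prod_mem_iff.mp (hle hprod)
  exact ht b (hSj b hb) hb'

/-- A directed family of locally closed subsets covering a quasi-compact Noetherian scheme
contains the whole space. -/
theorem exists_eq_univ {X : Scheme.{u}} [IsNoetherian X] {D : Type v} [Preorder D]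
    [IsDirected D (fun a b => a ≤ b)] [Nonempty D] (T : D → Set X) (hT : Monotone T)
    (hlc : ∀ i, IsLocallyClosed (T i)) (hcov : ∀ x, ∃ i, x ∈ T i) : ∃ i, T i = Set.univ := by
  haveI : TopologicalSpace.NoetherianSpace X := inferInstance
  haveI : CompactSpace (WithConstructibleTopology X) := inferInstance
  let e : WithConstructibleTopology X → X := fun y => y.ofTopology
  have hopen : ∀ i, IsOpen (e ⁻¹' T i) := by
    intro i
    obtain ⟨U, C, hU, hC, hUC⟩ := hlc i
    have h1 : IsOpen[constructibleTopology X] U :=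
      IsCompact.isOpen_constructibleTopology_of_isOpen (TopologicalSpace.NoetherianSpace.isCompact U) hU
    have h2 : IsOpen[constructibleTopology X] C :=
      IsCompact.isOpen_constructibleTopology_of_isClosed (TopologicalSpace.NoetherianSpace.isCompact Cᶜ) hC
    rw [WithConstructibleTopology.isOpen_iff]
    show IsOpen[constructibleTopology X] (T i)
    rw [hUC]
    exact @IsOpen.inter X (constructibleTopology X) U C h1 h2
  obtain ⟨i, hi⟩ := isCompact_univ.elim_directed_cover (fun i => e ⁻¹' T i) hopen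
    (fun y _ => Set.mem_iUnion.mpr (hcov (e y)))
    (fun i j => by
      obtain ⟨k, hik, hjk⟩ := exists_ge_ge i j
      exact ⟨k, Set.preimage_mono (hT hik), Set.preimage_mono (hT hjk)⟩)
  refine ⟨i, Set.eq_univ_iff_forall.mpr fun x => ?_⟩
  exact hi (Set.mem_univ (WithTopology.toTopology _ x))

/-- If a morphism from the `N`-th infinitesimal neighbourhood of `x` factors through a closed
immersion, then the ideal of that closed immersion is, at `x`, in the `N`-th power of the maximal ideal. -/
theorem germ_mem_of_factor {X Z : Scheme.{u}} (z : Z ⟶ X) [QuasiCompact z] (x : X)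
    (J : Ideal (X.presheaf.stalk x)) (l : Spec (CommRingCat.of (X.presheaf.stalk x ⧸ J)) ⟶ Z)
    (hl : l ≫ z = Spec.map (CommRingCat.ofHom (Ideal.Quotient.mk J)) ≫ X.fromSpecStalk x)
    (V : X.affineOpens) (hx : x ∈ V.1) (b : Γ(X, V.1)) (hb : b ∈ z.ker.ideal V) :
    X.presheaf.germ V.1 x hx b ∈ J := by
  rw [Scheme.Hom.ker_apply, RingHom.mem_ker] at hb
  have h1 : (l ≫ z).app V.1 b = 0 := by
    rw [Scheme.Hom.comp_app]
    change (l.app (z ⁻¹ᵁ V.1)).hom ((z.app V.1).hom b) = 0
    rw [hb, map_zero]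
  rw [Scheme.Hom.congr_app hl V.1, Scheme.Hom.comp_app, Scheme.fromSpecStalk_app hx] at h1
  simp only [Category.assoc] at h1
  rw [← Ideal.Quotient.eq_zero_iff_mem]
  set R := CommRingCat.of (X.presheaf.stalk x ⧸ J)
  set q : X.presheaf.stalk x ⟶ R := CommRingCat.ofHom (Ideal.Quotient.mk J)
  have hW : (Spec.map q ≫ X.fromSpecStalk x) ⁻¹ᵁ V.1 = ⊤ := by
    refine top_le_iff.mp fun y _ => ?_
    have hy : X.fromSpecStalk x ((Spec.map q) y) ∈ Set.range (X.fromSpecStalk x) := ⟨_, rfl⟩
    rw [Scheme.range_fromSpecStalk] at hy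
    exact hy.mem_open V.1.2 hx
  rw [Scheme.Hom.naturality] at h1
  simp only [Category.assoc] at h1
  erw [← Scheme.ΓSpecIso_inv_naturality_assoc] at h1
  change (Spec R).presheaf.map _ ((Spec R).presheaf.map _
    ((Scheme.ΓSpecIso R).inv (q (X.presheaf.germ V.1 x hx b)))) = 0 at h1
  have hiso : ∀ (W W' : (Spec R).Opens) (e : Opposite.op W ⟶ Opposite.op W'), W = ⊤ → W' = ⊤ →
      Function.Injective ((Spec R).presheaf.map e) := by
    rintro W W' e rfl rfl
    have : e = 𝟙 _ := Subsingleton.elim _ _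
    rw [this]
    intro a a' h
    simpa using h
  have hW' : Spec.map q ⁻¹ᵁ (X.fromSpecStalk x ⁻¹ᵁ V.1) = ⊤ := hW
  have h2 := hiso _ _ _ (by first | exact hW' | rfl) (by first | exact hW | exact hW' | (rw [hl]; exact hW))
    (h1.trans (map_zero _).symm)
  have h3 := hiso _ _ _ (by first | rfl | exact hW') (by first | exact hW' | exact hW | rfl)
    (h2.trans (map_zero _).symm)
  have h4 := congrArg (Scheme.ΓSpecIso R).hom h3
  rw [Iso.inv_hom_id_apply] at h4
  exact h4.trans (map_zero (Scheme.ΓSpecIso R).hom.hom)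

end Groth.Agent.FiltSub3
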