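import Groth.Agent.Lib.FlatH4.LocCrit
import Mathlib.RingTheory.Ideal.MinimalPrime.Basic
import Mathlib.RingTheory.Filtration
import Mathlib.RingTheory.TensorProduct.Finite
import Mathlib.RingTheory.Localization.AtPrime.Basic
import Mathlib.LinearAlgebra.FreeModule.Basic
import Mathlib.RingTheory.Flat.Basic
import Mathlib.LinearAlgebra.Basis.VectorSpace
import Mathlib.RingTheory.TensorProduct.Quotient
import Mathlib.RingTheory.LocalRing.RingHom.Basic
import Mathlib.RingTheory.Ideal.AssociatedPrime.Localization

/-!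
# Flatness from the generic points of a reduced closed fibre (EGA IV 15.2)

Let `A → B` be a local homomorphism of Noetherian local rings with `B ⧸ mB` reduced.  If `B_P` is flat
over `A` for every minimal prime `P` of `mB`, then `B` is flat over `A`.
-/

universe u

open IsLocalRing TensorProduct LinearMap

namespace Groth.Agent.FlatGen4

variable {A B : Type u} [CommRing A] [CommRing B] [Algebra A B]

variable [IsLocalRing A]

/-- `mⁿ ⊗ B → m ⊗ B`. -/
noncomputable def stepMap (n : ℕ) : B ⊗[A] ↥((maximalIdeal A) ^ (n + 1)) →ₗ[B] B ⊗[A] ↥(maximalIdeal A) :=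
  AlgebraTensorModule.lTensor B B (Submodule.inclusion (Ideal.pow_le_self (Nat.succ_ne_zero n)))

theorem stepMap_range_le (n : ℕ) :
    LinearMap.range (stepMap (A := A) (B := B) n) ≤ ((maximalIdeal A).map (algebraMap A B)) ^ n • (⊤ : Submodule B (B ⊗[A] ↥(maximalIdeal A))) := by
  rintro _ ⟨z, rfl⟩
  induction z using TensorProduct.induction_on with
  | zero => simp
  | add y z hy hz => rw [map_add]; exact add_mem hy hz
  | tmul b a =>
    obtain ⟨a, ha⟩ := a
    show (b ⊗ₜ[A] (⟨a, Ideal.pow_le_self (Nat.succ_ne_zero n) ha⟩ : ↥(maximalIdeal A))) ∈ _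
    have ha' : a ∈ (maximalIdeal A) ^ n * maximalIdeal A := by rwa [← pow_succ]
    obtain ⟨_, h⟩ : ∃ h : a ∈ maximalIdeal A, (b ⊗ₜ[A] (⟨a, h⟩ : ↥(maximalIdeal A))) ∈
        ((maximalIdeal A).map (algebraMap A B)) ^ n • (⊤ : Submodule B (B ⊗[A] ↥(maximalIdeal A))) := by
      refine Submodule.mul_induction_on ha' (fun c hc d hd => ⟨Ideal.mul_mem_left _ c hd, ?_⟩) ?_
      · have h1 : (b ⊗ₜ[A] (⟨c * d, Ideal.mul_mem_left _ c hd⟩ : ↥(maximalIdeal A))) =
            algebraMap A B c • (b ⊗ₜ[A] (⟨d, hd⟩ : ↥(maximalIdeal A))) := by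
          rw [algebraMap_smul, ← TensorProduct.tmul_smul]
          rfl
        rw [h1]
        refine Submodule.smul_mem_smul ?_ Submodule.mem_top
        rw [← Ideal.map_pow]
        exact Ideal.mem_map_of_mem _ hc
      · rintro y z ⟨hy, hy'⟩ ⟨hz, hz'⟩
        refine ⟨add_mem hy hz, ?_⟩
        have h2 := add_mem hy' hz'
        rw [← TensorProduct.tmul_add] at h2
        exact h2
    exact h

/-- An element of `B ⊗ Q`, `Q` killed by `m`, which vanishes at the minimal primes of `mB` is zero when
`B ⧸ mB` is reduced. -/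
theorem tensor_eq_zero_of_forall [IsReduced (B ⧸ ((maximalIdeal A).map (algebraMap A B)))]
    {Q : Type u} [AddCommGroup Q] [Module A Q] (hQ : Module.IsTorsionBySet A Q (maximalIdeal A : Set A))
    (z : B ⊗[A] Q)
    (hz : ∀ P ∈ ((maximalIdeal A).map (algebraMap A B)).minimalPrimes, ∃ t ∉ P, t • z = 0) : z = 0 := by
  letI := Ideal.Quotient.field (maximalIdeal A)
  letI := hQ.module
  haveI : IsScalarTower A (A ⧸ maximalIdeal A) Q := hQ.isScalarTower
  -- `B ⊗ Q` is free over the reduced ring `B ⧸ ((maximalIdeal A).map (algebraMap A B))`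
  let bQ := Module.Free.chooseBasis (A ⧸ maximalIdeal A) Q
  let e : B ⊗[A] Q ≃ₗ[A] (Module.Free.ChooseBasisIndex (A ⧸ maximalIdeal A) Q →₀ B ⧸ ((maximalIdeal A).map (algebraMap A B))) :=
    (TensorProduct.congr (LinearEquiv.refl A B) (bQ.repr.restrictScalars A)).trans
      ((TensorProduct.finsuppRight A A B (A ⧸ maximalIdeal A) _).trans
        (Finsupp.mapRange.linearEquiv
          ((Algebra.TensorProduct.quotIdealMapEquivTensorQuot B (maximalIdeal A)).symm.toLinearEquiv.restrictScalars A)))
  have he : ∀ (t : B) (z : B ⊗[A] Q) i, e (t • z) i = Ideal.Quotient.mk ((maximalIdeal A).map (algebraMap A B)) t * e z i := by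
    intro t z i
    induction z using TensorProduct.induction_on with
    | zero => simp
    | add y z hy hz => simp only [smul_add, map_add, Finsupp.coe_add, Pi.add_apply, hy, hz, mul_add]
    | tmul b q =>
      obtain ⟨a, ha⟩ := Ideal.Quotient.mk_surjective (bQ.repr q i)
      simp only [e, TensorProduct.smul_tmul', LinearEquiv.trans_apply, TensorProduct.congr_tmul,
        LinearEquiv.refl_apply, LinearEquiv.restrictScalars_apply, Finsupp.mapRange.linearEquiv_apply,
        TensorProduct.finsuppRight_apply_tmul_apply, Finsupp.mapRange.addEquiv_apply, Finsupp.mapRange_apply]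
      rw [← ha]
      simp [smul_eq_mul, map_mul, mul_comm, mul_left_comm, Algebra.smul_def]
  apply e.injective
  rw [map_zero]
  refine Finsupp.ext fun i => ?_
  rw [Finsupp.zero_apply]
  obtain ⟨b, hb⟩ := Ideal.Quotient.mk_surjective (e z i)
  rw [← hb, Ideal.Quotient.eq_zero_iff_mem]
  have hrad : ((maximalIdeal A).map (algebraMap A B)) = ((maximalIdeal A).map (algebraMap A B)).radical :=
    ((Ideal.isRadical_iff_quotient_reduced _).2 ‹_›).radical.symm
  rw [hrad, ← Ideal.sInf_minimalPrimes, Ideal.mem_sInf]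
  intro P hP
  obtain ⟨t, htP, ht⟩ := hz P hP
  have h4 : Ideal.Quotient.mk ((maximalIdeal A).map (algebraMap A B)) (t * b) = 0 := by
    have h5 := he t z i
    rw [ht, map_zero, Finsupp.zero_apply, ← hb] at h5
    rw [map_mul, ← h5]
  exact (hP.1.1.mem_or_mem (hP.1.2 (Ideal.Quotient.eq_zero_iff_mem.1 h4))).resolve_left htP

/-- Flatness at the minimal primes of a reduced closed fibre gives flatness. -/
theorem flat_of_flat_minimalPrimes [IsNoetherianRing A] [IsNoetherianRing B] [IsLocalRing B]
    [IsLocalHom (algebraMap A B)] [IsReduced (B ⧸ ((maximalIdeal A).map (algebraMap A B)))]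
    (h : ∀ (P : Ideal B) [P.IsPrime], P ∈ ((maximalIdeal A).map (algebraMap A B)).minimalPrimes → Module.Flat A (Localization.AtPrime P)) :
    Module.Flat A B := by
  have hmB : ((maximalIdeal A).map (algebraMap A B)) ≤ (⊥ : Ideal B).jacobson := by
    rw [jacobson_eq_maximalIdeal _ bot_ne_top]
    exact ((IsLocalRing.local_hom_TFAE (algebraMap A B)).out 0 2).1 ‹_›
  refine FlatH4.flat_of_le_jacobson (R := A) (S := B) (M := B) (maximalIdeal A) hmB ?_ ?_
  swap
  · letI := Ideal.Quotient.field (maximalIdeal A)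
    infer_instance
  haveI : Module.Finite B (B ⊗[A] ↥(maximalIdeal A)) := inferInstance
  rw [injective_iff_map_eq_zero]
  intro x hx
  suffices ∀ n, x ∈ LinearMap.range (stepMap (A := A) (B := B) n) by
    have h1 : x ∈ ⨅ n : ℕ, ((maximalIdeal A).map (algebraMap A B)) ^ n • (⊤ : Submodule B (B ⊗[A] ↥(maximalIdeal A))) :=
      Submodule.mem_iInf _ |>.2 fun n => stepMap_range_le n (this n)
    rw [Ideal.iInf_pow_smul_eq_bot_of_le_jacobson _ hmB] at h1
    exact h1
  intro n
  induction n with
  | zero =>
    obtain ⟨y, hy⟩ := LinearMap.lTensor_surjective B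
      (g := Submodule.inclusion (Ideal.pow_le_self (Nat.succ_ne_zero 0) : (maximalIdeal A) ^ (0 + 1) ≤ maximalIdeal A))
      (fun a => ⟨⟨a.1, by rw [zero_add, pow_one]; exact a.2⟩, Subtype.ext rfl⟩) x
    exact ⟨y, hy⟩
  | succ n ih =>
    obtain ⟨y, hy⟩ := ih
    let N : Submodule A ↥((maximalIdeal A) ^ (n + 1)) :=
      Submodule.comap ((maximalIdeal A) ^ (n + 1)).subtype ((maximalIdeal A) ^ (n + 2))
    let Q := ↥((maximalIdeal A) ^ (n + 1)) ⧸ N
    -- the image of `y` in the graded piece vanishes
    have hy0 : (LinearMap.lTensor B N.mkQ) y = 0 := by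
      have hQ : Module.IsTorsionBySet A Q (maximalIdeal A : Set A) := fun q r => by
        obtain ⟨q, rfl⟩ := N.mkQ_surjective q
        rw [← map_smul, Submodule.mkQ_apply, Submodule.Quotient.mk_eq_zero]
        show (r : A) * (q : A) ∈ (maximalIdeal A) ^ (n + 2)
        rw [pow_succ' _ (n + 1)]
        exact Ideal.mul_mem_mul r.2 q.2
      -- localise at a minimal prime
      have hloc : ∀ (P : Ideal B), P ∈ ((maximalIdeal A).map (algebraMap A B)).minimalPrimes →
          ∃ t ∉ P, (LinearMap.lTensor B N.mkQ) (t • y) = 0 := by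
        intro P hP
        haveI := hP.1.1
        haveI := h P hP
        let S := Localization.AtPrime P
        let φ : B →ₗ[A] S := (IsScalarTower.toAlgHom A B S).toLinearMap
        have h1 : LinearMap.lTensor S (Submodule.inclusion (Ideal.pow_le_self (Nat.succ_ne_zero n) :
            (maximalIdeal A) ^ (n + 1) ≤ maximalIdeal A)) (φ.rTensor _ y) = φ.rTensor _ x := by
          rw [← hy]
          show _ = φ.rTensor _ (LinearMap.lTensor B _ y)
          rw [← LinearMap.comp_apply, ← LinearMap.comp_apply, LinearMap.lTensor_comp_rTensor,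
            LinearMap.rTensor_comp_lTensor]
        have h2 : φ.rTensor _ x = 0 := by
          apply Module.Flat.lTensor_preserves_injective_linearMap (M := S) (maximalIdeal A).subtype
            Subtype.val_injective
          rw [map_zero, ← LinearMap.comp_apply, LinearMap.lTensor_comp_rTensor,
            ← LinearMap.rTensor_comp_lTensor, LinearMap.comp_apply, hx, map_zero]
        have h3 : φ.rTensor _ y = 0 := by
          apply Module.Flat.lTensor_preserves_injective_linearMap (M := S)
            (Submodule.inclusion (Ideal.pow_le_self (Nat.succ_ne_zero n) :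
              (maximalIdeal A) ^ (n + 1) ≤ maximalIdeal A)) (Submodule.inclusion_injective _)
          rw [map_zero, h1, h2]
        obtain ⟨t, ht⟩ := (IsLocalizedModule.eq_zero_iff P.primeCompl
          (AlgebraTensorModule.rTensor A ↥((maximalIdeal A) ^ (n + 1)) (Algebra.linearMap B S))).1
          (show AlgebraTensorModule.rTensor A ↥((maximalIdeal A) ^ (n + 1)) (Algebra.linearMap B S) y = 0 from h3)
        exact ⟨t, t.2, by rw [show (t : B) • y = 0 from ht, map_zero]⟩
      refine tensor_eq_zero_of_forall hQ _ fun P hP => ?_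
      obtain ⟨t, htP, ht⟩ := hloc P hP
      exact ⟨t, htP, ((AlgebraTensorModule.lTensor B B N.mkQ).map_smul t y).symm.trans ht⟩
    obtain ⟨z, hz⟩ := (lTensor_exact B (LinearMap.exact_subtype_mkQ N) N.mkQ_surjective y).1 hy0
    let ρ : N →ₗ[A] ↥((maximalIdeal A) ^ (n + 1 + 1)) :=
      { toFun := fun a => ⟨(a : ↥((maximalIdeal A) ^ (n + 1))).1, a.2⟩
        map_add' := fun _ _ => rfl
        map_smul' := fun _ _ => rfl }
    refine ⟨LinearMap.lTensor B ρ z, ?_⟩
    rw [← hy, ← hz]
    show LinearMap.lTensor B _ (LinearMap.lTensor B ρ z) = LinearMap.lTensor B _ (LinearMap.lTensor B N.subtype z)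
    rw [← LinearMap.comp_apply, ← LinearMap.lTensor_comp, ← LinearMap.comp_apply (LinearMap.lTensor B _),
      ← LinearMap.lTensor_comp]
    rfl

/-- Multiplication `B ⊗ I → B`. -/
noncomputable def mulMap (I : Ideal A) : B ⊗[A] ↥I →ₗ[B] B :=
  (AlgebraTensorModule.rid A B B).toLinearMap ∘ₗ AlgebraTensorModule.lTensor B B I.subtype

omit [IsLocalRing A] in
theorem mulMap_tmul (I : Ideal A) (b : B) (i : ↥I) : mulMap I (b ⊗ₜ[A] i) = algebraMap A B i * b := by
  simp [mulMap, Algebra.smul_def]

/-- An element of a flat local algebra vanishing at the minimal primes of its reduced closed fibre is zero. -/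
theorem eq_zero_of_forall_exists_mul_eq_zero [IsNoetherianRing B] [IsLocalRing B]
    [IsLocalHom (algebraMap A B)] [Module.Flat A B]
    [IsReduced (B ⧸ ((maximalIdeal A).map (algebraMap A B)))] (a : B)
    (ha : ∀ P ∈ ((maximalIdeal A).map (algebraMap A B)).minimalPrimes, ∃ t ∉ P, t * a = 0) : a = 0 := by
  have hle : (maximalIdeal A).map (algebraMap A B) ≤ maximalIdeal B :=
    ((IsLocalRing.local_hom_TFAE (algebraMap A B)).out 0 2).1 ‹_›
  have hinj : ∀ I : Ideal A, Function.Injective (mulMap (B := B) I) := fun I =>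
    (AlgebraTensorModule.rid A B B).injective.comp
      (Module.Flat.lTensor_preserves_injective_linearMap (M := B) I.subtype Subtype.val_injective)
  have hmem : ∀ k, ∃ y, mulMap ((maximalIdeal A) ^ k) y = a := by
    intro k
    induction k with
    | zero =>
      exact ⟨a ⊗ₜ[A] ⟨1, by simp⟩, by rw [mulMap_tmul]; simp⟩
    | succ k ih =>
      obtain ⟨y, hy⟩ := ih
      let N : Submodule A ↥((maximalIdeal A) ^ k) :=
        Submodule.comap ((maximalIdeal A) ^ k).subtype ((maximalIdeal A) ^ (k + 1))
      have hQ : Module.IsTorsionBySet A (↥((maximalIdeal A) ^ k) ⧸ N) (maximalIdeal A : Set A) := fun q r => by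
        obtain ⟨q, rfl⟩ := N.mkQ_surjective q
        rw [← map_smul, Submodule.mkQ_apply, Submodule.Quotient.mk_eq_zero]
        show (r : A) * (q : A) ∈ (maximalIdeal A) ^ (k + 1)
        rw [pow_succ' _ k]
        exact Ideal.mul_mem_mul r.2 q.2
      have hy0 : AlgebraTensorModule.lTensor B B N.mkQ y = 0 := by
        refine tensor_eq_zero_of_forall hQ _ fun P hP => ?_
        obtain ⟨t, htP, ht⟩ := ha P hP
        refine ⟨t, htP, ?_⟩
        have h1 : t • y = 0 := hinj _ (by rw [map_zero, LinearMap.map_smul, hy, smul_eq_mul, ht])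
        rw [← LinearMap.map_smul, h1, map_zero]
      obtain ⟨z, hz⟩ := (lTensor_exact B (LinearMap.exact_subtype_mkQ N) N.mkQ_surjective y).1 hy0
      let ρ : N →ₗ[A] ↥((maximalIdeal A) ^ (k + 1)) :=
        { toFun := fun a => ⟨(a : ↥((maximalIdeal A) ^ k)).1, a.2⟩
          map_add' := fun _ _ => rfl
          map_smul' := fun _ _ => rfl }
      refine ⟨LinearMap.lTensor B ρ z, ?_⟩
      rw [← hy, ← hz]
      clear hz
      induction z using TensorProduct.induction_on with
      | zero => simp
      | add u v hu hv => rw [map_add, map_add, map_add, map_add, hu, hv]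
      | tmul b n => rw [LinearMap.lTensor_tmul, LinearMap.lTensor_tmul, mulMap_tmul, mulMap_tmul]; rfl
  have h1 : a ∈ ⨅ k : ℕ, ((maximalIdeal A).map (algebraMap A B)) ^ k := by
    refine Ideal.mem_iInf.2 fun k => ?_
    obtain ⟨y, hy⟩ := hmem k
    rw [← Ideal.map_pow, ← hy]
    clear hy
    induction y using TensorProduct.induction_on with
    | zero => simp
    | add u v hu hv => rw [map_add]; exact add_mem hu hv
    | tmul b i =>
      rw [mulMap_tmul]
      exact Ideal.mul_mem_right _ _ (Ideal.mem_map_of_mem _ i.2)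
  rw [Ideal.iInf_pow_eq_bot_of_isLocalRing _ fun h => (maximalIdeal.isMaximal B).ne_top (top_le_iff.1 (h ▸ hle))] at h1
  exact h1

/-- Every minimal prime of a flat local algebra with reduced closed fibre is contained in a minimal prime
of the closed fibre. -/
theorem exists_le_minimalPrimes [IsNoetherianRing B] [IsLocalRing B]
    [IsLocalHom (algebraMap A B)] [Module.Flat A B]
    [IsReduced (B ⧸ ((maximalIdeal A).map (algebraMap A B)))] (q : Ideal B) (hq : q ∈ minimalPrimes B) :
    ∃ P ∈ ((maximalIdeal A).map (algebraMap A B)).minimalPrimes, q ≤ P := by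
  by_contra hcon
  push Not at hcon
  have h1 : q ∈ associatedPrimes B B :=
    Module.associatedPrimes.minimalPrimes_annihilator_subset_associatedPrimes B B
      (show q ∈ (Module.annihilator B B).minimalPrimes by
        rw [show Module.annihilator B B = ⊥ from Module.annihilator_eq_bot.2 inferInstance]; exact hq)
  obtain ⟨hqp, a, hqa⟩ := isAssociatedPrime_iff.1 h1
  have ha : a = 0 := eq_zero_of_forall_exists_mul_eq_zero (A := A) a fun P hP => by
    obtain ⟨t, htq, htP⟩ := SetLike.not_le_iff_exists.1 (hcon P hP)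
    refine ⟨t, htP, ?_⟩
    rw [hqa, Submodule.mem_colon_singleton, Submodule.mem_bot] at htq
    exact htq
  refine hqp.ne_top (hqa.trans (eq_top_iff.2 fun t _ => ?_))
  rw [Submodule.mem_colon_singleton, ha, smul_zero]
  exact zero_mem _

/-- A flat local algebra with reduced closed fibre which is reduced at the minimal primes of the closed
fibre is reduced. -/
theorem isReduced_of_isReduced_minimalPrimes [IsNoetherianRing B] [IsLocalRing B]
    [IsLocalHom (algebraMap A B)] [Module.Flat A B]
    [IsReduced (B ⧸ ((maximalIdeal A).map (algebraMap A B)))]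
    (h : ∀ (P : Ideal B) [P.IsPrime], P ∈ ((maximalIdeal A).map (algebraMap A B)).minimalPrimes →
      IsReduced (Localization.AtPrime P)) : IsReduced B := ⟨fun a ha => by
  refine eq_zero_of_forall_exists_mul_eq_zero (A := A) a fun P hP => ?_
  haveI := hP.1.1
  haveI := h P hP
  obtain ⟨t, ht⟩ := (IsLocalization.map_eq_zero_iff P.primeCompl (Localization.AtPrime P) a).1
    (ha.map (algebraMap B (Localization.AtPrime P))).eq_zero
  exact ⟨t, t.2, ht⟩⟩

end Groth.Agent.FlatGen4
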