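import Mathlib.AlgebraicGeometry.Morphisms.WeaklyEtale
import Mathlib.AlgebraicGeometry.Morphisms.Flat
import Mathlib.RingTheory.Etale.Weakly
import Groth.Agent.Lib.WEtaleH7.AbsFlat

set_option backward.isDefEq.respectTransparency.types false

/-! Weakly étale morphisms on affine charts. -/

namespace Groth.Agent.WEtSch4

open AlgebraicGeometry CategoryTheory Limits TensorProduct

universe u

theorem weaklyEtale_SpecMap_iff {R S : Type u} [CommRing R] [CommRing S] [Algebra R S] :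
    WeaklyEtale (Spec.map (CommRingCat.ofHom (algebraMap R S))) ↔ Algebra.WeaklyEtale R S := by
  rw [weaklyEtale_iff, diagonal_SpecMap R S,
    MorphismProperty.cancel_right_of_respectsIso (P := @Flat),
    HasRingHomProperty.Spec_iff (P := @Flat), HasRingHomProperty.Spec_iff (P := @Flat)]
  simp only [CommRingCat.hom_ofHom]
  rw [RingHom.flat_algebraMap_iff]
  exact ⟨fun ⟨h1, h2⟩ => ⟨h1, h2⟩, fun h => ⟨h.flat, h.flat_lmul'⟩⟩

theorem weaklyEtale_resLE_iff {X Y : Scheme.{u}} (f : X ⟶ Y) (U : X.Opens) (V : Y.Opens)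
    (hU : IsAffineOpen U) (hV : IsAffineOpen V) (e : U ≤ f ⁻¹ᵁ V) :
    letI := (f.appLE V U e).hom.toAlgebra
    WeaklyEtale (f.resLE V U e) ↔ Algebra.WeaklyEtale Γ(Y, V) Γ(X, U) := by
  letI := (f.appLE V U e).hom.toAlgebra
  refine Iff.trans ?_ weaklyEtale_SpecMap_iff
  have h : hU.isoSpec.inv ≫ f.resLE V U e ≫ hV.isoSpec.hom =
      Spec.map (CommRingCat.ofHom (algebraMap Γ(Y, V) Γ(X, U))) := by
    have h2 := IsAffineOpen.SpecMap_appLE_fromSpec f hV hU e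
    have h3 : hU.isoSpec.inv ≫ f.resLE V U e =
        Spec.map (f.appLE V U e) ≫ hV.isoSpec.inv := by
      rw [← cancel_mono V.ι, Category.assoc, Scheme.Hom.resLE_comp_ι, Category.assoc,
        IsAffineOpen.isoSpec_inv_ι, IsAffineOpen.isoSpec_inv_ι_assoc, h2]
    rw [reassoc_of% h3, Iso.inv_hom_id, Category.comp_id]
    rfl
  rw [← h, MorphismProperty.cancel_left_of_respectsIso (P := @WeaklyEtale),
    MorphismProperty.cancel_right_of_respectsIso (P := @WeaklyEtale)]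

theorem weaklyEtale_resLE {X Y : Scheme.{u}} (f : X ⟶ Y) [WeaklyEtale f] (U : X.Opens) (V : Y.Opens)
    (e : U ≤ f ⁻¹ᵁ V) : WeaklyEtale (f.resLE V U e) := by
  delta Scheme.Hom.resLE
  exact MorphismProperty.comp_mem _ _ _ inferInstance (IsZariskiLocalAtTarget.restrict ‹_› V)

theorem weaklyEtale_of_charts {X Y : Scheme.{u}} (f : X ⟶ Y)
    (h : ∀ (U : X.Opens) (V : Y.Opens) (_ : IsAffineOpen U) (_ : IsAffineOpen V) (e : U ≤ f ⁻¹ᵁ V),
      WeaklyEtale (f.resLE V U e)) : WeaklyEtale f := by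
  refine (IsZariskiLocalAtTarget.iff_of_iSup_eq_top (P := @WeaklyEtale)
    (fun V : Y.affineOpens => V.1) (iSup_affineOpens_eq_top Y)).2 fun V => ?_
  refine (IsZariskiLocalAtSource.iff_of_iSup_eq_top (P := @WeaklyEtale)
    (fun W : {W : X.affineOpens // W.1 ≤ f ⁻¹ᵁ V.1} => (f ⁻¹ᵁ V.1).ι ⁻¹ᵁ W.1.1) ?_).2 fun W => ?_
  · rw [eq_top_iff]
    intro z _
    obtain ⟨_, ⟨W, hW, rfl⟩, hzW, hWV⟩ := X.isBasis_affineOpens.exists_subset_of_mem_open
      (show (f ⁻¹ᵁ V.1).ι z ∈ f ⁻¹ᵁ V.1 from z.2) (f ⁻¹ᵁ V.1).isOpen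
    exact TopologicalSpace.Opens.mem_iSup.2 ⟨⟨⟨W, hW⟩, hWV⟩, hzW⟩
  · have hw := h W.1.1 V.1 W.1.2 V.2 W.2
    have e' : ((f ⁻¹ᵁ V.1).ι ⁻¹ᵁ W.1.1).ι ≫ f ∣_ V.1 =
        (IsOpenImmersion.lift W.1.1.ι (((f ⁻¹ᵁ V.1).ι ⁻¹ᵁ W.1.1).ι ≫ (f ⁻¹ᵁ V.1).ι) (by
          rw [Scheme.Opens.range_ι]; rintro _ ⟨z, rfl⟩; exact z.2)) ≫ f.resLE V.1 W.1.1 W.2 := by
      rw [← cancel_mono V.1.ι, Category.assoc, morphismRestrict_ι, Category.assoc,
        Scheme.Hom.resLE_comp_ι, IsOpenImmersion.lift_fac_assoc, Category.assoc]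
    rw [e']
    haveI : IsOpenImmersion ((((f ⁻¹ᵁ V.1).ι ⁻¹ᵁ W.1.1)).ι ≫ (f ⁻¹ᵁ V.1).ι) := inferInstance
    haveI := IsOpenImmersion.of_comp
      (IsOpenImmersion.lift W.1.1.ι (((f ⁻¹ᵁ V.1).ι ⁻¹ᵁ W.1.1).ι ≫ (f ⁻¹ᵁ V.1).ι) (by
        rw [Scheme.Opens.range_ι]; rintro _ ⟨z, rfl⟩; exact z.2)) W.1.1.ι
    exact MorphismProperty.comp_mem _ _ _ inferInstance hw

theorem isReduced_of_weaklyEtale (A B : Type u) [CommRing A] [CommRing B] [Algebra A B]
    [Algebra.WeaklyEtale A B] [_root_.IsReduced A] : _root_.IsReduced B := by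
  let K := ∀ p : PrimeSpectrum A, p.asIdeal.ResidueField
  have hK : WEtaleH7.IsVNR K := WEtaleH7.IsVNR.pi
  have hKB : _root_.IsReduced (K ⊗[A] B) := (WEtaleH7.isVNR_of_weaklyEtale K (K ⊗[A] B) hK).isReduced
  have hinj : Function.Injective (algebraMap A K) := by
    rw [injective_iff_map_eq_zero]
    intro a ha
    refine IsReduced.eq_zero _ (mem_nilradical.1 ?_)
    rw [nilradical_eq_sInf, Submodule.mem_sInf]
    intro p hp
    haveI : Ideal.IsPrime p := hp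
    exact Ideal.algebraMap_residueField_eq_zero.1 (congr_fun ha ⟨p, hp⟩)
  exact isReduced_of_injective (Algebra.TensorProduct.includeRight : B →ₐ[A] K ⊗[A] B)
    (Algebra.TensorProduct.includeRight_injective hinj)

end Groth.Agent.WEtSch4
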