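import Groth.Agent.Lib.Curve17.FunctionField
import Groth.Agent.Lib.HypEq17.Apps
import Groth.Agent.Lib.VB17.Setup
import Mathlib.FieldTheory.RatFunc.Luroth

/-!
# Normal curves receiving a nonconstant map from the projective line
-/

set_option linter.style.haveILetI false
set_option autoImplicit false

universe u

open CategoryTheory CategoryTheory.Limits AlgebraicGeometry TopologicalSpace

namespace Groth.Agent.LurothCurve17

open Groth.Agent.P1Split Groth.Agent.Curve17

variable (k : Type u) [Field k]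

/-- The function field of the projective line. -/
theorem exists_ratFunc_equiv [IsIntegral (CohB1.ProjSpace 1 k)] :
    ∃ e : RatFunc k ≃+* (CohB1.ProjSpace 1 k).functionField,
      ∀ c : k, e (RatFunc.C c) = baseStalk (CohB1.ProjSpace.toSpec 1 k) (genericPoint (CohB1.ProjSpace 1 k)) c := by
  obtain ⟨z⟩ := nonempty_U k 0
  let U₀ : (CohB1.ProjSpace 1 k).Opens := U k 0
  have hη : genericPoint (CohB1.ProjSpace 1 k) ∈ U₀ :=
    (genericPoint_specializes (α := (CohB1.ProjSpace 1 k : Scheme.{u})) z.1).mem_open (U k 0).2 z.2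
  haveI : Nonempty (U₀ : Scheme.{u}) := ⟨⟨_, hη⟩⟩
  let B := Γ(CohB1.ProjSpace 1 k, U₀)
  haveI : IsFractionRing B (CohB1.ProjSpace 1 k).functionField :=
    functionField_isFractionRing_of_isAffineOpen (CohB1.ProjSpace 1 k) U₀ (isAffineOpen_U k 0)
  let c₀ : Polynomial k ≃+* B := RingEquiv.ofBijective (coordHom k 0) (coordHom_bijective k 0)
  let e : RatFunc k ≃+* (CohB1.ProjSpace 1 k).functionField :=
    IsFractionRing.ringEquivOfRingEquiv (K := RatFunc k) (L := (CohB1.ProjSpace 1 k).functionField) c₀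
  refine ⟨e, fun c => ?_⟩
  rw [← RatFunc.algebraMap_C]
  refine (IsFractionRing.ringEquivOfRingEquiv_algebraMap c₀ (Polynomial.C c)).trans ?_
  show algebraMap B _ (coordHom k 0 (Polynomial.C c)) = _
  rw [HypEq17.coordHom_C]
  exact (CohB1.ProjSpace 1 k).presheaf.germ_res_apply _ _ hη _

variable {k}

/-- A curve with trivial function field is a point. -/
theorem subsingleton_of_functionField {X : Scheme.{u}} (p : X ⟶ Spec (CommRingCat.of k)) [IsIntegral X]
    (h : Function.Surjective (baseStalk p (genericPoint X))) : Subsingleton X := by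
  refine ⟨fun a b => ?_⟩
  have key : ∀ x : X, x = genericPoint X := fun x => by
    obtain ⟨U, hU, hxU, -⟩ := exists_isAffineOpen_mem_and_subset (show x ∈ (⊤ : X.Opens) from trivial)
    have hη : genericPoint X ∈ U := (genericPoint_specializes x).mem_open U.2 hxU
    haveI : Nonempty (U : Scheme.{u}) := ⟨⟨_, hη⟩⟩
    have hfield : IsField Γ(X, U) := by
      refine ⟨⟨0, 1, zero_ne_one⟩, mul_comm, fun {a} ha => ?_⟩
      obtain ⟨c, hc⟩ := h (X.germToFunctionField U a)
      have hc0 : c ≠ 0 := fun h0 => ha (X.germToFunctionField_injective U (by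
        rw [← hc, h0, map_zero, map_zero]))
      refine ⟨X.presheaf.map (homOfLE (le_top : U ≤ ⊤)).op (p.appTop ((Scheme.ΓSpecIso (CommRingCat.of k)).inv c⁻¹)), ?_⟩
      refine X.germToFunctionField_injective U ?_
      rw [map_mul, map_one, ← hc]
      erw [X.presheaf.germ_res_apply]
      show (baseStalk p (genericPoint X)).hom c * (baseStalk p (genericPoint X)).hom c⁻¹ = 1
      rw [← map_mul, mul_inv_cancel₀ hc0, map_one]
    letI := hfield.toField
    haveI : Subsingleton (PrimeSpectrum Γ(X, U)) := inferInstance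
    have h2 : (⟨x, hxU⟩ : U) = ⟨genericPoint X, hη⟩ :=
      (ConcreteCategory.bijective_of_isIso hU.isoSpec.hom.base).1 (Subsingleton.elim (α := PrimeSpectrum Γ(X, U)) _ _)
    exact congrArg Subtype.val h2
  rw [key a, key b]

/-- Lüroth for curves. -/
theorem exists_iso {X : Scheme.{u}} (p : X ⟶ Spec (CommRingCat.of k)) [IsSeparated p] [LocallyOfFiniteType p]
    [QuasiCompact p] [ConnectedSpace X] (hN : Pi1.IsNormalScheme X) (hdim : topologicalKrullDim X = 1)
    (f : CohB1.ProjSpace 1 k ⟶ X) (hf : f ≫ p = CohB1.ProjSpace.toSpec 1 k)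
    (hnc : ∃ a b : ↥(CohB1.ProjSpace 1 k), f.base a ≠ f.base b) :
    ∃ e : X ≅ CohB1.ProjSpace 1 k, e.hom ≫ CohB1.ProjSpace.toSpec 1 k = p := by
  classical
  haveI := RegExt.isIntegral_projSpace 1 k
  letI : (CohB1.ProjSpace 1 k).Over (Spec (CommRingCat.of k)) := ⟨CohB1.ProjSpace.toSpec 1 k⟩
  haveI : IsProper (CohB1.ProjSpace.toSpec 1 k) := ProjSpace.isProper_toSpec 1 k
  haveI : Smooth (CohB1.ProjSpace.toSpec 1 k) := ProjSpace.smooth_toSpec 1 k
  have hdimP : topologicalKrullDim (CohB1.ProjSpace 1 k) = 1 := by rw [Groth.Agent.S10829.result k 1]; rfl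
  have hnP : Pi1.IsNormalScheme (CohB1.ProjSpace 1 k) := fun y =>
    ⟨SmoothReg17.isDomain_stalk (CohB1.ProjSpace.toSpec 1 k) y,
      SmoothReg17.isIntegrallyClosed_stalk (CohB1.ProjSpace.toSpec 1 k) y⟩
  haveI : IsLocallyNoetherian X := LocallyOfFiniteType.isLocallyNoetherian p
  haveI : CompactSpace X := QuasiCompact.compactSpace_of_compactSpace p
  haveI : IsNoetherian X := {}
  haveI : IsIntegral X := VB17.isIntegral_of_connected fun x => (hN x).1
  obtain ⟨a, b, hab⟩ := hnc
  have e : f (genericPoint (CohB1.ProjSpace 1 k)) = genericPoint X :=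
    map_genericPoint hdim.le f ⟨f.base a, ⟨a, rfl⟩, f.base b, ⟨b, rfl⟩, hab⟩
  haveI : IsProper (f ≫ p) := by rw [hf]; infer_instance
  haveI : Surjective f := ⟨fun x => by
    haveI : IsProper f := IsProper.of_comp f p
    have hcl : IsClosed (Set.range f) := f.isClosedMap.isClosed_range
    exact ((genericPoint_specializes x).mem_closed hcl ⟨_, e⟩)⟩
  haveI : IsProper p := by
    haveI : UniversallyClosed p := UniversallyClosed.of_comp_surjective f p
    exact {}
  obtain ⟨ε, hε⟩ := exists_ratFunc_equiv k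
  let θ : X.functionField ⟶ (CohB1.ProjSpace 1 k).functionField := genMap f e
  have hθ : ∀ c : k, θ (baseStalk p (genericPoint X) c) =
      baseStalk (CohB1.ProjSpace.toSpec 1 k) (genericPoint (CohB1.ProjSpace 1 k)) c := fun c =>
    ConcreteCategory.congr_hom (genMap_baseStalk (CohB1.ProjSpace.toSpec 1 k) p f hf e) c
  letI : Algebra k X.functionField := (baseStalk p (genericPoint X)).hom.toAlgebra
  let ι : X.functionField →ₐ[k] RatFunc k :=
    { ε.symm.toRingHom.comp θ.hom with
      commutes' := fun c => by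
        show ε.symm (θ (baseStalk p (genericPoint X) c)) = algebraMap k (RatFunc k) c
        rw [hθ, ← hε, ε.symm_apply_apply, RatFunc.algebraMap_eq_C] }
  have hne : ι.fieldRange ≠ ⊥ := fun hbot => by
    have hs : Function.Surjective (baseStalk p (genericPoint X)) := fun z => by
      have hz : ι z ∈ (⊥ : IntermediateField k (RatFunc k)) := hbot ▸ ⟨z, rfl⟩
      obtain ⟨c, hc⟩ := IntermediateField.mem_bot.1 hz
      exact ⟨c, ι.toRingHom.injective ((ι.commutes c).trans hc)⟩
    haveI := subsingleton_of_functionField p hs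
    exact hab (Subsingleton.elim _ _)
  let κ : RatFunc k ≃ₐ[k] X.functionField :=
    (RatFunc.Luroth.algEquiv hne).trans (AlgEquiv.ofInjectiveField ι).symm
  let Θ : (CohB1.ProjSpace 1 k).functionField ⟶ X.functionField :=
    CommRingCat.ofHom (κ.toRingEquiv.toRingHom.comp ε.symm.toRingHom)
  obtain ⟨i, hi⟩ := exists_iso_of_functionField p (CohB1.ProjSpace.toSpec 1 k) hdim hdimP hN hnP Θ
    (κ.bijective.comp ε.symm.bijective) (by
      ext c
      show κ (ε.symm (baseStalk (CohB1.ProjSpace.toSpec 1 k) (genericPoint (CohB1.ProjSpace 1 k)) c)) =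
        baseStalk p (genericPoint X) c
      rw [← hε, ε.symm_apply_apply, ← RatFunc.algebraMap_eq_C]
      exact κ.commutes c)
  exact ⟨i, hi⟩

end Groth.Agent.LurothCurve17
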