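import Groth.Agent.Lib.DeltaBC3
import Mathlib.RingTheory.TensorProduct.Free
import Mathlib.RingTheory.RegularLocalRing.Defs
import Mathlib.RingTheory.LocalProperties.Basic

/-! Reducedness and regularity of a one-dimensional normal ring after extending the field of constants. -/

set_option autoImplicit false
universe u

open IsLocalRing
open scoped TensorProduct

namespace Groth.Agent.GeomNormCodim3

variable (k : Type u) [Field k] (K : Type u) [Field K] [Algebra k K]

/-- Coefficients commute with maps on the first factor. -/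
theorem repr_map {R S : Type u} [CommRing R] [CommRing S] [Algebra k R] [Algebra k S] {ι : Type u}
    (b : Module.Basis ι k K) (φ : R →ₐ[k] S) (z : R ⊗[k] K) (i : ι) :
    (Algebra.TensorProduct.basis S b).repr (Algebra.TensorProduct.map φ (AlgHom.id k K) z) i =
      φ ((Algebra.TensorProduct.basis R b).repr z i) := by
  induction z using TensorProduct.induction_on with
  | zero => simp
  | tmul r x =>
    rw [Algebra.TensorProduct.map_tmul, Algebra.TensorProduct.basis_repr_tmul, Algebra.TensorProduct.basis_repr_tmul]
    simp [AlgHom.commutes, map_mul]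
  | add z w hz hw => simp only [map_add, Finsupp.add_apply, hz, hw]

/-- Tensoring with a field extension keeps a discrete valuation ring reduced if it does so for its residue field. -/
theorem isReduced_tensor_dvr (V : Type u) [CommRing V] [IsDomain V] [IsDiscreteValuationRing V] [Algebra k V]
    [_root_.IsReduced ((V ⧸ maximalIdeal V) ⊗[k] K)] : _root_.IsReduced (V ⊗[k] K) := by
  classical
  let b := Module.Free.chooseBasis k K
  let bV := Algebra.TensorProduct.basis V b
  obtain ⟨π, hπ⟩ := IsDiscreteValuationRing.exists_irreducible V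
  let res : V →ₐ[k] V ⧸ maximalIdeal V := Ideal.Quotient.mkₐ k _
  let ρ := Algebra.TensorProduct.map res (AlgHom.id k K)
  have hdiv : ∀ z : V ⊗[k] K, IsNilpotent z → ∃ w : V ⊗[k] K, IsNilpotent w ∧ z = π • w := by
    intro z hz
    have h0 : ρ z = 0 := (hz.map ρ).eq_zero
    have hmem : ∀ i, bV.repr z i ∈ Ideal.span {π} := fun i => by
      rw [← hπ.maximalIdeal_eq, ← Ideal.Quotient.eq_zero_iff_mem]
      show res _ = 0
      rw [← repr_map k K b res z i, h0, map_zero, Finsupp.zero_apply]
    choose c hc using fun i => Ideal.mem_span_singleton'.1 (hmem i)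
    refine ⟨bV.repr.symm (Finsupp.onFinset (bV.repr z).support (fun i => if bV.repr z i = 0 then 0 else c i)
      (fun i hi => Finsupp.mem_support_iff.2 fun h => hi (by simp [h]))), ?_, ?_⟩
    swap
    · apply bV.repr.injective
      ext i
      rw [map_smul, LinearEquiv.apply_symm_apply, Finsupp.smul_apply, Finsupp.onFinset_apply, smul_eq_mul]
      split_ifs with h
      · rw [mul_zero, h]
      · rw [mul_comm, hc]
    obtain ⟨e, he⟩ := hz
    refine ⟨e, bV.repr.injective ?_⟩
    generalize hw : bV.repr.symm _ = w
    have hzw : z = π • w := by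
      rw [← hw]
      apply bV.repr.injective
      ext i
      rw [map_smul, LinearEquiv.apply_symm_apply, Finsupp.smul_apply, Finsupp.onFinset_apply, smul_eq_mul]
      split_ifs with h
      · rw [mul_zero, h]
      · rw [mul_comm, hc]
    rw [hzw, smul_pow] at he
    ext i
    have h := congrArg (fun y => bV.repr y i) he
    simp only [map_smul, map_zero, Finsupp.zero_apply, Finsupp.smul_apply, smul_eq_mul] at h
    simpa using (mul_eq_zero.1 h).resolve_left (pow_ne_zero e hπ.ne_zero)
  refine ⟨fun z hz => bV.repr.injective (Finsupp.ext fun i => ?_)⟩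
  have key : ∀ n : ℕ, ∀ z : V ⊗[k] K, IsNilpotent z → bV.repr z i ∈ maximalIdeal V ^ n := by
    intro n
    induction n with
    | zero => intro z _; simp
    | succ n ih =>
      intro z hz
      obtain ⟨w, hw, rfl⟩ := hdiv z hz
      rw [map_smul, Finsupp.smul_apply, smul_eq_mul, pow_succ, mul_comm π]
      exact Ideal.mul_mem_mul (ih w hw) (hπ.maximalIdeal_eq ▸ Ideal.mem_span_singleton_self π)
  rw [map_zero, Finsupp.zero_apply]
  have hinf := Ideal.iInf_pow_eq_bot_of_isLocalRing (maximalIdeal V) (maximalIdeal.isMaximal V).ne_top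
  exact (Submodule.mem_bot V).1 (hinf ▸ (Submodule.mem_iInf _).2 fun n => key n z hz)

theorem isReduced_tensor_of_jointly_injective (R : Type u) [CommRing R] [Algebra k R] {I : Type u}
    (V : I → Type u) [∀ i, CommRing (V i)] [∀ i, Algebra k (V i)] (φ : ∀ i, R →ₐ[k] V i)
    (hφ : ∀ r, (∀ i, φ i r = 0) → r = 0) [∀ i, _root_.IsReduced (V i ⊗[k] K)] :
    _root_.IsReduced (R ⊗[k] K) := by
  classical
  let b := Module.Free.chooseBasis k K
  refine ⟨fun z hz => (Algebra.TensorProduct.basis R b).repr.injective (Finsupp.ext fun j => ?_)⟩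
  rw [map_zero, Finsupp.zero_apply]
  refine hφ _ fun i => ?_
  rw [← repr_map k K b (φ i) z j, (hz.map (Algebra.TensorProduct.map (φ i) (AlgHom.id k K))).eq_zero, map_zero,
    Finsupp.zero_apply]

set_option synthInstance.maxHeartbeats 100000 in
/-- A subring of a ring all of whose localizations at maximal ideals are discrete valuation rings stays reduced. -/
theorem isReduced_tensor_of_maximal (A R : Type u) [CommRing A] [CommRing R] [Algebra k A] [Algebra k R] [Algebra A R]
    [IsScalarTower k A R] (hinj : Function.Injective (algebraMap A R))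
    (hd : ∀ M : MaximalSpectrum R, ∃ _ : IsDomain (Localization.AtPrime M.asIdeal),
      IsDiscreteValuationRing (Localization.AtPrime M.asIdeal))
    (hred : ∀ M : Ideal R, M.IsMaximal → _root_.IsReduced (K ⊗[k] (R ⧸ M))) :
    _root_.IsReduced (A ⊗[k] K) := by
  haveI : ∀ M : MaximalSpectrum R, _root_.IsReduced (Localization.AtPrime M.asIdeal ⊗[k] K) := fun M => by
    obtain ⟨hdom, hv⟩ := hd M
    haveI := hdom; haveI := hv
    haveI := hred M.asIdeal M.isMaximal
    haveI : _root_.IsReduced
        ((Localization.AtPrime M.asIdeal ⧸ maximalIdeal (Localization.AtPrime M.asIdeal)) ⊗[k] K) := by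
      let q := IsLocalization.AtPrime.equivQuotMaximalIdeal M.asIdeal (Localization.AtPrime M.asIdeal)
      let qa : (R ⧸ M.asIdeal) ≃ₐ[k] Localization.AtPrime M.asIdeal ⧸ maximalIdeal (Localization.AtPrime M.asIdeal) :=
        AlgEquiv.ofRingEquiv (f := q) fun c => rfl
      let c := ((Algebra.TensorProduct.congr qa.symm (AlgEquiv.refl : K ≃ₐ[k] K)).trans
        (Algebra.TensorProduct.comm k (R ⧸ M.asIdeal) K))
      exact isReduced_of_injective c.toAlgHom.toRingHom c.injective
    exact isReduced_tensor_dvr k K (Localization.AtPrime M.asIdeal)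
  refine isReduced_tensor_of_jointly_injective k K A (fun M : MaximalSpectrum R => Localization.AtPrime M.asIdeal)
    (fun M => IsScalarTower.toAlgHom k A (Localization.AtPrime M.asIdeal)) fun a ha => ?_
  have h0 : algebraMap A R a ∈ (⊥ : Ideal R) := by
    refine Ideal.mem_of_localization_maximal fun P hP => ?_
    rw [Ideal.map_bot, Ideal.mem_bot, ← IsScalarTower.algebraMap_apply A R (Localization.AtPrime P)]
    exact ha ⟨P, hP⟩
  exact hinj ((Ideal.mem_bot.1 h0).trans (map_zero (algebraMap A R)).symm)

/-- Over a local principal ideal domain, a finite extension of constants keeping the residue field reduced gives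
regular local rings over the closed point. -/
theorem isRegularLocalRing_tensor (V : Type u) [CommRing V] [IsLocalRing V] [IsDomain V] [IsPrincipalIdealRing V]
    [Algebra k V] [Module.Finite k K] [_root_.IsReduced ((V ⧸ maximalIdeal V) ⊗[k] K)]
    (P : Ideal (V ⊗[k] K)) [P.IsPrime] (hP : P.comap (algebraMap V (V ⊗[k] K)) = maximalIdeal V) :
    IsRegularLocalRing (Localization.AtPrime P) := by
  classical
  obtain ⟨π, hπ⟩ : ∃ π, maximalIdeal V = Ideal.span {π} :=
    ⟨_, (Submodule.IsPrincipal.span_singleton_generator (maximalIdeal V)).symm⟩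
  let res : V →ₐ[k] V ⧸ maximalIdeal V := Ideal.Quotient.mkₐ k _
  let ρ := Algebra.TensorProduct.map res (AlgHom.id k K)
  have hρs : Function.Surjective ρ :=
    Algebra.TensorProduct.map_surjective res _ Ideal.Quotient.mk_surjective Function.surjective_id
  haveI : IsArtinianRing ((V ⧸ maximalIdeal V) ⊗[k] K) := by
    letI : Field (V ⧸ maximalIdeal V) := Ideal.Quotient.field _
    exact IsArtinianRing.of_finite (V ⧸ maximalIdeal V) _
  haveI : IsNoetherianRing (V ⊗[k] K) := IsNoetherianRing.of_finite V _
  haveI : IsNoetherianRing (Localization.AtPrime P) := IsLocalization.isNoetherianRing P.primeCompl _ inferInstance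
  let g := algebraMap (V ⊗[k] K) (Localization.AtPrime P)
  let πB := g (algebraMap V (V ⊗[k] K) π)
  have hgen : maximalIdeal (Localization.AtPrime P) = Ideal.span {πB} := by
    refine le_antisymm ?_ ?_
    · rw [← Localization.AtPrime.map_eq_maximalIdeal, Ideal.map_le_iff_le_comap]
      intro x hx
      obtain ⟨y, hy⟩ := DeltaBC3.exists_mul_eq_self (ρ x)
      obtain ⟨w, rfl⟩ := hρs y
      have hu : 1 - x * w ∉ P := fun h => Ideal.IsPrime.ne_top ‹P.IsPrime› ((Ideal.eq_top_iff_one _).2 (by
        simpa using P.add_mem h (P.mul_mem_right w hx)))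
      have hk : x * (1 - x * w) ∈ RingHom.ker ρ := by
        rw [RingHom.mem_ker, map_mul, map_sub, map_one, map_mul, hy]
      rw [Algebra.TensorProduct.map_ker res _ Ideal.Quotient.mk_surjective Function.surjective_id] at hk
      have hle : (RingHom.ker res).map (Algebra.TensorProduct.includeLeft : V →ₐ[k] V ⊗[k] K) ⊔
          (RingHom.ker (AlgHom.id k K)).map (Algebra.TensorProduct.includeRight : K →ₐ[k] V ⊗[k] K) ≤
          (Ideal.span {πB}).comap g := by
        refine sup_le (Ideal.map_le_iff_le_comap.2 fun v hv => ?_) (Ideal.map_le_iff_le_comap.2 fun c hc => ?_)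
        · have hv' : v ∈ maximalIdeal V := Ideal.Quotient.eq_zero_iff_mem.1 hv
          rw [hπ, Ideal.mem_span_singleton'] at hv'
          obtain ⟨a, rfl⟩ := hv'
          show g (algebraMap V (V ⊗[k] K) (a * π)) ∈ (Ideal.span {πB} : Ideal (Localization.AtPrime P))
          rw [map_mul, map_mul]
          exact Ideal.mul_mem_left _ _ (Ideal.mem_span_singleton_self _)
        · rw [RingHom.mem_ker, AlgHom.id_apply] at hc
          rw [hc]; exact zero_mem _
      have h2 := hle hk
      rw [Ideal.mem_comap, map_mul] at h2
      exact (Ideal.mul_unit_mem_iff_mem _ (IsLocalization.map_units (Localization.AtPrime P) (⟨_, hu⟩ : P.primeCompl))).1 h2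
    · rw [Ideal.span_le, Set.singleton_subset_iff, ← Localization.AtPrime.map_eq_maximalIdeal]
      exact Ideal.mem_map_of_mem _ (hP.ge (hπ ▸ Ideal.mem_span_singleton_self π))
  by_cases h0 : π = 0
  · have hbot : maximalIdeal (Localization.AtPrime P) = ⊥ := by
      rw [hgen, Ideal.span_singleton_eq_bot]; simp [πB, h0]
    have hF : IsField (Localization.AtPrime P) := IsLocalRing.isField_iff_maximalIdeal_eq.2 hbot
    letI := hF.toField
    infer_instance
  have hnzd : algebraMap V (V ⊗[k] K) π ∈ nonZeroDivisors (V ⊗[k] K) :=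
    DeltaBC3.nzd_map (mem_nonZeroDivisors_of_ne_zero h0)
  have hreg : IsRegular πB := by
    have hmem : πB ∈ nonZeroDivisors (Localization.AtPrime P) := by
      refine mem_nonZeroDivisors_iff_right.2 fun z hz => ?_
      obtain ⟨⟨c, s⟩, hc⟩ := IsLocalization.surj P.primeCompl z
      have h1 : g (c * algebraMap V (V ⊗[k] K) π) = 0 := by
        rw [map_mul, show g c = z * g s from hc.symm, mul_right_comm, hz, zero_mul]
      obtain ⟨t, ht⟩ := (IsLocalization.map_eq_zero_iff P.primeCompl _ _).1 h1
      have htc : (t : V ⊗[k] K) * c = 0 := mem_nonZeroDivisors_iff_right.1 hnzd _ (by rw [mul_assoc]; exact ht)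
      have hz0 : g c = 0 := (IsLocalization.map_eq_zero_iff P.primeCompl _ _).2 ⟨t, htc⟩
      exact ((IsLocalization.map_units (Localization.AtPrime P) s).mul_left_eq_zero).1 (hc.trans hz0)
    exact isRegular_iff_mem_nonZeroDivisors.2 hmem
  obtain ⟨hdom, hdvr⟩ := DeltaBC3.isDiscreteValuationRing_of_regular πB hgen hreg
  haveI := hdom
  haveI := @hdvr hdom
  infer_instance

end Groth.Agent.GeomNormCodim3
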