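import Groth.Agent.Lib.GeomNormCodim3
import Groth.Agent.Lib.DeltaGeomSch3
import Groth.Agent.Lib.GeomReg18.Crit
import Groth.Agent.Lib.NormBlow32.Apply
import Groth.Agent.Lib.SecDiv18.Peel

/-! Geometric reducedness and regularity of the normalization in codimension one. -/

set_option autoImplicit false
universe u

open CategoryTheory CategoryTheory.Limits AlgebraicGeometry
open scoped TensorProduct

namespace Groth.Agent.GeomNormCodimSch3

attribute [local instance] Curv2.stalkAlgebra

variable (k : Type u) [Field k] (X : Scheme.{u}) [X.Over (Spec (CommRingCat.of k))] [IsIntegral X]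
  [LocallyOfFiniteType (X ↘ (Spec (CommRingCat.of k)))]
  [QuasiCompact (X.fromSpecStalk (genericPoint X))] [QuasiSeparated (X.fromSpecStalk (genericPoint X))]

set_option maxHeartbeats 1000000 in
set_option synthInstance.maxHeartbeats 200000 in
theorem isGeomReducedAt (x : X) (hdim : ringKrullDim (X.presheaf.stalk x) = 1)
    (hsep : letI : (Curv2.normalization X).Over (Spec (CommRingCat.of k)) :=
        ⟨Curv2.normalizationι X ≫ (X ↘ (Spec (CommRingCat.of k)))⟩
      ∀ x' : ↥(Curv2.normalization X), (Curv2.normalizationι X).base x' = x →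
        GeometricallyReduced (Spec.map (CommRingCat.ofHom (Curv2.resMap k (Curv2.normalization X) x')))) :
    Curv2.IsGeomReducedAt k X x := by
  intro K _ _ y hy
  obtain ⟨P, rfl⟩ : y ∈ Set.range (GeomReg18.toBc k K x) := by
    rw [GeomReg18.range_toBc]; exact hy ▸ specializes_rfl
  obtain ⟨e⟩ := GeomReg18.nonempty_equiv k K x P
  let A := X.presheaf.stalk x
  let R := integralClosure A (FractionRing A)
  have hred := DeltaGeomSch3.isReduced_tensor_residue k X K x hsep
  have hN := DeltaGeomSch3.isNagata_stalk k X x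
  haveI : _root_.IsReduced (A ⊗[k] K) :=
    GeomNormCodim3.isReduced_tensor_of_maximal k K A R
      (fun a b h => IsFractionRing.injective A (FractionRing A) (congrArg Subtype.val h))
      (WedgeDVR3.dvr A hN hdim) hred
  haveI : P.asIdeal.IsPrime := P.isPrime
  haveI : _root_.IsReduced (Localization.AtPrime P.asIdeal) := isReduced_localizationPreserves P.asIdeal.primeCompl _ ‹_›
  exact isReduced_of_injective e e.injective

set_option maxHeartbeats 1000000 in
set_option synthInstance.maxHeartbeats 200000 in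
theorem isGeomRegularAt (x : X) (hdim : ringKrullDim (X.presheaf.stalk x) = 1)
    (hsep : letI : (Curv2.normalization X).Over (Spec (CommRingCat.of k)) :=
        ⟨Curv2.normalizationι X ≫ (X ↘ (Spec (CommRingCat.of k)))⟩
      ∀ x' : ↥(Curv2.normalization X), (Curv2.normalizationι X).base x' = x →
        GeometricallyReduced (Spec.map (CommRingCat.ofHom (Curv2.resMap k (Curv2.normalization X) x')))) :
    letI : (Curv2.normalization X).Over (Spec (CommRingCat.of k)) :=
      ⟨Curv2.normalizationι X ≫ (X ↘ (Spec (CommRingCat.of k)))⟩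
    ∀ x' : ↥(Curv2.normalization X), Curv2.normalizationι X x' = x → Curv2.IsGeomRegularAt k (Curv2.normalization X) x' := by
  letI : (Curv2.normalization X).Over (Spec (CommRingCat.of k)) :=
    ⟨Curv2.normalizationι X ≫ (X ↘ (Spec (CommRingCat.of k)))⟩
  intro x' hx'
  obtain ⟨hfin, hint, hnorm, -⟩ := NormBlow.normalization_props X
    fun U => NormFin18.isNagata_sections (X ↘ (Spec (CommRingCat.of k))) U
  haveI := hfin; haveI := hint
  let ν := Curv2.normalizationι X
  haveI : IsLocallyNoetherian X := LocallyOfFiniteType.isLocallyNoetherian (X ↘ (Spec (CommRingCat.of k)))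
  haveI : IsLocallyNoetherian (Curv2.normalization X) := LocallyOfFiniteType.isLocallyNoetherian ν
  let V := (Curv2.normalization X).presheaf.stalk x'
  obtain ⟨U, hU, hxU, -⟩ := exists_isAffineOpen_mem_and_subset (show x ∈ (⊤ : X.Opens) from trivial)
  have hx'V : x' ∈ ν ⁻¹ᵁ U := by show ν x' ∈ U; rw [hx']; exact hxU
  have hV : IsAffineOpen (ν ⁻¹ᵁ U) := hU.preimage ν
  have hdimV : ringKrullDim V ≤ 1 := by
    have hd : ringKrullDim (X.presheaf.stalk (ν x')) = 1 := by rw [hx']; exact hdim
    have hxU' : ν x' ∈ U := hx'V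
    rw [SecDiv.ringKrullDim_stalk_eq_height hU hxU'] at hd
    rw [SecDiv.ringKrullDim_stalk_eq_height hV hx'V, ← hd]
    letI := (ν.app U).hom.toAlgebra
    haveI : Algebra.IsIntegral Γ(X, U) Γ(Curv2.normalization X, ν ⁻¹ᵁ U) := ⟨ν.isIntegral_app U hU⟩
    have hc : PrimeSpectrum.comap (ν.app U).hom (hV.primeIdealOf ⟨x', hx'V⟩) = hU.primeIdealOf ⟨ν x', hxU'⟩ := by
      rw [Scheme.Hom.app_eq_appLE]
      exact IsAffineOpen.comap_primeIdealOf_appLE U hU (ν ⁻¹ᵁ U) hV le_rfl hx'V
    have hmono : StrictMono (PrimeSpectrum.comap (algebraMap Γ(X, U) Γ(Curv2.normalization X, ν ⁻¹ᵁ U))) := fun a b h =>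
      Ideal.IsIntegral.comap_lt_comap (I := a.asIdeal) (J := b.asIdeal) h
    have h1 := Order.height_le_height_apply_of_strictMono _ hmono (hV.primeIdealOf ⟨x', hx'V⟩)
    rw [show PrimeSpectrum.comap (algebraMap Γ(X, U) Γ(Curv2.normalization X, ν ⁻¹ᵁ U)) (hV.primeIdealOf ⟨x', hx'V⟩) = _ from hc] at h1
    rw [PrimeSpectrum.height_eq_orderHeight, PrimeSpectrum.height_eq_orderHeight]
    exact_mod_cast h1
  haveI : IsDomain V := inferInstanceAs (IsDomain ((Curv2.normalization X).presheaf.stalk x'))
  haveI : IsIntegrallyClosed V := (hnorm x').2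
  haveI : Ring.KrullDimLE 1 V := Ring.krullDimLE_iff.2 hdimV
  haveI : Ring.DimensionLEOne V := ⟨fun {p} hp _ => by
    rcases Ring.krullDimLE_one_iff.1 (inferInstance : Ring.KrullDimLE 1 V) p inferInstance with h | h
    · rw [IsDomain.minimalPrimes_eq_singleton_bot] at h
      exact absurd h hp
    · exact h⟩
  haveI : IsDedekindDomain V := { }
  haveI : IsPrincipalIdealRing V := inferInstance
  refine GeomReg18.isGeomRegularAt_of_isGeometricallyRegular k _ x'
    (GeomReg18.isGeometricallyRegular_of_insep k _ x' ?_)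
  intro K _ _ _ _ w hw
  obtain ⟨P, rfl⟩ : w ∈ Set.range (GeomReg18.toBc k K x') := by
    rw [GeomReg18.range_toBc]; exact hw ▸ specializes_rfl
  obtain ⟨e⟩ := GeomReg18.nonempty_equiv k K x' P
  haveI : _root_.IsReduced ((V ⧸ IsLocalRing.maximalIdeal V) ⊗[k] K) := by
    haveI := hsep x' hx'
    letI := Curv2.resAlgebra k (Curv2.normalization X) x'
    haveI := HensConnFib6.isReduced_tensor_of_geometricallyReduced k ((Curv2.normalization X).residueField x') K
    let qa : (V ⧸ IsLocalRing.maximalIdeal V) ≃ₐ[k] (Curv2.normalization X).residueField x' :=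
      AlgEquiv.ofRingEquiv (f := RingEquiv.refl _) fun c => rfl
    let c := ((Algebra.TensorProduct.congr qa (AlgEquiv.refl : K ≃ₐ[k] K)).trans
      (Algebra.TensorProduct.comm k ((Curv2.normalization X).residueField x') K))
    exact isReduced_of_injective c.toAlgHom.toRingHom c.injective
  haveI : P.asIdeal.IsPrime := P.isPrime
  have hP : P.asIdeal.comap (algebraMap V (V ⊗[k] K)) = IsLocalRing.maximalIdeal V := by
    have h1 := congrArg (fun f : Spec (CommRingCat.of (V ⊗[k] K)) ⟶ Curv2.normalization X => f P)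
      (GeomReg18.toBc_fst k K x')
    simp only [Scheme.Hom.comp_apply] at h1
    have h2 := (h1.symm.trans hw).trans (Scheme.fromSpecStalk_closedPoint (x := x')).symm
    exact congrArg PrimeSpectrum.asIdeal ((IsPreimmersion.base_embedding ((Curv2.normalization X).fromSpecStalk x')).injective h2)
  haveI := GeomNormCodim3.isRegularLocalRing_tensor k K V P.asIdeal hP
  exact IsRegularLocalRing.of_ringEquiv e.symm

end Groth.Agent.GeomNormCodimSch3
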