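import Mathlib.RingTheory.Localization.AtPrime.Basic
import Mathlib.RingTheory.Localization.Away.Basic
import Mathlib.RingTheory.Localization.BaseChange
import Mathlib.RingTheory.Localization.Finiteness
import Mathlib.RingTheory.Localization.Integer
import Mathlib.RingTheory.Noetherian.Basic
import Mathlib.RingTheory.TensorProduct.Maps
import Mathlib.Algebra.Algebra.Pi
import Mathlib.Algebra.Algebra.Prod
import Mathlib.Tactic.LinearCombination

/-! # Gluing algebras at finitely many maximal ideals -/

set_option autoImplicit false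
set_option linter.style.haveILetI false
universe u

open TensorProduct

namespace Groth.Agent.GlueMax3

variable {A : Type u} [CommRing A] {r : ℕ} (m : Fin r → Ideal A) [∀ i, (m i).IsMaximal]

theorem exists_sep (hinj : Function.Injective m) (i : Fin r) : ∃ u, u ∉ m i ∧ ∀ j, j ≠ i → u ∈ m j := by
  classical
  by_contra h
  push Not at h
  have hle : (Finset.univ.erase i).inf m ≤ m i := fun u hu => by
    by_contra hc
    obtain ⟨j, hj, hju⟩ := h u hc
    exact hju ((Finset.inf_le (Finset.mem_erase.2 ⟨hj, Finset.mem_univ j⟩) : (Finset.univ.erase i).inf m ≤ m j) hu)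
  obtain ⟨j, hj, hjle⟩ := (Ideal.IsPrime.inf_le' inferInstance).1 hle
  exact (Finset.mem_erase.1 hj).1 (hinj ((inferInstance : (m j).IsMaximal).eq_of_le
    (Ideal.IsPrime.ne_top inferInstance) hjle))

theorem pow_sep_mem {u : A} {j : Fin r} (hu : ∀ l, l ≠ j → u ∈ m l) (M : ℕ) {t : A} (ht : t ∈ m j ^ M) :
    u ^ M * t ∈ (⨅ l, m l) ^ M := by
  have h : Ideal.span {u} * m j ≤ ⨅ l, m l := le_iInf fun l => by
    rcases eq_or_ne l j with rfl | hl
    · exact Ideal.mul_le_right
    · exact Ideal.mul_le_left.trans ((Ideal.span_singleton_le_iff_mem _).2 (hu l hl))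
  have := Ideal.pow_right_mono h M
  rw [mul_pow, Ideal.span_singleton_pow] at this
  exact this (Ideal.mul_mem_mul (Ideal.mem_span_singleton_self _) ht)

/-- An ideal containing a power of `J` and an element off each `m i` is the unit ideal. -/
theorem eq_top_of_local (T : Ideal A) (N : ℕ) (hJ : (⨅ i, m i) ^ N ≤ T) (h : ∀ i, ∃ t, t ∉ m i ∧ t ∈ T) :
    T = ⊤ := by
  by_contra hT
  obtain ⟨M, hM, hTM⟩ := Ideal.exists_le_maximal T hT
  have h' : (⨅ i, m i) ≤ M := fun x hx => hM.isPrime.mem_of_pow_mem N (hTM (hJ (Ideal.pow_mem_pow hx N)))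
  rw [← Finset.inf_univ_eq_iInf] at h'
  obtain ⟨i, -, hi⟩ := (Ideal.IsPrime.inf_le' hM.isPrime).1 h'
  obtain ⟨t, ht, htT⟩ := h i
  exact ht (((inferInstance : (m i).IsMaximal).eq_of_le hM.ne_top hi).symm ▸ hTM htT)

variable {P : Type u} [CommRing P] [Algebra A P]

/-- The saturation of the image of `A` in `P` with respect to `I`. -/
def sat (I : Ideal A) : Subalgebra A P where
  carrier := {p | ∃ N, ∀ y ∈ I ^ N, ∃ a, algebraMap A P y * p = algebraMap A P a}
  mul_mem' := by
    rintro p q ⟨N₁, h₁⟩ ⟨N₂, h₂⟩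
    refine ⟨N₁ + N₂, fun y hy => ?_⟩
    rw [pow_add] at hy
    refine Submodule.mul_induction_on hy (fun x hx z hz => ?_) ?_
    · obtain ⟨a, ha⟩ := h₁ x hx
      obtain ⟨b, hb⟩ := h₂ z hz
      exact ⟨a * b, by rw [map_mul, map_mul, ← ha, ← hb]; ring⟩
    · rintro x z ⟨a, ha⟩ ⟨b, hb⟩
      exact ⟨a + b, by rw [map_add, map_add, ← ha, ← hb]; ring⟩
  add_mem' := by
    rintro p q ⟨N₁, h₁⟩ ⟨N₂, h₂⟩
    refine ⟨max N₁ N₂, fun y hy => ?_⟩
    obtain ⟨a, ha⟩ := h₁ y (Ideal.pow_le_pow_right (le_max_left _ _) hy)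
    obtain ⟨b, hb⟩ := h₂ y (Ideal.pow_le_pow_right (le_max_right _ _) hy)
    exact ⟨a + b, by rw [map_add, mul_add, ha, hb]⟩
  algebraMap_mem' a := ⟨0, fun y _ => ⟨y * a, (map_mul _ _ _).symm⟩⟩

variable [IsNoetherianRing A] (B : Fin r → Type u) [∀ i, CommRing (B i)] [∀ i, Algebra A (B i)]
  [∀ i, Algebra (Localization.AtPrime (m i)) (B i)] [∀ i, IsScalarTower A (Localization.AtPrime (m i)) (B i)]

theorem isUnit_of_notMem {i : Fin r} {s : A} (hs : s ∉ m i) : IsUnit (algebraMap A (B i) s) := by
  rw [IsScalarTower.algebraMap_apply A (Localization.AtPrime (m i)) (B i)]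
  exact (IsLocalization.map_units (Localization.AtPrime (m i)) (⟨s, hs⟩ : (m i).primeCompl)).map _

theorem exists_glue (hinj : Function.Injective m)
    (hker : ∀ i, ∃ n : ℕ, ∀ x ∈ RingHom.ker (algebraMap (Localization.AtPrime (m i)) (B i)),
      ∀ y ∈ Ideal.map (algebraMap A (Localization.AtPrime (m i))) (m i) ^ n, y * x = 0)
    (hcoker : ∀ i, ∃ n : ℕ, ∀ y ∈ Ideal.map (algebraMap A (Localization.AtPrime (m i))) (m i) ^ n,
      ∀ b : B i, y • b ∈ (algebraMap (Localization.AtPrime (m i)) (B i)).range) :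
    ∃ (C : Type u) (_ : CommRing C) (_ : Algebra A C),
      (∀ i, Nonempty ((Localization.AtPrime (m i)) ⊗[A] C ≃ₐ[Localization.AtPrime (m i)] B i)) ∧
      (∃ n : ℕ, (∀ x ∈ RingHom.ker (algebraMap A C), ∀ y ∈ (⨅ i, m i) ^ n, y * x = 0) ∧
        (∀ y ∈ (⨅ i, m i) ^ n, ∀ c : C, y • c ∈ (algebraMap A C).range)) ∧
      ((∀ i, (algebraMap (Localization.AtPrime (m i)) (B i)).Finite) → (algebraMap A C).Finite) ∧
      ((∀ i, Function.Injective (algebraMap (Localization.AtPrime (m i)) (B i))) →
        Function.Injective (algebraMap A C)) ∧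
      ((∀ i, Function.Surjective (algebraMap (Localization.AtPrime (m i)) (B i))) →
        Function.Surjective (algebraMap A C)) := by
  classical
  choose u hu hu' using exists_sep m hinj
  choose n₁ hn₁ using hker
  choose n₂ hn₂ using hcoker
  let J : Ideal A := ⨅ i, m i
  let n := (Finset.univ.sup fun i => max (n₁ i) (n₂ i)) + 1
  have hJn : ∀ i, ∀ y ∈ J ^ n, algebraMap A (Localization.AtPrime (m i)) y ∈
      Ideal.map (algebraMap A (Localization.AtPrime (m i))) (m i) ^ n₁ i ∧
      algebraMap A (Localization.AtPrime (m i)) y ∈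
      Ideal.map (algebraMap A (Localization.AtPrime (m i))) (m i) ^ n₂ i := fun i y hy => by
    have h := Finset.le_sup (f := fun i => max (n₁ i) (n₂ i)) (Finset.mem_univ i)
    have h' : y ∈ m i ^ n := Ideal.pow_right_mono (iInf_le m i) n hy
    rw [← Ideal.map_pow, ← Ideal.map_pow]
    exact ⟨Ideal.mem_map_of_mem _ (Ideal.pow_le_pow_right (by omega) h'),
      Ideal.mem_map_of_mem _ (Ideal.pow_le_pow_right (by omega) h')⟩
  obtain ⟨K, g, hg⟩ := Submodule.fg_iff_exists_fin_generating_family.1 (IsNoetherian.noetherian (J ^ n))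
  have hg' : Ideal.span (Set.range g) = J ^ n := hg
  have hgn : ∀ q, g q ∈ J ^ n := fun q => by rw [← hg']; exact Ideal.subset_span ⟨q, rfl⟩
  -- kernels are killed by `J ^ n` up to elements off `m i`
  have hL1 : ∀ i a, algebraMap A (B i) a = 0 → ∃ s, s ∉ m i ∧ ∀ y ∈ J ^ n, s * (y * a) = 0 := by
    intro i a ha
    have : ∀ q, ∃ s : (m i).primeCompl, (s : A) * (g q * a) = 0 := fun q => by
      apply (IsLocalization.map_eq_zero_iff (m i).primeCompl (Localization.AtPrime (m i)) _).1
      rw [map_mul]
      exact hn₁ i _ (by rwa [RingHom.mem_ker, ← IsScalarTower.algebraMap_apply]) _ (hJn i _ (hgn q)).1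
    choose s hs using this
    refine ⟨((∏ q, s q : (m i).primeCompl) : A), (∏ q, s q).2, fun y hy => ?_⟩
    rw [← hg'] at hy
    induction hy using Submodule.span_induction with
    | mem x hx =>
      obtain ⟨q, rfl⟩ := hx
      rw [← Finset.mul_prod_erase _ _ (Finset.mem_univ q), Submonoid.coe_mul, mul_right_comm, hs q, zero_mul]
    | zero => simp
    | add x z _ _ hx hz => rw [add_mul, mul_add, hx, hz, add_zero]
    | smul c x _ hx => rw [smul_eq_mul, mul_assoc, mul_left_comm, hx, mul_zero]
  let P := (∀ i, B i) × (∀ q : Fin K, Localization.Away (g q))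
  let C : Subalgebra A P := sat J
  have hP : ∀ (a : A) i, (algebraMap A P a).1 i = algebraMap A (B i) a := fun _ _ => rfl
  have hQ : ∀ (a : A) q, (algebraMap A P a).2 q = algebraMap A (Localization.Away (g q)) a := fun _ _ => rfl
  have hPm : ∀ (x y : P) i, (x * y).1 i = x.1 i * y.1 i := fun _ _ _ => rfl
  have hPs : ∀ (x y : P) i, (x - y).1 i = x.1 i - y.1 i := fun _ _ _ => rfl
  have hQm : ∀ (x y : P) q, (x * y).2 q = x.2 q * y.2 q := fun _ _ _ => rfl
  have hP0 : ∀ i, (0 : P).1 i = 0 := fun _ => rfl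
  have hQ0 : ∀ q, (0 : P).2 q = 0 := fun _ => rfl
  -- elements of `C` dying at `m i` are killed off `m i`
  have hK : ∀ i, ∀ c ∈ C, c.1 i = 0 → ∃ t, t ∉ m i ∧ algebraMap A P t * c = 0 := by
    rintro i c ⟨N, hN⟩ hci
    obtain ⟨L, h, hh⟩ := Submodule.fg_iff_exists_fin_generating_family.1 (IsNoetherian.noetherian (J ^ N))
    choose a ha using fun l => hN (h l) (by rw [← hh]; exact Submodule.subset_span ⟨l, rfl⟩)
    have ha0 : ∀ l, algebraMap A (B i) (a l) = 0 := fun l => by
      rw [← hP, ← ha l, hPm, hci, mul_zero]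
    choose s hs hs' using fun l => hL1 i (a l) (ha0 l)
    let M := n + N
    have hM : ∀ w ∈ J ^ M, algebraMap A P (w * ∏ l, s l) * c = 0 := fun w hw => by
      rw [show J ^ M = J ^ n * J ^ N from pow_add _ _ _] at hw
      refine Submodule.mul_induction_on hw (fun y hy z hz => ?_) fun x z hx hz => ?_
      · rw [← hh] at hz
        induction hz using Submodule.span_induction with
        | mem x hx =>
          obtain ⟨l, rfl⟩ := hx
          rw [← Finset.mul_prod_erase _ _ (Finset.mem_univ l),
            show y * h l * (s l * ∏ l' ∈ Finset.univ.erase l, s l') = (∏ l' ∈ Finset.univ.erase l, s l') * (s l * y) * h l by ring,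
            map_mul, mul_assoc, ha l, ← map_mul, mul_assoc, mul_assoc, hs' l y hy, mul_zero, map_zero]
        | zero => simp
        | add x z _ _ hx hz => rw [mul_add, add_mul, map_add, add_mul, hx, hz, add_zero]
        | smul e x _ hx => rw [smul_eq_mul, show y * (e * x) * ∏ l, s l = e * (y * x * ∏ l, s l) by ring,
            map_mul, mul_assoc, hx, mul_zero]
      · rw [add_mul, map_add, add_mul, hx, hz, add_zero]
    refine ⟨(∏ l, s l) * u i ^ M, fun h' => ?_, ?_⟩
    · rcases (inferInstance : (m i).IsPrime).mem_or_mem h' with h' | h'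
      · obtain ⟨l, -, hl⟩ := Ideal.IsPrime.prod_mem_iff.1 h'
        exact hs l hl
      · exact hu i ((inferInstance : (m i).IsPrime).mem_of_pow_mem _ h')
    · refine Prod.ext (funext fun j => ?_) (funext fun q => ?_)
      · rw [hPm, hP]
        rcases eq_or_ne j i with rfl | hj
        · rw [hci, mul_zero]; rfl
        · have h1 := hM _ (pow_sep_mem m (hu' j) M (Ideal.pow_mem_pow (hu' i j hj) M))
          rw [show u j ^ M * u i ^ M * ∏ l, s l = u j ^ M * ((∏ l, s l) * u i ^ M) by ring, map_mul, mul_assoc] at h1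
          have := congrArg (fun p : P => p.1 j) h1
          simp only [hPm, hP, hP0] at this
          rw [((isUnit_of_notMem m B fun h => hu j ((inferInstance : (m j).IsPrime).mem_of_pow_mem _ h))).mul_right_eq_zero] at this
          exact this
      · have hgJ : g q ∈ J := Ideal.pow_le_self (by omega) (hgn q)
        have h1 := hM _ (Ideal.pow_mem_pow hgJ M)
        rw [map_mul _ (g q ^ M), mul_assoc] at h1
        have := congrArg (fun p : P => p.2 q) h1
        simp only [hQm, hQ, hQ0] at this
        rw [map_pow, (((IsLocalization.Away.algebraMap_isUnit (g q)).pow M)).mul_right_eq_zero] at this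
        rw [hQm, hQ, map_mul, mul_right_comm, this, zero_mul]; rfl
  -- `C` surjects onto `B i` after localization
  have hsurj : ∀ i (b : B i), ∃ c ∈ C, ∃ σ, σ ∉ m i ∧ c.1 i = algebraMap A (B i) σ * b := by
    intro i b
    have hx : ∀ q, ∃ x, algebraMap (Localization.AtPrime (m i)) (B i) x = algebraMap A (B i) (g q) * b := fun q => by
      obtain ⟨x, hx⟩ := hn₂ i _ (hJn i _ (hgn q)).2 b
      exact ⟨x, by rw [hx, Algebra.smul_def, ← IsScalarTower.algebraMap_apply]⟩
    choose x hx using hx
    obtain ⟨s, hs⟩ := IsLocalization.exist_integer_multiples_of_finite (m i).primeCompl x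
    choose a ha using hs
    have ha' : ∀ q, algebraMap A (B i) (a q) = algebraMap A (B i) (s * g q) * b := fun q => by
      rw [IsScalarTower.algebraMap_apply A (Localization.AtPrime (m i)) (B i) (a q), ha q, Algebra.smul_def,
        map_mul, hx q, ← IsScalarTower.algebraMap_apply, map_mul, mul_assoc]
    have htor : ∀ k l, algebraMap A (B i) (g k * a l - g l * a k) = 0 := fun k l => by
      simp only [map_sub, map_mul, ha']; ring
    choose σ hσ hσ' using fun kl : Fin K × Fin K => hL1 i _ (htor kl.1 kl.2)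
    let σ₀ := ∏ kl, σ kl
    let a' := fun q => σ₀ * a q
    have htor' : ∀ k l, ∀ y ∈ J ^ n, y * (g k * a' l) = y * (g l * a' k) := fun k l y hy => by
      have := hσ' (k, l) y hy
      have h2 : σ₀ * (y * (g k * a l - g l * a k)) = 0 := by
        obtain ⟨d, hd⟩ := Finset.dvd_prod_of_mem σ (Finset.mem_univ (k, l))
        rw [show σ₀ = σ (k, l) * d from hd, mul_right_comm, this, zero_mul]
      linear_combination h2
    let t := u i ^ n
    have hw : ∀ j, j ≠ i → ∃ c : Fin K → A, ∑ l, c l * g l = u j ^ n * t := fun j hj =>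
      Ideal.mem_span_range_iff_exists_fun.1 (by rw [hg']; exact pow_sep_mem m (hu' j) n (Ideal.pow_mem_pow (hu' i j hj) n))
    choose c hc using hw
    have huj : ∀ j, IsUnit (algebraMap A (B j) (u j ^ n)) := fun j =>
      isUnit_of_notMem m B fun h => hu j ((inferInstance : (m j).IsPrime).mem_of_pow_mem _ h)
    let p : P := (Function.update (fun j => if h : j = i then (0 : B j) else ↑(huj j).unit⁻¹ * algebraMap A (B j) (∑ l, c j h l * a' l)) i
        (algebraMap A (B i) (t * σ₀ * s) * b),
      fun q => algebraMap A _ (t * a' q) * IsLocalization.Away.invSelf (g q))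
    have hpi : p.1 i = algebraMap A (B i) (t * σ₀ * s) * b := by
      simp only [p]
      rw [Function.update_self]
    have hpj : ∀ j (hj : j ≠ i), p.1 j = ↑(huj j).unit⁻¹ * algebraMap A (B j) (∑ l, c j hj l * a' l) := fun j hj => by
      simp only [p]
      rw [Function.update_of_ne hj, dif_neg hj]
    have key : ∀ q k, algebraMap A P (g q * g k) * p = algebraMap A P (g q * (t * a' k)) := by
      intro q k
      refine Prod.ext (funext fun j => ?_) (funext fun l => ?_)
      · rw [hPm, hP, hP]
        rcases eq_or_ne j i with rfl | hj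
        · rw [hpi]
          simp only [a', map_mul, ha']
          ring
        · rw [hpj j hj, mul_left_comm, Units.inv_mul_eq_iff_eq_mul,
            IsUnit.unit_spec, ← map_mul, ← map_mul]
          congr 1
          rw [show u j ^ n * (g q * (t * a' k)) = g q * ((u j ^ n * t) * a' k) by ring, ← hc j hj, Finset.sum_mul,
            Finset.mul_sum, Finset.mul_sum]
          refine Finset.sum_congr rfl fun l _ => ?_
          linear_combination c j hj l * htor' k l (g q) (hgn q)
      · rw [hQm, hQ, hQ]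
        refine (IsLocalization.Away.algebraMap_isUnit (g l)).mul_left_injective ?_
        show _ * (_ * _) * _ = _
        rw [mul_assoc, mul_assoc, mul_comm (IsLocalization.Away.invSelf (g l)), IsLocalization.Away.mul_invSelf,
          mul_one]
        show _ = _ * _
        rw [← map_mul, ← map_mul]
        congr 1
        linear_combination t * htor' k l (g q) (hgn q)
    refine ⟨p, ⟨n + n, fun y hy => ?_⟩, t * σ₀ * s, fun h => ?_, hpi⟩
    · rw [pow_add, ← hg', Ideal.span_mul_span'] at hy
      induction hy using Submodule.span_induction with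
      | mem x hx =>
        obtain ⟨_, ⟨q, rfl⟩, _, ⟨k, rfl⟩, rfl⟩ := hx
        exact ⟨_, key q k⟩
      | zero => exact ⟨0, by simp⟩
      | add x z _ _ hx hz =>
        obtain ⟨a, ha⟩ := hx
        obtain ⟨b, hb⟩ := hz
        exact ⟨a + b, by rw [map_add, add_mul, ha, hb, map_add]⟩
      | smul e x _ hx =>
        obtain ⟨a, ha⟩ := hx
        exact ⟨e * a, by rw [smul_eq_mul, map_mul, mul_assoc, ha, map_mul]⟩
    · rcases (inferInstance : (m i).IsPrime).mem_or_mem h with h | h
      · rcases (inferInstance : (m i).IsPrime).mem_or_mem h with h | h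
        · exact hu i ((inferInstance : (m i).IsPrime).mem_of_pow_mem _ h)
        · obtain ⟨kl, -, hkl⟩ := Ideal.IsPrime.prod_mem_iff.1 h
          exact hσ kl hkl
      · exact s.2 h
  -- membership in submodules of `C` can be checked at the `m i`
  have hloc : ∀ (S : Submodule A P), (∀ a, algebraMap A P a ∈ S) → ∀ c ∈ C,
      (∀ i, ∃ e ∈ S, e ∈ C ∧ ∃ s, s ∉ m i ∧ algebraMap A (B i) s * c.1 i = e.1 i) → c ∈ S := by
    intro S hS c hc h
    obtain ⟨N, hN⟩ := hc
    have hT := eq_top_of_local m (S.comap (LinearMap.toSpanSingleton A P c)) N (fun y hy => by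
      obtain ⟨a, ha⟩ := hN y hy
      show y • c ∈ S
      rw [Algebra.smul_def, ha]; exact hS a) fun i => by
        obtain ⟨e, he, heC, s, hs, hse⟩ := h i
        obtain ⟨t, ht, hte⟩ := hK i (s • c - e) (C.sub_mem (C.smul_mem ⟨N, hN⟩ s) heC) (by
          simp [Algebra.smul_def, hPs, hPm, hP, hse])
        refine ⟨t * s, ((m i).primeCompl).mul_mem ht hs, ?_⟩
        show (t * s) • c ∈ S
        rw [← Algebra.smul_def, smul_sub, sub_eq_zero] at hte
        rw [mul_smul, hte]
        exact S.smul_mem t he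
    simpa using (show (1 : A) ∈ S.comap (LinearMap.toSpanSingleton A P c) by rw [hT]; trivial)
  -- vanishing in `A` is local
  have hzero : ∀ z : A, algebraMap A P z = 0 → (∀ i, ∃ t, t ∉ m i ∧ t * z = 0) → z = 0 := by
    intro z hz hzi
    let T : Ideal A := LinearMap.ker (LinearMap.toSpanSingleton A A z)
    have hTmem : ∀ t, t ∈ T ↔ t * z = 0 := fun t => Iff.rfl
    suffices T = ⊤ by simpa using (hTmem 1).1 (this ▸ Submodule.mem_top)
    have hrad : J ^ n ≤ T.radical := by
      rw [← hg', Ideal.span_le]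
      rintro _ ⟨q, rfl⟩
      have := congrArg (fun p : P => p.2 q) hz
      simp only [hQ, hQ0] at this
      obtain ⟨⟨_, k, rfl⟩, hk⟩ := (IsLocalization.map_eq_zero_iff (Submonoid.powers (g q)) _ _).1 this
      exact ⟨k, (hTmem _).2 hk⟩
    exact Ideal.radical_eq_top.1 (eq_top_of_local m T.radical n hrad fun i => by
      obtain ⟨t, ht, htz⟩ := hzi i
      exact ⟨t, ht, Ideal.le_radical ((hTmem t).2 htz)⟩)
  let R₀ : Submodule A P := (Algebra.linearMap A P).range
  refine ⟨C, inferInstance, inferInstance, fun i => ?_, ⟨n, ?_, ?_⟩, ?_, ?_, ?_⟩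
  · let Am := Localization.AtPrime (m i)
    let π : C →ₐ[A] B i := ((Pi.evalAlgHom A B i).comp (AlgHom.fst A _ _)).comp C.val
    have : IsLocalizedModule (m i).primeCompl π.toLinearMap := by
      constructor
      · intro s
        rw [Module.End.isUnit_iff]
        have hu := isUnit_of_notMem m B s.2
        constructor
        · intro x y hxy
          simp only [Module.algebraMap_end_apply, Algebra.smul_def] at hxy
          exact hu.mul_right_injective hxy
        · intro y
          exact ⟨↑hu.unit⁻¹ * y, by simp [Module.algebraMap_end_apply, Algebra.smul_def, ← mul_assoc]⟩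
      · intro b
        obtain ⟨c, hc, σ, hσ, hσb⟩ := hsurj i b
        exact ⟨⟨⟨c, hc⟩, ⟨σ, hσ⟩⟩, by simp [π, Submonoid.smul_def, Algebra.smul_def, hσb]⟩
      · intro x y hxy
        obtain ⟨t, ht, h⟩ := hK i (x.1 - y.1) (C.sub_mem x.2 y.2) (by
          exact sub_eq_zero.2 hxy)
        refine ⟨⟨t, ht⟩, Subtype.ext ?_⟩
        rw [mul_sub, sub_eq_zero] at h
        simpa [Submonoid.smul_def, Algebra.smul_def] using h
    have hb := IsLocalizedModule.isBaseChange (m i).primeCompl Am π.toLinearMap
    let Ψ : Am ⊗[A] C →ₐ[Am] B i :=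
      Algebra.TensorProduct.lift (Algebra.ofId Am (B i)) π (fun _ _ => Commute.all _ _)
    refine ⟨AlgEquiv.ofBijective Ψ ?_⟩
    have : ∀ z, Ψ z = hb.equiv z := fun z => by
      induction z using TensorProduct.induction_on with
      | zero => simp
      | tmul x y => simp [Ψ, IsBaseChange.equiv_tmul, Algebra.smul_def]
      | add x y hx hy => simp [map_add, hx, hy]
    rw [show ⇑Ψ = ⇑hb.equiv from funext this]
    exact hb.equiv.bijective
  · intro x hx y hy
    have hx' : algebraMap A P x = 0 := congrArg Subtype.val (RingHom.mem_ker.1 hx)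
    refine hzero _ (by rw [map_mul, hx', mul_zero]) fun i => ?_
    obtain ⟨s, hs, hs'⟩ := hL1 i x (by rw [← hP, hx']; rfl)
    exact ⟨s, hs, hs' y hy⟩
  · intro y hy c
    obtain ⟨a, ha⟩ : y • (c : P) ∈ R₀ := hloc R₀ (fun a => ⟨a, rfl⟩) _ (C.smul_mem c.2 y) fun i => by
      obtain ⟨x, hx⟩ := hn₂ i _ (hJn i y hy).2 (c.1.1 i)
      obtain ⟨⟨a, s⟩, has⟩ := IsLocalization.surj (m i).primeCompl x
      refine ⟨algebraMap A P a, ⟨a, rfl⟩, C.algebraMap_mem a, s.1, s.2, ?_⟩
      rw [hP, IsScalarTower.algebraMap_apply A (Localization.AtPrime (m i)) (B i) a, ← has, map_mul, hx,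
        ← IsScalarTower.algebraMap_apply]
      simp [Algebra.smul_def, hPm, hP, mul_comm, ← IsScalarTower.algebraMap_apply, mul_left_comm]
    exact ⟨a, Subtype.ext ha⟩
  · intro hfin
    have hf : ∀ i, Module.Finite (Localization.AtPrime (m i)) (B i) := fun i => RingHom.finite_algebraMap.1 (hfin i)
    choose L e he using fun i => Module.Finite.exists_fin (R := Localization.AtPrime (m i)) (M := B i)
    choose G hG σ hσ hGσ using fun i (l : Fin (L i)) => hsurj i (e i l)
    let gen : Option (Σ i, Fin (L i)) → P := fun o => o.elim 1 fun x => G x.1 x.2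
    let S : Submodule A P := Submodule.span A (Set.range gen)
    have hSC : S ≤ Subalgebra.toSubmodule C := Submodule.span_le.2 (by
      rintro _ ⟨_ | x, rfl⟩
      · exact C.one_mem
      · exact hG _ _)
    have hCS : S = Subalgebra.toSubmodule C := le_antisymm hSC fun c hc => hloc S (fun a => by
      rw [Algebra.algebraMap_eq_smul_one]
      exact S.smul_mem a (Submodule.subset_span ⟨none, rfl⟩)) c hc fun i => by
        obtain ⟨x, hx⟩ := (Submodule.mem_span_range_iff_exists_fun _).1 (show c.1 i ∈ Submodule.span _ (Set.range (e i)) by rw [he i]; trivial)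
        let τ : Fin (L i) → Localization.AtPrime (m i) := fun l => x l * ↑(IsLocalization.map_units (Localization.AtPrime (m i)) (⟨σ i l, hσ i l⟩ : (m i).primeCompl)).unit⁻¹
        obtain ⟨s, hs⟩ := IsLocalization.exist_integer_multiples_of_finite (m i).primeCompl τ
        choose a ha using hs
        refine ⟨∑ l, a l • G i l, S.sum_mem fun l _ => S.smul_mem _ (Submodule.subset_span ⟨some ⟨i, l⟩, rfl⟩),
          C.sum_mem fun l _ => C.smul_mem (hG i l) _, s.1, s.2, ?_⟩
        rw [← hx, Finset.mul_sum, Prod.fst_sum, Finset.sum_apply]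
        refine Finset.sum_congr rfl fun l _ => ?_
        have := congrArg (algebraMap (Localization.AtPrime (m i)) (B i)) (congrArg (· * algebraMap A (Localization.AtPrime (m i)) (σ i l)) (ha l))
        simp only [Algebra.smul_def, map_mul, ← IsScalarTower.algebraMap_apply, τ, mul_assoc, IsUnit.val_inv_mul, mul_one] at this
        simp only [Prod.smul_fst, Pi.smul_apply, Algebra.smul_def, hGσ, hPm, hP]
        rw [← mul_assoc (algebraMap A (B i) (a l)), this, mul_assoc]
    have : (Subalgebra.toSubmodule C).FG := hCS ▸ Submodule.fg_span (Set.finite_range gen)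
    rw [RingHom.finite_algebraMap]
    exact Module.Finite.iff_fg.2 this
  · intro hinjB
    rw [injective_iff_map_eq_zero]
    intro a ha
    have ha' : algebraMap A P a = 0 := congrArg Subtype.val ha
    refine hzero _ ha' fun i => ?_
    have h0 : algebraMap A (Localization.AtPrime (m i)) a = 0 := hinjB i (by
      rw [map_zero, ← IsScalarTower.algebraMap_apply, ← hP, ha']; rfl)
    obtain ⟨s, hs⟩ := (IsLocalization.map_eq_zero_iff (m i).primeCompl _ _).1 h0
    exact ⟨s.1, s.2, hs⟩
  · intro hsB c
    obtain ⟨a, ha⟩ : (c : P) ∈ R₀ := hloc R₀ (fun a => ⟨a, rfl⟩) _ c.2 fun i => by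
      obtain ⟨x, hx⟩ := hsB i (c.1.1 i)
      obtain ⟨⟨a, s⟩, has⟩ := IsLocalization.surj (m i).primeCompl x
      refine ⟨algebraMap A P a, ⟨a, rfl⟩, C.algebraMap_mem a, s.1, s.2, ?_⟩
      rw [hP, IsScalarTower.algebraMap_apply A (Localization.AtPrime (m i)) (B i) a, ← has, map_mul, hx,
        ← IsScalarTower.algebraMap_apply, mul_comm]
    exact ⟨a, Subtype.ext ha⟩

end Groth.Agent.GlueMax3
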