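import Groth.Agent.Lib.SectionCompDim4
import Groth.Agent.Lib.FibGenApp4
import Groth.Agent.Lib.WeilExt.Apply
import Groth.Agent.Lib.Unibr4.GoDown
import Mathlib.AlgebraicGeometry.PullbackCarrier

/-!
# A universally open closed subscheme of full relative dimension in a smooth scheme (EGA IV 15.2)
-/

universe u

open CategoryTheory Limits AlgebraicGeometry Topology IsLocalRing Groth.Agent.FibDim14

set_option backward.isDefEq.respectTransparency.types false

namespace Groth.Agent.OpenEt4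

/-- Universal openness at a point only depends on neighbourhoods of the point and its image. -/
theorem isUnivOpenAt_restrict {X Y Z V : Scheme.{u}} (f : X ⟶ Y) (h : Z ⟶ V) (j : Z ⟶ X) (k : V ⟶ Y)
    [IsOpenImmersion j] [Mono k] (w : h ≫ k = j ≫ f) (z : Z) (hf : EGA43.IsUnivOpenAt f (j z)) :
    EGA43.IsUnivOpenAt h z := by
  have h1 : EGA43.IsUnivOpenAt (h ≫ k) z := w ▸
    EGA43Top.isUnivOpenAt_comp (Unibr4.isUnivOpenAt_of_universallyOpen j z) hf
  have sq : IsPullback (𝟙 Z) h (h ≫ k) k := IsPullback.of_horiz_isIso_mono ⟨by simp⟩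
  exact EGA43Top.isUnivOpenAt_baseChange sq h1

/-- The generizations of a point of a universally open closed subscheme of full relative dimension
of a smooth scheme lie in the subscheme. -/
theorem mem_range_of_specializes {Z W Y : Scheme.{u}} [IsLocallyNoetherian Y] (i : Z ⟶ W) [IsClosedImmersion i]
    (π : W ⟶ Y) [Smooth π] (n : ℕ) (hn : ∀ w, FlatMor.fibreDimAt π w ≤ (n : WithBot ℕ∞)) (ξ : Z)
    (hmax : IsMaxFib (i ≫ π) ξ) (hξ : n ≤ rd (i ≫ π) ξ) (hopen : EGA43.IsUnivOpenAt (i ≫ π) ξ)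
    {c : W} (hc : c ⤳ i ξ) : c ∈ Set.range i := by
  by_cases hne : i ξ = c
  · exact ⟨ξ, hne⟩
  haveI : IsLocallyNoetherian W := LocallyOfFiniteType.isLocallyNoetherian π
  obtain ⟨A, mW, hA, hmo, hm⟩ := SectionComp4.exists_dvr_to hc hne
  have hmγ := SectionComp4.gen_apply A mW hm
  let o : Spec (CommRingCat.of A) := closedPoint A
  let γ : Spec (CommRingCat.of A) := ⟨⊥, Ideal.isPrime_bot⟩
  let m := mW ≫ π
  let p : pullback π m ⟶ W := pullback.fst π m
  let π' : pullback π m ⟶ Spec (CommRingCat.of A) := pullback.snd π m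
  let σ : Spec (CommRingCat.of A) ⟶ pullback π m := pullback.lift mW (𝟙 _) (by simp [m])
  have hσ1 : ∀ a, p (σ a) = mW a := fun a => by rw [← Scheme.Hom.comp_apply, pullback.lift_fst]
  have hσ2 : ∀ a, π' (σ a) = a := fun a => by rw [← Scheme.Hom.comp_apply, pullback.lift_snd]; rfl
  let iV : pullback (i ≫ π) m ⟶ pullback π m :=
    pullback.map (i ≫ π) m π m i (𝟙 _) (𝟙 _) (by simp) (by simp)
  have hiV1 : iV ≫ p = pullback.fst (i ≫ π) m ≫ i := pullback.lift_fst _ _ _
  have hiV2 : iV ≫ π' = pullback.snd (i ≫ π) m := (pullback.lift_snd _ _ _).trans (Category.comp_id _)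
  let q : pullback (i ≫ π) m ⟶ Z := pullback.fst (i ≫ π) m
  let f' : pullback (i ≫ π) m ⟶ Spec (CommRingCat.of A) := pullback.snd (i ≫ π) m
  have sq : IsPullback q iV i p := by
    refine IsPullback.of_bot ?_ hiV1.symm (IsPullback.of_hasPullback π m)
    rw [hiV2]
    exact IsPullback.of_hasPullback (i ≫ π) m
  haveI : IsClosedImmersion iV := MorphismProperty.of_isPullback sq inferInstance
  have hiV : ∀ a, π' (iV a) = f' a := fun a => by
    rw [← Scheme.Hom.comp_apply, hiV2]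
  -- the point of the subscheme under the section
  obtain ⟨w₁, hw₁Z, hw₁⟩ := Scheme.Pullback.exists_preimage_pullback (f := i) (g := p) ξ (σ o) (by rw [hσ1, hmo])
  obtain ⟨w₀, hw₀Z, hw₀⟩ : ∃ w₀, q w₀ = ξ ∧ iV w₀ = σ o :=
    ⟨sq.isoPullback.inv w₁, by rw [← Scheme.Hom.comp_apply, sq.isoPullback_inv_fst, hw₁Z],
      by rw [← Scheme.Hom.comp_apply, sq.isoPullback_inv_snd, hw₁]⟩
  obtain ⟨τ, hτ, hfτ, hτmax, -⟩ := FibGen4.exists_isMaxFib f' w₀
  have hfw₀ : f' w₀ = o := by rw [← hiV, hw₀, hσ2]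
  have hfib : (i ≫ π) (q τ) = (i ≫ π) ξ := by
    rw [← hw₀Z, ← Scheme.Hom.comp_apply, ← Scheme.Hom.comp_apply,
      show q ≫ i ≫ π = f' ≫ m from pullback.condition, Scheme.Hom.comp_apply, Scheme.Hom.comp_apply, hfτ]
    rfl
  have hqτ : q τ = ξ := hmax _ (hw₀Z ▸ hτ.map q.continuous) hfib
  have hrdτ : n ≤ rd f' τ := by
    have h1 := fibreDimAt_baseChange (IsPullback.of_hasPullback (i ≫ π) m) τ
    rw [FibGen4.fibreDimAt_eq_rd_of_isMaxFib f' hτmax, show (pullback.fst (i ≫ π) m) τ = ξ from hqτ,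
      FibGen4.fibreDimAt_eq_rd_of_isMaxFib _ hmax] at h1
    have h2 : rd f' τ = rd (i ≫ π) ξ := by exact_mod_cast h1
    omega
  obtain ⟨t, ht, hft⟩ := EGA43Top.liftsAt_of_isOpenAt (hopen _ m τ hqτ) γ
    ((hfτ.trans hfw₀).symm ▸ (PrimeSpectrum.le_iff_specializes γ o).1 bot_le)
  have hrdt : n ≤ rd f' t := by
    have h1 := (FibGen4.fibreDimAt_eq_of_valuationRing f' hτmax ht (congrArg PrimeSpectrum.asIdeal hft)).1
    rw [FibGen4.fibreDimAt_eq_rd_of_isMaxFib f' hτmax] at h1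
    have h2 : rd f' τ = rd f' t := by exact_mod_cast h1
    omega
  -- the local ring of the smooth scheme at the section is a domain
  have htσ : iV t ⤳ σ o := hw₀ ▸ ((ht.trans hτ).map iV.continuous)
  haveI : IsDomain ((pullback π m).presheaf.stalk (σ o)) := WeilExt.isDomain_stalk_of_smooth π' (σ o)
  let G := (pullback π m).fromSpecStalk (σ o)
    ((⟨⊥, Ideal.isPrime_bot⟩ : PrimeSpectrum ((pullback π m).presheaf.stalk (σ o))) : Spec _)
  have hG : ∀ a, a ⤳ σ o → G ⤳ a := fun a ha => by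
    obtain ⟨r, rfl⟩ := (Scheme.range_fromSpecStalk (x := σ o)).ge ha
    exact Specializes.map ((PrimeSpectrum.le_iff_specializes _ (r : PrimeSpectrum _)).1 bot_le)
      ((pullback π m).fromSpecStalk (σ o)).continuous
  have hGt : G ⤳ iV t := hG _ htσ
  have hπt : π' (iV t) = γ := (hiV t).trans hft
  have hπG : π' G = γ := by
    have h1 : π' G ⤳ γ := hπt ▸ hGt.map π'.continuous
    refine PrimeSpectrum.ext (le_bot_iff.1 ((PrimeSpectrum.le_iff_specializes (π' G : PrimeSpectrum A) γ).2 h1))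
  have hGeq : G = iV t := by
    by_contra hne'
    have h1 := rd_lt_of_specializes (f := π') hGt hne' (hπG.trans hπt.symm)
    have h2 : rd π' (iV t) = rd f' t := by
      rw [← FibSub4.rd_preimmersion iV π' t]
      simp only [hiV2]
      rfl
    have h3 : (rd π' G : WithBot ℕ∞) ≤ (n : WithBot ℕ∞) :=
      (rd_le_fibreDimAt π' specializes_rfl rfl).trans
        (fibreDimAt_baseChange (IsPullback.of_hasPullback π m) G ▸ hn _)
    have h4 : rd π' G ≤ n := by exact_mod_cast h3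
    omega
  have hσγ : σ γ ∈ Set.range iV := by
    have h1 : G ⤳ σ γ := hG _ (((PrimeSpectrum.le_iff_specializes γ o).1 bot_le).map σ.continuous)
    exact h1.mem_closed iV.isClosedEmbedding.isClosed_range (hGeq ▸ ⟨t, rfl⟩)
  obtain ⟨a, ha⟩ := hσγ
  refine ⟨q a, ?_⟩
  rw [← Scheme.Hom.comp_apply, sq.w, Scheme.Hom.comp_apply, ha, hσ1, hmγ]

end Groth.Agent.OpenEt4
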