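import Groth.Agent.Lib.SectionCompIrr4
import Groth.Agent.Lib.SectionCompFlat4

/-!
# Noetherian models of components of constant dimension
-/

universe u

open CategoryTheory CategoryTheory.Limits AlgebraicGeometry Topology TopologicalSpace
open Groth.Agent.FibDim14

set_option backward.isDefEq.respectTransparency.types false
set_option linter.style.haveILetI false

namespace Groth.Agent.SectionCompModel4

open SectionCompGI4 (GI)
open SectionCompIrr4 (comp)

variable {X Y : Scheme.{u}}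

theorem dim_eq (f : X ⟶ Y) [LocallyOfFiniteType f] (g : Y ⟶ X) (hg : g ≫ f = 𝟙 Y) {y : Y} (h : GI f g y) :
    topologicalKrullDim ↥(comp f g y) = FlatMor.fibreDimAt f (g y) := by
  obtain ⟨ξ, -, -, -, -, -, hdim, hloc⟩ :=
    SectionComp4.exists_gen_comp f g hg (SectionComp4.isIrreducible_of_geom g hg h)
  exact hdim.trans hloc.symm

/-- Near a point of locally constant dimension the situation comes from a Noetherian one of constant dimension. -/
theorem exists_model (f : X ⟶ Y) [LocallyOfFinitePresentation f] [QuasiCompact f] [QuasiSeparated f] (g : Y ⟶ X)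
    (hg : g ≫ f = 𝟙 Y) (hgi : ∀ y, GI f g y) {y₀ : Y}
    (hc : ∃ V ∈ nhds y₀, ∀ z ∈ V, topologicalKrullDim ↥(comp f g z) = topologicalKrullDim ↥(comp f g y₀)) :
    ∃ (O : Y.Opens), y₀ ∈ O ∧ (∀ z ∈ O, topologicalKrullDim ↥(comp f g z) = topologicalKrullDim ↥(comp f g y₀)) ∧
    ∃ (A R : CommRingCat.{u}) (_ : IsNoetherianRing R) (σ : Spec A ⟶ Y) (_ : IsOpenImmersion σ)
      (P X₁ : Scheme.{u}) (p : P ⟶ X) (u : P ⟶ Spec A) (t : Spec A ⟶ P) (q : P ⟶ X₁) (u₁ : X₁ ⟶ Spec R)
      (s₁ : Spec R ⟶ X₁) (π : Spec A ⟶ Spec R),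
      Set.range σ = (O : Set Y) ∧ IsPullback p u f σ ∧ t ≫ u = 𝟙 _ ∧ t ≫ p = σ ≫ g ∧ IsPullback q u u₁ π ∧
      s₁ ≫ u₁ = 𝟙 _ ∧ t ≫ q = π ≫ s₁ ∧ LocallyOfFinitePresentation u₁ ∧ QuasiCompact u₁ ∧
      (∀ z, GI u₁ s₁ z) ∧
      (∀ z z', topologicalKrullDim ↥(comp u₁ s₁ z) = topologicalKrullDim ↥(comp u₁ s₁ z')) ∧
      (IsReduced Y → IsReduced (Spec R)) := by
  obtain ⟨V, hV, hVc⟩ := hc
  obtain ⟨O', hOV, hO', hyO⟩ := mem_nhds_iff.1 hV
  obtain ⟨W, hW, hyW, hWle⟩ := exists_isAffineOpen_mem_and_subset (X := Y) (x := y₀) (U := ⟨O', hO'⟩) hyO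
  have hWc : ∀ z ∈ W, topologicalKrullDim ↥(comp f g z) = topologicalKrullDim ↥(comp f g y₀) :=
    fun z hz => hVc z (hOV (hWle hz))
  obtain ⟨ξ, -, -, -, -, -, hdim₀, -⟩ :=
    SectionComp4.exists_gen_comp f g hg (SectionComp4.isIrreducible_of_geom g hg (hgi y₀))
  let n := rd f ξ
  let σ := hW.fromSpec
  let A := Γ(Y, W)
  let u := pullback.snd f σ
  let p := pullback.fst f σ
  let t : Spec A ⟶ pullback f σ :=
    pullback.lift (σ ≫ g) (𝟙 _) (by rw [Category.assoc, hg, Category.comp_id, Category.id_comp])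
  have ht : t ≫ u = 𝟙 _ := pullback.lift_snd _ _ _
  have hsq : IsPullback p u f σ := IsPullback.of_hasPullback f σ
  have hall : ∀ z, GI u t z ∧ FlatMor.fibreDimAt u (t z) = (n : WithBot ℕ∞) := fun z => by
    refine ⟨(SectionCompGI4.gi_baseChange hg hsq ht (pullback.lift_fst _ _ _) z).2 (hgi _), ?_⟩
    rw [FibDim14.fibreDimAt_baseChange hsq (t z), show p (t z) = g (σ z) by
      rw [← Scheme.Hom.comp_apply, pullback.lift_fst, Scheme.Hom.comp_apply], ← dim_eq f g hg (hgi _),
      hWc _ (hW.range_fromSpec.le ⟨z, rfl⟩), hdim₀]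
  -- the limit
  let c := ConsH13.approxCone A
  have hcl : IsLimit c := ConsH13.isLimitApproxCone A
  haveI : CompactSpace ↥(pullback f σ) := QuasiCompact.compactSpace_of_compactSpace u
  haveI : QuasiSeparatedSpace ↥(pullback f σ) := quasiSeparatedSpace_of_quasiSeparated u
  haveI : LocallyOfFinitePresentation (Y := c.pt) u := (inferInstance : LocallyOfFinitePresentation u)
  obtain ⟨i, X₀, u₀, qX, h1, h2, h3, h4⟩ :=
    LimH13.hasModel_of_finitePresentation hcl (X := pullback f σ) (u : pullback f σ ⟶ c.pt)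
  haveI := h1; haveI := h2; haveI := h3
  haveI : IsIso (𝟙 c.pt) := IsIso.id _
  let t' : c.pt ⟶ pullback f σ := t
  let u' : pullback f σ ⟶ c.pt := u
  have ht' : t' ≫ u' = 𝟙 c.pt := ht
  obtain ⟨j, φ, fj, sS, sX, e1, e2, e3, e4, e5, e6⟩ :=
    LimH13.exists_hom_descend hcl i (𝟙 ((ConsH13.approxDiagram A).obj i)) u₀ (c.π.app i) (𝟙 c.pt)
      (IsPullback.of_vert_isIso ⟨by simp⟩) qX u' h4 t' ht'
  let uj := pullback.snd u₀ ((ConsH13.approxDiagram A).map φ)
  let sj : (ConsH13.approxDiagram A).obj j ⟶ pullback u₀ ((ConsH13.approxDiagram A).map φ) :=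
    inv (pullback.snd (𝟙 ((ConsH13.approxDiagram A).obj i)) ((ConsH13.approxDiagram A).map φ)) ≫ fj
  have hsj : sj ≫ uj = 𝟙 _ := by rw [Category.assoc, e1, IsIso.inv_hom_id]
  have sqX : IsPullback sX u uj (c.π.app j) :=
    IsPullback.of_right (by rw [e4]; exact Eq.subst (motive := fun z => IsPullback qX u u₀ z) (c.w φ).symm h4) e5
      (IsPullback.of_hasPullback _ _)
  have hts : t ≫ sX = c.π.app j ≫ sj := by
    have h : sS = c.π.app j ≫ inv (pullback.snd (𝟙 ((ConsH13.approxDiagram A).obj i))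
        ((ConsH13.approxDiagram A).map φ)) := by
      rw [← cancel_mono (pullback.snd (𝟙 ((ConsH13.approxDiagram A).obj i)) ((ConsH13.approxDiagram A).map φ)), e3,
        Category.assoc, IsIso.inv_hom_id, Category.comp_id]
      exact Category.id_comp (c.π.app j)
    show t' ≫ sX = c.π.app j ≫ sj
    rw [← e6, h]
    exact Category.assoc _ _ _
  haveI : IsNoetherianRing ((ConsH13.subFunctor A).obj j.unop) := inferInstance
  haveI : LocallyOfFinitePresentation uj := MorphismProperty.pullback_snd _ _ inferInstance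
  haveI : CompactSpace ↥(pullback u₀ ((ConsH13.approxDiagram A).map φ)) :=
    QuasiCompact.compactSpace_of_compactSpace (pullback.fst u₀ ((ConsH13.approxDiagram A).map φ))
  haveI : QuasiCompact uj := (HasAffineProperty.iff_of_isAffine (P := @QuasiCompact)).2 inferInstance
  haveI hLFT : LocallyOfFiniteType uj := inferInstance
  haveI : LocallyOfFiniteType (Y := Spec ((ConsH13.subFunctor A).obj j.unop)) uj := hLFT
  haveI : QuasiCompact (Y := Spec ((ConsH13.subFunctor A).obj j.unop)) uj := (inferInstance : QuasiCompact uj)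
  let E : Set ↥((ConsH13.approxDiagram A).obj j) := {z | GI uj sj z ∧ FlatMor.fibreDimAt uj (sj z) = (n : WithBot ℕ∞)}
  have hE : IsConstructible E :=
    SectionCompGI4.isConstructible_gi_dim (R := (ConsH13.subFunctor A).obj j.unop) uj sj hsj n
  obtain ⟨k, a, hk⟩ := Descend.exists_preimage_eq_univ_of_isConstructible hcl E hE
    (Set.eq_univ_of_forall fun z => ⟨(SectionCompGI4.gi_baseChange hsj sqX ht hts z).1 (hall z).1, by
      have h9 := congrArg (fun m => m z) hts
      simp only [Scheme.Hom.comp_apply] at h9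
      rw [show sj ((c.π.app j) z) = sX (t z) from h9.symm, ← FibDim14.fibreDimAt_baseChange sqX (t z)]
      exact (hall z).2⟩)
  let R := (ConsH13.subFunctor A).obj k.unop
  let ψ : Spec R ⟶ (ConsH13.approxDiagram A).obj j := (ConsH13.approxDiagram A).map a
  let X₁ := pullback uj ψ
  let u₁ : X₁ ⟶ Spec R := pullback.snd uj ψ
  let s₁ : Spec R ⟶ X₁ :=
    pullback.lift (ψ ≫ sj) (𝟙 _) (by rw [Category.assoc, hsj, Category.comp_id, Category.id_comp])
  have hs₁ : s₁ ≫ u₁ = 𝟙 _ := pullback.lift_snd _ _ _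
  let π : Spec A ⟶ Spec R := c.π.app k
  have hπ : π ≫ ψ = c.π.app j := c.w a
  let q : pullback f σ ⟶ X₁ := pullback.lift sX (u ≫ π) (by rw [Category.assoc, hπ]; exact sqX.w)
  have sq₁ : IsPullback q u u₁ π :=
    IsPullback.of_right (by rw [pullback.lift_fst, hπ]; exact sqX) (pullback.lift_snd _ _ _)
      (IsPullback.of_hasPullback uj ψ)
  have hts₁ : t ≫ q = π ≫ s₁ := by
    apply pullback.hom_ext
    · rw [Category.assoc, Category.assoc, pullback.lift_fst, pullback.lift_fst, hts, ← hπ]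
      exact Category.assoc π ψ sj
    · rw [Category.assoc, Category.assoc, pullback.lift_snd, pullback.lift_snd, ← Category.assoc, ht, Category.id_comp,
        Category.comp_id]
  haveI : LocallyOfFinitePresentation u₁ := MorphismProperty.pullback_snd _ _ inferInstance
  have hR : ∀ z, GI u₁ s₁ z ∧ topologicalKrullDim ↥(comp u₁ s₁ z) = (n : WithBot ℕ∞) := fun z => by
    obtain ⟨g1, g2⟩ : ψ z ∈ E := hk.ge (Set.mem_univ z)
    have hgz := (SectionCompGI4.gi_baseChange hsj (IsPullback.of_hasPullback uj ψ) hs₁ (pullback.lift_fst _ _ _) z).2 g1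
    refine ⟨hgz, ?_⟩
    rw [dim_eq u₁ s₁ hs₁ hgz, FibDim14.fibreDimAt_baseChange (IsPullback.of_hasPullback uj ψ) (s₁ z),
      show pullback.fst uj ψ (s₁ z) = sj (ψ z) by rw [← Scheme.Hom.comp_apply, pullback.lift_fst, Scheme.Hom.comp_apply]]
    exact g2
  refine ⟨W, hyW, hWc, A, R, inferInstance, σ, inferInstance, _, X₁, p, u, t, q, u₁, s₁, π, hW.range_fromSpec, hsq, ht,
    pullback.lift_fst _ _ _, sq₁, hs₁, hts₁, inferInstance, MorphismProperty.pullback_snd _ _ inferInstance,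
    fun z => (hR z).1, fun z z' => (hR z).2.trans (hR z').2.symm, fun hY => ?_⟩
  haveI := hY
  haveI : _root_.IsReduced A := inferInstanceAs (_root_.IsReduced Γ(Y, W))
  haveI : _root_.IsReduced R := isReduced_of_injective (k.unop.1.val.toRingHom) Subtype.val_injective
  infer_instance

end Groth.Agent.SectionCompModel4
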