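import Groth.Agent.Lib.SectionComp4
import Groth.Prelude.Def_FDesc

/-!
# Base change of a geometrically irreducible section component (EGA IV 15.6)
-/

universe u

open CategoryTheory Limits AlgebraicGeometry Topology TopologicalSpace Groth.Agent.FibDim14

set_option backward.isDefEq.respectTransparency.types false

namespace Groth.Agent.SectionComp4

variable {X Y : Scheme.{u}} {f : X ⟶ Y}

/-- The preimage of a geometrically irreducible set in a fibre of a base change is irreducible. -/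
theorem isIrreducible_bc {P S' : Scheme.{u}} {h : S' ⟶ Y} {f' : P ⟶ S'} {p : P ⟶ X}
    (hsq : IsPullback p f' f h) (s' : S') {C : Set X} (hC : C ⊆ f.base ⁻¹' {h s'})
    (hgi : ∀ (K : Type u) [Field K] [Algebra (IsLocalRing.ResidueField (Y.presheaf.stalk (h s'))) K],
      IsIrreducible ((FBase.bcπ (f.fiberToSpecResidueField (h s')) K ≫ f.fiberι (h s')).base ⁻¹' C)) :
    IsIrreducible (f'.base ⁻¹' {s'} ∩ p.base ⁻¹' C) := by
  obtain ⟨pr, hpr, sq⟩ := exists_fibre_square hsq s'
  letI : Algebra (IsLocalRing.ResidueField (Y.presheaf.stalk (h s'))) ↑(S'.residueField s') :=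
    (resExt h s').hom.toAlgebra
  have sq' : IsPullback pr (toPt f' s') (f.fiberToSpecResidueField (h s'))
      (Spec.map (CommRingCat.ofHom (algebraMap (IsLocalRing.ResidueField (Y.presheaf.stalk (h s')))
        ↑(S'.residueField s')))) := sq
  let e : f'.fiber s' ≅ FBase.bc (f.fiberToSpecResidueField (h s')) ↑(S'.residueField s') := sq'.isoPullback
  have he : e.inv ≫ pr = FBase.bcπ (f.fiberToSpecResidueField (h s')) ↑(S'.residueField s') :=
    sq'.isoPullback_inv_fst
  have key : ∀ z, p (f'.fiberι s' (e.inv z)) =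
      (FBase.bcπ (f.fiberToSpecResidueField (h s')) ↑(S'.residueField s') ≫ f.fiberι (h s')) z := by
    intro z
    rw [← hpr, Scheme.Hom.comp_apply, ← he, Scheme.Hom.comp_apply]
  have hset : f'.base ⁻¹' {s'} ∩ p.base ⁻¹' C = (e.inv ≫ f'.fiberι s') ''
      ((FBase.bcπ (f.fiberToSpecResidueField (h s')) ↑(S'.residueField s') ≫ f.fiberι (h s')).base ⁻¹' C) := by
    ext a
    constructor
    · rintro ⟨ha, haC⟩
      obtain ⟨b, rfl⟩ := (f'.range_fiberι s').ge ha
      have hb : e.inv (e.hom b) = b := by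
        rw [← Scheme.Hom.comp_apply, e.hom_inv_id]; rfl
      refine ⟨e.hom b, ?_, ?_⟩
      · show (FBase.bcπ _ _ ≫ f.fiberι (h s')) (e.hom b) ∈ C
        rw [← key, hb]
        exact haC
      · rw [Scheme.Hom.comp_apply, hb]
    · rintro ⟨z, hz, rfl⟩
      refine ⟨(f'.range_fiberι s').le ⟨_, rfl⟩, ?_⟩
      show p _ ∈ C
      rw [Scheme.Hom.comp_apply, key]
      exact hz
  rw [hset]
  exact (hgi _).image _ (Scheme.Hom.continuous _).continuousOn

variable (g : Y ⟶ X) (hg : g ≫ f = 𝟙 Y)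

include hg in
/-- A geometrically irreducible section component is irreducible. -/
theorem isIrreducible_of_geom {y : Y}
    (hgi : ∀ (K : Type u) [Field K] [Algebra (IsLocalRing.ResidueField (Y.presheaf.stalk y)) K],
      IsIrreducible ((FBase.bcπ (f.fiberToSpecResidueField y) K ≫ f.fiberι y).base ⁻¹'
        (connectedComponentIn (f.base ⁻¹' {y}) (g.base y)))) :
    IsIrreducible (connectedComponentIn (f.base ⁻¹' {y}) (g.base y)) := by
  have h1 := isIrreducible_bc (f := f) (h := 𝟙 Y) (f' := f) (p := 𝟙 X)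
    (IsPullback.of_horiz_isIso ⟨by simp⟩) y (connectedComponentIn_subset _ (g.base y)) hgi
  convert h1 using 1
  ext a
  exact ⟨fun ha => ⟨apply_of_mem f ha, ha⟩, fun ha => ha.2⟩

variable [LocallyOfFiniteType f]

include hg in
/-- The generic point of the preimage of the component in a fibre of a base change. -/
theorem exists_gen_bc {P S' : Scheme.{u}} {h : S' ⟶ Y} {f' : P ⟶ S'} {p : P ⟶ X} [LocallyOfFiniteType f']
    (hsq : IsPullback p f' f h) (s' : S')
    (hgi : ∀ (K : Type u) [Field K] [Algebra (IsLocalRing.ResidueField (Y.presheaf.stalk (h s'))) K],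
      IsIrreducible ((FBase.bcπ (f.fiberToSpecResidueField (h s')) K ≫ f.fiberι (h s')).base ⁻¹'
        (connectedComponentIn (f.base ⁻¹' {h s'}) (g.base (h s'))))) :
    ∃ τ : P, f' τ = s' ∧ IsMaxFib f' τ ∧
      p τ ∈ connectedComponentIn (f.base ⁻¹' {h s'}) (g.base (h s')) ∧
      (∀ a, f' a = s' → p a ∈ connectedComponentIn (f.base ⁻¹' {h s'}) (g.base (h s')) → τ ⤳ a) ∧
      topologicalKrullDim ↥(connectedComponentIn (f.base ⁻¹' {h s'}) (g.base (h s'))) =
        (rd f' τ : WithBot ℕ∞) := by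
  set C := connectedComponentIn (f.base ⁻¹' {h s'}) (g.base (h s')) with hC
  obtain ⟨ξ, hfξ, hξg, -, hCeq, hsp, hdim, -⟩ :=
    exists_gen_comp f g hg (isIrreducible_of_geom g hg hgi)
  have hA := isIrreducible_bc hsq s' (connectedComponentIn_subset _ (g.base (h s'))) hgi
  have hfp : ∀ a, f (p a) = h (f' a) := fun a => by
    rw [← Scheme.Hom.comp_apply, hsq.w, Scheme.Hom.comp_apply]
  have hgen : IsGenericPoint hA.genericPoint (closure (f'.base ⁻¹' {s'} ∩ p.base ⁻¹' C)) :=
    hA.isGenericPoint_genericPoint_closure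
  set τ := hA.genericPoint
  have hspA : ∀ a, f' a = s' → p a ∈ C → τ ⤳ a := fun a h1 h2 =>
    hgen.specializes (subset_closure ⟨h1, h2⟩)
  obtain ⟨a₁, hpa₁, hfa₁, hrd₁⟩ := exists_over_rd_eq hsq ξ s' hfξ
  have hτa : τ ⤳ a₁ := hspA a₁ hfa₁ (by rw [hpa₁]; exact hCeq.ge ⟨subset_closure rfl, hfξ⟩)
  have hfτ : f' τ = s' := by
    have h1 : f' τ ⤳ s' := hfa₁ ▸ hτa.map f'.continuous
    have h2 : s' ⤳ f' τ := by
      refine specializes_iff_mem_closure.2 (closure_mono ?_ (image_closure_subset_closure_image f'.continuous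
        ⟨τ, hgen.mem, rfl⟩))
      rintro _ ⟨a, ha, rfl⟩
      exact ha.1
    exact (h1.antisymm h2).eq
  have hpτ : p τ ∈ C := mem_comp_of_specializes f
    (show ξ ∈ C from hCeq.ge ⟨subset_closure rfl, hfξ⟩)
    (hpa₁ ▸ hτa.map p.continuous) (by rw [hfp, hfτ])
  refine ⟨τ, hfτ, fun a ha he => ?_, hpτ, hspA, ?_⟩
  · have hfa : f' a = s' := he.trans hfτ
    exact (ha.antisymm (hspA a hfa (mem_comp_of_specializes f hpτ (ha.map p.continuous)
      (by rw [hfp, hfa])))).eq
  · rw [hdim]
    have h1 : rd f' τ ≤ rd f ξ := by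
      refine (rd_baseChange_le hsq τ).trans ?_
      by_cases hne : ξ = p τ
      · rw [hne]
      · exact (rd_lt_of_specializes (f := f) (hsp _ hpτ) hne (by rw [hfξ, hfp, hfτ])).le
    have h2 : rd f' a₁ ≤ rd f' τ := by
      by_cases hne : τ = a₁
      · rw [hne]
      · exact (rd_lt_of_specializes (f := f') hτa hne (hfτ.trans hfa₁.symm)).le
    rw [hrd₁] at h2
    rw [le_antisymm h2 h1]

end Groth.Agent.SectionComp4
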