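import Groth.Agent.Lib.SectionCompFlat4
import Groth.Agent.Lib.SectionCompBC4
import Groth.Agent.Lib.GeomIrr18.Level
import Groth.Agent.Lib.FibDepth5.CodepthConstr

/-!
# Geometric irreducibility of the components along a section: base change, constructibility
-/

universe u

open CategoryTheory CategoryTheory.Limits AlgebraicGeometry Topology TopologicalSpace

set_option backward.isDefEq.respectTransparency.types false

namespace Groth.Agent.SectionCompGI4

open MoreMor (sectionComponents)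
open GeomSpread4 (tpt bot)

variable {X Y : Scheme.{u}}

/-- The component of the fibre along the section is geometrically irreducible. -/
def GI (f : X ⟶ Y) (g : Y ⟶ X) (y : Y) : Prop :=
  ∀ (K : Type u) [Field K] [Algebra (IsLocalRing.ResidueField (Y.presheaf.stalk y)) K],
    IsIrreducible ((FBase.bcπ (f.fiberToSpecResidueField y) K ≫ f.fiberι y).base ⁻¹'
      connectedComponentIn (f.base ⁻¹' {y}) (g.base y))

/-- Geometric irreducibility at an algebraically closed point. -/
theorem gi_iff_point (f : X ⟶ Y) (g : Y ⟶ X) {L : Type u} [Field L] [IsSepClosed L]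
    (t : Spec (CommRingCat.of L) ⟶ Y) {y : Y} (hy : t (IsLocalRing.closedPoint L : Spec (CommRingCat.of L)) = y) :
    GI f g y ↔ IsIrreducible (pullback.fst f t ⁻¹' connectedComponentIn (f ⁻¹' {y}) (g y)) := by
  subst hy
  set z₀ : Spec (CommRingCat.of L) := IsLocalRing.closedPoint L
  haveI : Subsingleton ↥(Spec (CommRingCat.of L)) := inferInstanceAs (Subsingleton (PrimeSpectrum L))
  constructor
  · intro h
    have h1 := SectionComp4.isIrreducible_bc (IsPullback.of_hasPullback f t) z₀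
      (connectedComponentIn_subset (f.base ⁻¹' {t z₀}) (g.base (t z₀))) h
    have hu : (pullback.snd f t).base ⁻¹' {z₀} = Set.univ := Set.eq_univ_of_forall fun a => Subsingleton.elim _ _
    rw [hu, Set.univ_inter] at h1
    exact h1
  · intro h
    obtain ⟨⟨s, φ⟩, hφ⟩ := (Scheme.SpecToEquivOfField L Y).symm.surjective t
    change Spec.map φ ≫ Y.fromSpecResidueField s = t at hφ
    have hs : t z₀ = s := by rw [← hφ, Scheme.Hom.comp_apply, Scheme.fromSpecResidueField_apply]
    subst hφ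
    rw [hs] at h ⊢
    intro K _ _
    letI : Algebra (Y.residueField s) L := φ.hom.toAlgebra
    let e := pullbackLeftPullbackSndIso f (Y.fromSpecResidueField s)
      (Spec.map (CommRingCat.ofHom (algebraMap (Y.residueField s) L)))
    have he : pullback.fst (pullback.snd f (Y.fromSpecResidueField s))
          (Spec.map (CommRingCat.ofHom (algebraMap (Y.residueField s) L))) ⁻¹'
          (f.fiberι s ⁻¹' connectedComponentIn (f ⁻¹' {s}) (g s)) =
        e.hom ⁻¹' (pullback.fst f (Spec.map φ ≫ Y.fromSpecResidueField s) ⁻¹' connectedComponentIn (f ⁻¹' {s}) (g s)) := by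
      ext z
      have h1 : e.hom ≫ pullback.fst f (Spec.map φ ≫ Y.fromSpecResidueField s) =
          pullback.fst _ _ ≫ pullback.fst f (Y.fromSpecResidueField s) := pullbackLeftPullbackSndIso_hom_fst _ _ _
      show (pullback.fst (pullback.snd f (Y.fromSpecResidueField s))
          (Spec.map (CommRingCat.ofHom (algebraMap (Y.residueField s) L))) ≫ pullback.fst f (Y.fromSpecResidueField s)) z ∈
          connectedComponentIn (f ⁻¹' {s}) (g s) ↔
        (e.hom ≫ pullback.fst f (Spec.map φ ≫ Y.fromSpecResidueField s)) z ∈ connectedComponentIn (f ⁻¹' {s}) (g s)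
      rw [h1]
    have hirr := h.image e.inv e.inv.continuous.continuousOn
    have hE : e.inv '' (pullback.fst f (Spec.map φ ≫ Y.fromSpecResidueField s) ⁻¹' connectedComponentIn (f ⁻¹' {s}) (g s)) =
        e.hom ⁻¹' (pullback.fst f (Spec.map φ ≫ Y.fromSpecResidueField s) ⁻¹' connectedComponentIn (f ⁻¹' {s}) (g s)) :=
      Set.ext fun z => ⟨fun ⟨w, hw, hwz⟩ => by
          rw [Set.mem_preimage, ← hwz, ← Scheme.Hom.comp_apply, e.inv_hom_id]; exact hw,
        fun hz => ⟨e.hom z, hz, by rw [← Scheme.Hom.comp_apply, e.hom_inv_id]; rfl⟩⟩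
    have hirr' := (congrArg IsIrreducible (hE.trans he.symm)).mp hirr
    letI : Algebra (IsLocalRing.ResidueField (Y.presheaf.stalk s)) L := φ.hom.toAlgebra
    exact GeomIrr.isIrreducible_preimage_of_bc (f := pullback.snd f (Y.fromSpecResidueField s)) L hirr' K

/-- Geometric irreducibility of the components commutes with base change. -/
theorem gi_baseChange {X' Y' : Scheme.{u}} {f : X ⟶ Y} {g : Y ⟶ X} (hg : g ≫ f = 𝟙 Y) {f' : X' ⟶ Y'} {p : X' ⟶ X}
    {h : Y' ⟶ Y} (hsq : IsPullback p f' f h) {g' : Y' ⟶ X'} (hg' : g' ≫ f' = 𝟙 Y') (hgp : g' ≫ p = h ≫ g) (y' : Y') :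
    GI f' g' y' ↔ GI f g (h y') := by
  let L := AlgebraicClosure (Y'.residueField y')
  let t : Spec (CommRingCat.of L) ⟶ Y' :=
    Spec.map (CommRingCat.ofHom (algebraMap (Y'.residueField y') L)) ≫ Y'.fromSpecResidueField y'
  have ht : t (IsLocalRing.closedPoint L : Spec (CommRingCat.of L)) = y' := by
    show (Spec.map _ ≫ Y'.fromSpecResidueField y') _ = y'
    rw [Scheme.Hom.comp_apply, Scheme.fromSpecResidueField_apply]
  rw [gi_iff_point f' g' t ht, gi_iff_point f g (t ≫ h) (y := h y') (by rw [Scheme.Hom.comp_apply, ht])]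
  let e : pullback f' t ≅ pullback f (t ≫ h) := ((IsPullback.of_hasPullback f' t).paste_horiz hsq).isoPullback
  haveI : Subsingleton ↥(Spec (CommRingCat.of L)) := inferInstanceAs (Subsingleton (PrimeSpectrum L))
  have hset : pullback.fst f' t ⁻¹' connectedComponentIn (f' ⁻¹' {y'}) (g' y') =
      e.hom ⁻¹' (pullback.fst f (t ≫ h) ⁻¹' connectedComponentIn (f ⁻¹' {h y'}) (g (h y'))) := by
    ext z
    have h1 : e.hom ≫ pullback.fst f (t ≫ h) = pullback.fst f' t ≫ p :=
      ((IsPullback.of_hasPullback f' t).paste_horiz hsq).isoPullback_hom_fst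
    rw [Set.mem_preimage, SectionCompFlat4.mem_comp_iff hg hsq hg' hgp y']
    refine (and_iff_left ?_).trans ?_
    · rw [← Scheme.Hom.comp_apply, pullback.condition, Scheme.Hom.comp_apply,
        Subsingleton.elim (pullback.snd f' t z) (IsLocalRing.closedPoint L : Spec (CommRingCat.of L)), ht]
    · show _ ↔ (e.hom ≫ pullback.fst f (t ≫ h)) z ∈ connectedComponentIn (f ⁻¹' {h y'}) (g (h y'))
      rw [h1]; rfl
  rw [hset]
  constructor
  · intro hi
    have h2 := hi.image e.hom e.hom.continuous.continuousOn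
    rwa [Set.image_preimage_eq _ e.hom.surjective] at h2
  · exact fun hi => ⟨hi.nonempty.preimage e.hom.surjective,
      hi.isPreirreducible.preimage e.hom.isOpenEmbedding⟩

variable {A : Type u} [CommRing A] [IsDomain A] [IsAlgClosed (FractionRing A)]

theorem exists_gi_const_alg (f : X ⟶ Spec (CommRingCat.of A)) (s : Spec (CommRingCat.of A) ⟶ X) (hs : s ≫ f = 𝟙 _)
    [LocallyOfFiniteType f] [QuasiCompact f] :
    ∃ (d : A) (P : Prop), d ≠ 0 ∧ ∀ z : Spec (CommRingCat.of A), d ∉ (z : PrimeSpectrum A).asIdeal → (GI f s z ↔ P) := by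
  classical
  obtain ⟨ι, _, Z, d₀, hd₀, ⟨hZ, hξ⟩, hL⟩ := GeomSpread4.exists_strata_gen f
  choose ξ hfξ hZξ using hξ
  obtain ⟨d₁, F₁, F₂, hd₁, hF₁, hF₂, hF⟩ := SectionCompConn4.exists_clopen_of_isAlgClosed f s hs
  refine ⟨d₀ * d₁, ∃! i, ξ i ∈ F₁, mul_ne_zero hd₀ hd₁, fun z hz => ?_⟩
  obtain ⟨L, _, _, _, hzt, hne⟩ := GeomSpread4.exists_algClosed_point z
  obtain ⟨hirr, hcov, hinj, -⟩ := hL L (hne d₀ fun h => hz (Ideal.mul_mem_right _ _ h))
  have hd₁z : d₁ ∉ (z : PrimeSpectrum A).asIdeal := fun h => hz (Ideal.mul_mem_left _ _ h)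
  rw [gi_iff_point f s (tpt A L) hzt]
  let p := pullback.fst f (tpt A L)
  haveI : Subsingleton ↥(Spec (CommRingCat.of L)) := inferInstanceAs (Subsingleton (PrimeSpectrum L))
  have hp : ∀ w, f (p w) = z := fun w => by
    rw [← Scheme.Hom.comp_apply, pullback.condition, Scheme.Hom.comp_apply,
      Subsingleton.elim (pullback.snd f (tpt A L) w) _, hzt]
  have hmem : ∀ w, p w ∈ connectedComponentIn (f ⁻¹' {z}) (s z) ↔ p w ∈ sectionComponents f s := fun w => by
    show _ ↔ p w ∈ connectedComponentIn (f ⁻¹' {f (p w)}) (s (f (p w)))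
    rw [hp]
  have hset : p ⁻¹' connectedComponentIn (f ⁻¹' {z}) (s z) = ⋃ i : {i // ξ i ∈ F₁}, p ⁻¹' Z i.1 := by
    ext w
    have hw := hF (p w) (by rw [hp]; exact hd₁z)
    rw [Set.mem_preimage, hmem, ← hw.1, Set.mem_iUnion]
    constructor
    · intro h
      obtain ⟨i, hi⟩ := hcov w
      refine ⟨⟨i, by_contra fun hni => ?_⟩, hi⟩
      have hξ2 : ξ i ∈ F₂ := by
        have h' := hF (ξ i) (by rw [hfξ]; exact fun h => hd₁ (Ideal.mem_bot.1 h))
        exact h'.2.2 fun hE => hni (h'.1.2 hE)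
      have hw2 : p w ∈ F₂ := closure_minimal (Set.singleton_subset_iff.2 hξ2) hF₂ (hZξ i ▸ hi)
      exact hw.2.1 hw2 (hw.1.1 h)
    · rintro ⟨⟨i, hi⟩, hwi⟩
      exact closure_minimal (Set.singleton_subset_iff.2 hi) hF₁ (hZξ i ▸ hwi)
  rw [hset]
  constructor
  · intro hU
    obtain ⟨w, hw⟩ := hU.nonempty
    obtain ⟨⟨i₀, hi₀⟩, -⟩ := Set.mem_iUnion.1 hw
    letI := Fintype.ofFinite ι
    obtain ⟨T, hT, hsubT⟩ := isIrreducible_iff_sUnion_isClosed.1 hU
      ((Finset.univ.filter fun i => ξ i ∈ F₁).image fun i => p ⁻¹' Z i)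
      (fun T hT => by obtain ⟨i, -, rfl⟩ := Finset.mem_image.1 hT; exact (hZ i).preimage p.continuous)
      (fun w hw => by
        obtain ⟨⟨i, hi⟩, hwi⟩ := Set.mem_iUnion.1 hw
        exact ⟨p ⁻¹' Z i, by simpa using ⟨i, hi, rfl⟩, hwi⟩)
    obtain ⟨k, hk, rfl⟩ := Finset.mem_image.1 hT
    refine ⟨k, (Finset.mem_filter.1 hk).2, fun j hj => hinj j k fun v hv => hsubT ?_⟩
    exact Set.mem_iUnion.2 ⟨⟨j, hj⟩, hv⟩
  · rintro ⟨k, hk, huniq⟩
    convert hirr k using 1
    ext v
    exact ⟨fun hv => by obtain ⟨⟨i, hi⟩, hvi⟩ := Set.mem_iUnion.1 hv; exact huniq i hi ▸ hvi,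
      fun hv => Set.mem_iUnion.2 ⟨⟨k, hk⟩, hv⟩⟩

omit [IsDomain A] [IsAlgClosed (FractionRing A)] in
theorem exists_gi_const_affine {R : Type u} [CommRing R] (f : X ⟶ Spec (CommRingCat.of R))
    (s : Spec (CommRingCat.of R) ⟶ X) (hs : s ≫ f = 𝟙 _) [LocallyOfFiniteType f] [QuasiCompact f]
    (p : PrimeSpectrum R) :
    ∃ a : R, a ∉ p.asIdeal ∧ ∀ q : PrimeSpectrum R, p.asIdeal ≤ q.asIdeal → a ∉ q.asIdeal →
      (GI f s q ↔ GI f s p) := by
  let D := R ⧸ p.asIdeal
  let Ω := AlgebraicClosure (FractionRing D)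
  let A := ↥(integralClosure D Ω)
  haveI := GeomSpread4.isAlgClosed_fractionRing_integralClosure D
  have hDA : Function.Injective (algebraMap D A) := fun a b hab => by
    have h := congrArg Subtype.val hab
    change algebraMap D Ω a = algebraMap D Ω b at h
    rw [IsScalarTower.algebraMap_apply D (FractionRing D) Ω a,
      IsScalarTower.algebraMap_apply D (FractionRing D) Ω b] at h
    exact IsFractionRing.injective D _ ((algebraMap (FractionRing D) _).injective h)
  let φ : R →+* A := (algebraMap D A).comp (Ideal.Quotient.mk p.asIdeal)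
  let j : Spec (CommRingCat.of A) ⟶ Spec (CommRingCat.of R) := Spec.map (CommRingCat.ofHom φ)
  let f' := pullback.snd f j
  let s' : Spec (CommRingCat.of A) ⟶ pullback f j :=
    pullback.lift (j ≫ s) (𝟙 _) (by rw [Category.assoc, hs, Category.comp_id, Category.id_comp])
  have hbc := gi_baseChange hs (IsPullback.of_hasPullback f j) (g' := s') (pullback.lift_snd _ _ _)
    (pullback.lift_fst _ _ _)
  obtain ⟨d, P, hd, hP⟩ := exists_gi_const_alg f' s' (pullback.lift_snd _ _ _)
  obtain ⟨a, ha, hane⟩ : ∃ a, a ∈ (Ideal.span {d}).comap (algebraMap D A) ∧ a ≠ 0 := by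
    by_contra hcon
    refine Ideal.comap_ne_bot_of_integral_mem (I := Ideal.span {d}) hd (Ideal.subset_span rfl)
      (Algebra.IsIntegral.isIntegral (R := D) d) ?_
    exact eq_bot_iff.2 fun x hx => Ideal.mem_bot.2 (by_contra fun h => hcon ⟨x, hx, h⟩)
  obtain ⟨a, rfl⟩ := Ideal.Quotient.mk_surjective a
  have key : ∀ q : PrimeSpectrum R, p.asIdeal ≤ q.asIdeal → a ∉ q.asIdeal → (GI f s q ↔ P) := by
    intro q hle haq
    obtain ⟨r, rfl⟩ : q ∈ Set.range (PrimeSpectrum.comap (Ideal.Quotient.mk p.asIdeal)) := by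
      rw [range_comap_of_surjective _ _ Ideal.Quotient.mk_surjective, Ideal.mk_ker]
      exact hle
    obtain ⟨Q, hQ, hQr⟩ := Ideal.exists_ideal_over_prime_of_isIntegral_of_isDomain (S := A)
      r.asIdeal (by rw [(RingHom.injective_iff_ker_eq_bot _).1 hDA]; exact bot_le)
    let z : Spec (CommRingCat.of A) := (⟨Q, hQ⟩ : PrimeSpectrum A)
    have hjz : j z = PrimeSpectrum.comap (Ideal.Quotient.mk p.asIdeal) r :=
      PrimeSpectrum.ext (congrArg (Ideal.comap (Ideal.Quotient.mk p.asIdeal)) hQr)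
    rw [← hjz, ← hbc z]
    exact hP z fun h => haq (hQr.le ((Ideal.span_singleton_le_iff_mem Q).2 h ha))
  exact ⟨a, fun h => hane (Ideal.Quotient.eq_zero_iff_mem.2 h), fun q hle haq =>
    (key q hle haq).trans (key p le_rfl fun h => hane (Ideal.Quotient.eq_zero_iff_mem.2 h)).symm⟩

omit [IsDomain A] [IsAlgClosed (FractionRing A)] in
/-- The locus of geometrically irreducible components of given dimension is constructible over a
Noetherian affine base. -/
theorem isConstructible_gi_dim {R : CommRingCat.{u}} [IsNoetherianRing R] (f : X ⟶ Spec R) (s : Spec R ⟶ X)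
    (hs : s ≫ f = 𝟙 _) [LocallyOfFiniteType f] [QuasiCompact f] (n : ℕ) :
    IsConstructible {z : Spec R | GI f s z ∧ FlatMor.fibreDimAt f (s z) = (n : WithBot ℕ∞)} := by
  haveI : IsLocallyNoetherian X := LocallyOfFiniteType.isLocallyNoetherian f
  haveI : CompactSpace X := QuasiCompact.compactSpace_of_compactSpace f
  haveI : LocallyOfFinitePresentation f := VarDim.locallyOfFinitePresentation_of_locallyNoetherian f
  have h1 : IsConstructible (s ⁻¹' {x : X | FlatMor.fibreDimAt f x = (n : WithBot ℕ∞)}) :=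
    s.isConstructible_preimage (FibDepth5.isLocallyConstructible_fibreDimAt_eq f n).isConstructible
  refine IsConstructible.inter (s := {z : Spec R | GI f s z}) ?_ h1
  refine ConsH13.isConstructible_of_generic _ fun Z hZ hZc => ?_
  have hg := hZ.isGenericPoint_genericPoint_closure
  rw [hZc.closure_eq] at hg
  let p : PrimeSpectrum R := hZ.genericPoint
  obtain ⟨a, hap, ha⟩ := exists_gi_const_affine f s hs p
  refine ⟨(PrimeSpectrum.basicOpen a : Set (PrimeSpectrum R)), (PrimeSpectrum.basicOpen a).2,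
    ⟨hZ.genericPoint, hg.mem, hap⟩, ?_⟩
  have hle : ∀ q : Spec R, q ∈ Z → p.asIdeal ≤ (q : PrimeSpectrum R).asIdeal := fun q hq =>
    (PrimeSpectrum.le_iff_specializes p q).2 (hg.specializes hq)
  by_cases h : GI f s hZ.genericPoint
  · exact .inl fun q hq => (ha q (hle q hq.1) hq.2).2 h
  · exact .inr fun q hq hq' => h ((ha q (hle q hq.1) hq.2).1 hq')

end Groth.Agent.SectionCompGI4
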