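import Groth.Agent.Lib.GeomSpread4.Count
import Groth.Agent.Lib.GeomIrr18.Top
import Groth.Agent.Lib.GeomIrr18.Prim
import Groth.Prelude.Def_MoreMor

/-!
# The union of the connected components of fibres along a section (EGA IV 15.6)
-/

universe u

open CategoryTheory CategoryTheory.Limits AlgebraicGeometry Topology TopologicalSpace

set_option backward.isDefEq.respectTransparency.types false

namespace Groth.Agent.SectionCompConn4

open MoreMor (sectionComponents)

variable {X Y X' Y' : Scheme.{u}} {f : X ⟶ Y} {s : Y ⟶ X} {f' : X' ⟶ Y'} {g' : X' ⟶ X} {g : Y' ⟶ Y}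

theorem apply_section (hs : s ≫ f = 𝟙 Y) (y : Y) : f (s y) = y := by
  rw [← Scheme.Hom.comp_apply, hs]; rfl

/-- The preimage of a component through a section in a fibre of a base change is connected. -/
theorem isPreconnected_preimage_comp (hs : s ≫ f = 𝟙 Y) (hc : IsPullback g' f' f g) (y' : Y') :
    _root_.IsPreconnected (g' ⁻¹' connectedComponentIn (f ⁻¹' {g y'}) (s (g y')) ∩ f' ⁻¹' {y'}) := by
  set y := g y' with hy
  set C := connectedComponentIn (f ⁻¹' {y}) (s y) with hC
  let k := Y.residueField y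
  let F : f.fiber y ⟶ Spec (CommRingCat.of k) := f.fiberToSpecResidueField y
  let ι := f.fiberι y
  have hr : Set.range ι = f ⁻¹' {y} := Scheme.Hom.range_fiberι f y
  let σ : Spec (CommRingCat.of k) ⟶ f.fiber y :=
    pullback.lift (Y.fromSpecResidueField y ≫ s) (𝟙 _) (by rw [Category.assoc, hs, Category.comp_id, Category.id_comp])
  have hσ : ∀ z, ι (σ z) = s y := fun z => by
    rw [← Scheme.Hom.comp_apply]
    show (pullback.lift (f := f) (g := Y.fromSpecResidueField y) (Y.fromSpecResidueField y ≫ s) (𝟙 _) _ ≫ pullback.fst _ _) z = s y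
    rw [pullback.lift_fst, Scheme.Hom.comp_apply, Scheme.fromSpecResidueField_apply]
  let z₀ : Spec (CommRingCat.of k) := (IsLocalRing.closedPoint k : PrimeSpectrum k)
  let T : Set ↥(f.fiber y) := connectedComponent (σ z₀)
  have hTC : ι ⁻¹' C = T := by
    refine Set.Subset.antisymm ?_ ?_
    · refine IsPreconnected.subset_connectedComponent ?_ (show ι (σ z₀) ∈ C from ?_)
      · rw [← ι.isEmbedding.isInducing.isPreconnected_image,
          Set.image_preimage_eq_of_subset (by rw [hr]; exact connectedComponentIn_subset _ _)]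
        exact isPreconnected_connectedComponentIn
      · rw [hσ]; exact mem_connectedComponentIn (apply_section hs y)
    · intro a ha
      refine IsPreconnected.subset_connectedComponentIn (isPreconnected_connectedComponent.image ι ι.continuous.continuousOn)
        ⟨σ z₀, mem_connectedComponent, hσ z₀⟩ (fun _ ⟨b, _, hb⟩ => hr.le ⟨b, hb⟩) ⟨a, ha, rfl⟩
  haveI : Subsingleton ↥(Spec (CommRingCat.of k)) := inferInstanceAs (Subsingleton (PrimeSpectrum k))
  haveI hid : σ ≫ F = 𝟙 _ := pullback.lift_snd _ _ _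
  haveI : GeometricallyConnected (σ ≫ F) := by
    haveI : GeometricallyIrreducible (σ ≫ F) := by
      rw [hid, show 𝟙 (Spec (CommRingCat.of k)) = Spec.map (CommRingCat.ofHom (algebraMap k k)) from Spec.map_id _ |>.symm]
      exact GeomIrr.geometricallyIrreducible_of_separable fun a _ => ⟨a, rfl⟩
    exact GeomIrr.geometricallyConnected_of_irreducible _
  let K := Y'.residueField y'
  letI : Algebra k K := (g.residueFieldMap y').hom.toAlgebra
  let t : Spec (CommRingCat.of K) ⟶ Spec (CommRingCat.of k) := Spec.map (CommRingCat.ofHom (algebraMap k K))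
  have hsub : Set.range σ ⊆ T := fun _ ⟨z, hz⟩ => by
    rw [← hz, Subsingleton.elim z z₀]; exact mem_connectedComponent
  have hconn : _root_.IsConnected (pullback.fst F t ⁻¹' T) :=
    GeomIrr.isConnected_preimage F isPreconnected_connectedComponent isClosed_connectedComponent mem_connectedComponent _
      (GeomIrr.isConnected_preimage_range F σ (SeparableClosure k)).isPreconnected (Set.preimage_mono hsub)
      (Set.preimage_mono (Set.singleton_subset_iff.2 ⟨z₀, rfl⟩)) K
  have ht : t ≫ Y.fromSpecResidueField y = Y'.fromSpecResidueField y' ≫ g :=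
    Scheme.Hom.SpecMap_residueFieldMap_fromSpecResidueField g y'
  let m : pullback F t ⟶ X' := hc.lift (pullback.fst F t ≫ ι) (pullback.snd F t ≫ Y'.fromSpecResidueField y') (by
    rw [Category.assoc, Category.assoc, ← ht, ← pullback.condition_assoc]
    congr 1
    exact pullback.condition)
  have hm : ∀ w, g' (m w) = ι (pullback.fst F t w) := fun w => by
    rw [← Scheme.Hom.comp_apply, hc.lift_fst, Scheme.Hom.comp_apply]
  have hm' : ∀ w, f' (m w) = y' := fun w => by
    rw [← Scheme.Hom.comp_apply, hc.lift_snd, Scheme.Hom.comp_apply, Scheme.fromSpecResidueField_apply]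
  have hsurj : ∀ x', f' x' = y' → ∃ w, m w = x' := by
    intro x' hx'
    obtain ⟨z, hz⟩ := (Scheme.Hom.range_fiberι f' y').ge (show x' ∈ f' ⁻¹' {y'} from hx')
    let a : f'.fiber y' ⟶ f.fiber y := pullback.lift (f'.fiberι y' ≫ g') (f'.fiberToSpecResidueField y' ≫ t) (by
      rw [Category.assoc, Category.assoc, hc.w, ht, ← Category.assoc, ← Category.assoc]
      congr 1
      exact pullback.condition)
    let b : f'.fiber y' ⟶ pullback F t := pullback.lift a (f'.fiberToSpecResidueField y') (pullback.lift_snd _ _ _)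
    have hbm : b ≫ m = f'.fiberι y' := by
      refine hc.hom_ext ?_ ?_
      · rw [Category.assoc, hc.lift_fst, pullback.lift_fst_assoc]
        exact pullback.lift_fst _ _ _
      · rw [Category.assoc, hc.lift_snd, pullback.lift_snd_assoc]
        exact pullback.condition.symm
    refine ⟨b z, ?_⟩
    rw [← Scheme.Hom.comp_apply, hbm, hz]
  have himg : g' ⁻¹' C ∩ f' ⁻¹' {y'} = m '' (pullback.fst F t ⁻¹' T) := by
    ext x'
    constructor
    · rintro ⟨hx, hx'⟩
      obtain ⟨w, rfl⟩ := hsurj x' hx'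
      refine ⟨w, ?_, rfl⟩
      rw [← hTC]
      show ι (pullback.fst F t w) ∈ C
      rw [← hm]; exact hx
    · rintro ⟨w, hw, rfl⟩
      rw [← hTC] at hw
      exact ⟨by show g' (m w) ∈ C; rw [hm]; exact hw, hm' w⟩
  rw [himg]
  exact hconn.isPreconnected.image m m.continuous.continuousOn

/-- EGA IV 15.6: the union of the components along a section commutes with base change. -/
theorem sectionComponents_baseChange (hs : s ≫ f = 𝟙 Y) (hc : IsPullback g' f' f g) {s' : Y' ⟶ X'}
    (hs' : s' ≫ f' = 𝟙 Y') (hs'g : s' ≫ g' = g ≫ s) :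
    sectionComponents f' s' = g' ⁻¹' sectionComponents f s := by
  ext x'
  set y' := f' x' with hy'
  have hy : f (g' x') = g y' := by rw [← Scheme.Hom.comp_apply, hc.w, Scheme.Hom.comp_apply]
  have hgs : g' (s' y') = s (g y') := by rw [← Scheme.Hom.comp_apply, hs'g, Scheme.Hom.comp_apply]
  show x' ∈ connectedComponentIn (f' ⁻¹' {y'}) (s' y') ↔ g' x' ∈ connectedComponentIn (f ⁻¹' {f (g' x')}) (s (f (g' x')))
  rw [hy]
  constructor
  · intro h
    refine IsPreconnected.subset_connectedComponentIn (isPreconnected_connectedComponentIn.image g' g'.continuous.continuousOn)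
      ⟨s' y', mem_connectedComponentIn (apply_section hs' y'), hgs⟩ ?_ ⟨x', h, rfl⟩
    rintro _ ⟨b, hb, rfl⟩
    have hb' : f' b = y' := connectedComponentIn_subset (f' ⁻¹' {y'}) (s' y') hb
    show f (g' b) = g y'
    rw [← Scheme.Hom.comp_apply, hc.w, Scheme.Hom.comp_apply, hb']
  · intro h
    refine (isPreconnected_preimage_comp hs hc y').subset_connectedComponentIn ⟨?_, apply_section hs' y'⟩
      Set.inter_subset_right ⟨h, rfl⟩
    show g' (s' y') ∈ connectedComponentIn (f ⁻¹' {g y'}) (s (g y'))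
    rw [hgs]
    exact mem_connectedComponentIn (apply_section hs (g y'))

open GeomSpread4 (tpt bot)

theorem exists_clopen_of_isAlgClosed {A : Type u} [CommRing A] [IsDomain A] [IsAlgClosed (FractionRing A)]
    (f : X ⟶ Spec (CommRingCat.of A)) (s : Spec (CommRingCat.of A) ⟶ X) (hs : s ≫ f = 𝟙 _)
    [LocallyOfFiniteType f] [QuasiCompact f] :
    ∃ (d : A) (F₁ F₂ : Set X), d ≠ 0 ∧ IsClosed F₁ ∧ IsClosed F₂ ∧
      ∀ x, d ∉ (f x : PrimeSpectrum A).asIdeal →
        ((x ∈ F₁ ↔ x ∈ sectionComponents f s) ∧ (x ∈ F₂ ↔ x ∉ sectionComponents f s)) := by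
  classical
  obtain ⟨ι, _, Z, d₀, hd₀, hZ, hL⟩ := GeomSpread4.exists_strata f
  let R : ι → ι → Prop := fun i j => ∃ x ∈ Z i ∩ Z j, f x = bot A
  have hfib : ∀ z : Spec (CommRingCat.of A), d₀ ∉ (z : PrimeSpectrum A).asIdeal →
      (∀ i, _root_.IsPreconnected (Z i ∩ f ⁻¹' {z}) ∧ (Z i ∩ f ⁻¹' {z}).Nonempty) ∧
      (∀ x, f x = z → ∃ i, x ∈ Z i) ∧ (∀ i j, (∃ x ∈ Z i ∩ Z j, f x = z) ↔ R i j) := by
    intro z hz
    obtain ⟨L, _, _, _, hzt, hne⟩ := GeomSpread4.exists_algClosed_point z
    obtain ⟨h1, h2, -, h4⟩ := hL L (hne d₀ hz)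
    let p := pullback.fst f (tpt A L)
    haveI : Subsingleton ↥(Spec (CommRingCat.of L)) := inferInstanceAs (Subsingleton (PrimeSpectrum L))
    have hp : ∀ w, f (p w) = z := fun w => by
      rw [← Scheme.Hom.comp_apply, pullback.condition, Scheme.Hom.comp_apply,
        Subsingleton.elim (pullback.snd f (tpt A L) w) _, hzt]
    have hsurj : ∀ x, f x = z → ∃ w, p w = x := fun x hx => by
      obtain ⟨w, hw, -⟩ := Scheme.Pullback.exists_preimage_pullback (f := f) (g := tpt A L) x
        (IsLocalRing.closedPoint L : Spec (CommRingCat.of L)) (by rw [hx, hzt])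
      exact ⟨w, hw⟩
    refine ⟨fun i => ⟨?_, ?_⟩, fun x hx => ?_, fun i j => ?_⟩
    · rw [show Z i ∩ f ⁻¹' {z} = p '' (p ⁻¹' Z i) from ?_]
      · exact (h1 i).isPreirreducible.isPreconnected.image p p.continuous.continuousOn
      · ext x
        exact ⟨fun ⟨hx, hx'⟩ => by obtain ⟨w, rfl⟩ := hsurj x hx'; exact ⟨w, hx, rfl⟩,
          fun ⟨w, hw, e⟩ => e ▸ ⟨hw, hp w⟩⟩
    · obtain ⟨w, hw⟩ := (h1 i).nonempty
      exact ⟨p w, hw, hp w⟩
    · obtain ⟨w, rfl⟩ := hsurj x hx
      exact h2 w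
    · rw [show R i j ↔ _ from (h4 i j).symm]
      exact ⟨fun ⟨x, hx, hx'⟩ => by obtain ⟨w, rfl⟩ := hsurj x hx'; exact ⟨w, hx⟩, fun ⟨w, hw⟩ => ⟨p w, hw, hp w⟩⟩
  obtain ⟨i₀, hi₀⟩ := (hfib (bot A) fun h => hd₀ (Ideal.mem_bot.1 h)).2.1 (s (bot A)) (apply_section hs _)
  let c : ι → Prop := fun i => Quot.mk R i = Quot.mk R i₀
  refine ⟨d₀, ⋃ i : {i // c i}, Z i.1, ⋃ i : {i // ¬ c i}, Z i.1, hd₀,
    isClosed_iUnion_of_finite fun i => hZ _, isClosed_iUnion_of_finite fun i => hZ _, fun x hx => ?_⟩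
  set z := f x with hz
  obtain ⟨hpc, hcov, hR⟩ := hfib z hx
  choose a ha using fun i => (hpc i).2
  let S := f ⁻¹' ({z} : Set ↥(Spec (CommRingCat.of A)))
  have hK : ∀ i, Z i ∩ S ⊆ connectedComponentIn S (a i) := fun i =>
    (hpc i).1.subset_connectedComponentIn (ha i) Set.inter_subset_right
  let K : Quot R → Set X := Quot.lift (fun i => connectedComponentIn S (a i)) fun i j hij => by
    obtain ⟨b, ⟨hb, hb'⟩, hfb⟩ := (hR i j).2 hij
    exact (connectedComponentIn_eq (hK i ⟨hb, hfb⟩)).trans (connectedComponentIn_eq (hK j ⟨hb', hfb⟩)).symm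
  have hsz : s z ∈ Z i₀ ∩ S := ⟨Specializes.mem_closed
    (((PrimeSpectrum.le_iff_specializes (⟨⊥, Ideal.isPrime_bot⟩ : PrimeSpectrum A) z).1 bot_le).map s.continuous)
    (hZ i₀) hi₀, apply_section hs z⟩
  have hE : connectedComponentIn S (s z) = K (Quot.mk R i₀) := (connectedComponentIn_eq (hK i₀ hsz)).symm
  have hsub : connectedComponentIn S (s z) ⊆ ⋃ i : {i // c i}, Z i.1 := by
    refine ((isPreconnected_iff_subset_of_disjoint_closed.1 isPreconnected_connectedComponentIn _ _
      (isClosed_iUnion_of_finite fun i : {i // c i} => hZ i.1)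
      (isClosed_iUnion_of_finite fun i : {i // ¬ c i} => hZ i.1) ?_ ?_).resolve_right ?_)
    · intro b hb
      obtain ⟨i, hi⟩ := hcov b (connectedComponentIn_subset S _ hb)
      by_cases hci : c i
      · exact .inl (Set.mem_iUnion.2 ⟨⟨i, hci⟩, hi⟩)
      · exact .inr (Set.mem_iUnion.2 ⟨⟨i, hci⟩, hi⟩)
    · refine Set.eq_empty_iff_forall_notMem.2 fun b ⟨hb, h1, h2⟩ => ?_
      obtain ⟨⟨i, hi⟩, hbi⟩ := Set.mem_iUnion.1 h1
      obtain ⟨⟨j, hj⟩, hbj⟩ := Set.mem_iUnion.1 h2
      exact hj ((Quot.sound ((hR i j).1 ⟨b, ⟨hbi, hbj⟩, connectedComponentIn_subset S _ hb⟩)).symm.trans hi)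
    · intro hsub'
      obtain ⟨⟨j, hj⟩, hbj⟩ := Set.mem_iUnion.1 (hsub' (mem_connectedComponentIn hsz.2))
      exact hj (Quot.sound ((hR j i₀).1 ⟨s z, ⟨hbj, hsz.1⟩, hsz.2⟩))
  have hmem : x ∈ sectionComponents f s ↔ x ∈ ⋃ i : {i // c i}, Z i.1 := by
    refine ⟨fun h => hsub h, fun h => ?_⟩
    obtain ⟨⟨i, hi⟩, hxi⟩ := Set.mem_iUnion.1 h
    show x ∈ connectedComponentIn S (s z)
    rw [hE, ← show Quot.mk R i = Quot.mk R i₀ from hi]
    exact hK i ⟨hxi, rfl⟩
  refine ⟨hmem.symm, ?_⟩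
  rw [hmem]
  obtain ⟨i, hi⟩ := hcov x rfl
  constructor
  · intro h h'
    obtain ⟨⟨j, hj⟩, hxj⟩ := Set.mem_iUnion.1 h
    obtain ⟨⟨k, hk⟩, hxk⟩ := Set.mem_iUnion.1 h'
    exact hj ((Quot.sound ((hR j k).1 ⟨x, ⟨hxj, hxk⟩, rfl⟩)).trans hk)
  · exact fun h => Set.mem_iUnion.2 ⟨⟨i, fun hc => h (Set.mem_iUnion.2 ⟨⟨i, hc⟩, hi⟩)⟩, hi⟩

/-- Over an affine base the union is clopen over a neighbourhood in the closure of a point. -/
theorem exists_clopen_affine {R : Type u} [CommRing R] (f : X ⟶ Spec (CommRingCat.of R))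
    (s : Spec (CommRingCat.of R) ⟶ X) (hs : s ≫ f = 𝟙 _) [LocallyOfFiniteType f] [QuasiCompact f]
    (p : PrimeSpectrum R) :
    ∃ (a : R) (F₁ F₂ : Set X), a ∉ p.asIdeal ∧ IsClosed F₁ ∧ IsClosed F₂ ∧
      ∀ x, p.asIdeal ≤ (f x : PrimeSpectrum R).asIdeal → a ∉ (f x : PrimeSpectrum R).asIdeal →
        ((x ∈ F₁ ↔ x ∈ sectionComponents f s) ∧ (x ∈ F₂ ↔ x ∉ sectionComponents f s)) := by
  let D := R ⧸ p.asIdeal
  let Ω := AlgebraicClosure (FractionRing D)
  let A := ↥(integralClosure D Ω)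
  haveI := GeomSpread4.isAlgClosed_fractionRing_integralClosure D
  have hDA : Function.Injective (algebraMap D A) := fun a b hab => by
    have h := congrArg Subtype.val hab
    change algebraMap D Ω a = algebraMap D Ω b at h
    rw [IsScalarTower.algebraMap_apply D (FractionRing D) Ω a,
      IsScalarTower.algebraMap_apply D (FractionRing D) Ω b] at h
    exact IsFractionRing.injective D _ ((algebraMap (FractionRing D) _).injective h)
  let φ : R →+* A := (algebraMap D A).comp (Ideal.Quotient.mk p.asIdeal)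
  let j : Spec (CommRingCat.of A) ⟶ Spec (CommRingCat.of R) := Spec.map (CommRingCat.ofHom φ)
  haveI : IsIntegralHom j := (IsIntegralHom.SpecMap_iff).2
    (RingHom.IsIntegral.trans _ _ (RingHom.isIntegral_of_surjective _ Ideal.Quotient.mk_surjective)
      (algebraMap_isIntegral_iff.2 inferInstance))
  let g' := pullback.fst f j
  let f' := pullback.snd f j
  let s' : Spec (CommRingCat.of A) ⟶ pullback f j :=
    pullback.lift (j ≫ s) (𝟙 _) (by rw [Category.assoc, hs, Category.comp_id, Category.id_comp])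
  have hE := sectionComponents_baseChange hs (IsPullback.of_hasPullback f j) (s' := s') (pullback.lift_snd _ _ _)
    (pullback.lift_fst _ _ _)
  obtain ⟨d, G₁, G₂, hd, hG₁, hG₂, hG⟩ := exists_clopen_of_isAlgClosed f' s' (pullback.lift_snd _ _ _)
  obtain ⟨a, ha, hane⟩ : ∃ a, a ∈ (Ideal.span {d}).comap (algebraMap D A) ∧ a ≠ 0 := by
    by_contra hcon
    refine Ideal.comap_ne_bot_of_integral_mem (I := Ideal.span {d}) hd (Ideal.subset_span rfl)
      (Algebra.IsIntegral.isIntegral (R := D) d) ?_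
    exact eq_bot_iff.2 fun x hx => Ideal.mem_bot.2 (by_contra fun h => hcon ⟨x, hx, h⟩)
  obtain ⟨a, rfl⟩ := Ideal.Quotient.mk_surjective a
  refine ⟨a, g' '' G₁, g' '' G₂, fun h => hane (Ideal.Quotient.eq_zero_iff_mem.2 h),
    g'.isClosedMap _ hG₁, g'.isClosedMap _ hG₂, fun x hle hax => ?_⟩
  obtain ⟨r, hr⟩ : (f x : PrimeSpectrum R) ∈ Set.range (PrimeSpectrum.comap (Ideal.Quotient.mk p.asIdeal)) := by
    rw [range_comap_of_surjective _ _ Ideal.Quotient.mk_surjective, Ideal.mk_ker]
    exact hle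
  obtain ⟨P, hP, hPr⟩ := Ideal.exists_ideal_over_prime_of_isIntegral_of_isDomain (S := A)
    r.asIdeal (by rw [(RingHom.injective_iff_ker_eq_bot _).1 hDA]; exact bot_le)
  let z : Spec (CommRingCat.of A) := (⟨P, hP⟩ : PrimeSpectrum A)
  have hjz : j z = f x := by
    rw [← hr]
    exact PrimeSpectrum.ext (congrArg (Ideal.comap (Ideal.Quotient.mk p.asIdeal)) hPr)
  have key : ∀ x' : ↥(pullback f j), g' x' = x → d ∉ (f' x' : PrimeSpectrum A).asIdeal := by
    intro x' hx' h
    have h1 : j (f' x') = f x := by rw [← hx', ← Scheme.Hom.comp_apply, ← pullback.condition, Scheme.Hom.comp_apply]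
    refine hax ?_
    rw [← h1]
    exact (Ideal.span_singleton_le_iff_mem _).2 h ha
  obtain ⟨x', hx', -⟩ := Scheme.Pullback.exists_preimage_pullback (f := f) (g := j) x z hjz.symm
  constructor
  · refine ⟨?_, fun h => ⟨x', (hG x' (key x' hx')).1.2 (hE.ge (show g' x' ∈ _ by rw [show g' x' = x from hx']; exact h)), hx'⟩⟩
    rintro ⟨w, hw, rfl⟩
    exact hE.le ((hG w (key w rfl)).1.1 hw)
  · refine ⟨?_, fun h => ⟨x', (hG x' (key x' hx')).2.2 (fun h' => h (hx' ▸ hE.le h')), hx'⟩⟩
    rintro ⟨w, hw, rfl⟩ h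
    exact (hG w (key w rfl)).2.1 hw (hE.ge h)

/-- EGA IV 15.6: clopen over an open of the closure of a point. -/
theorem exists_clopen (f : X ⟶ Y) (s : Y ⟶ X) (hs : s ≫ f = 𝟙 Y) [LocallyOfFiniteType f] [QuasiCompact f] (y : Y) :
    ∃ (U : Y.Opens) (F₁ F₂ : Set X), y ∈ U ∧ IsClosed F₁ ∧ IsClosed F₂ ∧
      ∀ x, f x ∈ closure ({y} : Set Y) → f x ∈ U →
        ((x ∈ F₁ ↔ x ∈ sectionComponents f s) ∧ (x ∈ F₂ ↔ x ∉ sectionComponents f s)) := by
  obtain ⟨W, hW, hyW, -⟩ := exists_isAffineOpen_mem_and_subset (X := Y) (x := y) (U := ⊤) trivial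
  let j := hW.fromSpec
  let p : PrimeSpectrum Γ(Y, W) := hW.primeIdealOf ⟨y, hyW⟩
  have hp : j p = y := hW.fromSpec_primeIdealOf ⟨y, hyW⟩
  let g' := pullback.fst f j
  let f' := pullback.snd f j
  let s' : Spec Γ(Y, W) ⟶ pullback f j :=
    pullback.lift (j ≫ s) (𝟙 _) (by rw [Category.assoc, hs, Category.comp_id, Category.id_comp])
  have hE := sectionComponents_baseChange hs (IsPullback.of_hasPullback f j) (s' := s') (pullback.lift_snd _ _ _)
    (pullback.lift_fst _ _ _)
  obtain ⟨a, G₁, G₂, hap, hG₁, hG₂, hG⟩ := exists_clopen_affine (R := Γ(Y, W)) f' s' (pullback.lift_snd _ _ _) p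
  have key : ∀ G : Set ↥(pullback f j), IsClosed G → ∀ w, g' w ∈ closure (g' '' G) ↔ w ∈ G := by
    intro G hG w
    conv_rhs => rw [← hG.closure_eq, g'.isEmbedding.isInducing.closure_eq_preimage_closure_image]
    rfl
  refine ⟨⟨j '' (PrimeSpectrum.basicOpen a : Set (PrimeSpectrum Γ(Y, W))),
    j.isOpenEmbedding.isOpenMap _ (PrimeSpectrum.basicOpen a).2⟩, closure (g' '' G₁), closure (g' '' G₂),
    ⟨p, hap, hp⟩, isClosed_closure, isClosed_closure, fun x hcl ⟨P, hP, hPx⟩ => ?_⟩
  obtain ⟨w, hw, hwP⟩ := Scheme.Pullback.exists_preimage_pullback (f := f) (g := j) x P hPx.symm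
  have hle : p.asIdeal ≤ (f' w : PrimeSpectrum Γ(Y, W)).asIdeal := by
    rw [show f' w = P from hwP]
    rw [PrimeSpectrum.asIdeal_le_asIdeal, PrimeSpectrum.le_iff_specializes]
    show @Specializes ↥(Spec Γ(Y, W)) _ p P
    rw [← j.isOpenEmbedding.isInducing.specializes_iff, specializes_iff_mem_closure, hp, hPx]
    exact hcl
  obtain ⟨h1, h2⟩ := hG w hle (by rw [show f' w = P from hwP]; exact hP)
  rw [← show g' w = x from hw]
  rw [hE] at h1 h2
  exact ⟨(key G₁ hG₁ w).trans h1, (key G₂ hG₂ w).trans h2⟩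

/-- Over a Noetherian base the union is constructible. -/
theorem isConstructible_noetherian (f : X ⟶ Y) (s : Y ⟶ X) (hs : s ≫ f = 𝟙 Y) [LocallyOfFiniteType f]
    [QuasiCompact f] [IsNoetherian Y] : IsConstructible (sectionComponents f s) := by
  haveI : IsLocallyNoetherian X := LocallyOfFiniteType.isLocallyNoetherian f
  haveI : CompactSpace X := QuasiCompact.compactSpace_of_compactSpace f
  haveI : IsNoetherian X := {}
  refine ConsH13.isConstructible_of_generic _ fun Z hZ hZc => ?_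
  have hg := hZ.isGenericPoint_genericPoint_closure
  rw [hZc.closure_eq] at hg
  obtain ⟨U, F₁, F₂, hzU, hF₁, hF₂, hF⟩ := exists_clopen f s hs (f hZ.genericPoint)
  have hcl : ∀ x ∈ Z, f x ∈ closure ({f hZ.genericPoint} : Set Y) := fun x hx =>
    ((hg.specializes hx).map f.continuous).mem_closure
  have hself := hF hZ.genericPoint (subset_closure rfl) hzU
  refine ⟨f ⁻¹' U, U.2.preimage f.continuous, ⟨_, hg.mem, hzU⟩, ?_⟩
  by_cases h : hZ.genericPoint ∈ sectionComponents f s
  · exact .inl fun x ⟨hx, hxU⟩ => ((hF x (hcl x hx) hxU).1).1 ((hg.specializes hx).mem_closed hF₁ (hself.1.2 h))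
  · exact .inr fun x ⟨hx, hxU⟩ => ((hF x (hcl x hx) hxU).2).1 ((hg.specializes hx).mem_closed hF₂ (hself.2.2 h))

/-- EGA IV 15.6: the union of the components along a section is constructible. -/
theorem isLocallyConstructible_sectionComponents (f : X ⟶ Y) (s : Y ⟶ X) (hs : s ≫ f = 𝟙 Y)
    [LocallyOfFinitePresentation f] [QuasiCompact f] [QuasiSeparated f] :
    IsLocallyConstructible (sectionComponents f s) := by
  intro x
  obtain ⟨W, hW, hxW, -⟩ := exists_isAffineOpen_mem_and_subset (X := Y) (x := f x) (U := ⊤) trivial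
  let j := hW.fromSpec
  let A := Γ(Y, W)
  let g' := pullback.fst f j
  let u := pullback.snd f j
  let t : Spec A ⟶ pullback f j :=
    pullback.lift (j ≫ s) (𝟙 _) (by rw [Category.assoc, hs, Category.comp_id, Category.id_comp])
  have ht : t ≫ u = 𝟙 _ := pullback.lift_snd _ _ _
  have hE := sectionComponents_baseChange hs (IsPullback.of_hasPullback f j) (s' := t) ht (pullback.lift_fst _ _ _)
  haveI : LocallyOfFinitePresentation (t ≫ u) := by rw [ht]; infer_instance
  haveI : QuasiCompact (t ≫ u) := by rw [ht]; infer_instance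
  haveI : QuasiSeparated (t ≫ u) := by rw [ht]; infer_instance
  obtain ⟨R, hR, π, S', X', f', u', qS, qX, i1, i2, i3, i4, sY, sX⟩ := ConsH13.exists_noetherian_model_mor A t u
  haveI := i1; haveI := i2; haveI := i3; haveI := i4
  haveI : IsLocallyNoetherian S' := LocallyOfFiniteType.isLocallyNoetherian (f' ≫ u')
  haveI : CompactSpace S' := QuasiCompact.compactSpace_of_compactSpace (f' ≫ u')
  haveI : IsNoetherian S' := {}
  let s'' : S' ⟶ pullback u' (f' ≫ u') := pullback.lift f' (𝟙 _) (by rw [Category.id_comp])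
  have hv : qS ≫ f' ≫ u' = π := by
    rw [(sX.paste_vert sY).w, ht, Category.id_comp]
  let g'' : pullback f j ⟶ pullback u' (f' ≫ u') := pullback.lift qX (u ≫ qS) (by rw [Category.assoc, hv, sY.w])
  have hsq : IsPullback g'' u (pullback.snd u' (f' ≫ u')) qS :=
    IsPullback.of_right (by rw [pullback.lift_fst, hv]; exact sY) (pullback.lift_snd _ _ _)
      (IsPullback.of_hasPullback u' (f' ≫ u'))
  have hts : t ≫ g'' = qS ≫ s'' := by
    apply pullback.hom_ext
    · rw [Category.assoc, Category.assoc, pullback.lift_fst, pullback.lift_fst]; exact sX.w.symm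
    · rw [Category.assoc, Category.assoc, pullback.lift_snd, pullback.lift_snd, ← Category.assoc, ht,
        Category.id_comp, Category.comp_id]
  have hEA := sectionComponents_baseChange (pullback.lift_snd _ _ _) hsq ht hts
  have hc : IsConstructible (g' ⁻¹' sectionComponents f s) := by
    rw [← hE, hEA]
    exact g''.isConstructible_preimage (isConstructible_noetherian _ _ (pullback.lift_snd _ _ _))
  refine ⟨Set.range g', g'.isOpenEmbedding.isOpen_range.mem_nhds ?_, g'.isOpenEmbedding.isOpen_range, ?_⟩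
  · obtain ⟨w, hw, -⟩ := Scheme.Pullback.exists_preimage_pullback (f := f) (g := j) x (hW.primeIdealOf ⟨f x, hxW⟩)
      (hW.fromSpec_primeIdealOf ⟨f x, hxW⟩).symm
    exact ⟨w, hw⟩
  · let e := g'.isOpenEmbedding.toIsEmbedding.toHomeomorph
    have h := hc.preimage_of_isOpenEmbedding e.symm.isOpenEmbedding
    refine (congrArg IsConstructible (Set.ext fun a => ?_)).mp h
    show g' (e.symm a) ∈ sectionComponents f s ↔ a.1 ∈ sectionComponents f s
    rw [show g' (e.symm a) = a.1 from congrArg Subtype.val (e.apply_symm_apply a)]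

end Groth.Agent.SectionCompConn4
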