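import Groth.Prelude.Def_HTor
import Groth.Agent.Lib.DMV.GammaUnit
import Groth.Agent.Lib.DMV.Derived
import Groth.Agent.Lib.DMV.Perfect
import Groth.Agent.Lib.KInj.RightDerived
import Groth.Agent.Lib.DQC.Affine
import Groth.Agent.Lib.DQC.Tensor
import Groth.Agent.Lib.DMod.Amplitude
import Groth.Agent.Lib.DMod.Homology
import Groth.Agent.Lib.FlatSyz.ProjDim

/-! Bounds on `RΓ(X, P)` in `D(A)` and resolutions by complexes of free or projective modules. -/

set_option autoImplicit false
set_option linter.style.haveILetI false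
set_option linter.unusedSectionVars false
set_option backward.isDefEq.respectTransparency false
set_option backward.isDefEq.respectTransparency.types false
set_option maxHeartbeats 800000

universe u

open CategoryTheory CategoryTheory.Limits AlgebraicGeometry

attribute [local instance] HasDerivedCategory.standard

namespace Groth.Agent.HTorRG27

variable {X : Scheme.{u}}

/-- No classes over a union of `t` affines with affine intersections, `t` degrees above the cohomology sheaves. -/
theorem subsingleton_classes (haff : ∀ V W : X.Opens, IsAffineOpen V → IsAffineOpen W → IsAffineOpen (V ⊓ W))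
    {W : X.Opens} (t : ℕ) (U : Fin t → X.Opens) (hU : ∀ i, IsAffineOpen (U i)) (hW : ⨆ i, U i = W)
    (L : DCoh.D X) (hL : DCoh.IsQCohD L) (m : ℤ)
    (hz : ∀ q, m - t < q → q ≤ m → IsZero (DCoh.HD L q)) :
    Subsingleton ((DerivedCategory.singleFunctor X.Modules m).obj ((DQC.gen X).obj W) ⟶ L) := by
  have hext : ∀ (M : X.Modules), Coh.IsQCoh M → ∀ p, t ≤ p →
      Subsingleton (Abelian.Ext.{u} ((DQC.gen X).obj W) M p) := fun M hM p hp =>
    haveI : M.IsQuasicoherent := hM
    SiteRlim.subsingleton_ext_freeOn X.sheaf W M p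
      ((CohFound.huExt ((CohFound.abF X).obj M) p W).toEquiv.subsingleton_congr.2
        (hW ▸ CohFound.subsingleton_hc_iSup_affine M haff t U hU p hp))
  let n := ((t : ℤ) - m).toNat
  haveI := DQC.hasProduct_nat (CohCx.truncTower L)
  have hst : SiteRlim.Stable (CohCx.truncTower L) (CohCx.truncTowerMap L) m n ((DQC.gen X).obj W) :=
    SiteRlim.stable_truncTower L m n fun n' hn' k _ _ => hext _ (hL _) k (by omega)
  have hinj := (hst.bijective (DQC.isRlimVia_truncTower L hL)).1
  suffices _ from @Function.Injective.subsingleton _ _ _ hinj this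
  refine SiteRlim.subsingleton_hom_of_homology m _ (-(n : ℤ)) inferInstance fun q hq => ?_
  by_cases hqn : -(n : ℤ) ≤ q
  · haveI := SiteRlim.isIso_homology_toTruncTower L n q hqn
    refine ((DerivedCategory.singleFunctor X.Modules q).mapIso
      (asIso ((DerivedCategory.homologyFunctor X.Modules q).map (CohCx.toTruncTower L n)))).homToEquiv.subsingleton_congr.1 ?_
    by_cases hqm : m - t < q
    · exact ⟨fun x y => ((DerivedCategory.singleFunctor X.Modules q).map_isZero (hz q hqm hq)).eq_of_tgt x y⟩
    · obtain ⟨k, hk⟩ : ∃ k : ℕ, q + k = m := ⟨(m - q).toNat, by omega⟩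
      exact SiteRlim.subsingleton_hom_single m q k hk (hext _ (hL q) k (by omega))
  · exact ⟨fun x y => ((DerivedCategory.singleFunctor X.Modules q).map_isZero
      (SiteRlim.isZero_homology_truncTower L n q (by omega))).eq_of_tgt x y⟩

/-- Cycles of sections of a K-injective complex are boundaries when there are no classes. -/
theorem exists_boundary {W : X.Opens} (I : CochainComplex X.Modules ℤ) [I.IsKInjective] (m : ℤ)
    (h : Subsingleton ((DerivedCategory.singleFunctor X.Modules m).obj ((DQC.gen X).obj W) ⟶ DerivedCategory.Q.obj I))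
    (z : Γ(I.X m, W)) (hz : (I.d m (m + 1)).app W z = 0) :
    ∃ w : Γ(I.X (m - 1), W), (I.d (m - 1) m).app W w = z := by
  let z' := (DQC.genHom W (I.X m)).symm z
  have hz' : z' ≫ I.d m (m + 1) = 0 := by
    apply (DQC.genHom W _).injective
    rw [DQC.genHom_comp, Equiv.apply_symm_apply, hz]
    rw [← zero_comp (f := (0 : I.X (m + 1) ⟶ I.X (m + 1))) (X := (DQC.gen X).obj W), DQC.genHom_comp]
    rfl
  let k : (HomologicalComplex.single X.Modules (ComplexShape.up ℤ) m).obj ((DQC.gen X).obj W) ⟶ I :=
    HomologicalComplex.mkHomFromSingle z' (fun j (hj : m + 1 = j) => by subst hj; exact hz')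
  let σ := (DerivedCategory.singleFunctorIsoCompQ X.Modules m).app ((DQC.gen X).obj W)
  have h0 : DerivedCategory.Q.map k = DerivedCategory.Q.map 0 := by
    rw [← cancel_epi σ.hom]
    exact h.elim _ _
  have h1 : DerivedCategory.Qh.map ((HomotopyCategory.quotient _ _).map k) =
      DerivedCategory.Qh.map ((HomotopyCategory.quotient _ _).map 0) := h0
  have h2 := (CochainComplex.IsKInjective.Qh_map_bijective _ I).1 h1
  obtain ⟨w, hw⟩ := DMV.exists_of_homotopy (HomotopyCategory.homotopyOfEq _ _ h2)
  refine ⟨DQC.genHom W _ w, ?_⟩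
  rw [← DQC.genHom_comp]
  simp [k] at hw
  rw [← hw]
  exact Equiv.apply_symm_apply _ _

variable {A : Type u} [CommRing A] (f : X ⟶ Spec (CommRingCat.of A)) [HTor.HasRΓA f]

/-- A K-injective complex computes `RΓ(X, -)` in `D(A)`. -/
noncomputable def gammaAIso (I : CochainComplex X.Modules ℤ) [I.IsKInjective] :
    DRing.toD (((HTor.globalSectionsA f).mapHomologicalComplex (ComplexShape.up ℤ)).obj I) ≅
      (HTor.RΓA f).obj (DerivedCategory.Q.obj I) :=
  let u := (HTor.gammaAKh f).totalRightDerivedUnit DerivedCategory.Qh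
    (HomotopyCategory.quasiIso X.Modules (ComplexShape.up ℤ))
  haveI := KInjLib.isIso_app_of_isKInjective (A := X.Modules) KInjLib.enoughKInj_of_grothendieck u I
  ((DerivedCategory.quotientCompQhIso (ModuleCat.{u} A)).app _).symm ≪≫
    DerivedCategory.Qh.mapIso (((HTor.globalSectionsA f).mapHomotopyCategoryFactors (ComplexShape.up ℤ)).app I).symm ≪≫
    asIso (u.app ((HomotopyCategory.quotient _ (ComplexShape.up ℤ)).obj I)) ≪≫
    (HTor.RΓA f).mapIso ((DerivedCategory.quotientCompQhIso X.Modules).app I)

variable [QuasiCompact f] [IsSeparated f]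

include f in
omit [HTor.HasRΓA f] [QuasiCompact f] in
theorem isAffineOpen_inf (V W : X.Opens) (hV : IsAffineOpen V) (hW : IsAffineOpen W) : IsAffineOpen (V ⊓ W) := by
  haveI : X.IsSeparated := by
    constructor
    rw [← terminal.comp_from f]
    infer_instance
  exact hV.inf hW

/-- Hypercohomology of a complex with quasi-coherent cohomology lies in the range of the cohomology sheaves,
enlarged by the size of an affine cover. -/
theorem subsingleton_HD (N : ℕ) (U : Fin (N + 1) → X.Opens) (hU : ∀ i, IsAffineOpen (U i)) (hcov : ⨆ i, U i = ⊤)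
    (K : DCoh.D X) (hK : DCoh.IsQCohD K) (m : ℤ)
    (hz : ∀ q, m - (N + 1 : ℕ) < q → q ≤ m → IsZero (DCoh.HD K q)) :
    Subsingleton (Dual.HD A ((HTor.RΓA f).obj K) m) := by
  obtain ⟨I, hI, ⟨e⟩⟩ := KInjLib.exists_iso_kInjective K
  haveI := hI
  let G := ((HTor.globalSectionsA f).mapHomologicalComplex (ComplexShape.up ℤ)).obj I
  suffices h : Subsingleton (G.homology m) from
    ((DerivedCategory.homologyFunctor (ModuleCat.{u} A) m).mapIso
      ((HTor.RΓA f).mapIso e ≪≫ (gammaAIso f I).symm)).toLinearEquiv.toEquiv.subsingleton_congr.2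
      ((DMod.subsingleton_HD_toD_iff G m).2 h)
  have h1 := subsingleton_classes (isAffineOpen_inf f) (N + 1) U hU (W := f ⁻¹ᵁ ⊤) hcov K hK m hz
  have h2 : Subsingleton ((DerivedCategory.singleFunctor X.Modules m).obj ((DQC.gen X).obj (f ⁻¹ᵁ ⊤)) ⟶
      DerivedCategory.Q.obj I) := e.homToEquiv.subsingleton_congr.1 h1
  rw [DMod.subsingleton_homology_iff G (i := m - 1) (k := m + 1) (by simp) (by simp)]
  intro x hx
  exact exists_boundary I m h2 x hx

theorem isZero_HD_toD (P : CochainComplex X.Modules ℤ) (i : ℤ) (h : IsZero (P.X i)) :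
    IsZero (DCoh.HD (DCoh.toD X P) i) :=
  ((HomologicalComplex.exactAt_iff_isZero_homology P i).1
    (ShortComplex.exact_of_isZero_X₂ _ h)).of_iso ((DerivedCategory.homologyFunctorFactors _ i).app P)

omit [HTor.HasRΓA f] [QuasiCompact f] [IsSeparated f] in
/-- Bounded resolutions by projectives when all modules have projective dimension at most `d`. -/
theorem exists_projective_complex (d : ℕ) (hA : ∀ M : ModuleCat.{u} A, HasProjectiveDimensionLT M (d + 1))
    (K : Dual.D A) (a b : ℤ) [K.IsLE b] [K.IsGE a] :
    ∃ L : DRing.Cx A, (∀ i : ℤ, Module.Projective A (L.X i)) ∧ DRing.VanishesOutside L (a - d) b ∧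
      Nonempty (DRing.toD L ≅ K) := by
  obtain ⟨F, hF, hFf, ⟨e⟩⟩ := DMod.exists_free_resolution K b
  have hge : (DRing.toD F).IsGE a := (DMod.tS A).isGE_of_iso e.symm a
  have hge' : (DRing.toD F).IsGE (a - d) := (DMod.isGE_iff _ _).2 fun i hi => (DMod.isGE_iff _ a).1 hge i (by omega)
  obtain ⟨e'⟩ := DMod.exists_truncFrom_iso F (a - d)
  have hFp : ∀ i, Module.Projective A (F.X i) := fun i => have := hFf i; inferInstance
  have key : ∀ k : ℕ, k ≤ d → ∀ j : ℤ, j + k = a →
      HasProjectiveDimensionLE (ModuleCat.of A (F.X j ⧸ LinearMap.range (F.d (j - 1) j).hom)) (d - k) := by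
    intro k
    induction k with
    | zero => exact fun _ _ _ => hA _
    | succ k ih =>
      intro hk j hj
      have hnext := ih (by omega) (j + 1) (by omega)
      rw [show j + 1 - 1 = j from by omega] at hnext
      have hker : LinearMap.range (F.d (j - 1) j).hom = LinearMap.ker (F.d j (j + 1)).hom := by
        apply le_antisymm
        · rintro _ ⟨y, rfl⟩
          exact congrArg (fun g => g.hom y) (F.d_comp_d (j - 1) j (j + 1))
        · intro x hx
          exact (DMod.subsingleton_homology_iff F (i := j - 1) (k := j + 1) (by simp) (by simp)).1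
            ((DMod.subsingleton_HD_toD_iff F j).1 ((DMod.isGE_iff _ a).1 hge j (by omega))) x hx
      let ι := (LinearMap.range (F.d (j - 1) j).hom).liftQ (F.d j (j + 1)).hom hker.le
      have hinj : Function.Injective ι := by
        rw [← LinearMap.ker_eq_bot]
        exact Submodule.ker_liftQ_eq_bot _ _ _ hker.ge
      have hex : Function.Exact ι (LinearMap.range (F.d j (j + 1)).hom).mkQ := by
        rw [LinearMap.exact_iff, Submodule.ker_mkQ, Submodule.range_liftQ]
      have := FlatSyz.hasProjectiveDimensionLE_succ_iff (R := A) ι hinj _ hex (Submodule.mkQ_surjective _) (d - (k + 1))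
      rw [show d - (k + 1) + 1 = d - k from by omega] at this
      exact this.1 hnext
  have hbot : Module.Projective A (F.X (a - d) ⧸ LinearMap.range (F.d (a - d - 1) (a - d)).hom) := by
    have h := key d le_rfl (a - d) (by omega)
    rw [Nat.sub_self] at h
    exact (IsProjective.iff_projective _).2 ((projective_iff_hasProjectiveDimensionLE_zero _).2 h)
  exact ⟨DMod.truncFrom F (a - d),
    DMod.truncFrom_mem DMod.modClass_projective F _ (fun i _ => hFp i)
      (Module.Projective.of_equiv (DMod.truncFromBotEquiv F (a - d))),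
    DMod.vanishesOutside_truncFrom F _ b, ⟨e' ≪≫ e⟩⟩

end Groth.Agent.HTorRG27
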