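import Groth.Agent.S6361
import Groth.Agent.S6338
import Groth.Agent.Lib.Hens.Local
import Mathlib.Algebra.Module.FinitePresentation
import Mathlib.RingTheory.IntegralClosure.Algebra.Basic
import Mathlib.RingTheory.Ideal.AssociatedPrime.Basic
import Mathlib.LinearAlgebra.TensorProduct.Finiteness

/-! Countably generated Mittag-Leffler modules over henselian local rings split into finitely
presented pieces. -/

set_option autoImplicit false
universe u

namespace Groth.Agent.HenselML3

variable {R : Type u} [CommRing R] [HenselianLocalRing R]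

/-- An endomorphism of a finite module is invertible on an idempotent piece containing its fixed vectors. -/
theorem exists_fixed_split {Q : Type u} [AddCommGroup Q] [Module R Q] [Module.Finite R Q]
    (g : Module.End R Q) :
    ∃ u e : Module.End R Q, u * g = e ∧ e * u = u ∧ ∀ q, g q = q → u q = q := by
  classical
  let A := Algebra.adjoin R {g}
  haveI : Module.Finite R A := Module.Finite.iff_fg.2 (IsIntegral.fg_adjoin_singleton (Algebra.IsIntegral.isIntegral g))
  letI : CommRing A :=
    { (inferInstance : Ring A) with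
      mul_comm := fun a b => Subtype.ext (Algebra.commute_of_mem_adjoin_singleton_of_commute a.2
        (Algebra.commute_of_mem_adjoin_self b.2).symm).eq.symm }
  haveI : IsScalarTower R R A := IsScalarTower.left R
  obtain ⟨ι, _, C, _, hC, ⟨E⟩⟩ := Hens.exists_ringEquiv_pi_of_surjOn (A := R) (B := A)
    (haveI : Algebra.IsIntegral R A := Algebra.IsIntegral.of_finite R A
     Hens.surjOn_idempotents_of_henselian)
  let t : A := ⟨g, Algebra.self_mem_adjoin_singleton R g⟩
  let e : A := E.symm fun i => if IsUnit (E t i) then 1 else 0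
  let u : A := E.symm fun i => if h : IsUnit (E t i) then ↑h.unit⁻¹ else 0
  let w : A := E.symm fun i => if IsUnit (E t i) then 0 else Ring.inverse (1 - E t i)
  have h1 : u * t = e := E.injective (funext fun i => by
    simp only [u, e, map_mul, RingEquiv.apply_symm_apply, Pi.mul_apply]
    split_ifs with h
    · exact h.val_inv_mul
    · exact zero_mul _)
  have h2 : e * u = u := E.injective (funext fun i => by
    simp only [u, e, map_mul, RingEquiv.apply_symm_apply, Pi.mul_apply]
    split_ifs with h <;> simp)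
  have h3 : w * (1 - t) + e = 1 := E.injective (funext fun i => by
    simp only [w, e, map_add, map_mul, map_sub, map_one, RingEquiv.apply_symm_apply, Pi.mul_apply,
      Pi.add_apply, Pi.sub_apply, Pi.one_apply]
    split_ifs with h
    · simp
    · rw [add_zero]
      haveI := hC i
      exact Ring.inverse_mul_cancel _ ((IsLocalRing.isUnit_or_isUnit_one_sub_self (E t i)).resolve_left h))
  refine ⟨u.1, e.1, congrArg Subtype.val h1, congrArg Subtype.val h2, fun q hq => ?_⟩
  have hg : u.1 (g q) = e.1 q := LinearMap.congr_fun (congrArg Subtype.val h1) q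
  have he : e.1 q = q := by
    have := LinearMap.congr_fun (congrArg Subtype.val h3) q
    simpa [t, hq] using this
  rwa [hq, he] at hg

/-- Every finite family of vectors lies in a finitely presented direct summand. -/
theorem exists_projection (M : Type u) [AddCommGroup M] [Module R M] (hML : CAlg.IsMittagLeffler R M)
    (hc : CAlg.IsCountablyGenerated R M) {P : Type u} [AddCommGroup P] [Module R P] [Module.Finite R P]
    (f : P →ₗ[R] M) :
    ∃ π : M →ₗ[R] M, π ∘ₗ π = π ∧ (∀ a, π (f a) = f a) ∧ Module.FinitePresentation R (LinearMap.range π) := by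
  obtain ⟨Q, _, _, _, b, c, hbc⟩ := Groth.Agent.S6361.result R M hML hc f
  have hx : ∀ a, c (b (f a)) = f a := fun a => LinearMap.congr_fun hbc a
  haveI : Module.Finite R Q := inferInstance
  obtain ⟨u, e, hu, he, huq⟩ := exists_fixed_split (b ∘ₗ c)
  let π := c ∘ₗ u ∘ₗ b
  have hπ : π ∘ₗ π = π := by
    refine LinearMap.ext fun m => congrArg c ?_
    show u (b (c (u (b m)))) = u (b m)
    rw [show u (b (c (u (b m)))) = (u * (b ∘ₗ c)) (u (b m)) from rfl, hu, ← Module.End.mul_apply, he]
  refine ⟨π, hπ, fun a => ?_, ?_⟩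
  · show c (u (b (f a))) = f a
    rw [huq _ (congrArg b (hx a)), hx]
  let r : Q →ₗ[R] LinearMap.range π := π.rangeRestrict ∘ₗ c
  let i : LinearMap.range π →ₗ[R] Q := u ∘ₗ b ∘ₗ (LinearMap.range π).subtype
  have hri : ∀ n, r (i n) = n := by
    rintro ⟨_, m, rfl⟩
    refine Subtype.ext ?_
    show π (π (π m)) = π m
    rw [← LinearMap.comp_apply π π, hπ, ← LinearMap.comp_apply π π, hπ]
  refine Module.finitePresentation_of_surjective r (fun n => ⟨i n, hri n⟩) ?_
  rw [show LinearMap.ker r = LinearMap.range (LinearMap.id - i ∘ₗ r) from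
    le_antisymm (fun z hz => ⟨z, by simp [LinearMap.mem_ker.1 hz]⟩) (by
      rintro _ ⟨z, rfl⟩
      simp [hri])]
  exact Submodule.fg_range _

omit [HenselianLocalRing R] in
theorem universallyInjective_subtype_range {M : Type u} [AddCommGroup M] [Module R M] (p : M →ₗ[R] M)
    (hp : p ∘ₗ p = p) : CAlgX.UniversallyInjective R (LinearMap.range p).subtype := by
  intro Q _ _
  have h : p.rangeRestrict ∘ₗ (LinearMap.range p).subtype = LinearMap.id := by
    refine LinearMap.ext ?_
    rintro ⟨_, m, rfl⟩
    exact Subtype.ext (LinearMap.congr_fun hp m)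
  refine Function.LeftInverse.injective (g := p.rangeRestrict.rTensor Q) fun z => ?_
  rw [← LinearMap.rTensor_comp_apply, h, LinearMap.rTensor_id]
  rfl

/-- A step of the splitting. -/
theorem exists_step (M : Type u) [AddCommGroup M] [Module R M] (hML : CAlg.IsMittagLeffler R M)
    (hc : CAlg.IsCountablyGenerated R M) (p : M →ₗ[R] M) (hp : p ∘ₗ p = p) (x : M) :
    ∃ π : M →ₗ[R] M, π ∘ₗ π = π ∧ p ∘ₗ π = π ∧ π ∘ₗ p = π ∧ π x = p x ∧
      Module.FinitePresentation R (LinearMap.range π) := by
  have hc' : CAlg.IsCountablyGenerated R (LinearMap.range p) := by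
    obtain ⟨s, hs, hs'⟩ := hc
    refine ⟨p.rangeRestrict '' s, hs.image _, ?_⟩
    rw [← Submodule.map_span, hs', Submodule.map_top, LinearMap.range_rangeRestrict]
  obtain ⟨π, hπ, hπf, hfp⟩ := exists_projection (LinearMap.range p)
    (Groth.Agent.S6338.result R _ (universallyInjective_subtype_range p hp) hML) hc'
    (LinearMap.toSpanSingleton R _ (p.rangeRestrict x))
  have hπx : π (p.rangeRestrict x) = p.rangeRestrict x := by simpa using hπf 1
  let T := (LinearMap.range p).subtype ∘ₗ π ∘ₗ p.rangeRestrict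
  have hr : ∀ n : LinearMap.range p, p.rangeRestrict (n : M) = n := by
    rintro ⟨_, m, rfl⟩
    exact Subtype.ext (LinearMap.congr_fun hp m)
  refine ⟨T, ?_, ?_, ?_, ?_, ?_⟩
  · refine LinearMap.ext fun m => congrArg Subtype.val ?_
    show π (p.rangeRestrict (π (p.rangeRestrict m) : M)) = π (p.rangeRestrict m)
    rw [hr, ← LinearMap.comp_apply π π, hπ]
  · refine LinearMap.ext fun m => ?_
    exact congrArg Subtype.val (hr (π (p.rangeRestrict m)))
  · refine LinearMap.ext fun m => ?_
    show (π (p.rangeRestrict (p m)) : M) = π (p.rangeRestrict m)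
    rw [show p.rangeRestrict (p m) = p.rangeRestrict m from hr (p.rangeRestrict m)]
  · exact congrArg Subtype.val hπx
  · haveI := hfp
    have : LinearMap.range T = (LinearMap.range π).map (LinearMap.range p).subtype := by
      show LinearMap.range (((LinearMap.range p).subtype ∘ₗ π) ∘ₗ p.rangeRestrict) = _
      rw [LinearMap.range_comp_of_range_eq_top _ (LinearMap.range_rangeRestrict p), LinearMap.range_comp]
    exact Module.FinitePresentation.of_equiv ((Submodule.equivMapOfInjective _
      (LinearMap.range p).injective_subtype _).trans (LinearEquiv.ofEq _ _ this.symm))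

theorem exists_internal (M : Type u) [AddCommGroup M] [Module R M] (hML : CAlg.IsMittagLeffler R M)
    (hc : CAlg.IsCountablyGenerated R M) :
    ∃ (ι : Type u) (_ : DecidableEq ι) (N : ι → Submodule R M), DirectSum.IsInternal N ∧
      ∀ i, Module.FinitePresentation R (N i) := by
  classical
  obtain ⟨s, hs, hs'⟩ := id hc
  obtain ⟨x, hx⟩ := (hs.insert 0).exists_eq_range (Set.insert_nonempty 0 s)
  choose Φ hΦ using fun (p : {p : M →ₗ[R] M // p ∘ₗ p = p}) (n : ℕ) => exists_step M hML hc p.1 p.2 (x n)
  let rest : ℕ → {p : M →ₗ[R] M // p ∘ₗ p = p} := fun n => Nat.rec (motive := fun _ => _) ⟨LinearMap.id, rfl⟩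
    (fun n p => ⟨p.1 - Φ p n, by
      obtain ⟨h1, h2, h3, -⟩ := hΦ p n
      simp only [LinearMap.comp_sub, LinearMap.sub_comp, p.2, h1, h2, h3, sub_self, sub_zero]⟩) n
  let π : ℕ → M →ₗ[R] M := fun n => Φ (rest n) n
  have hrest : ∀ n, (rest (n + 1)).1 = (rest n).1 - π n := fun n => rfl
  have hπ : ∀ n, π n ∘ₗ π n = π n := fun n => (hΦ _ n).1
  have hpπ : ∀ n, (rest n).1 ∘ₗ π n = π n := fun n => (hΦ _ n).2.1
  have hπp : ∀ n, π n ∘ₗ (rest n).1 = π n := fun n => (hΦ _ n).2.2.1
  have hmono : ∀ n m, n ≤ m → (rest n).1 ∘ₗ (rest m).1 = (rest m).1 ∧ (rest m).1 ∘ₗ (rest n).1 = (rest m).1 := by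
    intro n m h
    induction m, h using Nat.le_induction with
    | base => exact ⟨(rest n).2, (rest n).2⟩
    | succ m h ih =>
      have e1 : (rest n).1 ∘ₗ π m = π m := by
        conv_rhs => rw [← hpπ m, ← ih.1, LinearMap.comp_assoc, hpπ m]
      have e2 : π m ∘ₗ (rest n).1 = π m := by
        conv_rhs => rw [← hπp m, ← ih.2, ← LinearMap.comp_assoc, hπp m]
      rw [hrest, LinearMap.comp_sub, LinearMap.sub_comp, ih.1, ih.2, e1, e2]
      exact ⟨rfl, rfl⟩
  have hzero : ∀ n, (rest (n + 1)).1 ∘ₗ π n = 0 ∧ π n ∘ₗ (rest (n + 1)).1 = 0 := by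
    intro n
    rw [hrest, LinearMap.sub_comp, LinearMap.comp_sub, hpπ, hπp, hπ, sub_self]
    exact ⟨rfl, rfl⟩
  have horth : ∀ n m, n ≠ m → π n ∘ₗ π m = 0 := by
    intro n m hnm
    rcases lt_or_gt_of_ne hnm with h | h
    · rw [← hpπ m, ← (hmono (n + 1) m h).1, LinearMap.comp_assoc, ← LinearMap.comp_assoc _ _ (π n),
        (hzero n).2, LinearMap.zero_comp]
    · rw [← hπp n, ← (hmono (m + 1) n h).2, ← LinearMap.comp_assoc, LinearMap.comp_assoc (π m),
        (hzero m).1, LinearMap.comp_zero]
  refine ⟨ULift.{u} ℕ, inferInstance, fun n => LinearMap.range (π n.down), ?_, fun n => (hΦ _ n.down).2.2.2.2⟩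
  refine DirectSum.isInternal_submodule_of_iSupIndep_of_iSup_eq_top (fun n => ?_) ?_
  · rw [Submodule.disjoint_def]
    rintro _ ⟨a, rfl⟩ hy
    have : ∀ y ∈ ⨆ (j) (_ : j ≠ n), LinearMap.range (π j.down), π n.down y = 0 := by
      intro y hy
      have hle : (⨆ (j) (_ : j ≠ n), LinearMap.range (π j.down)) ≤ LinearMap.ker (π n.down) :=
        iSup₂_le fun j hj => by
          rintro _ ⟨b, rfl⟩
          exact LinearMap.congr_fun (horth _ _ fun h => hj (ULift.ext _ _ h.symm)) b
      exact hle hy
    have h := this _ hy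
    rwa [← LinearMap.comp_apply, hπ] at h
  · rw [eq_top_iff, ← hs', Submodule.span_le]
    intro m hm
    obtain ⟨j, rfl⟩ : m ∈ Set.range x := hx ▸ Set.mem_insert_of_mem _ hm
    have hsum : ∀ n, x j - (rest n).1 (x j) ∈ ⨆ i : ULift.{u} ℕ, LinearMap.range (π i.down) := by
      intro n
      induction n with
      | zero => simp [rest]
      | succ n ih =>
        rw [hrest, LinearMap.sub_apply, sub_sub_eq_add_sub, add_sub_right_comm]
        exact add_mem ih (Submodule.mem_iSup_of_mem (ULift.up n) ⟨_, rfl⟩)
    have hj : (rest (j + 1)).1 (x j) = 0 := by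
      rw [hrest, LinearMap.sub_apply, sub_eq_zero]
      exact ((hΦ (rest j) j).2.2.2.1).symm
    simpa [hj] using hsum (j + 1)

open IsLocalRing TensorProduct in
/-- Associated primes of a tensor product with a Mittag-Leffler module meet the closed fibre. -/
theorem sup_map_ne_top {S : Type u} [CommRing S] [Algebra R S] (N : Type u) [AddCommGroup N] [Module S N]
    [Module R N] [IsScalarTower R S N] (hcg : CAlg.IsCountablyGenerated R N) (hML : CAlg.IsMittagLeffler R N)
    (M : Type u) [AddCommGroup M] [Module R M] (q : Ideal S) [q.IsPrime]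
    (hq : q ∈ associatedPrimes S (N ⊗[R] M)) : q ⊔ (maximalIdeal R).map (algebraMap R S) ≠ ⊤ := by
  intro htop
  obtain ⟨hprime, z, hz⟩ := hq
  obtain ⟨a, ha, b, hb, hab⟩ := Submodule.mem_sup.1 ((Ideal.eq_top_iff_one _).1 htop)
  rw [hz] at ha
  obtain ⟨n, hn⟩ := Ideal.mem_radical_iff.1 ha
  have hn' : a ^ n • z = 0 := by simpa [Submodule.mem_colon_singleton] using hn
  obtain ⟨c, hc⟩ : (1 - a) ∣ (1 - a ^ n) := by simpa using sub_dvd_pow_sub_pow 1 a n
  let b' := b * c
  have hb' : b' ∈ (maximalIdeal R).map (algebraMap R S) := Ideal.mul_mem_right _ _ hb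
  have hbz : b' • z = z := by
    have h1 : b' = 1 - a ^ n := by rw [hc, ← hab]; ring
    rw [h1, sub_smul, one_smul, hn', sub_zero]
  have hmem : ∀ x : N, b' • x ∈ maximalIdeal R • (⊤ : Submodule R N) := by
    have key : ∀ s ∈ (maximalIdeal R).map (algebraMap R S), ∀ x : N, s • x ∈ maximalIdeal R • (⊤ : Submodule R N) := by
      intro s hs
      induction hs using Submodule.span_induction with
      | mem y hy =>
        obtain ⟨r, hr, rfl⟩ := hy
        intro x
        rw [algebraMap_smul]
        exact Submodule.smul_mem_smul hr trivial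
      | zero => intro x; simp
      | add y w _ _ hy hw => intro x; rw [add_smul]; exact add_mem (hy x) (hw x)
      | smul t y _ hy => intro x; rw [smul_eq_mul, mul_comm, mul_smul]; exact hy (t • x)
    exact key b' hb'
  obtain ⟨P, hP, hzP⟩ := TensorProduct.exists_finite_submodule_left_of_setFinite {z} (Set.finite_singleton z)
  obtain ⟨z₀, hz₀⟩ := hzP rfl
  haveI := hP
  obtain ⟨π, hπ, hπP, hfp⟩ := exists_projection N hML hcg P.subtype
  let μ : N →ₗ[R] N := DistribSMul.toLinearMap R N b'
  let g : LinearMap.range π →ₗ[R] LinearMap.range π := π.rangeRestrict ∘ₗ μ ∘ₗ (LinearMap.range π).subtype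
  have hμ : ∀ w : N ⊗[R] M, μ.rTensor M w = b' • w := by
    intro w
    induction w with
    | zero => simp
    | add x y hx hy => rw [map_add, hx, hy, smul_add]
    | tmul x y => rfl
  let z' := π.rangeRestrict.rTensor M z
  have hz' : (LinearMap.range π).subtype.rTensor M z' = z := by
    rw [← hz₀, show z' = π.rangeRestrict.rTensor M (P.subtype.rTensor M z₀) by rw [hz₀], ← LinearMap.rTensor_comp_apply,
      ← LinearMap.rTensor_comp_apply]
    congr 2
    exact LinearMap.ext fun x => hπP x
  have hgz : g.rTensor M z' = z' := by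
    show (π.rangeRestrict ∘ₗ μ ∘ₗ (LinearMap.range π).subtype).rTensor M z' = z'
    rw [LinearMap.rTensor_comp_apply, LinearMap.rTensor_comp_apply, hz', hμ, hbz]
  haveI := hfp
  have hsurj : Function.Surjective (LinearMap.id - g : LinearMap.range π →ₗ[R] LinearMap.range π) := by
    rw [← LinearMap.range_eq_top, eq_top_iff]
    refine Submodule.le_of_le_smul_of_le_jacobson_bot (I := maximalIdeal R) Module.Finite.fg_top
      (maximalIdeal_le_jacobson _) fun x _ => ?_
    have h1 : g x ∈ maximalIdeal R • (⊤ : Submodule R (LinearMap.range π)) := by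
      have h := Submodule.mem_map_of_mem (f := π.rangeRestrict) (hmem x.1)
      rw [Submodule.map_smul'', Submodule.map_top, LinearMap.range_rangeRestrict] at h
      exact h
    exact Submodule.mem_sup.2 ⟨_, ⟨x, rfl⟩, g x, h1, by simp⟩
  have hbij : Function.Bijective (LinearMap.id - g : LinearMap.range π →ₗ[R] LinearMap.range π) :=
    ⟨OrzechProperty.injective_of_surjective_endomorphism _ hsurj, hsurj⟩
  have hz0 : z' = 0 := by
    let e := (LinearEquiv.ofBijective _ hbij).rTensor M
    refine e.injective ?_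
    rw [map_zero]
    show (LinearMap.id - g).rTensor M z' = 0
    rw [LinearMap.rTensor_sub, LinearMap.sub_apply, LinearMap.rTensor_id, LinearMap.id_apply, hgz, sub_self]
  refine hprime.ne_top ?_
  rw [hz, ← hz', hz0, map_zero]
  simp

end Groth.Agent.HenselML3
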