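import Groth.Agent.Lib.CIH28.Basic
import Groth.Agent.Lib.CI2.Smooth
import Groth.Agent.Lib.CI2.Regular
import Groth.Agent.Lib.UCat.Universal

/-!
# Hilbert function of a zero-dimensional projective complete intersection
-/

set_option linter.style.haveILetI false
set_option autoImplicit false

universe u

open MvPolynomial RingTheory.Sequence

namespace Groth.Agent.HilbBez17

open Groth.Agent.CIH28

variable {k : Type u} [Field k] {N : ℕ}

local notation "S" => MvPolynomial (Fin N) k
local notation "δ₁" => (1 : Fin N → ℕ)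

omit [Field k] in
theorem weight_one (d : Fin N →₀ ℕ) : Finsupp.weight δ₁ d = d.degree := by
  simp [Finsupp.weight_apply, Finsupp.degree, Finsupp.sum]

theorem component_pow_mul {v : S} (hv : constantCoeff v = 0) (p : S) :
    ∀ j n, n < j → weightedHomogeneousComponent δ₁ n (v ^ j * p) = 0 := by
  intro j
  induction j with
  | zero => omega
  | succ j ih =>
    intro n hn
    rw [pow_succ, mul_comm (v ^ j) v, mul_assoc]
    set w := v ^ j * p
    ext e
    rw [coeff_weightedHomogeneousComponent, coeff_zero]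
    split_ifs with he
    · rw [coeff_mul]
      refine Finset.sum_eq_zero fun x hx => ?_
      rw [Finset.HasAntidiagonal.mem_antidiagonal] at hx
      by_cases h1 : x.1 = 0
      · rw [h1, ← constantCoeff_eq, hv, zero_mul]
      · have h2 : Finsupp.weight δ₁ x.2 < j := by
          have h3 : Finsupp.weight δ₁ x.1 + Finsupp.weight δ₁ x.2 = n := by rw [← map_add, hx, he]
          have h4 : 0 < Finsupp.weight δ₁ x.1 := by
            rw [weight_one, Nat.pos_iff_ne_zero, Ne, Finsupp.degree_eq_zero_iff]; exact h1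
          omega
        have h5 := congrArg (coeff x.2) (ih _ h2)
        rw [coeff_weightedHomogeneousComponent, if_pos rfl, coeff_zero] at h5
        rw [h5, mul_zero]
    · rfl

/-- Homogeneous ideals are saturated for elements with nonzero constant coefficient. -/
theorem mem_of_mul_mem {I : Ideal S} (hI : ∀ p ∈ I, ∀ n, weightedHomogeneousComponent δ₁ n p ∈ I)
    {u p : S} (hu : constantCoeff u ≠ 0) (h : u * p ∈ I) : p ∈ I := by
  classical
  set c := constantCoeff u
  set v := C c - u
  have hv : constantCoeff v = 0 := by simp [v, c]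
  rw [← sum_weightedHomogeneousComponent δ₁ p, finsum_eq_sum _ (weightedHomogeneousComponent_finsupp p)]
  refine Ideal.sum_mem _ fun n _ => ?_
  have h1 : (C c) ^ (n + 1) * p - v ^ (n + 1) * p ∈ I := by
    obtain ⟨q, hq⟩ := sub_dvd_pow_sub_pow (C c) v (n + 1)
    rw [← sub_mul, hq, show C c - v = u from sub_sub_cancel _ _]
    rw [show u * q * p = q * (u * p) by ring]
    exact I.mul_mem_left q h
  have h2 := hI _ h1 n
  rw [map_sub, component_pow_mul hv p (n + 1) n (by omega), sub_zero, ← map_pow,
    ← smul_eq_C_mul, map_smul, smul_eq_C_mul] at h2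
  have h3 := I.mul_mem_left (C ((c ^ (n + 1))⁻¹)) h2
  rwa [← mul_assoc, ← map_mul, inv_mul_cancel₀ (pow_ne_zero _ hu), map_one, one_mul] at h3

/-- `n` forms in `n + 1` variables cutting out finitely many points form a regular sequence. -/
theorem regular_of_dim {n : ℕ} (f : Fin n → MvPolynomial (Fin (n + 1)) k) (d : Fin n → ℕ) (hd : ∀ i, 1 ≤ d i)
    (hf : ∀ i, IsWeightedHomogeneous (1 : Fin (n + 1) → ℕ) (f i) (d i))
    (hdim : ringKrullDim (MvPolynomial (Fin (n + 1)) k ⧸ Ideal.span (Set.range f)) ≤ 1) :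
    ∀ (i : Fin n) (p : MvPolynomial (Fin (n + 1)) k), p * f i ∈ Ideal.span (f '' {j | j < i}) →
      p ∈ Ideal.span (f '' {j | j < i}) := by
  classical
  let m : Ideal (MvPolynomial (Fin (n + 1)) k) := RingHom.ker (constantCoeff : (MvPolynomial (Fin (n + 1)) k) →+* k)
  haveI hm : m.IsMaximal := RingHom.ker_isMaximal_of_surjective _ fun a => ⟨C a, constantCoeff_C _ a⟩
  let R := Localization.AtPrime m
  haveI : LocCoh.IsCohenMacaulayRing (MvPolynomial (Fin (n + 1)) k) := UCat.isCM_of_regular (MvPolynomial (Fin (n + 1)) k)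
  haveI : LocCoh.IsCohenMacaulayLocalRing R :=
    LocCoh.IsCohenMacaulayRing.isCohenMacaulayLocalRing_localization m
  let φ := algebraMap (MvPolynomial (Fin (n + 1)) k) R
  have hfm : ∀ i, f i ∈ m := fun i => by
    rw [RingHom.mem_ker, constantCoeff_eq]
    by_contra h
    have := hf i h
    simp at this
    have := hd i
    omega
  let l : List R := List.ofFn fun i => φ (f i)
  have hl : ∀ x ∈ l, x ∈ IsLocalRing.maximalIdeal R := fun x hx => by
    obtain ⟨i, rfl⟩ := List.mem_ofFn.1 hx
    exact (IsLocalization.AtPrime.to_map_mem_maximal_iff R m (f i)).2 (hfm i)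
  let I := Ideal.span (Set.range f)
  have hofl : Ideal.ofList l = I.map φ := by
    rw [Ideal.map_span, Ideal.ofList]
    congr 1
    ext x
    simp [l]
  have hdimR : ringKrullDim R = ((n + 1 : ℕ) : WithBot ℕ∞) := by
    rw [IsLocalization.AtPrime.ringKrullDim_eq_height m R, CI2.height_maximal_mvPolynomial]
    rfl
  have hquot : ringKrullDim (R ⧸ I.map φ) ≤ ringKrullDim ((MvPolynomial (Fin (n + 1)) k) ⧸ I) := by
    let ψ : (MvPolynomial (Fin (n + 1)) k) ⧸ I →+* R ⧸ I.map φ := Ideal.quotientMap _ φ Ideal.le_comap_map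
    refine Order.krullDim_le_of_strictMono (PrimeSpectrum.comap ψ) (Monotone.strictMono_of_injective
      (fun a b h => Ideal.comap_mono h) fun a b h => ?_)
    have h' := congrArg (PrimeSpectrum.comap (Ideal.Quotient.mk I)) h
    have e : ψ.comp (Ideal.Quotient.mk I) = (Ideal.Quotient.mk (I.map φ)).comp φ := rfl
    rw [← PrimeSpectrum.comap_comp_apply, ← PrimeSpectrum.comap_comp_apply, e, PrimeSpectrum.comap_comp_apply,
      PrimeSpectrum.comap_comp_apply] at h'
    exact PrimeSpectrum.comap_injective_of_surjective _ Ideal.Quotient.mk_surjective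
      (PrimeSpectrum.localization_comap_injective R m.primeCompl h')
  have hlen : l.length = n := List.length_ofFn
  have hreg : IsWeaklyRegular R l := by
    refine EmbDef.isWeaklyRegular_of_dim l hl (le_antisymm ?_ ?_)
    · rw [hofl, hlen, hdimR]
      refine (add_le_add (hquot.trans hdim) le_rfl).trans ?_
      push_cast
      rw [add_comm]
    · refine (ringKrullDim_le_ringKrullDim_quotient_add_spanFinrank (Ideal.ofList l) ?_).trans
        (add_le_add le_rfl (by exact_mod_cast CI2.spanFinrank_le_length rfl))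
      rw [IsLocalRing.ringJacobson_eq_maximalIdeal, Ideal.ofList, Ideal.span_le]
      exact hl
  intro i p hp
  have hJ : (Ideal.ofList (l.take i.1) • ⊤ : Submodule R R) = (Ideal.span (f '' {j | j < i})).map φ := by
    rw [smul_eq_mul, Ideal.mul_top, Ideal.map_span]
    refine congrArg Ideal.span (Set.ext fun x => ?_)
    simp only [l, List.mem_take_iff_getElem, Set.mem_ofPred_eq, Set.mem_image, List.length_ofFn, List.getElem_ofFn]
    constructor
    · rintro ⟨j, hj, rfl⟩
      exact ⟨f ⟨j, by omega⟩, ⟨⟨j, by omega⟩, Fin.lt_def.2 (by show j < i.1; omega), rfl⟩, rfl⟩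
    · rintro ⟨_, ⟨j, hj, rfl⟩, rfl⟩
      exact ⟨j, lt_min hj j.2, rfl⟩
  have h := hreg.regular_mod_prev i.1 (by omega)
  rw [hJ] at h
  have hget : l[i.1]'(by omega) = φ (f i) := by simp [l]
  have h2 := h (show l[i.1]'(by omega) • Submodule.Quotient.mk (φ p) = l[i.1]'(by omega) • 0 by
    rw [smul_zero, hget, ← Submodule.Quotient.mk_smul, Submodule.Quotient.mk_eq_zero, smul_eq_mul, ← map_mul,
      mul_comm]
    exact Ideal.mem_map_of_mem _ hp)
  obtain ⟨u, hu, hup⟩ := (IsLocalization.algebraMap_mem_map_algebraMap_iff m.primeCompl R _ p).1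
    ((Submodule.Quotient.mk_eq_zero _).1 h2)
  exact mem_of_mul_mem (fun q hq j => component_mem f d hf _ hq j) (fun h0 => hu (RingHom.mem_ker.2 h0)) hup

theorem finrank_piece (hN : ∀ i, 0 < δ₁ i) (I : Ideal S) (m : ℕ) :
    (Module.finrank k (piece δ₁ I m) : ℤ) = (Module.finrank k (weightedHomogeneousSubmodule k δ₁ m) : ℤ) -
      Module.finrank k ↥(I.restrictScalars k ⊓ weightedHomogeneousSubmodule k δ₁ m) := by
  haveI := finite_whs (F := k) hN m
  let φ := (Ideal.Quotient.mkₐ k I).toLinearMap.domRestrict (weightedHomogeneousSubmodule k δ₁ m)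
  have h := LinearMap.finrank_range_add_finrank_ker φ
  rw [LinearMap.range_domRestrict] at h
  have hk : LinearMap.ker φ = Submodule.comap (weightedHomogeneousSubmodule k δ₁ m).subtype (I.restrictScalars k) := by
    ext x
    exact Ideal.Quotient.eq_zero_iff_mem
  have e : Module.finrank k (LinearMap.ker φ) =
      Module.finrank k ↥(I.restrictScalars k ⊓ weightedHomogeneousSubmodule k δ₁ m) := by
    rw [hk, inf_comm, ← Submodule.map_comap_subtype]
    exact (Submodule.equivMapOfInjective _ (Submodule.injective_subtype _) _).finrank_eq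
  rw [piece]
  omega

/-- The Hilbert function is eventually the product of the degrees. -/
theorem hilbert_eq_prod {n : ℕ} (f : Fin n → MvPolynomial (Fin (n + 1)) k) (d : Fin n → ℕ) (hd : ∀ i, 1 ≤ d i)
    (hf : ∀ i, IsWeightedHomogeneous (1 : Fin (n + 1) → ℕ) (f i) (d i))
    (hdim : ringKrullDim (MvPolynomial (Fin (n + 1)) k ⧸ Ideal.span (Set.range f)) ≤ 1) :
    ∃ m₀ : ℕ, ∀ m, m₀ ≤ m → (Module.finrank k (piece (1 : Fin (n + 1) → ℕ) (Ideal.span (Set.range f)) m) : ℤ) =
      ∏ i, (d i : ℤ) := by
  have hpos : ∀ i, 0 < (1 : Fin (n + 1) → ℕ) i := fun _ => one_pos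
  have h1 := hilb_span hpos f d hf (regular_of_dim f d hd hf hdim)
  have h2 := hilb_bot (F := k) (δ := (1 : Fin (n + 1) → ℕ)) hpos
  simp only [Pi.one_apply, pow_one, Finset.prod_const, Finset.card_univ, Fintype.card_fin] at h2
  let H := hilb (1 : Fin (n + 1) → ℕ) (Ideal.span (Set.range f))
  let G : Polynomial ℤ := ∏ i, ∑ j ∈ Finset.range (d i), Polynomial.X ^ j
  have hG : ∏ i, (1 - PowerSeries.X ^ d i : PowerSeries ℤ) = (1 - PowerSeries.X) ^ n * (G : PowerSeries ℤ) := by
    rw [show (1 - PowerSeries.X : PowerSeries ℤ) ^ n = ∏ _i : Fin n, (1 - PowerSeries.X) by simp,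
      show (G : PowerSeries ℤ) = Polynomial.coeToPowerSeries.ringHom G from rfl, map_prod, ← Finset.prod_mul_distrib]
    refine Finset.prod_congr rfl fun i _ => ?_
    rw [← mul_neg_geom_sum (PowerSeries.X : PowerSeries ℤ)]
    simp
  have h3 : H * (1 - PowerSeries.X) = (G : PowerSeries ℤ) := by
    have hne : ((1 : PowerSeries ℤ) - PowerSeries.X) ^ n ≠ 0 := pow_ne_zero _ fun h => by
      have := congrArg PowerSeries.constantCoeff h
      simp at this
    refine mul_left_cancel₀ hne ?_
    rw [← hG]
    show _ * (hilb _ _ * _) = _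
    rw [h1]
    calc _ = hilb (1 : Fin (n + 1) → ℕ) (⊥ : Ideal (MvPolynomial (Fin (n + 1)) k)) * (1 - PowerSeries.X) ^ (n + 1) *
          ∏ i, (1 - PowerSeries.X ^ d i) := by ring
      _ = _ := by rw [h2, one_mul]
  have h4 : H = (G : PowerSeries ℤ) * PowerSeries.mk 1 := by
    rw [← h3, mul_assoc, mul_comm (1 - PowerSeries.X), PowerSeries.mk_one_mul_one_sub_eq_one, mul_one]
  refine ⟨G.natDegree, fun m hm => ?_⟩
  have h5 := congrArg (PowerSeries.coeff m) h4
  simp only [H, hilb, PowerSeries.coeff_mk] at h5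
  rw [h5, PowerSeries.coeff_mul, Finset.Nat.sum_antidiagonal_eq_sum_range_succ_mk]
  simp only [PowerSeries.coeff_mk, Pi.one_apply, mul_one, Polynomial.coeff_coe]
  calc ∑ j ∈ Finset.range (m + 1), G.coeff j = G.eval 1 := by
        rw [Polynomial.eval_eq_sum_range' (n := m + 1) (by omega)]
        simp
    _ = _ := by simp [G, Polynomial.eval_prod, Polynomial.eval_finset_sum]

end Groth.Agent.HilbBez17
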