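import Groth.Agent.Lib.ProjDual12.Top
import Groth.Agent.Lib.CMReg18.Linear
import Groth.Agent.Lib.CMReg18.Resolution
import Groth.Agent.Lib.EnriquesSeveri11.HomBij

/-!
# Horrocks' splitting criterion

A coherent module on projective space without negative sections and without middle cohomology in every
twist is a sum of twisting sheaves: at the least regularity a summand splits off by duality.
-/

set_option autoImplicit false
set_option linter.style.haveILetI false
set_option linter.unusedSectionVars false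
set_option backward.isDefEq.respectTransparency false
set_option maxHeartbeats 1000000

universe u

open CategoryTheory CategoryTheory.Limits AlgebraicGeometry TopologicalSpace Opposite

noncomputable section

namespace Groth.Agent.Horrocks11

open Groth.Agent

theorem isIso_endO {X : Scheme.{u}} (hf : IsField (Γ(X, ⊤) : Type u))
    (c : Coh.structureModule X ⟶ Coh.structureModule X) (hc : c ≠ 0) : IsIso c := by
  let a : Γ(X, ⊤) := c.app ⊤ (M1.one ⊤)
  have ha : a ≠ 0 := fun h => hc (M1.unit_hom_ext (by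
    refine (show c.app ⊤ (M1.one ⊤) = (0 : Γ(Coh.structureModule X, ⊤)) from h).trans ?_
    simp))
  obtain ⟨b, hb⟩ := hf.mul_inv_cancel ha
  let d : Coh.structureModule X ⟶ Coh.structureModule X :=
    M1.secHom (show Γ(Coh.structureModule X, ⊤) from b)
  have hd : d.app ⊤ (M1.one ⊤) = (show Γ(Coh.structureModule X, ⊤) from b) := M1.secHom_app_one _
  have hval : ∀ (φ : Coh.structureModule X ⟶ Coh.structureModule X) (r : Γ(X, ⊤)),
      φ.app ⊤ (show Γ(Coh.structureModule X, ⊤) from r) =
        (show Γ(Coh.structureModule X, ⊤) from r * (show Γ(X, ⊤) from φ.app ⊤ (M1.one ⊤))) := fun φ r => by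
    refine (congrArg (φ.app ⊤) (show (show Γ(Coh.structureModule X, ⊤) from r) = r • M1.one (X := X) ⊤ from
      (mul_one r).symm)).trans ?_
    rw [Scheme.Modules.Hom.app_smul]
    rfl
  refine ⟨⟨d, M1.unit_hom_ext ?_, M1.unit_hom_ext ?_⟩⟩
  · rw [Scheme.Modules.Hom.comp_app, CategoryTheory.comp_apply]
    refine (hval d a).trans ?_
    rw [hd]
    exact hb
  · rw [Scheme.Modules.Hom.comp_app, CategoryTheory.comp_apply, hd]
    refine (hval c b).trans ?_
    exact (mul_comm _ _).trans hb

variable (k : Type u) [Field k] (d : ℕ)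

/-- Sums of twisting sheaves. -/
def IsSum (F : (CohB1.ProjSpace d k).Modules) : Prop :=
  ∃ (r : ℕ) (a : Fin r → ℤ), Nonempty (F ≅ ∐ fun j => _root_.Twist.twistProjSpace d k (a j))

variable {k d}

/-- `O(n)` and `O(-n)` are inverse. -/
def invAt (n : ℤ) : CohB1.tensorMod ((CMReg18.projData k d).O n) ((CMReg18.projData k d).O (-n)) ≅
    Coh.structureModule (CohB1.ProjSpace d k) :=
  (CMReg18.projData k d).add _ _ ≪≫ eqToIso (congrArg _ (add_neg_cancel n)) ≪≫ (CMReg18.projData k d).zero

theorem isSum_of_isZero {F : (CohB1.ProjSpace d k).Modules} (h : IsZero F) : IsSum k d F := by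
  refine ⟨0, Fin.elim0, ⟨h.iso ((IsZero.iff_id_eq_zero _).2 (Sigma.hom_ext _ _ fun j => j.elim0))⟩⟩

theorem isSum_of_split {F : (CohB1.ProjSpace d k).Modules} (c : ℤ)
    (s : _root_.Twist.twistProjSpace d k c ⟶ F) (r : F ⟶ _root_.Twist.twistProjSpace d k c) (h : s ≫ r = 𝟙 _)
    (hK : IsSum k d (kernel r)) : IsSum k d F := by
  obtain ⟨n, a, ⟨e⟩⟩ := hK
  let f : Fin (n + 1) → (CohB1.ProjSpace d k).Modules := fun j => _root_.Twist.twistProjSpace d k (Fin.cons (α := fun _ => ℤ) c a j)
  let p : F ⟶ kernel r := kernel.lift r (𝟙 F - r ≫ s) (by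
    rw [Preadditive.sub_comp, Category.id_comp, Category.assoc, h, Category.comp_id, sub_self])
  have hp : p ≫ kernel.ι r = 𝟙 F - r ≫ s := kernel.lift_ι _ _ _
  have hsp : s ≫ p = 0 := by
    rw [← cancel_mono (kernel.ι r), Category.assoc, hp, Preadditive.comp_sub, Category.comp_id, ← Category.assoc, h,
      Category.id_comp, sub_self, zero_comp]
  have hιp : kernel.ι r ≫ p = 𝟙 _ := by
    rw [← cancel_mono (kernel.ι r), Category.assoc, hp, Preadditive.comp_sub, Category.comp_id, ← Category.assoc,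
      kernel.condition, zero_comp, sub_zero, Category.id_comp]
  let i₀ : _root_.Twist.twistProjSpace d k c ⟶ ∐ f := Sigma.ι f 0
  let i₁ : (∐ fun j => _root_.Twist.twistProjSpace d k (a j)) ⟶ ∐ f :=
    Sigma.desc fun j => Sigma.ι f j.succ
  let v : (∐ f) ⟶ F := Sigma.desc (Fin.cases (motive := fun j => f j ⟶ F) s
    fun j => Sigma.ι (fun j => _root_.Twist.twistProjSpace d k (a j)) j ≫ e.inv ≫ kernel.ι r)
  have hv0 : i₀ ≫ v = s := by
    simp only [i₀, v, Sigma.ι_desc]
    rfl
  have hv1 : i₁ ≫ v = e.inv ≫ kernel.ι r := Sigma.hom_ext _ _ fun j => by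
    simp only [i₁, v, Sigma.ι_desc_assoc, Sigma.ι_desc]
    rfl
  refine ⟨n + 1, Fin.cons c a, ⟨⟨r ≫ i₀ + p ≫ e.hom ≫ i₁, v, ?_, Sigma.hom_ext _ _ fun j => ?_⟩⟩⟩
  · rw [Preadditive.add_comp, Category.assoc, hv0, Category.assoc, Category.assoc, hv1, e.hom_inv_id_assoc, hp,
      add_sub_cancel]
  · rw [Category.comp_id]
    refine Fin.cases ?_ (fun j => ?_) j
    · show i₀ ≫ v ≫ _ = i₀
      rw [← Category.assoc, hv0, Preadditive.comp_add, ← Category.assoc, h, Category.id_comp, ← Category.assoc, hsp,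
        zero_comp, add_zero]
    · have h1 : Sigma.ι f j.succ = Sigma.ι (fun j => _root_.Twist.twistProjSpace d k (a j)) j ≫ i₁ := by
        simp only [i₁, Sigma.ι_desc]
      refine (congrArg (fun φ => φ ≫ v ≫ (r ≫ i₀ + p ≫ e.hom ≫ i₁)) h1).trans (Eq.trans ?_ h1.symm)
      simp only [Category.assoc, reassoc_of% hv1, Preadditive.comp_add, kernel.condition_assoc, zero_comp,
        comp_zero, zero_add, reassoc_of% hιp, Iso.inv_hom_id_assoc]

/-- Sums of twisting sheaves have no middle cohomology. -/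
theorem van_of_isSum {F : (CohB1.ProjSpace d k).Modules} (hF : IsSum k d F) :
    (1 ≤ d → ∃ n₀ : ℤ, ∀ n : ℤ, n ≤ n₀ →
      Subsingleton (Coh.HH (CohB1.ProjSpace d k) ((CMReg18.projData k d).tw F n) 0)) ∧
      ∀ (n : ℤ) (i : ℕ), 1 ≤ i → i < d →
        Subsingleton (Coh.HH (CohB1.ProjSpace d k) ((CMReg18.projData k d).tw F n) i) := by
  obtain ⟨r, a, ⟨e⟩⟩ := hF
  have key : ∀ (n : ℤ) (i : ℕ),
      (∀ j, Subsingleton (Coh.HH (CohB1.ProjSpace d k) (_root_.Twist.twistProjSpace d k (a j + n)) i)) →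
      Subsingleton (Coh.HH (CohB1.ProjSpace d k) ((CMReg18.projData k d).tw F n) i) := fun n i h =>
    CMReg18.van_iso k (M2.tensorIso e (Iso.refl _) ≪≫
      PreservesCoproduct.iso (M2.tensorR (_root_.Twist.twistProjSpace d k n)) _).symm
      (CMReg18.van_sigma k _ fun j => CMReg18.van_iso k (M := (CMReg18.projData k d).O (a j + n))
        ((CMReg18.projData k d).add (a j) n).symm (h j))
  refine ⟨fun hd => ⟨-((∑ j, |a j|) + 1), fun n hn => key n 0 fun j => S0844.result k d _ 0 ?_ ?_⟩,
    fun n i h1 h2 => key n i fun j => S0844.result k d _ i (by omega) (by omega)⟩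
  · rintro ⟨-, h⟩
    have h1 : a j ≤ ∑ j, |a j| := (le_abs_self _).trans
      (Finset.single_le_sum (f := fun j => |a j|) (fun _ _ => abs_nonneg _) (Finset.mem_univ j))
    omega
  · omega

/-- At the least regularity a twisting sheaf splits off. -/
theorem exists_split {F : (CohB1.ProjSpace d k).Modules} (hF : Coh.IsCoh F) (m : ℤ)
    (hgg : Curv2.IsGloballyGenerated ((CMReg18.projData k d).tw F m))
    (hns : ¬ Subsingleton (Coh.HH (CohB1.ProjSpace d k) ((CMReg18.projData k d).tw F (m - 1 - d)) d)) :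
    ∃ (s : _root_.Twist.twistProjSpace d k (-m) ⟶ F) (r : F ⟶ _root_.Twist.twistProjSpace d k (-m)),
      s ≫ r = 𝟙 _ ∧ r ≠ 0 := by
  haveI := CMReg18.isProper_projSpace k (n := d)
  haveI : IsIntegral (CohB1.ProjSpace d k) := RegExt.isIntegral_projSpace d k
  have hfield : IsField (Γ(CohB1.ProjSpace d k, ⊤) : Type u) :=
    isField_of_universallyClosed k (CohB1.ProjSpace d k ↘ Spec (CommRingCat.of k))
  obtain ⟨φ, hφ⟩ : ∃ φ : (CMReg18.projData k d).tw F (m - 1 - d) ⟶ ProjDual12.om k d, φ ≠ 0 := by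
    by_contra hno
    push Not at hno
    refine hns (subsingleton_of_forall_eq 0 fun x => ?_)
    refine (Module.forall_dual_apply_eq_zero_iff k x).1 fun η => ?_
    obtain ⟨φ, rfl⟩ := (ProjDual12.rep (CohFound.isCoh_tensor hF
      (Snapper.isCoh_of_isInvertible ((CMReg18.projData k d).inv (m - 1 - d))))).2 η
    rw [hno φ, ProjDual12.dualOf_zero, LinearMap.zero_apply]
  obtain ⟨ψ, hψ⟩ : ∃ ψ : (CMReg18.projData k d).tw F m ⟶ Coh.structureModule (CohB1.ProjSpace d k), ψ ≠ 0 := by
    let uG : CohB1.tensorMod ((CMReg18.projData k d).tw F (m - 1 - d))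
        ((CMReg18.projData k d).O ((d : ℤ) + 1)) ≅ (CMReg18.projData k d).tw F m :=
      (CMReg18.projData k d).twTwist F _ _ ≪≫ (CMReg18.projData k d).twIso F (by ring)
    let eO : CohB1.tensorMod (ProjDual12.om k d) ((CMReg18.projData k d).O ((d : ℤ) + 1)) ≅
        Coh.structureModule (CohB1.ProjSpace d k) :=
      (CMReg18.projData k d).add _ _ ≪≫ eqToIso (congrArg _ (neg_add_cancel _)) ≪≫ (CMReg18.projData k d).zero
    refine ⟨uG.inv ≫ M2.tensorMap φ (𝟙 _) ≫ eO.hom, fun h => hφ (ES11.tensorR_map_injective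
      (M2.tensorComm _ _ ≪≫ eO) (Eq.trans ?_ ((M2.tensorR _).map_zero _ _).symm))⟩
    rw [← cancel_epi uG.inv, ← cancel_mono eO.hom, Category.assoc, h, comp_zero, zero_comp]
  obtain ⟨t, ht⟩ : ∃ t, ψ.app ⊤ t ≠ 0 := by
    by_contra hno
    push Not at hno
    exact hψ (CMReg18.eq_zero_of_kills hgg hno)
  have hc : M1.secHom t ≫ ψ ≠ 0 := fun h => ht (by
    rw [← M1.secHom_app_one t, ← CategoryTheory.comp_apply, ← Scheme.Modules.Hom.comp_app, h]
    simp)
  haveI := isIso_endO hfield _ hc
  let u : CohB1.tensorMod ((CMReg18.projData k d).tw F m) ((CMReg18.projData k d).O (-m)) ≅ F :=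
    (CMReg18.projData k d).twTwist F _ _ ≪≫ (CMReg18.projData k d).twIso F (add_neg_cancel m) ≪≫
      (CMReg18.projData k d).twZero F
  let a : CohB1.tensorMod (Coh.structureModule (CohB1.ProjSpace d k)) ((CMReg18.projData k d).O (-m)) ≅
      _root_.Twist.twistProjSpace d k (-m) := M2.tensorLUnit _
  refine ⟨a.inv ≫ M2.tensorMap (M1.secHom t) (𝟙 _) ≫ u.hom,
    u.inv ≫ M2.tensorMap (ψ ≫ inv (M1.secHom t ≫ ψ)) (𝟙 _) ≫ a.hom, ?_, fun h => ?_⟩
  · simp only [Category.assoc, Iso.hom_inv_id_assoc]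
    rw [← Category.assoc (M2.tensorMap _ _) (M2.tensorMap _ _), ← M2.tensorMap_comp, Category.id_comp,
      ← Category.assoc (M1.secHom t), IsIso.hom_inv_id, M2.tensorMap_id, Category.id_comp, Iso.inv_hom_id]
  · have h2 : ψ ≫ inv (M1.secHom t ≫ ψ) = 0 := ES11.tensorR_map_injective (invAt (-m)) (Eq.trans (by rw [← cancel_epi u.inv, ← cancel_mono a.hom, Category.assoc, h, comp_zero, zero_comp])
        ((M2.tensorR _).map_zero _ _).symm)
    exact hψ (by rw [← cancel_mono (inv (M1.secHom t ≫ ψ)), h2, zero_comp])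

theorem isSum_aux (hd : 1 ≤ d) (N : ℤ) : ∀ (M : ℕ) (F : (CohB1.ProjSpace d k).Modules), Coh.IsCoh F →
    Module.finrank k (Coh.HH (CohB1.ProjSpace d k) ((CMReg18.projData k d).tw F N) 0) = M →
    (CMReg18.projData k d).IsReg F N →
    (∃ n₀ : ℤ, ∀ n : ℤ, n ≤ n₀ →
      Subsingleton (Coh.HH (CohB1.ProjSpace d k) ((CMReg18.projData k d).tw F n) 0)) →
    (∀ (n : ℤ) (i : ℕ), 1 ≤ i → i < d →
      Subsingleton (Coh.HH (CohB1.ProjSpace d k) ((CMReg18.projData k d).tw F n) i)) →
    IsSum k d F := by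
  haveI := CMReg18.isProper_projSpace k (n := d)
  haveI : AlgebraicGeometry.IsNoetherian (CohB1.ProjSpace d k) :=
    CohFound.isNoetherian_of_isProper (CohB1.ProjSpace d k ↘ Spec (CommRingCat.of k))
  haveI : IsIntegral (CohB1.ProjSpace d k) := RegExt.isIntegral_projSpace d k
  haveI : UniversallyClosed (CohB1.ProjSpace d k ↘ Spec (CommRingCat.of k)) := inferInstance
  have hfield : IsField (Γ(CohB1.ProjSpace d k, ⊤) : Type u) :=
    isField_of_universallyClosed k (CohB1.ProjSpace d k ↘ Spec (CommRingCat.of k))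
  have hgg : ∀ {G : (CohB1.ProjSpace d k).Modules} {m : ℤ}, Coh.IsCoh G → (CMReg18.projData k d).IsReg G m →
      Curv2.IsGloballyGenerated ((CMReg18.projData k d).tw G m) :=
    fun hG h => CMReg18.isGloballyGenerated_of_isReg hG h
  intro M
  induction M using Nat.strong_induction_on with
  | _ M ih =>
    intro F hF hM hN hlow hmid
    by_cases hz : IsZero F
    · exact isSum_of_isZero hz
    obtain ⟨n₀, hn₀⟩ := hlow
    have hb : ∀ m, (CMReg18.projData k d).IsReg F m → n₀ < m := by
      intro m hm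
      by_contra hle
      have hG := hgg hF hm
      have h0 : (𝟙 ((CMReg18.projData k d).tw F m)) = 0 := CMReg18.eq_zero_of_kills hG fun t => by
        obtain ⟨z, rfl⟩ := (CurveCoh17.hh0 ((CMReg18.projData k d).tw F m)).surjective t
        haveI := hn₀ m (not_lt.1 hle)
        rw [Subsingleton.elim z 0, map_zero, map_zero]
      refine hz ((IsZero.iff_id_eq_zero _).2 (ES11.tensorR_map_injective
        (invAt m) ?_))
      rw [M2.tensorMap_id, h0]
      exact ((M2.tensorR _).map_zero _ _).symm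
    classical
    obtain ⟨m, hm, hleast⟩ := Int.exists_least_of_bdd (P := fun m => (CMReg18.projData k d).IsReg F m)
      ⟨n₀, fun z hz => (hb z hz).le⟩ ⟨N, hN⟩
    have hns : ¬ Subsingleton (Coh.HH (CohB1.ProjSpace d k) ((CMReg18.projData k d).tw F (m - 1 - d)) d) := by
      intro hs
      have := hleast (m - 1) fun i hi => by
        rcases lt_trichotomy i d with h | rfl | h
        · exact hmid _ i hi h
        · exact hs
        · exact CMReg18.subsingleton_HH_of_lt k
            (M2.isQCoh_tensor hF.1 (Twist.isQCoh_twistProjSpace d k _)) h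
      omega
    obtain ⟨s', r', hsr, hr⟩ := exists_split hF m (hgg hF hm) hns
    have hK : Coh.IsCoh (kernel r') :=
      M1.isCoh_kernel hF (Twist.isQCoh_twistProjSpace d k (-m)) r'
    let p : F ⟶ kernel r' := kernel.lift r' (𝟙 F - r' ≫ s') (by
      rw [Preadditive.sub_comp, Category.id_comp, Category.assoc, hsr, Category.comp_id, sub_self])
    have hιp : kernel.ι r' ≫ p = 𝟙 _ := by
      rw [← cancel_mono (kernel.ι r'), Category.assoc, kernel.lift_ι, Preadditive.comp_sub, Category.comp_id,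
        ← Category.assoc, kernel.condition, zero_comp, sub_zero, Category.id_comp]
    have hret : ∀ (n : ℤ) (i : ℕ), Function.Injective
        (CurveCoh17.hmap k ((M2.tensorR ((CMReg18.projData k d).O n)).map (kernel.ι r')) i) := by
      intro n i x y hxy
      have h2 := congrArg (CurveCoh17.hmap k ((M2.tensorR ((CMReg18.projData k d).O n)).map p) i) hxy
      rw [← CurveCoh17.hmap_comp, ← CurveCoh17.hmap_comp, ← Functor.map_comp, hιp, CategoryTheory.Functor.map_id,
        CurveCoh17.hmap_id, CurveCoh17.hmap_id] at h2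
      exact h2
    have hvan : ∀ (n : ℤ) (i : ℕ), Subsingleton (Coh.HH _ ((CMReg18.projData k d).tw F n) i) →
        Subsingleton (Coh.HH _ ((CMReg18.projData k d).tw (kernel r') n) i) := fun n i h =>
      ⟨fun x y => hret n i (@Subsingleton.elim _ h _ _)⟩
    haveI : Module.Finite k (Coh.HH (CohB1.ProjSpace d k) ((CMReg18.projData k d).tw F N) 0) :=
      (CMReg18.projData k d).finite_HH k hF N 0
    have hlt : Module.finrank k (Coh.HH _ ((CMReg18.projData k d).tw (kernel r') N) 0) < M := by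
      have hne : LinearMap.range
          (CurveCoh17.hmap k ((M2.tensorR ((CMReg18.projData k d).O N)).map (kernel.ι r')) 0) ≠ ⊤ := by
        intro htop
        have h0 : (M2.tensorR ((CMReg18.projData k d).O N)).map r' = 0 :=
          CMReg18.eq_zero_of_kills (hgg hF hN) fun x => by
            obtain ⟨z, rfl⟩ := (CurveCoh17.hh0 ((CMReg18.projData k d).tw F N)).surjective x
            obtain ⟨w, rfl⟩ := LinearMap.range_eq_top.1 htop z
            erw [CurveCoh17.hh0_hmap]
            rw [← CategoryTheory.comp_apply, ← Scheme.Modules.Hom.comp_app,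
              ← Functor.map_comp, kernel.condition, Functor.map_zero]
            simp
        have hr0 : r' = 0 := ES11.tensorR_map_injective (invAt N)
          (h0.trans ((M2.tensorR _).map_zero _ _).symm)
        exact hr hr0
      refine lt_of_eq_of_lt (LinearMap.finrank_range_of_inj (hret N 0)).symm ?_
      rw [← hM]
      haveI : Module.Finite k (Coh.HH (CohB1.ProjSpace d k) ((M2.tensorR ((CMReg18.projData k d).O N)).obj F) 0) :=
        (CMReg18.projData k d).finite_HH k hF N 0
      exact Submodule.finrank_lt hne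
    exact isSum_of_split (-m) s' r' hsr (ih _ hlt _ hK rfl (fun i hi => hvan _ i (hN i hi))
      ⟨n₀, fun n hn => hvan n 0 (hn₀ n hn)⟩ fun n i h1 h2 => hvan n i (hmid n i h1 h2))

/-- Horrocks' criterion. -/
theorem isSum_iff (hd : 1 ≤ d) {F : (CohB1.ProjSpace d k).Modules} (hF : Coh.IsCoh F) :
    IsSum k d F ↔ ((∃ n₀ : ℤ, ∀ n : ℤ, n ≤ n₀ →
      Subsingleton (Coh.HH (CohB1.ProjSpace d k) ((CMReg18.projData k d).tw F n) 0)) ∧
      ∀ (n : ℤ) (i : ℕ), 1 ≤ i → i < d →
        Subsingleton (Coh.HH (CohB1.ProjSpace d k) ((CMReg18.projData k d).tw F n) i)) := by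
  refine ⟨fun h => ⟨(van_of_isSum h).1 hd, (van_of_isSum h).2⟩, fun ⟨h0, h1⟩ => ?_⟩
  obtain ⟨N, hN⟩ := CMReg18.exists_isReg hF
  exact isSum_aux hd N _ F hF rfl hN h0 h1

end Groth.Agent.Horrocks11
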