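import Mathlib

/-! Incidence families with constant pairwise intersection number. -/

namespace Groth.Agent.IncidenceHarb

open Finset

variable {P ι : Type*} [Fintype ι] (inc : P → ι → Prop)

/-- Multiplicity of a point. -/
noncomputable def mult (p : P) : ℕ := Nat.card {j : ι // inc p j}

theorem mult_eq [∀ p, DecidablePred (inc p)] (p : P) : mult inc p = (univ.filter (inc p)).card := by
  rw [mult, Nat.card_eq_fintype_card, Fintype.card_subtype]

theorem two_le_mult {p : P} {i j : ι} (hij : i ≠ j) (hi : inc p i) (hj : inc p j) : 2 ≤ mult inc p := by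
  classical
  rw [mult_eq]
  exact one_lt_card.2 ⟨i, by simp [hi], j, by simp [hj], hij⟩

theorem exists_two {p : P} (h : 2 ≤ mult inc p) : ∃ i j : ι, i ≠ j ∧ inc p i ∧ inc p j := by
  classical
  rw [mult_eq] at h
  obtain ⟨i, hi, j, hj, hij⟩ := one_lt_card.1 h
  exact ⟨i, j, hij, (mem_filter.1 hi).2, (mem_filter.1 hj).2⟩

theorem multiple_finite (hfin : ∀ i j : ι, i ≠ j → {p : P | inc p i ∧ inc p j}.Finite) :
    {p : P | 2 ≤ mult inc p}.Finite := by
  refine Set.Finite.subset (Set.finite_iUnion fun q : {q : ι × ι // q.1 ≠ q.2} => hfin q.1.1 q.1.2 q.2) ?_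
  intro p hp
  obtain ⟨i, j, hij, hi, hj⟩ := exists_two inc hp
  exact Set.mem_iUnion.2 ⟨⟨(i, j), hij⟩, hi, hj⟩

variable (h : ℕ)
  (hfin : ∀ i j : ι, i ≠ j → {p : P | inc p i ∧ inc p j}.Finite)
  (hcount : ∀ i j : ι, i ≠ j → {p : P | inc p i ∧ inc p j}.ncard = h)

/-- The finset of multiple points. -/
noncomputable def multiple : Finset P := (multiple_finite inc hfin).toFinset

theorem mem_multiple {p : P} : p ∈ multiple inc hfin ↔ 2 ≤ mult inc p := by simp [multiple]

theorem natCard_multiple : Nat.card {p : P // 2 ≤ mult inc p} = (multiple inc hfin).card := by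
  rw [← Nat.card_eq_finsetCard]
  exact Nat.card_congr (Equiv.subtypeEquivRight fun p => (mem_multiple inc hfin).symm)

include hcount in
theorem card_common [∀ p, DecidablePred (inc p)] {i j : ι} (hij : i ≠ j) :
    ((multiple inc hfin).filter fun p => inc p i ∧ inc p j).card = h := by
  rw [← hcount i j hij, ← Set.ncard_coe_finset]
  congr 1
  ext p
  simp only [coe_filter, mem_multiple]
  exact ⟨fun h => h.2, fun h => ⟨two_le_mult inc hij h.1 h.2, h⟩⟩

include hcount in
theorem sum_pred (i : ι) [∀ p, DecidablePred (inc p)] :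
    ∑ p ∈ (multiple inc hfin).filter (inc · i), (mult inc p - 1) = h * (Fintype.card ι - 1) := by
  classical
  have h1 : ∀ p ∈ (multiple inc hfin).filter (inc · i), mult inc p - 1 = ((univ.erase i).filter (inc p)).card := by
    intro p hp
    rw [mult_eq, filter_erase, card_erase_of_mem (by simp [(mem_filter.1 hp).2])]
  rw [sum_congr rfl h1]
  have key := sum_card_bipartiteAbove_eq_sum_card_bipartiteBelow (s := (multiple inc hfin).filter (inc · i)) (t := univ.erase i) inc
  simp only [bipartiteAbove, bipartiteBelow] at key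
  rw [key]
  rw [sum_congr rfl (g := fun _ => h) fun j hj => by
    rw [filter_filter]; exact card_common inc h hfin hcount (ne_of_mem_erase hj).symm]
  rw [sum_const, card_erase_of_mem (mem_univ i), card_univ, smul_eq_mul, mul_comm]

include hcount in
theorem lt_card_of_no_common [∀ p, DecidablePred (inc p)] (hh : 0 < h) (hd : 2 ≤ Fintype.card ι) (hnone : ∀ p : P, ∃ i : ι, ¬ inc p i) (i : ι) :
    h < ((multiple inc hfin).filter (inc · i)).card := by
  classical
  by_contra hle
  push Not at hle
  have hsub : ∀ j, i ≠ j → (multiple inc hfin).filter (inc · i) = (multiple inc hfin).filter fun p => inc p i ∧ inc p j := by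
    intro j hj
    refine (eq_of_subset_of_card_le (fun p hp => ?_) ?_).symm
    · simp only [mem_filter] at hp ⊢; exact ⟨hp.1, hp.2.1⟩
    · rw [card_common inc h hfin hcount hj]; exact hle
  obtain ⟨j, hj⟩ := Fintype.exists_ne_of_one_lt_card hd i
  obtain ⟨p, hp⟩ := card_pos.1 (show 0 < ((multiple inc hfin).filter fun p => inc p i ∧ inc p j).card by
    rw [card_common inc h hfin hcount hj.symm]; exact hh)
  rw [← hsub j hj.symm] at hp
  obtain ⟨l, hl⟩ := hnone p
  have hil : i ≠ l := fun e => hl (e ▸ (mem_filter.1 hp).2)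
  rw [hsub l hil] at hp
  exact hl (mem_filter.1 hp).2.2

include hcount in
theorem card_le (hh : 0 < h) (hd : 2 ≤ Fintype.card ι) (hnone : ∀ p : P, ∃ i : ι, ¬ inc p i) :
    Fintype.card ι ≤ (multiple inc hfin).card := by
  classical
  let L : (ι → ℝ) →ₗ[ℝ] ({p // p ∈ multiple inc hfin} → ℝ) :=
    LinearMap.pi fun p => ∑ i ∈ univ.filter (inc p.1), LinearMap.proj i
  have hinj : Function.Injective L := by
    rw [← LinearMap.ker_eq_bot, LinearMap.ker_eq_bot']
    intro x hx
    have h0 : ∑ p ∈ multiple inc hfin, (∑ i, if inc p i then x i else 0) ^ 2 = 0 := by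
      refine sum_eq_zero fun p hp => ?_
      have := congrFun hx ⟨p, hp⟩
      simp only [L, LinearMap.pi_apply, LinearMap.sum_apply, LinearMap.proj_apply, Pi.zero_apply] at this
      rw [← sum_filter, this]; norm_num
    set c : ι → ℝ := fun i => (((multiple inc hfin).filter (inc · i)).card : ℝ)
    have hexp : ∑ p ∈ multiple inc hfin, (∑ i, if inc p i then x i else 0) ^ 2 =
        ∑ i, (c i - h) * x i ^ 2 + h * (∑ i, x i) ^ 2 := by
      rw [sum_congr rfl fun p _ => (sq (∑ i, if inc p i then x i else 0)).trans (sum_mul_sum _ _ _ _),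
        sum_comm, sq (∑ i, x i), sum_mul_sum, mul_sum, ← sum_add_distrib]
      refine sum_congr rfl fun i _ => ?_
      rw [sum_comm]
      have hterm : ∀ j, ∑ p ∈ multiple inc hfin, (if inc p i then x i else 0) * (if inc p j then x j else 0) =
          (if i = j then c i else (h : ℝ)) * (x i * x j) := by
        intro j
        simp only [ite_mul, zero_mul, mul_ite, mul_zero, ← ite_and]
        rw [← sum_filter, sum_const, nsmul_eq_mul]
        rcases eq_or_ne i j with rfl | hij
        · simp [c, and_self]
        · rw [if_neg hij, card_common inc h hfin hcount hij.symm]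
      rw [sum_congr rfl fun j _ => hterm j]
      rw [mul_sum, ← sub_eq_iff_eq_add, ← sum_sub_distrib, sum_eq_single i]
      · rw [if_pos rfl]; ring
      · intro j _ hji
        rw [if_neg (Ne.symm hji)]; ring
      · simp
    rw [h0] at hexp
    have hpos : ∀ i, 0 < c i - h := fun i => sub_pos.2 (Nat.cast_lt.2 (lt_card_of_no_common inc h hfin hcount hh hd hnone i))
    have h1 : 0 ≤ (h : ℝ) * (∑ i, x i) ^ 2 := by positivity
    have h2 : ∀ i ∈ univ, 0 ≤ (c i - h) * x i ^ 2 := fun i _ => mul_nonneg (hpos i).le (sq_nonneg _)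
    have h3 := (sum_eq_zero_iff_of_nonneg h2).1 (by linarith [sum_nonneg h2])
    funext i
    have := h3 i (mem_univ i)
    rcases mul_eq_zero.1 this with e | e
    · exact absurd e (hpos i).ne'
    · exact pow_eq_zero_iff (by norm_num) |>.1 e
  simpa using LinearMap.finrank_le_finrank_of_injective hinj

include hcount in
theorem add_two_le (hh : 0 < h) (hd : 2 ≤ Fintype.card ι) (hnone : ∀ p : P, ∃ i : ι, ¬ inc p i) :
    h + 2 ≤ (multiple inc hfin).card := by
  classical
  obtain ⟨i, j, hij⟩ := Fintype.one_lt_card_iff.1 hd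
  have hi := lt_card_of_no_common inc h hfin hcount hh hd hnone i
  have hj := lt_card_of_no_common inc h hfin hcount hh hd hnone j
  have hu := card_union_add_card_inter ((multiple inc hfin).filter (inc · i)) ((multiple inc hfin).filter (inc · j))
  rw [← filter_and, card_common inc h hfin hcount hij] at hu
  have := card_le_card (union_subset (filter_subset (inc · i) (multiple inc hfin)) (filter_subset (inc · j) (multiple inc hfin)))
  omega

end Groth.Agent.IncidenceHarb
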