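import Groth.Agent.Lib.EquidimAt4
import Mathlib.RingTheory.Ideal.KrullsHeightTheorem
import Mathlib.RingTheory.Ideal.MinimalPrime.Noetherian

/-!
# Quasi-sections of equidimensional morphisms
-/

universe u

open CategoryTheory AlgebraicGeometry Topology TopologicalSpace Order Groth.Agent.FibDim14

set_option backward.isDefEq.respectTransparency.types false

namespace Groth.Agent.EquidimAt4

variable {X Y : Scheme.{u}} (f : X ⟶ Y) [LocallyOfFiniteType f]

/-- A closed point of its fibre has residual degree zero. -/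
theorem rd_eq_zero_of_closed {x : X} (hcl : ∀ x' : X, f x' = f x → x ⤳ x' → x' = x) : rd f x = 0 := by
  have hmin : IsMin (f.asFiber x) := fun b hb => by
    have hsp := (Scheme.le_iff_specializes.1 hb).map (f.fiberι (f x)).continuous
    rw [f.fiberι_asFiber] at hsp
    have hm : f.fiberι (f x) b ∈ Set.range (f.fiberι (f x)) := ⟨b, rfl⟩
    rw [f.range_fiberι] at hm
    have := hcl _ hm hsp
    have hb' : b = f.asFiber x := (f.fiberι (f x)).isEmbedding.injective (this.trans (f.fiberι_asFiber x).symm)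
    rw [hb']
  have h1 := VarDim.height_eq_sdim (toPt f (f x)) (f.asFiber x)
  rw [height_eq_zero.2 hmin, ← rd_fiberι, f.fiberι_asFiber] at h1
  exact_mod_cast h1.symm

variable [IrreducibleSpace Y]

/-- cutting by a hypersurface through `x` which contains no fibre component -/
theorem exists_cut [IsLocallyNoetherian Y] {U : X.Opens} {e : ℕ} (h : EqD f U e) {x : X} (hx : x ∈ U)
    (he : 0 < e) (hcl : ∀ x' : X, f x' = f x → x ⤳ x' → x' = x) :
    ∃ t, t ⤳ x ∧ coheight t ≤ (1 : ℕ∞) ∧ ∀ a, t ⤳ a → a ⤳ x → f a = f x → rd f a + 1 ≤ e := by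
  classical
  obtain ⟨V, hV, hyV, -⟩ := exists_isAffineOpen_mem_and_subset (U := (⊤ : Y.Opens)) (x := f x) trivial
  obtain ⟨A, hA, hxA, hAV⟩ := exists_isAffineOpen_mem_and_subset (U := f ⁻¹ᵁ V) (x := x) hyV
  have hAV : A ≤ f ⁻¹ᵁ V := hAV
  let φ := f.appLE V A hAV
  haveI : IsNoetherianRing Γ(Y, V) := IsLocallyNoetherian.component_noetherian ⟨V, hV⟩
  haveI : IsNoetherianRing Γ(X, A) := by
    letI : Algebra Γ(Y, V) Γ(X, A) := φ.hom.toAlgebra
    haveI : Algebra.FiniteType Γ(Y, V) Γ(X, A) := f.finiteType_appLE hV hA hAV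
    exact Algebra.FiniteType.isNoetherianRing Γ(Y, V) Γ(X, A)
  have hlift : ∀ q, f (hA.fromSpec q) = hV.fromSpec (Spec.map φ q) := fun q => by
    rw [← Scheme.Hom.comp_apply, ← IsAffineOpen.SpecMap_appLE_fromSpec f hV hA hAV, Scheme.Hom.comp_apply]
  let P : Spec Γ(X, A) := hA.primeIdealOf ⟨x, hxA⟩
  have hP : hA.fromSpec P = x := hA.fromSpec_primeIdealOf ⟨x, hxA⟩
  let p := Spec.map φ P
  let I : Ideal Γ(X, A) := p.asIdeal.map φ.hom
  have hIP : I ≤ P.asIdeal := Ideal.map_le_iff_le_comap.2 le_rfl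
  have hfin : {Q ∈ I.minimalPrimes | Q ≠ P.asIdeal}.Finite :=
    (Ideal.finite_minimalPrimes_of_isNoetherianRing _ I).subset fun Q hQ => hQ.1
  obtain ⟨s, hsP, hs⟩ : ∃ s ∈ P.asIdeal, ∀ Q ∈ I.minimalPrimes, Q ≠ P.asIdeal → s ∉ Q := by
    by_contra hn
    push Not at hn
    have hsub : (P.asIdeal : Set Γ(X, A)) ⊆ ⋃ Q ∈ (↑hfin.toFinset : Set (Ideal Γ(X, A))), (Q : Set Γ(X, A)) := by
      intro s hs
      obtain ⟨Q, hQ, hne, hsQ⟩ := hn s hs
      exact Set.mem_iUnion₂.2 ⟨Q, by simpa using ⟨hQ, hne⟩, hsQ⟩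
    obtain ⟨Q, hQ, hle⟩ := (Ideal.subset_union_prime (f := fun Q : Ideal Γ(X, A) => Q) ⊥ ⊥
      (fun Q hQ _ _ => ((hfin.mem_toFinset).1 hQ).1.1.1)).1 hsub
    obtain ⟨hQmin, hne⟩ := (hfin.mem_toFinset).1 hQ
    exact hne (le_antisymm (hQmin.2 ⟨P.2, hIP⟩ hle) hle)
  obtain ⟨Q, hQmin, hQP⟩ := Ideal.exists_minimalPrimes_le (I := Ideal.span {s}) (J := P.asIdeal)
    ((Ideal.span_singleton_le_iff_mem _).2 hsP)
  haveI hQp : Q.IsPrime := hQmin.1.1
  let q : Spec Γ(X, A) := ⟨Q, hQp⟩
  refine ⟨hA.fromSpec q, hP ▸ ((PrimeSpectrum.le_iff_specializes q P).1 hQP).map hA.fromSpec.continuous, ?_, ?_⟩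
  · have hqA : hA.fromSpec q ∈ A := by
      have : hA.fromSpec q ∈ Set.range hA.fromSpec := ⟨q, rfl⟩
      rwa [hA.range_fromSpec] at this
    letI := X.presheaf.algebra_section_stalk (⟨_, hqA⟩ : A)
    haveI : IsLocalization.AtPrime (X.presheaf.stalk (hA.fromSpec q)) q.asIdeal := hA.isLocalization_stalk' q hqA
    have h1 := IsLocalization.AtPrime.ringKrullDim_eq_height q.asIdeal (X.presheaf.stalk (hA.fromSpec q))
    rw [ringKrullDim_stalk_eq_coheight] at h1
    exact (WithBot.coe_injective h1).le.trans (Ideal.height_le_one_of_isPrincipal_of_mem_minimalPrimes _ _ hQmin)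
  · intro a ha hax hfa
    have hfd := fibreDimAt_eq f h hx
    by_cases hae : a = x
    · rw [hae, rd_eq_zero_of_closed f hcl]
      omega
    have haA : a ∈ A := hax.mem_open A.2 hxA
    let r : Spec Γ(X, A) := hA.primeIdealOf ⟨a, haA⟩
    have hr : hA.fromSpec r = a := hA.fromSpec_primeIdealOf ⟨a, haA⟩
    have hnmax : ¬ IsMaxFib f a := by
      intro hmax
      have hrp : Spec.map φ r = p := hV.fromSpec.isOpenEmbedding.injective (by
        rw [← hlift, ← hlift, hr, hP, hfa])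
      have hrmin : r.asIdeal ∈ I.minimalPrimes := by
        refine ⟨⟨r.2, Ideal.map_le_iff_le_comap.2 (congrArg PrimeSpectrum.asIdeal hrp).ge⟩,
          fun J hJ hJr => ?_⟩
        let j : Spec Γ(X, A) := ⟨J, hJ.1⟩
        have hjp : Spec.map φ j = p := PrimeSpectrum.ext (le_antisymm
          ((Ideal.comap_mono hJr).trans (congrArg PrimeSpectrum.asIdeal hrp).le)
          (Ideal.map_le_iff_le_comap.1 hJ.2))
        have h2 := hmax (hA.fromSpec j) (hr ▸ ((PrimeSpectrum.le_iff_specializes j r).1 hJr).map hA.fromSpec.continuous)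
          (by rw [← hr, hlift, hlift, hjp, hrp])
        rw [← hr] at h2
        exact (congrArg PrimeSpectrum.asIdeal (hA.fromSpec.isOpenEmbedding.injective h2)).ge
      refine hs _ hrmin (fun hEq => hae ?_) ?_
      · rw [← hr, ← hP, PrimeSpectrum.ext hEq (y := P)]
      · have hqr : q ⤳ r := hA.fromSpec.isEmbedding.isInducing.specializes_iff.1 (hr.symm ▸ ha)
        exact ((PrimeSpectrum.le_iff_specializes q r).2 hqr) (hQmin.1.2 (Ideal.mem_span_singleton_self s))
    obtain ⟨b, hb, heb, hne⟩ : ∃ b, b ⤳ a ∧ f b = f a ∧ b ≠ a := by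
      simpa [IsMaxFib] using hnmax
    have h3 := rd_lt_of_specializes f hb hne heb
    have h4 := rd_le_fibreDimAt f (hb.trans hax) (heb.trans hfa)
    rw [hfd] at h4
    have h4' : rd f b ≤ e := by exact_mod_cast h4
    omega

/-- Existence of quasi-sections through a point closed in its fibre. -/
theorem exists_quasiSection [IsLocallyNoetherian Y] (e : ℕ) :
    ∀ {X : Scheme.{u}} (f : X ⟶ Y) [LocallyOfFiniteType f] (U : X.Opens) (x : X), x ∈ U → EqD f U e →
      (∀ x' : X, f x' = f x → x ⤳ x' → x' = x) →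
    ∃ (T : Scheme.{u}) (i : T ⟶ X), IsImmersion i ∧ IrreducibleSpace ↥T ∧ IsReduced T ∧ x ∈ Set.range i.base ∧
        LocallyOfFiniteType (i ≫ f) ∧ LocallyQuasiFinite (i ≫ f) ∧ QuasiCompact (i ≫ f) ∧ IsDominant (i ≫ f) := by
  induction e using Nat.strong_induction_on with
  | _ e ih =>
    intro X f hf U x hx h hcl
    obtain ⟨t, htx, htc, htd⟩ : ∃ t, t ⤳ x ∧ (0 < e → coheight t ≤ (1 : ℕ∞)) ∧
        (if 0 < e then (∀ a, t ⤳ a → a ⤳ x → f a = f x → rd f a + 1 ≤ e) else (∀ y, y ⤳ t → y = t)) := by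
      by_cases he : 0 < e
      · obtain ⟨t, h1, h2, h3⟩ := exists_cut f h hx he hcl
        exact ⟨t, h1, fun _ => h2, by rwa [if_pos he]⟩
      · obtain ⟨t, h1, h2⟩ := exists_max_specializes x
        exact ⟨t, h1, fun hh => absurd hh he, by rwa [if_neg he]⟩
    let C : Closeds X := ⟨closure {t}, isClosed_closure⟩
    let Z := (Scheme.IdealSheafData.vanishingIdeal C).subscheme
    let j : Z ⟶ X := (Scheme.IdealSheafData.vanishingIdeal C).subschemeι
    haveI : IsReduced Z := RedSepLib.isReduced_vanishingIdeal_subscheme C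
    have hrange : Set.range j = closure {t} := by
      rw [Scheme.IdealSheafData.range_subschemeι, Scheme.IdealSheafData.coe_support_vanishingIdeal]
      rfl
    obtain ⟨g, hg⟩ : t ∈ Set.range j := by rw [hrange]; exact subset_closure rfl
    obtain ⟨w, hw⟩ : x ∈ Set.range j := by rw [hrange]; exact specializes_iff_mem_closure.1 htx
    have hgen : ∀ z, g ⤳ z := fun z => by
      refine j.isEmbedding.isInducing.specializes_iff.1 ?_
      rw [hg, specializes_iff_mem_closure, ← hrange]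
      exact ⟨z, rfl⟩
    have hclw : ∀ z : Z, (j ≫ f) z = (j ≫ f) w → w ⤳ z → z = w := fun z hz hwz => by
      refine j.isEmbedding.injective ?_
      rw [hw]
      refine hcl _ ?_ (hw ▸ hwz.map j.continuous)
      rw [← hw]
      exact hz
    by_cases he : 0 < e
    · rw [if_pos he] at htd
      obtain ⟨a, ha, hea, hd, -⟩ := exists_fibreDimAt_eq (j ≫ f) w
      have hde : rd (j ≫ f) a + 1 ≤ e := by
        rw [rd_comp, rd_of_surjectiveOnStalks j, add_zero]
        refine htd _ (hg ▸ (hgen a).map j.continuous) (hw ▸ ha.map j.continuous) ?_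
        rw [← hw]
        exact hea
      obtain ⟨-, h2, O, hwO, -, hO⟩ := eqD_sub f h j g w hgen (hw ▸ hx) 1 (rd (j ≫ f) a)
        (hg ▸ htc he) hd hde
      obtain ⟨T, i, hi, h3, h4, ⟨z, hz⟩, h5, h6, h7, h8⟩ := ih (rd (j ≫ f) a) (by omega) (j ≫ f) O w hwO hO hclw
      refine ⟨T, i ≫ j, inferInstance, h3, h4, ⟨z, ?_⟩, ?_, ?_, ?_, ?_⟩
      · show j (i z) = x
        rw [show i z = w from hz, hw]
      all_goals rw [Category.assoc]
      all_goals assumption
    · rw [if_neg he] at htd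
      obtain ⟨B, hB, hwB, hBU⟩ := exists_isAffineOpen_mem_and_subset (U := j ⁻¹ᵁ U) (x := w) (show j w ∈ U by rw [hw]; exact hx)
      haveI : IsAffine (B : Scheme.{u}) := hB
      have hgB : g ∈ B := (hgen w).mem_open B.2 hwB
      haveI : IrreducibleSpace ↥(B : Scheme.{u}) := by
        have hgb : ∀ b : (B : Scheme.{u}), (⟨g, hgB⟩ : (B : Scheme.{u})) ⤳ b := fun b =>
          (subtype_specializes_iff _ _).2 (hgen b.1)
        haveI : Nonempty ↥(B : Scheme.{u}) := ⟨⟨g, hgB⟩⟩
        haveI : PreirreducibleSpace ↥(B : Scheme.{u}) := ⟨by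
          rintro u v hu hv ⟨a, -, ha⟩ ⟨b, -, hb⟩
          exact ⟨⟨g, hgB⟩, trivial, (hgb a).mem_open hu ha, (hgb b).mem_open hv hb⟩⟩
        exact ⟨inferInstance⟩
      let i : (B : Scheme.{u}) ⟶ X := B.ι ≫ j
      have hlqf : LocallyQuasiFinite (i ≫ f) := by
        rw [← Scheme.Hom.quasiFiniteLocus_eq_top_iff, eq_top_iff]
        intro b _
        show (i ≫ f).QuasiFiniteAt b
        rw [← fibreDimAt_eq_zero_iff]
        have h1 := fibreDimAt_comp_le i f b
        rw [fibreDimAt_eq_zero i, zero_add, fibreDimAt_eq f h (show i b ∈ U from hBU b.2),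
          show e = 0 by omega] at h1
        obtain ⟨b', -, -, hd, -⟩ := exists_fibreDimAt_eq (i ≫ f) b
        rw [hd] at h1 ⊢
        exact_mod_cast Nat.le_zero.1 (by exact_mod_cast h1)
      haveI : QuasiCompact (i ≫ f) := inferInstance
      refine ⟨B, i, inferInstance, inferInstance, inferInstance, ⟨⟨w, hwB⟩, hw⟩, inferInstance, hlqf,
        inferInstance, ⟨?_⟩⟩
      refine dense_iff_closure_eq.2 (Set.univ_subset_iff.1 ?_)
      rw [← genericPoint_spec Y]
      refine closure_mono (Set.singleton_subset_iff.2 ⟨⟨g, hgB⟩, ?_⟩)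
      show f (j g) = _
      rw [hg]
      exact h.1 t (htx.mem_open U.2 hx) htd

end Groth.Agent.EquidimAt4
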