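import Groth.Agent.Lib.DimEqScheme4
import Groth.Agent.Lib.Hironaka.Catenary
import Groth.Agent.Lib.H12.Dim
import Groth.Agent.Lib.VarDim.Top
import Groth.Agent.Lib.QuasiSection4

/-!
# Dimension over a Jacobson universally catenary biequidimensional base
-/

universe u

open CategoryTheory AlgebraicGeometry Topology TopologicalSpace Order

set_option backward.isDefEq.respectTransparency.types false

namespace Groth.Agent.JacobsonDim4

open EquidimStalk4 FibDim14

theorem coheight_add_height {A : Type u} [CommRing A] [IsDomain A] [IsLocalRing A] [IsNoetherianRing A]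
    (hA : CAlg.IsCatenary A) (q : PrimeSpectrum A) :
    coheight q + height q = coheight (⊥ : PrimeSpectrum A) := by
  have hfin : height q ≠ ⊤ := by
    rw [← PrimeSpectrum.height_eq_orderHeight]
    exact Ideal.height_ne_top_of_isPrime
  obtain ⟨n, hn⟩ := ENat.ne_top_iff_exists.1 hfin
  obtain ⟨t, ht, htlen⟩ := exists_series_of_height_eq_coe q hn.symm
  have htl : (t.length : ℕ∞) = height t.last := by rw [ht, htlen, hn]
  have h0 : t.head = ⊥ := by
    have := height_eq_index_of_length_eq_height_last htl 0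
    exact (height_eq_zero.1 this).eq_bot
  have key : ∀ i : Fin (t.length + 1), coheight (t.head) = coheight (t i) + (i.1 : ℕ∞) := by
    intro i
    induction i using Fin.induction with
    | zero => simp [RelSeries.head]
    | succ j ih =>
      have hcov := UCat26.covBy_of_length_eq t (by rw [ht]; exact hfin) htl j
      rw [ih, Hironaka.coheight_eq_add_one hA hcov]
      simp only [Fin.val_succ, Fin.val_castSucc]
      push_cast
      ring
  have h := key (Fin.last _)
  rw [h0, show t (Fin.last _) = q from ht] at h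
  rw [h, Fin.val_last, htlen, hn]

theorem height_eq_coheight_fromSpecStalk {Z : Scheme.{u}} (w : Z) (q : PrimeSpectrum (Z.presheaf.stalk w)) :
    height q = coheight (Z.fromSpecStalk w (q : Spec (Z.presheaf.stalk w))) := by
  let φ : (PrimeSpectrum (Z.presheaf.stalk w))ᵒᵈ → Z := fun r =>
    Z.fromSpecStalk w (OrderDual.ofDual r : Spec (Z.presheaf.stalk w))
  have hiff : ∀ r r', φ r ≤ φ r' ↔ r ≤ r' := fun r r' => by
    rw [Scheme.le_iff_specializes, (Z.fromSpecStalk w).isEmbedding.isInducing.specializes_iff]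
    exact (PrimeSpectrum.le_iff_specializes (OrderDual.ofDual r') (OrderDual.ofDual r)).symm
  have hmono : StrictMono φ := fun r r' h =>
    lt_of_le_not_ge ((hiff r r').2 h.le) fun h' => h.not_ge ((hiff r' r).1 h')
  refine le_antisymm ?_ ?_
  · exact coheight_le_coheight_apply_of_strictMono φ hmono (OrderDual.toDual q)
  · refine coheight_le fun p hp' => ?_
    have hp := hp'.ge
    have hsp : ∀ i, p i ⤳ Z.fromSpecStalk w (q : Spec (Z.presheaf.stalk w)) := fun i =>
      Scheme.le_iff_specializes.1 (hp.trans (p.monotone (Fin.zero_le i)))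
    have hw : Z.fromSpecStalk w (q : Spec (Z.presheaf.stalk w)) ⤳ w :=
      (Scheme.range_fromSpecStalk (X := Z) (x := w)).le ⟨_, rfl⟩
    choose c hc using fun i => (Scheme.range_fromSpecStalk (X := Z) (x := w)).ge ((hsp i).trans hw)
    let l : LTSeries (PrimeSpectrum (Z.presheaf.stalk w))ᵒᵈ :=
      LTSeries.mk p.length (fun i => OrderDual.toDual (c i : PrimeSpectrum (Z.presheaf.stalk w))) fun i j hij => by
        have h : φ (OrderDual.toDual (c i : PrimeSpectrum _)) < φ (OrderDual.toDual (c j : PrimeSpectrum _)) := by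
          show Z.fromSpecStalk w (c i) < Z.fromSpecStalk w (c j)
          rw [hc i, hc j]
          exact p.strictMono hij
        exact lt_of_le_not_ge ((hiff _ _).1 h.le) fun h' => h.not_ge ((hiff _ _).2 h')
    refine length_le_coheight (p := l) ((hiff _ _).1 ?_)
    show Z.fromSpecStalk w (q : Spec (Z.presheaf.stalk w)) ≤ Z.fromSpecStalk w (c 0)
    rw [hc 0]
    exact hp

/-- The local ring of the closure as an interval of generizations. -/
theorem dim_interval {X : Scheme.{u}} {t x : X} (w : Cl t) (hw : clι t w = x) :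
    ringKrullDim ((Cl t).presheaf.stalk w) = topologicalKrullDim ↥{a : X | t ⤳ a ∧ a ⤳ x} := by
  rw [← PrimeSpectrum.topologicalKrullDim_eq_ringKrullDim]
  let e₁ : PrimeSpectrum ((Cl t).presheaf.stalk w) → X := fun q => clι t ((Cl t).fromSpecStalk w (q : Spec _))
  have h₁ : IsEmbedding e₁ := (clι t).isEmbedding.comp ((Cl t).fromSpecStalk w).isEmbedding
  have hr₁ : Set.range e₁ = {a | t ⤳ a ∧ a ⤳ x} := by
    ext a
    constructor
    · rintro ⟨q, rfl⟩
      exact ⟨specializes_clι t _, hw ▸ ((Scheme.range_fromSpecStalk (X := Cl t) (x := w)).le ⟨_, rfl⟩).map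
        (clι t).continuous⟩
    · rintro ⟨hta, hax⟩
      obtain ⟨b, rfl⟩ := exists_preimage hta
      rw [← hw, (clι t).isEmbedding.isInducing.specializes_iff] at hax
      obtain ⟨q, rfl⟩ := (Scheme.range_fromSpecStalk (X := Cl t) (x := w)).ge hax
      exact ⟨q, rfl⟩
  exact IsHomeomorph.topologicalKrullDim_eq _ (h₁.toHomeomorph.trans (Homeomorph.setCongr hr₁)).isHomeomorph

/-- Catenarity: dimensions of the local rings of nested irreducible closed sets. -/
theorem dim_cl_add_coheight {S : Scheme.{u}} [IsLocallyNoetherian S] {η u s : S} (hu : η ⤳ u) (hs : u ⤳ s)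
    (hcat : CAlg.IsUniversallyCatenary (S.presheaf.stalk s)) (w : Cl η) (hw : clι η w = s)
    (w' : Cl u) (hw' : clι u w' = s) (uu : Cl η) (huu : clι η uu = u) :
    ringKrullDim ((Cl u).presheaf.stalk w') + (coheight uu : WithBot ℕ∞) = ringKrullDim ((Cl η).presheaf.stalk w) := by
  haveI : IsLocallyNoetherian (Cl η) := LocallyOfFiniteType.isLocallyNoetherian (clι η)
  haveI : IrreducibleSpace (Cl η) := by
    obtain ⟨g, -, hgen⟩ := exists_gen η
    haveI : Nonempty (Cl η) := ⟨g⟩
    haveI : PreirreducibleSpace (Cl η) := ⟨by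
      rintro u v hu hv ⟨a, -, ha⟩ ⟨b, -, hb⟩
      exact ⟨g, trivial, (hgen a).mem_open hu ha, (hgen b).mem_open hv hb⟩⟩
    exact ⟨inferInstance⟩
  haveI := isReduced_cl η
  haveI : IsIntegral (Cl η) := isIntegral_of_irreducibleSpace_of_isReduced _
  have hA : CAlg.IsUniversallyCatenary ((Cl η).presheaf.stalk w) :=
    UCat.isUniversallyCatenary_of_surjective ((clι η).stalkMap w).hom
      (Scheme.Hom.stalkMap_surjective (clι η) w) (hw.symm ▸ hcat)
  haveI := hA.1
  have hAcat : CAlg.IsCatenary ((Cl η).presheaf.stalk w) := hA.2 _ inferInstance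
  have huw : uu ⤳ w := (clι η).isEmbedding.isInducing.specializes_iff.1 (by rw [huu, hw]; exact hs)
  obtain ⟨q, hq⟩ : ∃ q : PrimeSpectrum ((Cl η).presheaf.stalk w),
      (Cl η).fromSpecStalk w (q : Spec ((Cl η).presheaf.stalk w)) = uu := by
    obtain ⟨q, hq⟩ := (Scheme.range_fromSpecStalk (X := Cl η) (x := w)).ge huw
    exact ⟨q, hq⟩
  obtain ⟨w'', hw''⟩ := exists_preimage huw
  have e1 : ringKrullDim ((Cl u).presheaf.stalk w') = ringKrullDim ((Cl uu).presheaf.stalk w'') := by
    rw [dim_interval w' hw', dim_interval w'' hw'']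
    let e : ↥{a : Cl η | uu ⤳ a ∧ a ⤳ w} → S := fun a => clι η a.1
    have he : IsEmbedding e := (clι η).isEmbedding.comp IsEmbedding.subtypeVal
    have hr : Set.range e = {a | u ⤳ a ∧ a ⤳ s} := by
      ext a
      constructor
      · rintro ⟨⟨b, hb1, hb2⟩, rfl⟩
        exact ⟨huu ▸ hb1.map (clι η).continuous, hw ▸ hb2.map (clι η).continuous⟩
      · rintro ⟨ha1, ha2⟩
        obtain ⟨b, rfl⟩ := exists_preimage (hu.trans ha1)
        rw [← huu, (clι η).isEmbedding.isInducing.specializes_iff] at ha1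
        rw [← hw, (clι η).isEmbedding.isInducing.specializes_iff] at ha2
        exact ⟨⟨b, ha1, ha2⟩, rfl⟩
    exact (IsHomeomorph.topologicalKrullDim_eq _
      (he.toHomeomorph.trans (Homeomorph.setCongr hr)).isHomeomorph).symm
  have e2 := dim_stalk_cl w'' hw'' (q : PrimeSpectrum _) hq
  rw [← Hironaka.coheight_eq_ringKrullDim_quotient] at e2
  have e3 : coheight uu = height (q : PrimeSpectrum ((Cl η).presheaf.stalk w)) := by
    rw [← hq, height_eq_coheight_fromSpecStalk]
  rw [e1, e2, e3]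
  have h := coheight_add_height hAcat (q : PrimeSpectrum ((Cl η).presheaf.stalk w))
  rw [← WithBot.coe_add, h, ringKrullDim, Order.krullDim_eq_iSup_coheight_of_nonempty]
  refine congrArg WithBot.some (le_antisymm (le_iSup (fun a => coheight a) ⊥) (iSup_le fun a => ?_))
  exact coheight_anti bot_le

/-- A subspace dimension as supremum over closed points. -/
theorem dim_eq_of_closed_points {X : Scheme.{u}} [JacobsonSpace X] [Nonempty X] {c : WithBot ℕ∞}
    (h : ∀ x : X, IsClosed ({x} : Set X) → ringKrullDim (X.presheaf.stalk x) = c) :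
    topologicalKrullDim X = c := by
  have hex : ∀ a : X, ∃ x, a ⤳ x ∧ IsClosed ({x} : Set X) := fun a => by
    obtain ⟨x, hx1, hx2⟩ := nonempty_inter_closedPoints (X := X) (Z := closure {a}) ⟨a, subset_closure rfl⟩
      isClosed_closure.isLocallyClosed
    exact ⟨x, specializes_iff_mem_closure.2 hx1, hx2⟩
  rw [H12.topologicalKrullDim_eq_krullDim_specializationOrder]
  change Order.krullDim X = c
  rw [Order.krullDim_eq_iSup_coheight_of_nonempty]
  obtain ⟨x₀, -, hx₀⟩ := hex (Classical.arbitrary X)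
  rw [← h x₀ hx₀, ringKrullDim_stalk_eq_coheight]
  refine congrArg WithBot.some (le_antisymm (iSup_le fun a => ?_) (le_iSup (fun a => coheight a) x₀))
  obtain ⟨x, hax, hx⟩ := hex a
  have h1 := (h x hx).trans (h x₀ hx₀).symm
  rw [ringKrullDim_stalk_eq_coheight, ringKrullDim_stalk_eq_coheight] at h1
  exact (coheight_anti (Scheme.le_iff_specializes.2 hax)).trans (WithBot.coe_injective h1).le

/-- The local rings at closed points of an irreducible scheme of finite type over such a base. -/
theorem exists_stalk_dim_eq {S : Scheme.{u}} [IsLocallyNoetherian S] [JacobsonSpace S]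
    (h2 : ∀ s : S, CAlg.IsUniversallyCatenary (S.presheaf.stalk s))
    (h3 : ∀ S' ∈ irreducibleComponents (S : Type u), ∀ s ∈ S', IsClosed ({s} : Set S) →
      topologicalKrullDim (↥S' : Type u) = topologicalKrullDim ↥{t : S | t ∈ S' ∧ t ⤳ s})
    (u : S) :
    ∃ N : ℕ, ∀ (X : Scheme.{u}) (p : X ⟶ S) [LocallyOfFiniteType p] [IrreducibleSpace X],
      p (genericPoint X) = u → ∀ x : X, IsClosed ({x} : Set X) →
        ringKrullDim (X.presheaf.stalk x) = ((N + rd p (genericPoint X) : ℕ) : WithBot ℕ∞) := by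
  obtain ⟨η, hηu, hηmax⟩ := EquidimAt4.exists_max_specializes u
  obtain ⟨uu, huu⟩ := exists_preimage hηu
  obtain ⟨s₀, hs₀u, hs₀⟩ := nonempty_inter_closedPoints (X := S) (Z := closure {u}) ⟨u, subset_closure rfl⟩
    isClosed_closure.isLocallyClosed
  have hus₀ : u ⤳ s₀ := specializes_iff_mem_closure.2 hs₀u
  have hD : ∀ s, η ⤳ s → IsClosed ({s} : Set S) → ∀ w : Cl η, clι η w = s →
      ringKrullDim ((Cl η).presheaf.stalk w) = topologicalKrullDim ↥(closure {η} : Set S) := by
    intro s hs hcl w hw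
    rw [h3 _ ((VarDim.maximal_iff_mem_irreducibleComponents (X := S) η).1 hηmax) s
      (specializes_iff_mem_closure.1 hs) hcl, dim_interval w hw]
    have hset : {a : S | η ⤳ a ∧ a ⤳ s} = {t : S | t ∈ closure {η} ∧ t ⤳ s} :=
      Set.ext fun a => and_congr_left' specializes_iff_mem_closure
    rw [hset]
  obtain ⟨w₀, hw₀⟩ := exists_preimage hus₀
  obtain ⟨v₀, hv₀⟩ := exists_preimage (hηu.trans hus₀)
  haveI : IsLocallyNoetherian (Cl u) := LocallyOfFiniteType.isLocallyNoetherian (clι u)
  haveI : IsLocallyNoetherian (Cl η) := LocallyOfFiniteType.isLocallyNoetherian (clι η)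
  obtain ⟨N, hN⟩ := exists_nat_dim w₀
  obtain ⟨D, hD'⟩ := exists_nat_dim v₀
  obtain ⟨c, hc⟩ := ENat.ne_top_iff_exists.1 (DimF18.coheight_ne_top uu)
  refine ⟨N, fun X p _ _ hp => ?_⟩
  haveI : IsLocallyNoetherian X := LocallyOfFiniteType.isLocallyNoetherian p
  haveI : JacobsonSpace X := LocallyOfFiniteType.jacobsonSpace p
  intro x hx
  have hgx : genericPoint X ⤳ x := (genericPoint_spec X).specializes trivial
  have hpx : IsClosed ({p x} : Set S) := p.closePoints_subset_preimage_closedPoints hx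
  have hrdx : rd p x = 0 := EquidimAt4.rd_eq_zero_of_closed p fun x' _ hxx' =>
    (hx.closure_eq ▸ specializes_iff_mem_closure.1 hxx' : x' ∈ ({x} : Set X))
  obtain ⟨w, hw⟩ := exists_preimage hgx
  have hus : u ⤳ p x := hp ▸ hgx.map p.continuous
  subst hp
  obtain ⟨v, hv⟩ := exists_preimage hus
  obtain ⟨v', hv'⟩ := exists_preimage (hηu.trans hus)
  have hdX : ringKrullDim ((Cl (genericPoint X)).presheaf.stalk w) = ringKrullDim (X.presheaf.stalk x) :=
    (isEquidim_stalk_iff x).1 (isEquidim_stalk_of_irreducible x) _ hgx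
      (fun y hy => (hy.antisymm ((genericPoint_spec X).specializes trivial)).eq) w hw
  subst hw
  have E := DimEqScheme4.dim_stalk_cl_eq p w (h2 _) v hv
  rw [hdX, hrdx] at E
  have E1 := dim_cl_add_coheight hηu hus (h2 _) v' hv' v hv uu huu
  have E0 := dim_cl_add_coheight hηu hus₀ (h2 _) v₀ hv₀ w₀ hw₀ uu huu
  rw [hD _ (hηu.trans hus) hpx v' hv', ← hD _ (hηu.trans hus₀) hs₀ v₀ hv₀, hD', ← hc] at E1
  rw [hD', hN, ← hc] at E0
  obtain ⟨a, ha⟩ := exists_nat_dim v
  rw [ha] at E1 E
  have i0 : N + c = D := by exact_mod_cast E0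
  have i1 : a + c = D := by exact_mod_cast E1
  simp only [CharP.cast_eq_zero, add_zero] at E
  rw [E, show a = N by omega]
  push_cast
  rfl

/-- The dimension of an irreducible scheme of finite type over such a base. -/
theorem exists_dim_eq {S : Scheme.{u}} [IsLocallyNoetherian S] [JacobsonSpace S]
    (h2 : ∀ s : S, CAlg.IsUniversallyCatenary (S.presheaf.stalk s))
    (h3 : ∀ S' ∈ irreducibleComponents (S : Type u), ∀ s ∈ S', IsClosed ({s} : Set S) →
      topologicalKrullDim (↥S' : Type u) = topologicalKrullDim ↥{t : S | t ∈ S' ∧ t ⤳ s})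
    (u : S) :
    ∃ N : ℕ, ∀ (X : Scheme.{u}) (p : X ⟶ S) [LocallyOfFiniteType p] [IrreducibleSpace X],
      p (genericPoint X) = u → topologicalKrullDim X = ((N + rd p (genericPoint X) : ℕ) : WithBot ℕ∞) := by
  obtain ⟨N, hN⟩ := exists_stalk_dim_eq h2 h3 u
  refine ⟨N, fun X p _ _ hp => ?_⟩
  haveI : JacobsonSpace X := LocallyOfFiniteType.jacobsonSpace p
  exact dim_eq_of_closed_points fun x hx => hN X p hp x hx

variable {S : Scheme.{u}} [IsLocallyNoetherian S] [JacobsonSpace S]
  (h2 : ∀ s : S, CAlg.IsUniversallyCatenary (S.presheaf.stalk s))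
  (h3 : ∀ S' ∈ irreducibleComponents (S : Type u), ∀ s ∈ S', IsClosed ({s} : Set S) →
    topologicalKrullDim (↥S' : Type u) = topologicalKrullDim ↥{t : S | t ∈ S' ∧ t ⤳ s})
  {W : Scheme.{u}} (j : W ⟶ S) [IsImmersion j]

omit [IsLocallyNoetherian S] [JacobsonSpace S] in
theorem genericPoint_cl {V : Scheme.{u}} (g : V) : ∃ _ : IrreducibleSpace (Cl g), clι g (genericPoint (Cl g)) = g := by
  obtain ⟨c, hc, hgen⟩ := exists_gen g
  haveI : Nonempty (Cl g) := ⟨c⟩
  haveI : PreirreducibleSpace (Cl g) := ⟨by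
    rintro u v hu hv ⟨a, -, ha⟩ ⟨b, -, hb⟩
    exact ⟨c, trivial, (hgen a).mem_open hu ha, (hgen b).mem_open hv hb⟩⟩
  haveI : IrreducibleSpace (Cl g) := ⟨inferInstance⟩
  refine ⟨inferInstance, ?_⟩
  rw [show genericPoint (Cl g) = c from (((genericPoint_spec (Cl g)).specializes trivial).antisymm (hgen _)).eq]
  exact hc

include h2 h3 j in
/-- On a subscheme: stalks at closed points, open pieces, and additivity. -/
theorem exists_subscheme_dim (g : W) : ∃ n : ℕ,
    topologicalKrullDim ↥(closure {g} : Set W) = (n : WithBot ℕ∞) ∧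
    (∀ O : Set W, IsOpen O → g ∈ O → topologicalKrullDim ↥(O ∩ closure {g}) = (n : WithBot ℕ∞)) ∧
    ∀ s, IsClosed ({s} : Set W) → ∀ w : Cl g, clι g w = s →
      ringKrullDim ((Cl g).presheaf.stalk w) = (n : WithBot ℕ∞) := by
  obtain ⟨_, hg⟩ := genericPoint_cl g
  obtain ⟨N, hN⟩ := exists_stalk_dim_eq h2 h3 (j g)
  have h0 : ∀ (V : Scheme.{u}) (p : V ⟶ S) [IsImmersion p] (v : V), rd p v = 0 := fun V p _ v =>
    rd_of_surjectiveOnStalks p v
  refine ⟨N, ?_, fun O hO hgO => ?_, fun s hs w hw => ?_⟩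
  · haveI : JacobsonSpace (Cl g) := LocallyOfFiniteType.jacobsonSpace (clι g ≫ j)
    have h := dim_eq_of_closed_points (X := Cl g) fun x hx =>
      hN (Cl g) (clι g ≫ j) (by rw [Scheme.Hom.comp_apply, hg]) x hx
    rw [h0, add_zero] at h
    rw [← h]
    exact (IsHomeomorph.topologicalKrullDim_eq _
      ((clι g).isEmbedding.toHomeomorph.trans (Homeomorph.setCongr (range_clι g))).isHomeomorph).symm
  · let O' : (Cl g).Opens := ⟨(clι g) ⁻¹' O, hO.preimage (clι g).continuous⟩
    have hgO' : genericPoint (Cl g) ∈ O' := by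
      show clι g (genericPoint (Cl g)) ∈ O
      rw [hg]; exact hgO
    haveI : Nonempty (O' : Scheme.{u}) := ⟨⟨_, hgO'⟩⟩
    haveI : PreirreducibleSpace (O' : Scheme.{u}) :=
      Subtype.preirreducibleSpace (PreirreducibleSpace.isPreirreducible_univ.open_subset O'.2 (Set.subset_univ _))
    haveI : IrreducibleSpace (O' : Scheme.{u}) := ⟨inferInstance⟩
    have hgp : O'.ι (genericPoint (O' : Scheme.{u})) = genericPoint (Cl g) := by
      have h1 : (⟨_, hgO'⟩ : (O' : Scheme.{u})) ⤳ genericPoint (O' : Scheme.{u}) :=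
        (subtype_specializes_iff _ _).2 ((genericPoint_spec (Cl g)).specializes trivial)
      exact congrArg O'.ι (h1.antisymm ((genericPoint_spec (O' : Scheme.{u})).specializes trivial)).eq.symm
    haveI : JacobsonSpace (O' : Scheme.{u}) := LocallyOfFiniteType.jacobsonSpace (O'.ι ≫ clι g ≫ j)
    have h := dim_eq_of_closed_points (X := (O' : Scheme.{u})) fun x hx =>
      hN _ (O'.ι ≫ clι g ≫ j) (by rw [Scheme.Hom.comp_apply, Scheme.Hom.comp_apply, hgp, hg]) x hx
    rw [h0, add_zero] at h
    rw [← h]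
    have hr : Set.range (fun a : (O' : Scheme.{u}) => clι g (O'.ι a)) = O ∩ closure {g} := by
      ext a
      constructor
      · rintro ⟨b, rfl⟩
        exact ⟨b.2, (range_clι g).le ⟨_, rfl⟩⟩
      · rintro ⟨ha, hac⟩
        obtain ⟨b, rfl⟩ := exists_preimage (specializes_iff_mem_closure.2 hac)
        exact ⟨⟨b, ha⟩, rfl⟩
    exact (IsHomeomorph.topologicalKrullDim_eq _
      (((clι g).isEmbedding.comp O'.ι.isEmbedding).toHomeomorph.trans (Homeomorph.setCongr hr)).isHomeomorph).symm
  · have hcl : IsClosed ({w} : Set (Cl g)) := by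
      have h1 : ({w} : Set (Cl g)) = (clι g) ⁻¹' {s} := by
        ext a
        exact ⟨fun ha => by rw [Set.mem_singleton_iff.1 ha]; exact hw,
          fun ha => (clι g).isEmbedding.injective ((ha : clι g a = s).trans hw.symm)⟩
      rw [h1]
      exact hs.preimage (clι g).continuous
    rw [hN (Cl g) (clι g ≫ j) (by rw [Scheme.Hom.comp_apply, hg]) w hcl, h0, add_zero]

include h2 h3 j in
theorem dim_closure_add {g x : W} (hgx : g ⤳ x) (w : Cl g) (hw : clι g w = x) :
    topologicalKrullDim ↥(closure {g} : Set W) =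
      topologicalKrullDim ↥(closure {x} : Set W) + ringKrullDim ((Cl g).presheaf.stalk w) := by
  haveI : IsLocallyNoetherian W := LocallyOfFiniteType.isLocallyNoetherian j
  haveI : JacobsonSpace W := LocallyOfFiniteType.jacobsonSpace j
  haveI : IsLocallyNoetherian (Cl g) := LocallyOfFiniteType.isLocallyNoetherian (clι g)
  obtain ⟨s, hs1, hs⟩ := nonempty_inter_closedPoints (X := W) (Z := closure {x}) ⟨x, subset_closure rfl⟩
    isClosed_closure.isLocallyClosed
  have hxs : x ⤳ s := specializes_iff_mem_closure.2 hs1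
  obtain ⟨n, hn, -, hns⟩ := exists_subscheme_dim h2 h3 j g
  obtain ⟨m, hm, -, hms⟩ := exists_subscheme_dim h2 h3 j x
  obtain ⟨v, hv⟩ := exists_preimage (hgx.trans hxs)
  obtain ⟨v', hv'⟩ := exists_preimage hxs
  have hcat : CAlg.IsUniversallyCatenary (W.presheaf.stalk s) :=
    UCat.isUniversallyCatenary_of_surjective (j.stalkMap s).hom (Scheme.Hom.stalkMap_surjective j s) (h2 _)
  have h := dim_cl_add_coheight hgx hxs hcat v hv v' hv' w hw
  rw [hns s hs v hv, hms s hs v' hv'] at h
  rw [hn, hm, ← h, ringKrullDim_stalk_eq_coheight]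

end Groth.Agent.JacobsonDim4
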