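import Groth.Agent.Lib.KoszulBridge4
import Groth.Agent.Lib.CI2.SyntKoszul
import Groth.Agent.Lib.CI2.KRDesc
import Groth.Agent.Lib.CI2.KRPeel
import Groth.Agent.Lib.CI2.KRPres
import Groth.Agent.Lib.CI2.StdNhd
import Groth.Agent.Lib.AlgSpDescent.FppfComp

/-!
# Koszul morphisms descend along syntomic surjections of the source
-/

set_option autoImplicit false
set_option linter.style.haveILetI false
universe u

open MvPolynomial

namespace Groth.Agent.KoszulDescSynt4

open CI2

section Relation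

theorem sum_mem_indep {A : Type u} [CommRing A] (q : Ideal A) {K : Ideal A} {c : ℕ} (F : Fin c → A)
    (h : ∀ a : Fin c → A, ∑ j, a j * F j ∈ q * K → ∀ j, a j ∈ q) : Indep q K (List.ofFn F) := by
  intro a ha j
  let a' : Fin c → A := fun j => a (Fin.cast List.length_ofFn.symm j)
  have hsum' : ∑ j, a' j * F j ∈ q * K := by
    convert ha using 1
    exact Fintype.sum_equiv (finCongr List.length_ofFn.symm) _ _ fun j => by simp [a']
  simpa [a'] using h a' hsum' (Fin.cast List.length_ofFn j)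

/-- Pushing a Koszul regular ideal through a surjection cut out by part of a minimal generating set. -/
theorem isKR_of_isKR_comap_indep {A B : Type u} [CommRing A] [CommRing B] (σ : A →+* B) (hσ : Function.Surjective σ)
    {c : ℕ} (F : Fin c → A) (hker : RingHom.ker σ = Ideal.span (Set.range F))
    (hK0 : LCI.IsKoszulRegularIdeal (RingHom.ker σ)) {J : Ideal B}
    (hind : ∀ q : Ideal A, q.IsPrime → J.comap σ ≤ q →
      Indep q (J.comap σ) (List.ofFn F) ∧ Indep q (RingHom.ker σ) (List.ofFn F))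
    (h : LCI.IsKoszulRegularIdeal (J.comap σ)) : LCI.IsKoszulRegularIdeal J := by
  rw [isKR_iff]
  intro p hp
  let q := p.asIdeal.comap σ
  have hJq : J.comap σ ≤ q := Ideal.comap_mono hp
  have h0q : RingHom.ker σ ≤ q := Ideal.comap_mono bot_le
  have hF0 : ∀ j, F j ∈ RingHom.ker σ := fun j => hker.symm ▸ Ideal.subset_span ⟨j, rfl⟩
  have h0J : RingHom.ker σ ≤ J.comap σ := Ideal.comap_mono bot_le
  have hofn : Ideal.ofList (List.ofFn F) = RingHom.ker σ := by rw [ofList_ofFn F, hker]
  obtain ⟨g1, hg1, rest, hrestK, hex, hspan, -⟩ := exists_ex_completion q h hJq (F := List.ofFn F)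
    (fun x hx => by obtain ⟨j, rfl⟩ := List.mem_ofFn.1 hx; exact h0J (hF0 j)) (hind q inferInstance hJq).1
  obtain ⟨g0, hg0, rest0, -, hex0, -, hnil⟩ := exists_ex_completion q hK0 h0q (F := List.ofFn F)
    (fun x hx => by obtain ⟨j, rfl⟩ := List.mem_ofFn.1 hx; exact hF0 j) (hind q inferInstance hJq).2
  rw [hnil hofn.symm, List.nil_append] at hex0
  let g := g1 * g0
  let G := Localization.Away g
  have hg : g ∉ q := fun hm => ((inferInstance : q.IsPrime).mem_or_mem hm).elim hg1 hg0
  have hexA := ex_away_of_isUnit (isUnit_away_of_dvd (h := g) (Dvd.intro g0 rfl)) hex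
  have hspanA := map_away_eq_of_isUnit (isUnit_away_of_dvd (h := g) (Dvd.intro g0 rfl)) hspan
  have hex0A := ex_away_of_isUnit (isUnit_away_of_dvd (h := g) (Dvd.intro_left g1 rfl)) hex0
  have hmap : (Submonoid.powers g).map σ = Submonoid.powers (σ g) := Submonoid.map_powers σ g
  haveI : IsLocalization ((Submonoid.powers g).map σ) (Localization.Away (σ g)) := by rw [hmap]; infer_instance
  let τ := awayσ σ g
  have hτs : Function.Surjective τ := IsLocalization.map_surjective_of_surjective (M := Submonoid.powers g) (g := σ)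
    (S := G) (Q := Localization.Away (σ g)) hσ
  have hτk : RingHom.ker τ = Ideal.ofList ((List.ofFn F).map (algebraMap A G)) := by
    refine (IsLocalization.ker_map (S := G) (Localization.Away (σ g)) σ hmap).trans ?_
    rw [← hofn, Ideal.map_ofList]
  have hτcomp : τ.comp (algebraMap A G) = (algebraMap B (Localization.Away (σ g))).comp σ :=
    IsLocalization.map_comp (M := Submonoid.powers g) (S := G) _
  rw [List.map_append] at hexA hspanA
  refine ⟨σ g, hg, (rest.map (algebraMap A G)).map τ, ex_of_append_of_surjective τ hτs hτk hex0A hexA, ?_⟩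
  have h5 := congrArg (Ideal.map τ) hspanA
  rw [Ideal.map_map, hτcomp, ← Ideal.map_map, Ideal.map_comap_of_surjective σ hσ, Ideal.ofList_append, Ideal.map_sup,
    Ideal.map_ofList, ← hτk, (Ideal.map_eq_bot_iff_le_ker τ).2 le_rfl, sup_bot_eq] at h5
  exact h5

theorem coeff_mem_of_sum_mem {A : Type u} [CommRing A] {c : ℕ} {F : Fin c → A} (hex : Ex A A (List.ofFn F))
    {q : Ideal A} (hq : Ideal.span (Set.range F) ≤ q) (a : Fin c → A)
    (ha : ∑ j, a j * F j ∈ q * Ideal.span (Set.range F)) (j : Fin c) : a j ∈ q := by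
  change _ ∈ q • Submodule.span A (Set.range F) at ha
  rw [Submodule.mem_ideal_smul_span_iff_exists_sum] at ha
  obtain ⟨b, hb, hbs⟩ := ha
  rw [Finsupp.sum_fintype _ _ (fun i => zero_smul A (F i))] at hbs
  simp only [smul_eq_mul] at hbs
  have h := mem_of_sq_relation hex (fun i => a i - b i) (by
    have h0 : ∑ i, (a i - b i) * F i = 0 := by
      simp only [sub_mul]
      rw [Finset.sum_sub_distrib, hbs, sub_self]
    rw [h0]
    exact zero_mem _) j
  have := add_mem (hq h) (hb j)
  rwa [sub_add_cancel] at this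

theorem isKR_of_ex {A : Type u} [CommRing A] {l : List A} (hl : Ex A A l) :
    LCI.IsKoszulRegularIdeal (Ideal.ofList l) := by
  rw [isKR_iff]
  exact fun p _ => ⟨1, p.asIdeal.ne_top_iff_one.mp p.2.ne_top, l.map (algebraMap A _),
    Ex.localization (B := Localization.Away (1 : A)) (Submonoid.powers 1) hl, Ideal.map_ofList _ _⟩

theorem isKR_map_away {T : Type u} [CommRing T] {J : Ideal T} (h : LCI.IsKoszulRegularIdeal J) (a : T)
    (Ta : Type u) [CommRing Ta] [Algebra T Ta] [IsLocalization.Away a Ta] :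
    LCI.IsKoszulRegularIdeal (J.map (algebraMap T Ta)) := by
  rw [isKR_iff] at h ⊢
  intro P hP
  obtain ⟨g, hg, l, hl, hspan⟩ := h ⟨P.asIdeal.comap (algebraMap T Ta), inferInstance⟩ (Ideal.map_le_iff_le_comap.1 hP)
  let g' := algebraMap T Ta g
  let W := Localization.Away g'
  let ρ : Localization.Away g →+* W := IsLocalization.Away.lift (g := (algebraMap Ta W).comp (algebraMap T Ta)) g
    (IsLocalization.Away.algebraMap_isUnit (S := W) g')
  letI : Algebra (Localization.Away g) W := ρ.toAlgebra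
  haveI : IsScalarTower T (Localization.Away g) W := IsScalarTower.of_algebraMap_eq' (by
    rw [RingHom.algebraMap_toAlgebra, IsLocalization.Away.lift_comp, IsScalarTower.algebraMap_eq T Ta W])
  haveI : IsLocalization.Away (algebraMap T (Localization.Away g) a) W :=
    IsLocalization.Away.commutes (Localization.Away g) Ta W g a
  refine ⟨g', hg, l.map (algebraMap (Localization.Away g) W),
    Ex.localization (B := W) (Submonoid.powers (algebraMap T (Localization.Away g) a)) hl, ?_⟩
  rw [← Ideal.map_ofList, ← hspan, Ideal.map_map, Ideal.map_map, ← IsScalarTower.algebraMap_eq,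
    ← IsScalarTower.algebraMap_eq]

end Relation

section RelGCI

variable {A R : Type u} [CommRing A] [CommRing R] (α : A →+* R) (hα : Function.Surjective α)

include hα in
theorem nonempty_fibreEquiv_surjective (n c : ℕ) (F : Fin c → MvPolynomial (Fin n) A) (p : Ideal A) [p.IsPrime]
    (p' : Ideal R) [p'.IsPrime] (hc : p = p'.comap α) :
    Nonempty (p.Fiber (Synt.RelGCIRing A n c F) ≃+*
      p'.Fiber (Synt.RelGCIRing R n c (fun i => MvPolynomial.map α (F i)))) := by
  let μ := Ideal.ResidueField.map p p' α hc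
  have hμ : Function.Bijective μ := (RingHom.surjectiveOnStalks_of_surjective hα).residueFieldMap_bijective p p' hc
  let σ := MvPolynomial.mapEquiv (Fin n) (RingEquiv.ofBijective μ hμ)
  refine ⟨(fibreEquiv p _).trans ((Ideal.quotientEquiv _ _ σ ?_).trans (fibreEquiv p' _).symm)⟩
  rw [Ideal.map_span, Ideal.map_span, Ideal.map_span, ← Set.range_comp, ← Set.range_comp, ← Set.range_comp]
  congr 2
  funext i
  show MvPolynomial.map (algebraMap R p'.ResidueField) (MvPolynomial.map α (F i)) =
    MvPolynomial.map μ (MvPolynomial.map (algebraMap A p.ResidueField) (F i))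
  rw [MvPolynomial.map_map, MvPolynomial.map_map]
  congr 2
  exact RingHom.ext fun r => (Ideal.ResidueField.map_algebraMap p p' _ hc r).symm

include hα in
theorem isRelGCI_map {n c : ℕ} {F : Fin c → MvPolynomial (Fin n) A} (h : Synt.IsRelGCI A n c F) :
    Synt.IsRelGCI R n c (fun i => MvPolynomial.map α (F i)) := by
  intro p' hp'
  obtain ⟨e⟩ := nonempty_fibreEquiv_surjective α hα n c F (p'.asIdeal.comap α) p'.asIdeal rfl
  obtain ⟨h1, h2⟩ := h ⟨p'.asIdeal.comap α, inferInstance⟩ e.toEquiv.nontrivial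
  exact ⟨h1, (ringKrullDim_eq_of_ringEquiv e).symm.trans h2⟩

theorem map_awayRel {n c : ℕ} (F : Fin c → MvPolynomial (Fin n) A) (h : MvPolynomial (Fin n) A) :
    (fun i => MvPolynomial.map α (awayRel F h i)) =
      awayRel (fun i => MvPolynomial.map α (F i)) (MvPolynomial.map α h) := by
  funext i
  refine Fin.lastCases ?_ (fun j => ?_) i
  · simp [awayRel, MvPolynomial.map_rename]
  · simp [awayRel, MvPolynomial.map_rename]

include hα in
theorem exists_lift_relGCI {n c : ℕ} (F : Fin c → MvPolynomial (Fin n) A)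
    (h : Synt.IsRelGCI R n c (fun i => MvPolynomial.map α (F i)))
    (z : PrimeSpectrum (Synt.RelGCIRing R n c (fun i => MvPolynomial.map α (F i)))) :
    ∃ H : MvPolynomial (Fin n) A, Ideal.Quotient.mk _ (MvPolynomial.map α H) ∉ z.asIdeal ∧
      Synt.IsRelGCI A (n + 1) (c + 1) (awayRel F H) := by
  let S' := Synt.RelGCIRing R n c (fun i => MvPolynomial.map α (F i))
  let S := Synt.RelGCIRing A n c F
  haveI : Algebra.FiniteType A S :=
    Algebra.FiniteType.of_surjective (Ideal.Quotient.mkₐ A _) Ideal.Quotient.mk_surjective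
  let ψ : S →+* S' := Ideal.Quotient.lift _ ((Ideal.Quotient.mk _).comp (MvPolynomial.map α)) fun x hx => by
    refine RingHom.mem_ker.1 (Ideal.span_le.2 ?_ hx)
    rintro _ ⟨i, rfl⟩
    exact RingHom.mem_ker.2 (Ideal.Quotient.eq_zero_iff_mem.2 (Ideal.subset_span ⟨i, rfl⟩))
  have hψ : ψ.comp (algebraMap A S) = (algebraMap R S').comp α := by
    ext a
    show Ideal.Quotient.mk _ (MvPolynomial.map α (C a)) = _
    rw [map_C]
    rfl
  let z₀ : PrimeSpectrum S := PrimeSpectrum.comap ψ z
  let p' : PrimeSpectrum R := PrimeSpectrum.comap (algebraMap R S') z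
  let p : PrimeSpectrum A := PrimeSpectrum.comap α p'
  have hz₀ : PrimeSpectrum.comap (algebraMap A S) z₀ = p := by
    rw [← PrimeSpectrum.comap_comp_apply, hψ, PrimeSpectrum.comap_comp_apply]
  obtain ⟨e⟩ := nonempty_fibreEquiv_surjective α hα n c F p.asIdeal p'.asIdeal rfl
  haveI := nonempty_fibre z p' rfl
  obtain ⟨hcn, hdim⟩ := h p' inferInstance
  have hgood : c ≤ n ∧ FlatMor.fibreDimAt (AlgebraicGeometry.Spec.map (CommRingCat.ofHom (algebraMap A S))) z₀ ≤
      ((n - c : ℕ) : WithBot ℕ∞) :=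
    ⟨hcn, (fibreDimAt_le_ringKrullDim z₀ p hz₀).trans ((ringKrullDim_eq_of_ringEquiv e).trans hdim).le⟩
  let B : Set (PrimeSpectrum S) := {z | ¬ (c ≤ n ∧ FlatMor.fibreDimAt
      (AlgebraicGeometry.Spec.map (CommRingCat.ofHom (algebraMap A S))) z ≤ ((n - c : ℕ) : WithBot ℕ∞))}
  have hB : IsClosed B := isClosed_bad A S (n - c) (c ≤ n)
  have hVz : ¬ (PrimeSpectrum.vanishingIdeal B ≤ z₀.asIdeal) := fun h => by
    have h1 : z₀ ∈ closure B := by rw [← PrimeSpectrum.zeroLocus_vanishingIdeal_eq_closure]; exact h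
    rw [hB.closure_eq] at h1
    exact h1 hgood
  obtain ⟨a, haB, haz⟩ := SetLike.not_le_iff_exists.1 hVz
  obtain ⟨H, rfl⟩ := Ideal.Quotient.mk_surjective a
  refine ⟨H, haz, isRelGCI_away F H fun z hz => ?_⟩
  by_contra hzB
  exact hz ((PrimeSpectrum.mem_vanishingIdeal B _).1 haB z hzB)

include hα in
/-- The ideal extended to a relative complete intersection inherits Koszul regularity. -/
theorem isKR_map_relGCI {n c : ℕ} (F : Fin c → MvPolynomial (Fin n) A) (h : Synt.IsRelGCI A n c F)
    (hK : LCI.IsKoszulRegularIdeal (RingHom.ker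
      ((Ideal.Quotient.mk (Ideal.span (Set.range fun i => MvPolynomial.map α (F i)))).comp
        (MvPolynomial.map α : MvPolynomial (Fin n) A →+* MvPolynomial (Fin n) R)))) :
    LCI.IsKoszulRegularIdeal ((RingHom.ker α).map (algebraMap A (Synt.RelGCIRing A n c F))) := by
  let P := MvPolynomial (Fin n) A
  let φ : P →+* MvPolynomial (Fin n) R := MvPolynomial.map α
  have hφs : Function.Surjective φ := MvPolynomial.map_surjective α hα
  let σ := Ideal.Quotient.mk (Ideal.span (Set.range F))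
  have hσ : RingHom.ker σ = Ideal.span (Set.range F) := Ideal.mk_ker
  have hφk : RingHom.ker φ = (RingHom.ker α).map C := MvPolynomial.ker_map α
  have hφF : (Ideal.span (Set.range F)).map φ = Ideal.span (Set.range fun i => φ (F i)) := by
    rw [Ideal.map_span, ← Set.range_comp]; rfl
  have hJ : ((RingHom.ker α).map (algebraMap A (Synt.RelGCIRing A n c F))).comap σ =
      RingHom.ker ((Ideal.Quotient.mk (Ideal.span (Set.range fun i => φ (F i)))).comp φ) := by
    rw [← RingHom.comap_ker, Ideal.mk_ker, ← hφF, Ideal.comap_map_of_surjective φ hφs, ← RingHom.ker_eq_comap_bot, hφk,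
      show algebraMap A (Synt.RelGCIRing A n c F) = σ.comp C from rfl, ← Ideal.map_map,
      Ideal.comap_map_of_surjective σ Ideal.Quotient.mk_surjective, ← RingHom.ker_eq_comap_bot, hσ, sup_comm]
  refine isKR_of_isKR_comap_indep σ Ideal.Quotient.mk_surjective F hσ
    (by rw [hσ, ← ofList_ofFn F]; exact isKR_of_ex (ex_of_isRelGCI h)) (fun q _ hq => ⟨?_, ?_⟩) (hJ.symm ▸ hK)
  · refine sum_mem_indep q F fun a ha j => ?_
    have hker : RingHom.ker φ ≤ q := le_trans (fun x hx => by
      rw [hJ, RingHom.mem_ker, RingHom.comp_apply, RingHom.mem_ker.1 hx, map_zero]) hq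
    have hKφ : (((RingHom.ker α).map (algebraMap A (Synt.RelGCIRing A n c F))).comap σ).map φ =
        Ideal.span (Set.range fun i => φ (F i)) := by
      rw [hJ, ← RingHom.comap_ker, Ideal.mk_ker, Ideal.map_comap_of_surjective φ hφs]
    have hFq : Ideal.span (Set.range fun i => φ (F i)) ≤ q.map φ := hKφ ▸ Ideal.map_mono hq
    have hsum : ∑ j, φ (a j) * φ (F j) ∈ q.map φ * Ideal.span (Set.range fun i => φ (F i)) := by
      rw [← hKφ, ← Ideal.map_mul]
      have := Ideal.mem_map_of_mem φ ha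
      simpa [map_sum, map_mul] using this
    have := coeff_mem_of_sum_mem (ex_of_isRelGCI (isRelGCI_map α hα h)) hFq (fun j => φ (a j)) hsum j
    obtain ⟨b, hb, hb'⟩ := (Ideal.mem_map_iff_of_surjective φ hφs).1 this
    have h1 : a j - b ∈ q := hker (RingHom.mem_ker.2 (by rw [map_sub, hb', sub_self]))
    simpa using add_mem h1 hb
  · rw [hσ]
    exact sum_mem_indep q F fun a ha j => coeff_mem_of_sum_mem (ex_of_isRelGCI h)
      (((hσ.symm.trans (RingHom.ker_eq_comap_bot σ)).le.trans (Ideal.comap_mono bot_le)).trans hq) a ha j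

end RelGCI

section Descend

/-- Local complete intersection maps descend along syntomic maps at a prime in the image. -/
theorem exists_away_isKR {V R S : Type u} [CommRing V] [CommRing R] [CommRing S] [Algebra V R] [Algebra R S]
    [Algebra V S] [IsScalarTower V R S] {m : ℕ} (α : MvPolynomial (Fin m) V →ₐ[V] R) (hα : Function.Surjective α)
    {n c : ℕ} (F₀ : Fin c → MvPolynomial (Fin n) R) (hF₀ : Synt.IsRelGCI R n c F₀)
    (e₀ : S ≃ₐ[R] Synt.RelGCIRing R n c F₀) (hS : ∀ h : S, LCI.IsLCI V (Localization.Away h))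
    (z : PrimeSpectrum S) :
    ∃ a : MvPolynomial (Fin m) V, α a ∉ (PrimeSpectrum.comap (algebraMap R S) z).asIdeal ∧
      LCI.IsKoszulRegularIdeal ((RingHom.ker α.toRingHom).map
        (algebraMap (MvPolynomial (Fin m) V) (Localization.Away a))) := by
  let A := MvPolynomial (Fin m) V
  have hsurj : Function.Surjective α.toRingHom := hα
  choose F hF using fun i => MvPolynomial.map_surjective α.toRingHom hsurj (F₀ i)
  obtain rfl : (fun i => MvPolynomial.map α.toRingHom (F i)) = F₀ := funext hF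
  let zS : PrimeSpectrum (Synt.RelGCIRing R n c fun i => MvPolynomial.map α.toRingHom (F i)) :=
    PrimeSpectrum.comap e₀.symm.toRingEquiv.toRingHom z
  obtain ⟨H, hHz, hrel⟩ := exists_lift_relGCI α.toRingHom hsurj F hF₀ zS
  let F' := awayRel F H
  let h₀ : S := e₀.symm (Ideal.Quotient.mk _ (MvPolynomial.map α.toRingHom H))
  have hh₀ : h₀ ∉ z.asIdeal := hHz
  let L := Localization.Away h₀
  obtain ⟨e₁⟩ := nonempty_awayEquiv (fun i => MvPolynomial.map α.toRingHom (F i)) (MvPolynomial.map α.toRingHom H)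
  rw [← map_awayRel] at e₁
  let T' := Synt.RelGCIRing R (n + 1) (c + 1) fun i => MvPolynomial.map α.toRingHom (F' i)
  let h₁ := Ideal.Quotient.mk (Ideal.span (Set.range fun i => MvPolynomial.map α.toRingHom (F i)))
    (MvPolynomial.map α.toRingHom H)
  let eL : L ≃ₐ[R] T' := (IsLocalization.algEquivOfAlgEquiv L (Localization.Away h₁) e₀
    (M := Submonoid.powers h₀) (T := Submonoid.powers h₁) (by
      rw [Submonoid.map_powers]
      exact congrArg _ (e₀.apply_symm_apply _))).trans e₁
  -- the kernel is Koszul regular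
  have hK : LCI.IsKoszulRegularIdeal (RingHom.ker
      ((Ideal.Quotient.mk (Ideal.span (Set.range fun i => MvPolynomial.map α.toRingHom (F' i)))).comp
        (MvPolynomial.map α.toRingHom : MvPolynomial (Fin (n + 1)) A →+* MvPolynomial (Fin (n + 1)) R))) := by
    obtain ⟨-, N, β, hβ, hKR⟩ := hS h₀
    let ψ : MvPolynomial (Fin (n + 1) ⊕ Fin m) V →+* T' :=
      ((Ideal.Quotient.mk (Ideal.span (Set.range fun i => MvPolynomial.map α.toRingHom (F' i)))).comp
        (MvPolynomial.map α.toRingHom : MvPolynomial (Fin (n + 1)) A →+* MvPolynomial (Fin (n + 1)) R)).comp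
        (sumRingEquiv V (Fin (n + 1)) (Fin m)).toRingHom
    rw [← isKR_ker_comp_equiv _ (sumRingEquiv V (Fin (n + 1)) (Fin m))]
    change LCI.IsKoszulRegularIdeal (RingHom.ker ψ)
    let ψA : MvPolynomial (Fin (n + 1) ⊕ Fin m) V →ₐ[V] L :=
      { eL.symm.toRingEquiv.toRingHom.comp ψ with
        commutes' := fun r => by
          show eL.symm (ψ (algebraMap V _ r)) = _
          have h1 : ψ (algebraMap V _ r) = algebraMap R T' (algebraMap V R r) := by
            simp only [ψ, RingHom.comp_apply, MvPolynomial.algebraMap_eq, RingEquiv.toRingHom_eq_coe, RingHom.coe_coe,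
              sumRingEquiv_C]
            rw [map_C]
            show Ideal.Quotient.mk _ (C (α (algebraMap V A r))) = _
            rw [α.commutes]
            rfl
          rw [h1, AlgEquiv.commutes, ← IsScalarTower.algebraMap_apply] }
    have hψs : Function.Surjective ψA := eL.symm.surjective.comp
      ((Ideal.Quotient.mk_surjective.comp (MvPolynomial.map_surjective _ hsurj)).comp (RingEquiv.surjective _))
    have h2 := isKR_ker_of_isKR_ker β hβ ψA hψs hKR
    rwa [show RingHom.ker ψA.toRingHom = RingHom.ker ψ from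
      RingHom.ker_comp_of_injective ψ (f := eL.symm.toRingEquiv.toRingHom) eL.symm.injective] at h2
  let T := Synt.RelGCIRing A (n + 1) (c + 1) F'
  have hKT : LCI.IsKoszulRegularIdeal ((RingHom.ker α.toRingHom).map (algebraMap A T)) :=
    isKR_map_relGCI α.toRingHom hsurj F' hrel hK
  haveI : Module.Flat A T := flat_of_isRelGCI hrel
  haveI : Algebra.FinitePresentation A T := Algebra.FinitePresentation.quotient ⟨(Set.finite_range F').toFinset, by simp⟩
  let pA : PrimeSpectrum A := PrimeSpectrum.comap α.toRingHom (PrimeSpectrum.comap (algebraMap R S) z)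
  obtain ⟨w, hw⟩ : pA ∈ Set.range (PrimeSpectrum.comap (algebraMap A T)) := by
    obtain ⟨zL, hzL⟩ : z ∈ Set.range (PrimeSpectrum.comap (algebraMap S L)) := by
      rw [PrimeSpectrum.localization_away_comap_range L h₀]; exact hh₀
    let π : T →+* T' := Ideal.Quotient.lift _ ((Ideal.Quotient.mk _).comp (MvPolynomial.map α.toRingHom)) fun x hx => by
      refine RingHom.mem_ker.1 (Ideal.span_le.2 ?_ hx)
      rintro _ ⟨i, rfl⟩
      exact RingHom.mem_ker.2 (Ideal.Quotient.eq_zero_iff_mem.2 (Ideal.subset_span ⟨i, rfl⟩))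
    refine ⟨PrimeSpectrum.comap (eL.symm.toRingEquiv.toRingHom.comp π) zL, ?_⟩
    show _ = PrimeSpectrum.comap α.toRingHom (PrimeSpectrum.comap (algebraMap R S) z)
    rw [← PrimeSpectrum.comap_comp_apply, ← hzL, ← PrimeSpectrum.comap_comp_apply,
      ← PrimeSpectrum.comap_comp_apply]
    congr 1
    refine RingHom.ext fun b => ?_
    show eL.symm (π (algebraMap A T b)) = algebraMap S L (algebraMap R S (α b))
    rw [← IsScalarTower.algebraMap_apply R S L, show π (algebraMap A T b) = algebraMap R T' (α b) from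
      congrArg (Ideal.Quotient.mk _) (map_C α.toRingHom b), AlgEquiv.commutes]
  have hopen : IsOpen (Set.range (PrimeSpectrum.comap (algebraMap A T))) :=
    (PrimeSpectrum.isOpenMap_comap_of_hasGoingDown_of_finitePresentation).isOpen_range
  obtain ⟨_, ⟨a, rfl⟩, hpa, hasub⟩ := PrimeSpectrum.isTopologicalBasis_basic_opens.exists_subset_of_mem_open
    (show pA ∈ Set.range (PrimeSpectrum.comap (algebraMap A T)) from ⟨w, hw⟩) hopen
  refine ⟨a, hpa, ?_⟩
  let Aa := Localization.Away a
  let Ta := Localization.Away (algebraMap A T a)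
  letI : Algebra Aa Ta := (IsLocalization.Away.lift (S := Aa) a (g := algebraMap A Ta) (by
    rw [IsScalarTower.algebraMap_apply A T Ta]; exact IsLocalization.Away.algebraMap_isUnit _)).toAlgebra
  haveI : IsScalarTower A Aa Ta := IsScalarTower.of_algebraMap_eq' (by
    rw [RingHom.algebraMap_toAlgebra, IsLocalization.Away.lift_comp])
  haveI : Module.Flat A Ta := by
    haveI : Module.Flat T Ta := IsLocalization.flat Ta (Submonoid.powers (algebraMap A T a))
    exact Module.Flat.trans A T Ta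
  haveI : Module.Flat Aa Ta := (Module.flat_iff_of_isLocalization Aa (Submonoid.powers a) (M := Ta)).2 inferInstance
  haveI : Module.FaithfullyFlat Aa Ta := Module.FaithfullyFlat.of_comap_surjective fun r => by
    let r₀ := PrimeSpectrum.comap (algebraMap A Aa) r
    have hr₀ : r₀ ∈ PrimeSpectrum.basicOpen a := fun hm =>
      r.2.ne_top (Ideal.eq_top_of_isUnit_mem _ hm (IsLocalization.Away.algebraMap_isUnit a))
    obtain ⟨t, ht⟩ := hasub hr₀
    obtain ⟨t', ht'⟩ : t ∈ Set.range (PrimeSpectrum.comap (algebraMap T Ta)) := by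
      rw [PrimeSpectrum.localization_away_comap_range Ta (algebraMap A T a)]
      show algebraMap A T a ∉ t.asIdeal
      rw [← ht] at hr₀
      exact hr₀
    refine ⟨t', PrimeSpectrum.localization_comap_injective Aa (Submonoid.powers a) ?_⟩
    rw [← PrimeSpectrum.comap_comp_apply, ← IsScalarTower.algebraMap_eq, IsScalarTower.algebraMap_eq A T Ta,
      PrimeSpectrum.comap_comp_apply, ht', ht]
  refine isKR_of_faithfullyFlat (B := Ta) _ ?_
  rw [Ideal.map_map, ← IsScalarTower.algebraMap_eq, IsScalarTower.algebraMap_eq A T Ta, ← Ideal.map_map]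
  exact isKR_map_away hKT (algebraMap A T a) Ta

end Descend

section Scheme

open CategoryTheory AlgebraicGeometry

theorem isSyntomicMor_flat_lfp {X S : Scheme.{u}} (g : X ⟶ S) (hg : Synt.IsSyntomicMor g) :
    Flat g ∧ LocallyOfFinitePresentation g := by
  choose U V e hxU hs using hg
  have htop : ⨆ x, (U x).1 = ⊤ := top_le_iff.1 fun x _ => TopologicalSpace.Opens.mem_iSup.2 ⟨x, hxU x⟩
  have heq : ∀ x, (U x).1.ι ≫ g = (U x).2.isoSpec.hom ≫ Spec.map (g.appLE (V x).1 (U x).1 (e x)) ≫ (V x).2.fromSpec :=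
    fun x => by
      rw [IsAffineOpen.SpecMap_appLE_fromSpec g (V x).2 (U x).2 (e x), ← (U x).2.isoSpec_inv_ι]
      simp
  refine ⟨(IsZariskiLocalAtSource.iff_of_iSup_eq_top (P := @Flat) (fun x => (U x).1) htop).2 fun x => ?_,
    (IsZariskiLocalAtSource.iff_of_iSup_eq_top (P := @LocallyOfFinitePresentation) (fun x => (U x).1) htop).2
      fun x => ?_⟩
  · haveI : Flat (Spec.map (g.appLE (V x).1 (U x).1 (e x))) := Flat.SpecMap_iff.2 (hs x).1
    rw [heq]; infer_instance
  · haveI : LocallyOfFinitePresentation (Spec.map (g.appLE (V x).1 (U x).1 (e x))) :=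
      (HasRingHomProperty.Spec_iff (P := @LocallyOfFinitePresentation)).2 (hs x).2.1
    rw [heq]; infer_instance

/-- Koszul morphisms descend along syntomic surjections of the source. -/
theorem isKoszulAt_of_comp {X' X Y : Scheme.{u}} (g : X' ⟶ X) (hg : Synt.IsSyntomicMor g) [Surjective g]
    (f : X ⟶ Y) (h : ∀ x' : X', Synt.IsKoszulAt (g ≫ f) x') (x : X) : Synt.IsKoszulAt f x := by
  obtain ⟨hflat, hlfp⟩ := isSyntomicMor_flat_lfp g hg
  haveI : LocallyOfFiniteType f := AlgSpDescent.locallyOfFiniteType_of_fppf_comp g f hflat hlfp inferInstance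
    (CI2.locallyOfFiniteType_of_isKoszulAt _ h)
  obtain ⟨V, hV, hxV, -⟩ := exists_isAffineOpen_mem_and_subset (X := Y) (U := ⊤) (x := f x) trivial
  obtain ⟨U, hU, hxU, hUV⟩ := exists_isAffineOpen_mem_and_subset (U := f ⁻¹ᵁ V) (show x ∈ f ⁻¹ᵁ V from hxV)
  letI : Algebra Γ(Y, V) Γ(X, U) := (f.appLE V U hUV).hom.toAlgebra
  haveI hft : Algebra.FiniteType Γ(Y, V) Γ(X, U) := Scheme.Hom.finiteType_appLE f hV hU hUV
  obtain ⟨m, α, hα⟩ := Algebra.FiniteType.iff_quotient_mvPolynomial''.1 hft
  refine CI2.isKoszulAt_of_isLCI f hU hV hUV hxU ⟨hft, m, α, hα, CI2.isKR_of_cover _ fun pA hpA => ?_⟩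
  haveI := Ideal.map_isPrime_of_surjective (f := α.toRingHom) hα hpA
  let p : PrimeSpectrum Γ(X, U) := ⟨pA.asIdeal.map α.toRingHom, inferInstance⟩
  obtain ⟨x', hx'⟩ := g.surjective (hU.fromSpec p)
  have hxU' : g x' ∈ U := by rw [hx', ← SetLike.mem_coe, ← hU.range_fromSpec]; exact Set.mem_range_self p
  obtain ⟨⟨W, hW⟩, hWU, hxW, hsyn⟩ := CI2.exists_chart g x' U hU hxU' (hg x')
  letI : Algebra Γ(X, U) Γ(X', W) := (g.appLE U W hWU).hom.toAlgebra
  have hsyn' : Synt.IsSyntomic Γ(X, U) Γ(X', W) := CI2.syntHom_algebraMap.mp hsyn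
  let q := hW.primeIdealOf ⟨x', hxW⟩
  obtain ⟨g₀, hg₀, n, c, F₀, hrel, ⟨e₀⟩⟩ := CI2.exists_relGCI_of_isSyntomic hsyn' q
  -- shrink the chart
  let W₁ : X'.Opens := X'.basicOpen g₀
  have hW₁W : W₁ ≤ W := X'.basicOpen_le g₀
  have hW₁ : IsAffineOpen W₁ := hW.basicOpen g₀
  have hxW₁ : x' ∈ W₁ := by
    have h1 := hW.fromSpec_preimage_basicOpen g₀
    have h2 : q ∈ hW.fromSpec ⁻¹ᵁ X'.basicOpen g₀ := by rw [h1]; exact hg₀
    have h3 : hW.fromSpec q ∈ X'.basicOpen g₀ := h2
    rwa [hW.fromSpec_primeIdealOf] at h3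
  have hW₁U : W₁ ≤ g ⁻¹ᵁ U := hW₁W.trans hWU
  haveI := hW.isLocalization_basicOpen g₀
  letI : Algebra Γ(X, U) Γ(X', W₁) := (g.appLE U W₁ hW₁U).hom.toAlgebra
  haveI : IsScalarTower Γ(X, U) Γ(X', W) Γ(X', W₁) := IsScalarTower.of_algebraMap_eq' (by
    rw [RingHom.algebraMap_toAlgebra, RingHom.algebraMap_toAlgebra]
    show _ = (X'.presheaf.map (homOfLE hW₁W).op).hom.comp (g.appLE U W hWU).hom
    rw [← CommRingCat.hom_comp, Scheme.Hom.appLE_map])
  let e : Γ(X', W₁) ≃ₐ[Γ(X, U)] Synt.RelGCIRing Γ(X, U) n c F₀ :=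
    ((IsLocalization.algEquiv (Submonoid.powers g₀) Γ(X', W₁) (Localization.Away g₀)).restrictScalars Γ(X, U)).trans e₀
  have hVW : W₁ ≤ (g ≫ f) ⁻¹ᵁ V := hW₁U.trans (g.preimage_mono hUV)
  letI : Algebra Γ(Y, V) Γ(X', W₁) := ((g ≫ f).appLE V W₁ hVW).hom.toAlgebra
  haveI : IsScalarTower Γ(Y, V) Γ(X, U) Γ(X', W₁) := IsScalarTower.of_algebraMap_eq' (by
    rw [RingHom.algebraMap_toAlgebra, RingHom.algebraMap_toAlgebra, RingHom.algebraMap_toAlgebra, ← CommRingCat.hom_comp,
      Scheme.Hom.appLE_comp_appLE])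
  have hS : ∀ h₀ : Γ(X', W₁), LCI.IsLCI Γ(Y, V) (Localization.Away h₀) := by
    intro h₀
    let W₂ : X'.Opens := X'.basicOpen h₀
    have hW₂ : W₂ ≤ (g ≫ f) ⁻¹ᵁ V := (X'.basicOpen_le h₀).trans hVW
    haveI := hW₁.isLocalization_basicOpen h₀
    letI : Algebra Γ(Y, V) Γ(X', W₂) := ((g ≫ f).appLE V W₂ hW₂).hom.toAlgebra
    haveI : IsScalarTower Γ(Y, V) Γ(X', W₁) Γ(X', W₂) := IsScalarTower.of_algebraMap_eq' (by
      rw [RingHom.algebraMap_toAlgebra, RingHom.algebraMap_toAlgebra]
      show _ = (X'.presheaf.map (homOfLE (X'.basicOpen_le h₀)).op).hom.comp ((g ≫ f).appLE V W₁ hVW).hom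
      rw [← CommRingCat.hom_comp, Scheme.Hom.appLE_map])
    let el : Γ(X', W₂) ≃ₐ[Γ(Y, V)] Localization.Away h₀ :=
      (IsLocalization.algEquiv (Submonoid.powers h₀) Γ(X', W₂) (Localization.Away h₀)).restrictScalars Γ(Y, V)
    obtain ⟨hft₂, N, β, hβ, hKR⟩ := CI2.isLCI_appLE_of_isKoszulAt (g ≫ f) h (hW₁.basicOpen h₀) hV hW₂
    haveI := hft₂
    refine ⟨Algebra.FiniteType.equiv hft₂ el, N, el.toAlgHom.comp β, el.surjective.comp hβ, ?_⟩
    rwa [show RingHom.ker (el.toAlgHom.comp β).toRingHom = RingHom.ker β.toRingHom from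
      RingHom.ker_comp_of_injective β.toRingHom (f := el.toAlgHom.toRingHom) el.injective]
  let z := hW₁.primeIdealOf ⟨x', hxW₁⟩
  obtain ⟨a, ha, hKR⟩ := exists_away_isKR α hα F₀ hrel e hS z
  refine ⟨a, fun hm => ha ?_, hKR⟩
  have hzp : PrimeSpectrum.comap (algebraMap Γ(X, U) Γ(X', W₁)) z = p := by
    refine PrimeSpectrum.ext ?_
    refine Eq.trans ?_ (congrArg PrimeSpectrum.asIdeal (hU.fromSpec.isEmbedding.injective
      (show hU.fromSpec (hU.primeIdealOf ⟨g x', hW₁U hxW₁⟩) = hU.fromSpec p by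
        rw [hU.fromSpec_primeIdealOf]; exact hx')))
    exact congrArg PrimeSpectrum.asIdeal (IsAffineOpen.comap_primeIdealOf_appLE U hU W₁ hW₁ hW₁U hxW₁)
  rw [hzp]
  exact Ideal.mem_map_of_mem α.toRingHom hm

end Scheme

end Groth.Agent.KoszulDescSynt4
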