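/-
Newton lifting with a bounded derivative and rigidity of finite extensions of complete DVRs modulo
high powers of the uniformizer.
-/
import Groth.Agent.Lib.Compl.Complete
import Mathlib.RingTheory.DiscreteValuationRing.Basic
import Mathlib.RingTheory.IntegralClosure.IntegrallyClosed
import Mathlib.RingTheory.DedekindDomain.IntegralClosure
import Mathlib.RingTheory.Nakayama
import Mathlib.FieldTheory.PrimitiveElement
import Mathlib.FieldTheory.Minpoly.IsIntegrallyClosed
import Mathlib.Algebra.Polynomial.Identities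

set_option autoImplicit false
set_option linter.style.haveILetI false

universe u

open Polynomial

namespace Groth.Agent.Krasner3

theorem exists_root {C : Type u} [CommRing C] [IsDomain C] [IsLocalRing C] (π : C)
    (hπ : π ∈ IsLocalRing.maximalIdeal C) [IsAdicComplete (Ideal.span {π}) C]
    (g : C[X]) (γ : C) (c N : ℕ) (hN : 0 < N)
    (hg : π ^ (2 * c + N) ∣ g.eval γ) (hd : g.derivative.eval γ ∣ π ^ c) :
    ∃ γ', g.eval γ' = 0 ∧ π ^ (c + N) ∣ γ' - γ := by
  have step : ∀ i : ℕ, ∀ x : C, π ^ (2 * c + N + i) ∣ g.eval x → g.derivative.eval x ∣ π ^ c →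
      ∃ y : C, (π ^ (2 * c + N + (i + 1)) ∣ g.eval y ∧ g.derivative.eval y ∣ π ^ c) ∧
        π ^ (c + N + i) ∣ x - y := by
    intro i x ⟨s, hs⟩ ⟨w, hw⟩
    let d := g.derivative.eval x
    let t := w * π ^ (c + N + i) * s
    have hdt : d * t = g.eval x := by
      calc d * t = (g.derivative.eval x * w) * π ^ (c + N + i) * s := by simp only [d, t]; ring
        _ = π ^ c * π ^ (c + N + i) * s := by rw [← hw]
        _ = g.eval x := by rw [hs, ← pow_add]; ring_nf
    obtain ⟨k, hk⟩ := binomExpansion g x (-t)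
    obtain ⟨z, hz⟩ := evalSubFactor g.derivative (x - t) x
    refine ⟨x - t, ⟨?_, ?_⟩, ⟨w * s, by simp only [t]; ring⟩⟩
    · rw [sub_eq_add_neg, hk]
      have e : g.eval x + g.derivative.eval x * -t + k * (-t) ^ 2 = k * t ^ 2 := by
        rw [← hdt]; simp only [d]; ring
      rw [e]
      refine Dvd.dvd.trans ?_ (dvd_mul_left _ k)
      have : π ^ (2 * (c + N + i)) ∣ t ^ 2 := by
        rw [mul_comm 2, pow_mul]
        exact pow_dvd_pow_of_dvd ⟨w * s, by simp only [t]; ring⟩ 2
      exact (pow_dvd_pow π (by omega)).trans this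
    · have hu : IsUnit (1 - w * π ^ (N + i) * s * z * w) :=
        IsLocalRing.isUnit_one_sub_self_of_mem_nonunits _ <| by
          refine Ideal.mul_mem_right _ _ (Ideal.mul_mem_right _ _ (Ideal.mul_mem_right _ _
            (Ideal.mul_mem_left _ _ (Ideal.pow_mem_of_mem _ hπ _ (by omega)))))
      have e : g.derivative.eval (x - t) = d * (1 - w * π ^ (N + i) * s * z * w) := by
        have e1 : g.derivative.eval (x - t) = d + z * ((x - t) - x) := by rw [← hz]; simp only [d]; ring
        have e2 : d * w = π ^ c := by simp only [d]; exact hw.symm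
        rw [e1]
        linear_combination (z * π ^ (N + i) * s * w) * e2
      rw [e]
      exact (hu.mul_right_dvd).2 ⟨w, hw⟩
  choose F hF using step
  let S : (i : ℕ) → {x : C // π ^ (2 * c + N + i) ∣ g.eval x ∧ g.derivative.eval x ∣ π ^ c} :=
    fun i => Nat.rec ⟨γ, hg, hd⟩ (fun i p => ⟨F i p.1 p.2.1 p.2.2, (hF i p.1 p.2.1 p.2.2).1⟩) i
  have hstep : ∀ i, π ^ (c + N + i) ∣ (S i).1 - (S (i + 1)).1 := fun i =>
    (hF i (S i).1 (S i).2.1 (S i).2.2).2
  have hcau : ∀ {m n}, m ≤ n → π ^ (c + N + m) ∣ (S m).1 - (S n).1 := by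
    intro m n hmn
    induction n, hmn using Nat.le_induction with
    | base => simp
    | succ n hmn ih =>
      rw [← sub_add_sub_cancel (S m).1 (S n).1 (S (n + 1)).1]
      exact dvd_add ih ((pow_dvd_pow π (by omega)).trans (hstep n))
  have hmem : ∀ (j : ℕ) (x y : C), x ≡ y [SMOD (Ideal.span {π} ^ j • ⊤ : Submodule C C)] ↔
      π ^ j ∣ x - y := by
    intro j x y
    rw [SModEq.sub_mem, smul_eq_mul, Ideal.mul_top, Ideal.span_singleton_pow, Ideal.mem_span_singleton]
  obtain ⟨L, hL⟩ := IsPrecomplete.prec (I := Ideal.span {π}) inferInstance (f := fun n => (S n).1)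
    fun {m n} hmn => (hmem m _ _).2 ((pow_dvd_pow π (by omega)).trans (hcau hmn))
  refine ⟨L, ?_, ?_⟩
  · refine IsHausdorff.haus (I := Ideal.span {π}) inferInstance _ fun j => ?_
    rw [hmem, sub_zero]
    obtain ⟨z, hz⟩ := evalSubFactor g L (S j).1
    have h1 : π ^ j ∣ L - (S j).1 := (dvd_sub_comm).1 ((hmem j _ _).1 (hL j))
    rw [show g.eval L = z * (L - (S j).1) + g.eval (S j).1 by rw [← hz]; ring]
    exact dvd_add (h1.mul_left z) ((pow_dvd_pow π (by omega)).trans (S j).2.1)
  · have h1 := (hmem (c + N) _ _).1 (hL (c + N))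
    have h2 : π ^ (c + N) ∣ (S 0).1 - (S (c + N)).1 := by simpa using hcau (Nat.zero_le (c + N))
    have := dvd_add h2 h1
    rw [sub_add_sub_cancel] at this
    exact (dvd_sub_comm).1 this

end Groth.Agent.Krasner3
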