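import Mathlib.RingTheory.AdicCompletion.Algebra
import Mathlib.RingTheory.AdicCompletion.RingHom
import Mathlib.RingTheory.AdicCompletion.Completeness
import Mathlib.RingTheory.PowerSeries.Trunc
import Mathlib.RingTheory.DiscreteValuationRing.Basic
import Mathlib.RingTheory.LocalProperties.Basic
import Mathlib.RingTheory.Spectrum.Maximal.Defs
import Mathlib.RingTheory.Ideal.Cotangent

/-! The completion of a wedge of discrete valuation rings is the multicross ring. -/

set_option autoImplicit false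
universe u

open PowerSeries IsLocalRing

namespace Groth.Agent.MultiCross3

section Branch

variable {k B : Type u} [Field k] [CommRing B] [Algebra k B] (M : Ideal B) [M.IsMaximal]

theorem mem_pow_iff (b : B) (i : ℕ) :
    algebraMap B (Localization.AtPrime M) b ∈ maximalIdeal (Localization.AtPrime M) ^ i ↔ b ∈ M ^ i := by
  rw [← Localization.AtPrime.map_eq_maximalIdeal, ← Ideal.map_pow]
  refine ⟨fun h => ?_, fun h => Ideal.mem_map_of_mem _ h⟩
  rcases i.eq_zero_or_pos with rfl | hi
  · rw [pow_zero, Ideal.one_eq_top]; trivial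
  obtain ⟨⟨⟨a, ha⟩, s⟩, hs⟩ := (IsLocalization.mem_map_algebraMap_iff M.primeCompl _).1 h
  rw [← map_mul] at hs
  obtain ⟨t, ht⟩ := (IsLocalization.eq_iff_exists M.primeCompl _).1 hs
  have htop : Ideal.span {(t : B) * s} ⊔ M = ⊤ :=
    sup_comm M _ ▸ (Ideal.IsMaximal.out (I := M)).2 _ (left_lt_sup.2 fun hle =>
      M.primeCompl.mul_mem t.2 s.2 (hle (Ideal.mem_span_singleton_self _)))
  obtain ⟨u, hu, v, hv, huv⟩ := Submodule.mem_sup.1 ((Ideal.eq_top_iff_one _).1 (Ideal.sup_pow_eq_top (n := i) htop))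
  obtain ⟨w, rfl⟩ := Ideal.mem_span_singleton'.1 hu
  have : b = w * (t * a) + v * b := by rw [← ht]; linear_combination -b * huv
  rw [this]
  exact add_mem (Ideal.mul_mem_left _ _ (Ideal.mul_mem_left _ _ ha)) (Ideal.mul_mem_right _ _ hv)

variable (hres : ∀ b : B, ∃ c : k, b - algebraMap k B c ∈ M)
  (π : B) (hπ : maximalIdeal (Localization.AtPrime M) = Ideal.span {algebraMap B _ π})

include hres hπ in
theorem exists_coeff (i : ℕ) (x : B) (hx : x ∈ M ^ i) : ∃ c : k, x - algebraMap k B c * π ^ i ∈ M ^ (i + 1) := by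
  have h := (mem_pow_iff M x i).2 hx
  rw [hπ, Ideal.span_singleton_pow, Ideal.mem_span_singleton'] at h
  obtain ⟨v, hv⟩ := h
  obtain ⟨⟨b, s⟩, hs⟩ := IsLocalization.surj M.primeCompl v
  obtain ⟨c1, h1⟩ := hres b
  obtain ⟨c2, h2⟩ := hres s
  have hc2 : c2 ≠ 0 := fun h0 => s.2 (by simpa [h0] using h2)
  refine ⟨c1 / c2, (mem_pow_iff M _ _).1 ?_⟩
  have hmem : b - algebraMap k B (c1 / c2) * s ∈ M := by
    have : b - algebraMap k B (c1 / c2) * s = (b - algebraMap k B c1) - algebraMap k B (c1 / c2) * (s - algebraMap k B c2) := by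
      rw [mul_sub, ← map_mul, div_mul_cancel₀ _ hc2]; ring
    rw [this]
    exact sub_mem h1 (Ideal.mul_mem_left _ _ h2)
  let g := algebraMap B (Localization.AtPrime M)
  have key : g (x - algebraMap k B (c1 / c2) * π ^ i) * g s = g π ^ i * g (b - algebraMap k B (c1 / c2) * s) := by
    simp only [map_sub, map_mul, map_pow, g]
    rw [← hv, ← hs]; ring
  refine (Ideal.mul_unit_mem_iff_mem _ (IsLocalization.map_units (Localization.AtPrime M) s)).1 ?_
  rw [key, pow_succ]
  refine Ideal.mul_mem_mul ?_ ?_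
  · exact Ideal.pow_mem_pow (hπ.symm ▸ Ideal.mem_span_singleton_self _) i
  · rw [← pow_one (maximalIdeal _)]
    exact (mem_pow_iff M _ 1).2 (by rwa [pow_one])

include hπ in
theorem pi_mem : π ∈ M := by
  have := (mem_pow_iff M π 1).1 (by rw [pow_one, hπ]; exact Ideal.mem_span_singleton_self _)
  rwa [pow_one] at this

variable [IsDomain (Localization.AtPrime M)] [IsDiscreteValuationRing (Localization.AtPrime M)]

include hπ in
theorem coeff_eq_zero (i : ℕ) (c : k) (h : algebraMap k B c * π ^ i ∈ M ^ (i + 1)) : c = 0 := by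
  by_contra hc
  have h' : π ^ i ∈ M ^ (i + 1) := by
    have := (M ^ (i + 1)).mul_mem_left (algebraMap k B c⁻¹) h
    rwa [← mul_assoc, ← map_mul, inv_mul_cancel₀ hc, map_one, one_mul] at this
  have := (mem_pow_iff M _ _).2 h'
  rw [hπ, Ideal.span_singleton_pow, Ideal.mem_span_singleton', map_pow] at this
  obtain ⟨v, hv⟩ := this
  let g := algebraMap B (Localization.AtPrime M) π
  have hg0 : g ≠ 0 := fun h0 => IsDiscreteValuationRing.not_a_field (Localization.AtPrime M)
    (by rw [hπ]; exact Ideal.span_singleton_eq_bot.2 h0)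
  have hu : v * g = 1 := mul_right_cancel₀ (pow_ne_zero i hg0) (by rw [one_mul]; exact Eq.trans (by rw [pow_succ]; ring) hv)
  have : IsUnit g := IsUnit.of_mul_eq_one v (by rw [mul_comm, hu])
  exact (mem_maximalIdeal g).1 (hπ.symm ▸ Ideal.mem_span_singleton_self g) this

/-- The truncated evaluation `k⟦t⟧ → B / M ^ j`, `t ↦ π`. -/
noncomputable def θ (hπM : π ∈ M) (j : ℕ) : PowerSeries k →+* B ⧸ M ^ j where
  toFun f := Ideal.Quotient.mk _ (Polynomial.aeval π (trunc j f))
  map_one' := by
    rcases j.eq_zero_or_pos with rfl | hj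
    · haveI : Subsingleton (B ⧸ M ^ 0) := Ideal.Quotient.subsingleton_iff.2 (by rw [pow_zero, Ideal.one_eq_top])
      exact Subsingleton.elim _ _
    · obtain ⟨j', rfl⟩ := Nat.exists_eq_succ_of_ne_zero hj.ne'
      rw [trunc_one, map_one, map_one]
  map_zero' := by simp
  map_add' f g := by simp [map_add]
  map_mul' f g := by
    rw [← map_mul, ← map_mul, Ideal.Quotient.mk_eq_mk_iff_sub_mem, ← map_sub]
    have hdvd : Polynomial.X ^ j ∣ trunc j (f * g) - trunc j f * trunc j g := by
      rw [Polynomial.X_pow_dvd_iff]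
      intro d hd
      have h := congrArg (fun p => Polynomial.coeff p d) (trunc_trunc_mul_trunc (n := j) f g)
      simp only [coeff_trunc, if_pos hd] at h
      rw [← Polynomial.coe_mul, Polynomial.coeff_coe] at h
      rw [Polynomial.coeff_sub, coeff_trunc, if_pos hd, ← h, sub_self]
    obtain ⟨q, hq⟩ := hdvd
    rw [hq, map_mul, map_pow, Polynomial.aeval_X]
    exact Ideal.mul_mem_right _ _ (Ideal.pow_mem_pow hπM j)

theorem θ_apply (hπM : π ∈ M) (j : ℕ) (f : PowerSeries k) :
    θ M π hπM j f = Ideal.Quotient.mk _ (Polynomial.aeval π (trunc j f)) := rfl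

theorem θ_succ (hπM : π ∈ M) (j : ℕ) (f : PowerSeries k) :
    θ M π hπM (j + 1) f =
      Ideal.Quotient.mk _ (Polynomial.aeval π (trunc j f) + algebraMap k B (coeff j f) * π ^ j) := by
  rw [θ_apply, trunc_succ, map_add, Polynomial.aeval_monomial]

theorem factor_θ (hπM : π ∈ M) {i j : ℕ} (hij : i ≤ j) (f : PowerSeries k) :
    Ideal.Quotient.factorPow M hij (θ M π hπM j f) = θ M π hπM i f := by
  induction j, hij using Nat.le_induction with
  | base => exact Ideal.Quotient.factor_mk _ _
  | succ j hij ih =>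
    rw [θ_succ, ← ih, θ_apply, Ideal.Quotient.factor_mk, Ideal.Quotient.factor_mk, Ideal.Quotient.mk_eq_mk_iff_sub_mem,
      add_sub_cancel_left]
    exact Ideal.mul_mem_left _ _ (Ideal.pow_le_pow_right hij (Ideal.pow_mem_pow hπM j))

theorem θ_one (hπM : π ∈ M) (f : PowerSeries k) :
    θ M π hπM 1 f = Ideal.Quotient.mk _ (algebraMap k B (constantCoeff f)) := by
  refine (θ_succ M π hπM 0 f).trans ?_
  refine congrArg (Ideal.Quotient.mk (M ^ 1)) ?_
  simp [trunc_zero', coeff_zero_eq_constantCoeff_apply]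

include hπ in
theorem θ_eq_zero_iff (hπM : π ∈ M) (j : ℕ) (f : PowerSeries k) :
    θ M π hπM j f = 0 ↔ ∀ i < j, coeff i f = 0 := by
  induction j with
  | zero =>
    simp only [Nat.not_lt_zero, IsEmpty.forall_iff, implies_true, iff_true]
    haveI : Subsingleton (B ⧸ M ^ 0) := Ideal.Quotient.subsingleton_iff.2 (by rw [pow_zero, Ideal.one_eq_top])
    exact Subsingleton.elim _ _
  | succ j ih =>
    constructor
    · intro h i hi
      have hlt : ∀ i < j, coeff i f = 0 := ih.1 (by
        rw [← factor_θ M π hπM (Nat.le_succ j), h, map_zero])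
      rcases Nat.lt_succ_iff_lt_or_eq.1 hi with h' | rfl
      · exact hlt i h'
      · refine coeff_eq_zero M π hπ i _ ?_
        have h0 : trunc i f = 0 := Polynomial.ext fun d => by
          rw [coeff_trunc, Polynomial.coeff_zero]; split <;> simp_all
        rw [θ_succ, h0, map_zero, zero_add, Ideal.Quotient.eq_zero_iff_mem] at h
        exact h
    · intro h
      have h0 : trunc (j + 1) f = 0 := Polynomial.ext fun d => by
        rw [coeff_trunc, Polynomial.coeff_zero]; split <;> simp_all
      rw [θ_apply, h0, map_zero, map_zero]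

include hres hπ in
theorem θ_surjective (hπM : π ∈ M) (j : ℕ) : Function.Surjective (θ (k := k) M π hπM j) := by
  induction j with
  | zero =>
    haveI : Subsingleton (B ⧸ M ^ 0) := Ideal.Quotient.subsingleton_iff.2 (by rw [pow_zero, Ideal.one_eq_top])
    exact fun z => ⟨0, Subsingleton.elim _ _⟩
  | succ j ih =>
    intro z
    obtain ⟨b, rfl⟩ := Ideal.Quotient.mk_surjective z
    obtain ⟨f, hf⟩ := ih (Ideal.Quotient.mk _ b)
    rw [θ_apply, Ideal.Quotient.mk_eq_mk_iff_sub_mem] at hf
    obtain ⟨c, hc⟩ := exists_coeff M hres π hπ j _ ((M ^ j).neg_mem_iff.2 hf)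
    refine ⟨(trunc j f : Polynomial k) + PowerSeries.monomial j c, ?_⟩
    have h1 : trunc j ((trunc j f : PowerSeries k) + PowerSeries.monomial j c) = trunc j f := Polynomial.ext fun d => by
      rw [coeff_trunc]
      split_ifs with hd
      · simp [PowerSeries.coeff_monomial, hd.ne, Polynomial.coeff_coe]
      · simp [coeff_trunc, hd]
    rw [θ_succ, h1, Ideal.Quotient.mk_eq_mk_iff_sub_mem]
    have h2 : coeff j ((trunc j f : PowerSeries k) + PowerSeries.monomial j c) = c := by
      simp [coeff_trunc, Polynomial.coeff_coe]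
    rw [h2]
    have := (M ^ (j + 1)).neg_mem_iff.2 hc
    convert this using 1
    ring

end Branch

section Main

variable {k A B : Type u} [Field k] [CommRing A] [IsLocalRing A] [CommRing B] [Algebra k A] [Algebra A B]
  [Algebra k B] [IsScalarTower k A B]
  {n : ℕ} (M : Fin n → Ideal B) [∀ i, (M i).IsMaximal]

/-- A uniformizer at finitely many maximal ideals simultaneously. -/
theorem exists_uniformizer (hinj : Function.Injective M)
    (hd : ∀ i, ∃ _ : IsDomain (Localization.AtPrime (M i)), IsDiscreteValuationRing (Localization.AtPrime (M i))) :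
    ∃ π : B, ∀ i, maximalIdeal (Localization.AtPrime (M i)) = Ideal.span {algebraMap B _ π} := by
  have hcop : ∀ i l, i ≠ l → IsCoprime (M i ^ 2) (M l ^ 2) := fun i l h =>
    (Ideal.isCoprime_of_isMaximal fun he => h (hinj he)).pow
  have hex : ∀ i, ∃ b : B, b ∈ M i ∧ b ∉ M i ^ 2 := fun i => by
    obtain ⟨hdom, hdvr⟩ := hd i
    haveI := hdom; haveI := hdvr
    by_contra hno
    push Not at hno
    have heq : M i ^ 2 = M i := le_antisymm (Ideal.pow_le_self two_ne_zero) fun b hb => hno b hb
    obtain ⟨ϖ, hϖ⟩ := IsDiscreteValuationRing.exists_irreducible (Localization.AtPrime (M i))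
    have hmap := congrArg (Ideal.map (algebraMap B (Localization.AtPrime (M i)))) heq
    rw [Ideal.map_pow, Localization.AtPrime.map_eq_maximalIdeal, hϖ.maximalIdeal_eq, Ideal.span_singleton_pow] at hmap
    obtain ⟨w, hw⟩ := Ideal.mem_span_singleton'.1 (hmap.ge (Ideal.mem_span_singleton_self ϖ))
    have : w * ϖ = 1 := mul_right_cancel₀ hϖ.ne_zero (by rw [one_mul, mul_assoc, ← pow_two, hw])
    exact hϖ.not_isUnit (IsUnit.of_mul_eq_one w (by rw [mul_comm, this]))
  choose b hb1 hb2 using hex
  obtain ⟨π, hπ⟩ := Ideal.pi_quotient_surjective (I := fun i => M i ^ 2) hcop fun i => Ideal.Quotient.mk _ (b i)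
  refine ⟨π, fun i => ?_⟩
  obtain ⟨hdom, hdvr⟩ := hd i
  haveI := hdom; haveI := hdvr
  have hπi : π - b i ∈ M i ^ 2 := Ideal.Quotient.mk_eq_mk_iff_sub_mem _ _ |>.1 (hπ i)
  have h1 : π ∈ M i := by
    have := (M i).add_mem (Ideal.pow_le_self two_ne_zero hπi) (hb1 i)
    rwa [sub_add_cancel] at this
  have h2 : π ∉ M i ^ 2 := fun h => hb2 i (by
    have := (M i ^ 2).sub_mem h hπi
    rwa [sub_sub_cancel] at this)
  obtain ⟨ϖ, hϖ⟩ := IsDiscreteValuationRing.exists_irreducible (Localization.AtPrime (M i))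
  have hg : algebraMap B (Localization.AtPrime (M i)) π ∈ maximalIdeal _ := by
    rw [← Localization.AtPrime.map_eq_maximalIdeal]; exact Ideal.mem_map_of_mem _ h1
  rw [hϖ.maximalIdeal_eq, Ideal.mem_span_singleton'] at hg
  obtain ⟨u, hu⟩ := hg
  have huu : IsUnit u := notMem_maximalIdeal.1 fun hm => h2 ((mem_pow_iff (M i) π 2).1 (by
    rw [← hu, pow_two]
    exact Ideal.mul_mem_mul hm (hϖ.maximalIdeal_eq ▸ Ideal.mem_span_singleton_self ϖ)))
  rw [hϖ.maximalIdeal_eq, ← hu, Ideal.span_singleton_mul_left_unit huu]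

omit [IsScalarTower k A B] in
/-- In a wedge, an element lying in the `j`-th power of every maximal ideal upstairs lies in `m ^ j`. -/
theorem mem_pow_of_forall (hn : 0 < n) (hall : ∀ I : Ideal B, I.IsMaximal → ∃ i, M i = I)
    (hι : Function.Injective (algebraMap A B))
    (hcomap : ∀ i, (M i).comap (algebraMap A B) = maximalIdeal A)
    (hwedge : ∀ b : B, (∃ c : k, ∀ i, b - algebraMap k B c ∈ M i) → b ∈ (algebraMap A B).range)
    (π : B) (hπ : ∀ i, maximalIdeal (Localization.AtPrime (M i)) = Ideal.span {algebraMap B _ π})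
    (j : ℕ) (a : A) (ha : ∀ i, algebraMap A B a ∈ M i ^ j) : a ∈ maximalIdeal A ^ j := by
  let m := maximalIdeal A
  let ι := algebraMap A B
  have hπM : ∀ i, π ∈ M i := fun i => pi_mem (M i) π (hπ i)
  have hπB : ∀ b : B, ∃ a ∈ m, ι a = π * b := fun b => by
    obtain ⟨a, ha⟩ := hwedge (π * b) ⟨0, fun i => by rw [map_zero, sub_zero]; exact (M i).mul_mem_right _ (hπM i)⟩
    exact ⟨a, (hcomap ⟨0, hn⟩).le (Ideal.mem_comap.2 (ha ▸ (M _).mul_mem_right _ (hπM _))), ha⟩
  have hdown : ∀ (j : ℕ) (a : A), (∀ i, ι a ∈ M i ^ j) → a ∈ m ^ j := fun j a ha => by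
    rcases j with - | j
    · rw [pow_zero, Ideal.one_eq_top]; trivial
    have hmem : ι a ∈ Ideal.span {π ^ (j + 1)} := by
      refine Ideal.mem_of_localization_maximal fun P hP => ?_
      obtain ⟨i, rfl⟩ := hall P hP
      rw [Ideal.map_span, Set.image_singleton, map_pow, ← Ideal.span_singleton_pow, ← hπ i]
      exact (mem_pow_iff (M i) _ _).2 (ha i)
    obtain ⟨b, hb⟩ := Ideal.mem_span_singleton'.1 hmem
    obtain ⟨p, hp, hp'⟩ := hπB 1
    obtain ⟨q, hq, hq'⟩ := hπB b
    have : a = p ^ j * q := hι (by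
      show ι a = ι (p ^ j * q)
      rw [map_mul, map_pow, hp', hq', mul_one, ← hb, pow_succ]; ring)
    rw [this, pow_succ]
    exact Ideal.mul_mem_mul (Ideal.pow_mem_pow hp j) hq
  exact hdown j a ha

/-- The completion of a wedge of discrete valuation rings with coefficient field `k` is the multicross ring. -/
theorem multicross (hn : 0 < n) (hinj : Function.Injective M) (hall : ∀ I : Ideal B, I.IsMaximal → ∃ i, M i = I)
    (hι : Function.Injective (algebraMap A B))
    (hcomap : ∀ i, (M i).comap (algebraMap A B) = maximalIdeal A)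
    (hres : ∀ i (b : B), ∃ c : k, b - algebraMap k B c ∈ M i)
    (hwedge : ∀ b : B, (∃ c : k, ∀ i, b - algebraMap k B c ∈ M i) → b ∈ (algebraMap A B).range)
    (hd : ∀ i, ∃ _ : IsDomain (Localization.AtPrime (M i)), IsDiscreteValuationRing (Localization.AtPrime (M i))) :
    ∃ φ : AdicCompletion (maximalIdeal A) A →+* (Fin n → PowerSeries k),
      Function.Injective φ ∧
      (∀ c : k, φ (algebraMap A (AdicCompletion (maximalIdeal A) A) (algebraMap k A c)) =
        fun _ => algebraMap k (PowerSeries k) c) ∧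
      Set.range φ = {f : Fin n → PowerSeries k | ∀ i j : Fin n, constantCoeff (f i) = constantCoeff (f j)} := by
  classical
  let m := maximalIdeal A
  let ι := algebraMap A B
  haveI hdom : ∀ i, IsDomain (Localization.AtPrime (M i)) := fun i => (hd i).1
  haveI hdvr : ∀ i, IsDiscreteValuationRing (Localization.AtPrime (M i)) := fun i => (hd i).2
  obtain ⟨π, hπ⟩ := exists_uniformizer M hinj hd
  have hπM : ∀ i, π ∈ M i := fun i => pi_mem (M i) π (hπ i)
  -- ideals: `m ^ j = π ^ j B` inside `A`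
  have hdown : ∀ (j : ℕ) (a : A), (∀ i, ι a ∈ M i ^ j) → a ∈ m ^ j :=
    mem_pow_of_forall M hn hall hι hcomap hwedge π hπ
  have hup : ∀ (i : Fin n) (j : ℕ), m ^ j ≤ (M i ^ j).comap ι := fun i j => by
    rw [← Ideal.map_le_iff_le_comap, Ideal.map_pow]
    exact Ideal.pow_right_mono (Ideal.map_le_iff_le_comap.2 (hcomap i).ge) j
  -- the components
  let ψ : ∀ (i : Fin n) (j : ℕ), A ⧸ m ^ j →+* B ⧸ M i ^ j := fun i j => Ideal.quotientMap _ ι (hup i j)
  let F : ∀ (i : Fin n) (j : ℕ), AdicCompletion m A →+* B ⧸ M i ^ j := fun i j =>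
    (ψ i j).comp (AdicCompletion.evalₐ m j).toRingHom
  have hFmk : ∀ (i : Fin n) (j : ℕ) (s : AdicCompletion.AdicCauchySequence m A),
      F i j (AdicCompletion.mk m A s) = Ideal.Quotient.mk _ (ι (s.1 j)) := fun i j s => by
    simp only [F, ψ, RingHom.comp_apply]
    exact (congrArg (Ideal.quotientMap _ ι (hup i j)) (AdicCompletion.evalₐ_mk m j s)).trans Ideal.quotientMap_mk
  have hF : ∀ (i : Fin n) {j l : ℕ} (h : j ≤ l) x, Ideal.Quotient.factorPow (M i) h (F i l x) = F i j x := by
    intro i j l h x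
    obtain ⟨s, rfl⟩ := AdicCompletion.mk_surjective m A x
    rw [hFmk, hFmk, Ideal.Quotient.factor_mk, Ideal.Quotient.mk_eq_mk_iff_sub_mem, ← map_sub]
    refine hup i j ?_
    have := SModEq.sub_mem.1 (s.2 h)
    rw [smul_eq_mul, Ideal.mul_top] at this
    exact (Ideal.neg_mem_iff _).1 (by rwa [neg_sub])
  let T : ∀ (i : Fin n) (j : ℕ), PowerSeries k →+* B ⧸ M i ^ j := fun i j => θ (M i) π (hπM i) j
  have hker : ∀ (i : Fin n) (j : ℕ), RingHom.ker (T i j) = Ideal.span {(X : PowerSeries k)} ^ j := fun i j => by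
    ext f
    rw [RingHom.mem_ker, θ_eq_zero_iff (M i) π (hπ i), Ideal.span_singleton_pow, Ideal.mem_span_singleton, X_pow_dvd_iff]
  have hTs : ∀ (i : Fin n) (j : ℕ), Function.Surjective (T i j) := fun i j => θ_surjective (M i) (hres i) π (hπ i) _ j
  let τ : ∀ (i : Fin n) (j : ℕ), B ⧸ M i ^ j ≃+* PowerSeries k ⧸ Ideal.span {(X : PowerSeries k)} ^ j := fun i j =>
    (RingHom.quotientKerEquivOfSurjective (hTs i j)).symm.trans (Ideal.quotEquivOfEq (hker i j))
  have hτ : ∀ i j f, τ i j (T i j f) = Ideal.Quotient.mk _ f := fun i j f => by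
    show Ideal.quotEquivOfEq (hker i j) ((RingHom.quotientKerEquivOfSurjective (hTs i j)).symm (T i j f)) = _
    rw [show (RingHom.quotientKerEquivOfSurjective (hTs i j)).symm (T i j f) = Ideal.Quotient.mk _ f from
      (RingEquiv.symm_apply_eq _).2 rfl, Ideal.quotEquivOfEq_mk]
  have hcompat : ∀ (i : Fin n) {j l : ℕ} (h : j ≤ l),
      (Ideal.Quotient.factorPow (Ideal.span {(X : PowerSeries k)}) h).comp ((τ i l).toRingHom.comp (F i l)) =
        (τ i j).toRingHom.comp (F i j) := fun i {j l} h => RingHom.ext fun x => by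
    obtain ⟨f, hf⟩ := hTs i l (F i l x)
    show Ideal.Quotient.factorPow _ h (τ i l (F i l x)) = τ i j (F i j x)
    rw [← hF i h x, ← hf, hτ, factor_θ, hτ, Ideal.Quotient.factor_mk]
  let φ : AdicCompletion m A →+* (Fin n → PowerSeries k) :=
    Pi.ringHom fun i => IsAdicComplete.liftRingHom (Ideal.span {(X : PowerSeries k)})
      (fun j => (τ i j).toRingHom.comp (F i j)) (hcompat i)
  have hφ : ∀ i j x, T i j (φ x i) = F i j x := fun i j x => (τ i j).injective (by
    rw [hτ]; exact IsAdicComplete.mk_liftRingHom _ _ (hcompat i) j x)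
  have huniq : ∀ (i : Fin n) (f g : PowerSeries k), (∀ j, T i j f = T i j g) → f = g := fun i f g h =>
    sub_eq_zero.1 (PowerSeries.ext fun d => by
      have h0 : T i (d + 1) (f - g) = 0 := by rw [map_sub, h, sub_self]
      simpa using (θ_eq_zero_iff (M i) π (hπ i) _ (d + 1) (f - g)).1 h0 d (Nat.lt_succ_self d))
  refine ⟨φ, (injective_iff_map_eq_zero φ).2 fun x hx => AdicCompletion.ext_evalₐ fun j => ?_, fun c => funext fun i => ?_, ?_⟩
  · obtain ⟨s, rfl⟩ := AdicCompletion.mk_surjective m A x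
    rw [map_zero, AdicCompletion.evalₐ_mk, Ideal.Quotient.eq_zero_iff_mem]
    refine hdown j _ fun i => Ideal.Quotient.eq_zero_iff_mem.1 ?_
    have h := (hφ i j (AdicCompletion.mk m A s)).symm
    rw [show φ _ i = 0 from congrFun hx i, map_zero] at h
    show Ideal.Quotient.mk _ (ι (s.1 j)) = 0
    rw [← hFmk, h]
  · refine huniq i _ _ fun j => ?_
    rw [hφ]
    show ψ i j (AdicCompletion.evalₐ m j (algebraMap A _ (algebraMap k A c))) = θ (M i) π (hπM i) j _
    rw [AlgHom.commutes]
    show ψ i j (Ideal.Quotient.mk _ (algebraMap k A c)) = _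
    rw [Ideal.quotientMap_mk, θ_apply, ← IsScalarTower.algebraMap_apply k A B]
    rcases j with - | j
    · exact Ideal.Quotient.mk_eq_mk_iff_sub_mem _ _ |>.2 (by rw [pow_zero, Ideal.one_eq_top]; trivial)
    · rw [PowerSeries.algebraMap_apply, Algebra.algebraMap_self, RingHom.id_apply, trunc_C, Polynomial.aeval_C]
  · ext f
    constructor
    · rintro ⟨x, rfl⟩
      obtain ⟨s, rfl⟩ := AdicCompletion.mk_surjective m A x
      obtain ⟨c, hc⟩ := hres ⟨0, hn⟩ (ι (s.1 1))
      have hcA : s.1 1 - algebraMap k A c ∈ m := (hcomap ⟨0, hn⟩).le (by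
        rw [Ideal.mem_comap, map_sub, ← IsScalarTower.algebraMap_apply k A B]; exact hc)
      have hcst : ∀ i, constantCoeff (φ (AdicCompletion.mk m A s) i) = c := fun i => by
        have h := hφ i 1 (AdicCompletion.mk m A s)
        have h' : Ideal.Quotient.mk (M i ^ 1) (algebraMap k B (constantCoeff (φ (AdicCompletion.mk m A s) i))) =
            Ideal.Quotient.mk (M i ^ 1) (ι (s.1 1)) := by
          exact (θ_one (M i) π (hπM i) _).symm.trans (h.trans (hFmk i 1 s))
        rw [Ideal.Quotient.mk_eq_mk_iff_sub_mem, pow_one] at h'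
        have hcB : ι (s.1 1) - algebraMap k B c ∈ M i := by
          have := (hcomap i).ge hcA
          rwa [Ideal.mem_comap, map_sub, ← IsScalarTower.algebraMap_apply k A B] at this
        by_contra hne
        refine (inferInstance : (M i).IsMaximal).ne_top ((Ideal.eq_top_iff_one _).2 ?_)
        have h2 := (M i).mul_mem_left (algebraMap k B (constantCoeff (φ (AdicCompletion.mk m A s) i) - c)⁻¹)
          ((M i).add_mem h' hcB)
        rwa [sub_add_sub_cancel, ← map_sub, ← map_mul, inv_mul_cancel₀ (sub_ne_zero.2 hne), map_one] at h2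
      exact fun i l => (hcst i).trans (hcst l).symm
    · intro hf
      have hcop : ∀ j i l, i ≠ l → IsCoprime (M i ^ j) (M l ^ j) := fun j i l h =>
        (Ideal.isCoprime_of_isMaximal fun he => h (hinj he)).pow
      have hex : ∀ j, ∃ a : A, ∀ i, T i (j + 1) (f i) = Ideal.Quotient.mk _ (ι a) := fun j => by
        obtain ⟨b, hb⟩ := Ideal.pi_quotient_surjective (I := fun i => M i ^ (j + 1)) (hcop (j + 1))
          fun i => T i (j + 1) (f i)
        obtain ⟨a, ha⟩ := hwedge b ⟨constantCoeff (f ⟨0, hn⟩), fun i => by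
          have h := congrArg (Ideal.Quotient.factorPow (M i) (Nat.le_add_left 1 j)) (hb i)
          rw [factor_θ, θ_one, Ideal.Quotient.factor_mk,
            Ideal.Quotient.mk_eq_mk_iff_sub_mem, hf i ⟨0, hn⟩, pow_one] at h
          exact h⟩
        exact ⟨a, fun i => by rw [← hb i]; exact congrArg _ ha.symm⟩
      choose a ha using hex
      have hmod : ∀ {j l : ℕ}, j ≤ l → ∀ i, ι (a l) - ι (a j) ∈ M i ^ (j + 1) := fun {j l} h i => by
        rw [← Ideal.Quotient.mk_eq_mk_iff_sub_mem, ← ha j i, ← factor_θ (M i) π (hπM i) (Nat.succ_le_succ h)]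
        exact (congrArg (Ideal.Quotient.factorPow (M i) (Nat.succ_le_succ h)) (ha l i)).symm.trans rfl
      let s : AdicCompletion.AdicCauchySequence m A := ⟨a, fun {j l} h => by
        rw [SModEq.sub_mem, smul_eq_mul, Ideal.mul_top]
        refine hdown j _ fun i => ?_
        rw [map_sub]
        have := (M i ^ j).neg_mem_iff.2 (Ideal.pow_le_pow_right (Nat.le_succ j) (hmod h i))
        rwa [neg_sub] at this⟩
      refine ⟨AdicCompletion.mk m A s, funext fun i => huniq i _ _ fun j => ?_⟩
      rw [hφ]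
      rw [hFmk]
      show _ = θ (M i) π (hπM i) j (f i)
      rw [← factor_θ (M i) π (hπM i) (Nat.le_succ j)]
      exact congrArg (Ideal.Quotient.factorPow (M i) (Nat.le_succ j)) (ha j i).symm

/-- The cotangent space of a wedge of `n` discrete valuation rings has dimension `n`. -/
theorem finrank_cotangentSpace (hn : 0 < n) (hinj : Function.Injective M) (hall : ∀ I : Ideal B, I.IsMaximal → ∃ i, M i = I)
    (hι : Function.Injective (algebraMap A B))
    (hcomap : ∀ i, (M i).comap (algebraMap A B) = maximalIdeal A)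
    (hres : ∀ i (b : B), ∃ c : k, b - algebraMap k B c ∈ M i)
    (hwedge : ∀ b : B, (∃ c : k, ∀ i, b - algebraMap k B c ∈ M i) → b ∈ (algebraMap A B).range)
    (hd : ∀ i, ∃ _ : IsDomain (Localization.AtPrime (M i)), IsDiscreteValuationRing (Localization.AtPrime (M i))) :
    Module.finrank (ResidueField A) (CotangentSpace A) = n := by
  classical
  haveI hdom : ∀ i, IsDomain (Localization.AtPrime (M i)) := fun i => (hd i).1
  haveI hdvr : ∀ i, IsDiscreteValuationRing (Localization.AtPrime (M i)) := fun i => (hd i).2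
  obtain ⟨π, hπ⟩ := exists_uniformizer M hinj hd
  have hπM : ∀ i, π ∈ M i := fun i => pi_mem (M i) π (hπ i)
  let ι := algebraMap A B
  have hdown := mem_pow_of_forall M hn hall hι hcomap hwedge π hπ
  have hup : ∀ (i : Fin n) (j : ℕ) (a : A), a ∈ maximalIdeal A ^ j → ι a ∈ M i ^ j := fun i j a ha => by
    have : (maximalIdeal A ^ j).map ι ≤ M i ^ j := by
      rw [Ideal.map_pow]; exact Ideal.pow_right_mono (Ideal.map_le_iff_le_comap.2 (hcomap i).ge) j
    exact this (Ideal.mem_map_of_mem ι ha)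
  have hcop : ∀ i l, i ≠ l → IsCoprime (M i ^ 2) (M l ^ 2) := fun i l h =>
    (Ideal.isCoprime_of_isMaximal fun he => h (hinj he)).pow
  have hp : ∀ i, ∃ p : maximalIdeal A, ∀ l, ι p.1 - (if l = i then π else 0) ∈ M l ^ 2 := fun i => by
    obtain ⟨b, hb⟩ := Ideal.pi_quotient_surjective (I := fun l => M l ^ 2) hcop
      fun l => Ideal.Quotient.mk _ (if l = i then π else 0)
    have hb' : ∀ l, b - (if l = i then π else 0) ∈ M l ^ 2 := fun l =>
      (Ideal.Quotient.mk_eq_mk_iff_sub_mem _ _).1 (hb l)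
    have hbM : ∀ l, b ∈ M l := fun l => by
      have h1 := Ideal.pow_le_self two_ne_zero (hb' l)
      have h2 : (if l = i then π else 0) ∈ M l := by split; exact hπM l; exact zero_mem _
      have := (M l).add_mem h1 h2
      rwa [sub_add_cancel] at this
    obtain ⟨a, rfl⟩ := hwedge b ⟨0, fun l => by rw [map_zero, sub_zero]; exact hbM l⟩
    exact ⟨⟨a, (hcomap ⟨0, hn⟩).le (hbM _)⟩, hb'⟩
  choose p hp using hp
  let v : Fin n → CotangentSpace A := fun i => (maximalIdeal A).toCotangent (p i)
  have hcomb : ∀ (a : Fin n → A) (l : Fin n), ι (∑ i, a i * (p i).1) - ι (a l) * π ∈ M l ^ 2 := fun a l => by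
    have h : ι (∑ i, a i * (p i).1) - ι (a l) * π = ∑ i, ι (a i) * (ι (p i).1 - if l = i then π else 0) := by
      simp [mul_sub, Finset.sum_sub_distrib, map_sum, map_mul, mul_ite]
    rw [h]
    exact Ideal.sum_mem _ fun i _ => Ideal.mul_mem_left _ _ (hp i l)
  have hsum : ∀ a : Fin n → A, ∑ i, residue A (a i) • v i = (maximalIdeal A).toCotangent (∑ i, a i • p i) := fun a => by
    rw [map_sum]
    refine Finset.sum_congr rfl fun i _ => ?_
    rw [map_smul]
    exact algebraMap_smul (ResidueField A) (a i) (v i)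
  have hcoe : ∀ a : Fin n → A, ((∑ i, a i • p i : maximalIdeal A) : A) = ∑ i, a i * (p i).1 := fun a => by
    rw [Submodule.coe_sum]; rfl
  have hk : ∀ a : A, ∃ c : k, a - algebraMap k A c ∈ maximalIdeal A := fun a => by
    obtain ⟨c, hc⟩ := hres ⟨0, hn⟩ (ι a)
    exact ⟨c, (hcomap ⟨0, hn⟩).le (by rw [Ideal.mem_comap, map_sub, ← IsScalarTower.algebraMap_apply k A B]; exact hc)⟩
  have hli : LinearIndependent (ResidueField A) v := by
    refine Fintype.linearIndependent_iff.2 fun g hg i => ?_
    choose a ha using fun i => residue_surjective (g i)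
    choose c hc using fun i => hk (a i)
    have hg' : (maximalIdeal A).toCotangent (∑ i, a i • p i) = 0 := by rw [← hsum, ← hg]; simp only [ha]
    rw [Ideal.toCotangent_eq_zero, hcoe] at hg'
    have h1 : ι (a i) * π ∈ M i ^ 2 := by
      have := (M i ^ 2).sub_mem (hup i 2 _ hg') (hcomb a i)
      rwa [sub_sub_cancel] at this
    have h2 : algebraMap k B (c i) * π ^ 1 ∈ M i ^ (1 + 1) := by
      have hd : (ι (a i) - algebraMap k B (c i)) * π ∈ M i ^ 2 := by
        rw [IsScalarTower.algebraMap_apply k A B, ← map_sub, pow_two]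
        exact Ideal.mul_mem_mul ((hcomap i).ge (hc i)) (hπM i)
      have := (M i ^ 2).sub_mem h1 hd
      rwa [← sub_mul, sub_sub_cancel, ← pow_one π] at this
    have hc0 := coeff_eq_zero (M i) π (hπ i) 1 (c i) h2
    rw [← ha i, residue_eq_zero_iff]
    simpa [hc0] using hc i
  have hspan : ⊤ ≤ Submodule.span (ResidueField A) (Set.range v) := by
    rintro z -
    obtain ⟨x, rfl⟩ := (maximalIdeal A).toCotangent_surjective z
    have hx : ∀ l, ι x.1 ∈ M l ^ 1 := fun l => hup l 1 _ (by rw [pow_one]; exact x.2)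
    choose c hc using fun l => exists_coeff (M l) (hres l) π (hπ l) 1 (ι x.1) (hx l)
    rw [show (maximalIdeal A).toCotangent x = ∑ i, residue A (algebraMap k A (c i)) • v i from ?_]
    · exact Submodule.sum_mem _ fun i _ => Submodule.smul_mem _ _ (Submodule.subset_span ⟨i, rfl⟩)
    rw [hsum, Ideal.toCotangent_eq, hcoe]
    refine hdown 2 _ fun l => ?_
    rw [map_sub]
    have h3 : ι (algebraMap k A (c l)) = algebraMap k B (c l) := (IsScalarTower.algebraMap_apply k A B _).symm
    have := (M l ^ 2).sub_mem (hc l) (hcomb (fun i => algebraMap k A (c i)) l)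
    rw [pow_one, h3] at this
    rwa [show ι x.1 - algebraMap k B (c l) * π - (ι (∑ i, algebraMap k A (c i) * (p i).1) - algebraMap k B (c l) * π) =
      ι x.1 - ι (∑ i, algebraMap k A (c i) * (p i).1) by ring] at this
  rw [Module.finrank_eq_card_basis (Module.Basis.mk hli hspan), Fintype.card_fin]

end Main

end Groth.Agent.MultiCross3
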