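import Groth.Agent.Lib.MultiCross3
import Groth.Agent.Lib.WedgeDVR3
import Groth.Prelude.Def_Found

/-! Curve singularities with δ equal to branches minus one have multicross completions. -/

set_option autoImplicit false
universe u

open IsLocalRing

namespace Groth.Agent.MultiCrossCurve3

set_option maxHeartbeats 800000 in
set_option synthInstance.maxHeartbeats 200000 in
/-- The data of the normalization of a curve singularity with `δ + 1` equal to the number of branches. -/
theorem data (k : Type u) [Field k] (A : Type u) [CommRing A] [IsLocalRing A] [Algebra k A] [IsReduced A]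
    (hdim : ringKrullDim A = 1) (hN : CAlg.IsNagata A)
    (hres : Function.Bijective (algebraMap k (ResidueField A)))
    (n : ℕ) (hn : Brnch.numBranches A = n) (hδ : Curv2.deltaInv A + 1 = n) :
    ∃ M : Fin n → Ideal ↥(integralClosure A (FractionRing A)), (∀ i, (M i).IsMaximal) ∧
      Function.Injective M ∧ (∀ I, Ideal.IsMaximal I → ∃ i, M i = I) ∧
      (∀ i, (M i).comap (algebraMap A _) = maximalIdeal A) ∧
      (∀ i b, ∃ c : k, b - algebraMap k _ c ∈ M i) ∧
      (∀ b, (∃ c : k, ∀ i, b - algebraMap k _ c ∈ M i) →
        b ∈ (algebraMap A ↥(integralClosure A (FractionRing A))).range) := by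
  classical
  haveI : IsNoetherianRing A := hN.1
  have hcard : ENat.card (MaximalSpectrum ↥(integralClosure A (FractionRing A))) = n := by
    rw [← WedgeDVR3.numBranches_eq_card, hn]
  haveI : Finite (MaximalSpectrum ↥(integralClosure A (FractionRing A))) := by
    by_contra h
    haveI := not_finite_iff_infinite.1 h
    rw [ENat.card_eq_top_of_infinite] at hcard
    exact ENat.top_ne_coe n hcard
  have hw := WedgeDVR3.wedge' A hN hdim (hδ.le.trans hcard.ge)
  have hnat : Nat.card (MaximalSpectrum ↥(integralClosure A (FractionRing A))) = n := by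
    rw [ENat.card_eq_coe_natCard] at hcard; exact_mod_cast hcard
  let e := (Finite.equivFinOfCardEq hnat).symm
  have hcomap : ∀ M : MaximalSpectrum ↥(integralClosure A (FractionRing A)),
      M.asIdeal.comap (algebraMap A _) = maximalIdeal A := fun M =>
    eq_maximalIdeal (Ideal.isMaximal_comap_of_isIntegral_of_isMaximal (R := A) M.asIdeal)
  have hk : ∀ (M : MaximalSpectrum ↥(integralClosure A (FractionRing A))) (a : A) (c : k),
      residue A a = algebraMap k (ResidueField A) c →
      algebraMap A _ a - algebraMap k ↥(integralClosure A (FractionRing A)) c ∈ M.asIdeal := fun M a c h => by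
    rw [IsScalarTower.algebraMap_apply k A ↥(integralClosure A (FractionRing A)), ← map_sub, ← Ideal.mem_comap, hcomap,
      ← residue_eq_zero_iff, map_sub, h, sub_eq_zero]
    rfl
  refine ⟨fun i => (e i).asIdeal, fun i => (e i).isMaximal, fun i j h => e.injective (MaximalSpectrum.ext h),
    fun I hI => ⟨e.symm ⟨I, hI⟩, congrArg MaximalSpectrum.asIdeal (e.apply_symm_apply _)⟩, fun i => hcomap _, fun i b => ?_, ?_⟩
  · obtain ⟨a, ha⟩ := hw.1 (e i) (Ideal.Quotient.mk _ b)
    obtain ⟨c, hc⟩ := hres.2 (residue A a)
    refine ⟨c, ?_⟩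
    have h1 := Ideal.Quotient.mk_eq_mk_iff_sub_mem _ _ |>.1 ha
    have h2 := hk (e i) a c hc.symm
    have := (e i).asIdeal.sub_mem h2 h1
    rwa [sub_sub_sub_cancel_left] at this
  · rintro b ⟨c, hc⟩
    refine hw.2 b ⟨algebraMap k A c, fun M => ?_⟩
    have h := hc (e.symm M)
    simp only [Equiv.apply_symm_apply] at h
    rwa [← IsScalarTower.algebraMap_apply k A ↥(integralClosure A (FractionRing A))]

set_option maxHeartbeats 800000 in
set_option synthInstance.maxHeartbeats 200000 in
theorem completion_multicross (k : Type u) [Field k] (A : Type u) [CommRing A] [IsLocalRing A] [Algebra k A] [IsReduced A]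
    (hdim : ringKrullDim A = 1) (hN : CAlg.IsNagata A)
    (hres : Function.Bijective (algebraMap k (ResidueField A)))
    (n : ℕ) (hn : Brnch.numBranches A = n) (hδ : Curv2.deltaInv A + 1 = n) :
    ∃ φ : AdicCompletion (maximalIdeal A) A →+* (Fin n → PowerSeries k),
      Function.Injective φ ∧
      (∀ c : k, φ (algebraMap A (AdicCompletion (maximalIdeal A) A) (algebraMap k A c)) =
        fun _ => algebraMap k (PowerSeries k) c) ∧
      Set.range φ = {f : Fin n → PowerSeries k | ∀ i j : Fin n,
        PowerSeries.constantCoeff (f i) = PowerSeries.constantCoeff (f j)} := by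
  obtain ⟨M, hM, hinj, hall, hcomap, hresM, hwedge⟩ := data k A hdim hN hres n hn hδ
  haveI := hM
  have hn0 : 0 < n := Nat.pos_of_ne_zero fun h => by simp [h] at hδ
  refine MultiCross3.multicross M hn0 hinj hall ?_ hcomap hresM hwedge fun i =>
    WedgeDVR3.dvr A hN hdim ⟨M i, hM i⟩
  intro a a' h
  exact IsFractionRing.injective A (FractionRing A) (congrArg Subtype.val h)

set_option maxHeartbeats 800000 in
set_option synthInstance.maxHeartbeats 200000 in
theorem finrank_cotangent (k : Type u) [Field k] (A : Type u) [CommRing A] [IsLocalRing A] [Algebra k A] [IsReduced A]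
    (hdim : ringKrullDim A = 1) (hN : CAlg.IsNagata A)
    (hres : Function.Bijective (algebraMap k (ResidueField A)))
    (n : ℕ) (hn : Brnch.numBranches A = n) (hδ : Curv2.deltaInv A + 1 = n) :
    Module.finrank (ResidueField A) (CotangentSpace A) = n := by
  obtain ⟨M, hM, hinj, hall, hcomap, hresM, hwedge⟩ := data k A hdim hN hres n hn hδ
  haveI := hM
  have hn0 : 0 < n := Nat.pos_of_ne_zero fun h => by simp [h] at hδ
  exact MultiCross3.finrank_cotangentSpace M hn0 hinj hall
    (fun a a' h => IsFractionRing.injective A (FractionRing A) (congrArg Subtype.val h)) hcomap hresM hwedge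
    fun i => WedgeDVR3.dvr A hN hdim ⟨M i, hM i⟩

end Groth.Agent.MultiCrossCurve3
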