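import Groth.Agent.Lib.MultiCrossCurve3
import Groth.Agent.Lib.Multicross5.Scheme
import Groth.Agent.Lib.ShStab28.Scalar

/-! Ordinary multiple points of curves. -/

set_option autoImplicit false
universe u

open CategoryTheory CategoryTheory.Limits AlgebraicGeometry

namespace Groth.Agent.MultiCrossScheme3

attribute [local instance] Curv2.stalkAlgebra

set_option maxHeartbeats 800000 in
set_option synthInstance.maxHeartbeats 200000 in
theorem deltaInv_add_one_eq_iff (k : Type u) [Field k] [IsAlgClosed k]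
    (X : Scheme.{u}) [X.Over (Spec (CommRingCat.of k))] [LocallyOfFiniteType (X ↘ (Spec (CommRingCat.of k)))] [IsReduced X]
    (hequi : ∀ Z ∈ irreducibleComponents (X : Type u), topologicalKrullDim Z = 1)
    (x : X) (hx : IsClosed ({x} : Set X)) (m : ℕ) (hm : Brnch.numBranchesAt X x = m) :
    (Curv2.deltaInv (X.presheaf.stalk x) + 1 = m ↔
      ∃ e : Curv2.cpl (X.presheaf.stalk x) ≃+* (MvPowerSeries (Fin m) k ⧸ Multicross5.mcIdeal k m),
        ∀ c : k, e (algebraMap (X.presheaf.stalk x) (Curv2.cpl (X.presheaf.stalk x)) (Curv2.stalkMap k X x c)) =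
          Ideal.Quotient.mk _ (MvPowerSeries.C c)) ∧
    (Curv2.deltaInv (X.presheaf.stalk x) + 1 = m →
      Module.finrank (IsLocalRing.ResidueField (X.presheaf.stalk x))
        (IsLocalRing.CotangentSpace (X.presheaf.stalk x)) = m) := by
  have hN := Multicross5.isNagata_stalk k (X := X) x
  have hdim := Multicross5.dim_stalk_eq_one k hequi hx
  have hres : Function.Bijective (algebraMap k (IsLocalRing.ResidueField (X.presheaf.stalk x))) :=
    ShStab28.bijective_const_residue k hx
  refine ⟨⟨fun hδ => ?_, fun ⟨e, _⟩ => (Multicross5.multicross k hN hdim m e).2⟩, fun hδ =>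
    MultiCrossCurve3.finrank_cotangent k _ hdim hN hres m hm hδ⟩
  have hm0 : 0 < m := Nat.pos_of_ne_zero fun h => by simp [h] at hδ
  obtain ⟨φ, hinj, hc, hr⟩ := MultiCrossCurve3.completion_multicross k _ hdim hN hres m hm hδ
  let g := Multicross5.mc k m
  have hsub : ∀ x, φ x ∈ g.range := fun x => by
    show φ x ∈ Set.range g
    rw [Multicross5.mc_range k m hm0, ← hr]
    exact ⟨x, rfl⟩
  let e2 := RingEquiv.ofBijective g.rangeRestrict
    ⟨fun a b h => Multicross5.mc_injective k m hm0 (congrArg Subtype.val h), g.rangeRestrict_surjective⟩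
  let e1 := RingEquiv.ofBijective (φ.codRestrict g.range hsub)
    ⟨fun a b h => hinj (congrArg Subtype.val h), fun z => by
      obtain ⟨a, ha⟩ := z.2
      have hz : z.1 ∈ Set.range φ := by
        rw [hr, ← Multicross5.mc_range k m hm0]; exact ⟨a, ha⟩
      obtain ⟨w, hw⟩ := hz
      exact ⟨w, Subtype.ext hw⟩⟩
  refine ⟨e1.trans e2.symm, fun c => ?_⟩
  rw [RingEquiv.trans_apply, RingEquiv.symm_apply_eq]
  exact Subtype.ext ((hc c).trans (Multicross5.mc_C k m c).symm)

end Groth.Agent.MultiCrossScheme3
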