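import Groth.Agent.Lib.AffPart25.Theorem
import Groth.Agent.Lib.BorelFix21.BaseChange
import Groth.Agent.Lib.BorelFix21.Stabilizer
import Groth.Agent.Lib.GrpAffKer19.Basic
import Groth.Agent.Lib.GrpDim20.Basic
import Groth.Agent.Lib.FormalH7.OshSurj
import Groth.Agent.Lib.CubeField.MulSurj
import Groth.Agent.Lib.CubeField.FinInst

/-! Groups killed by a positive integer are affine; power maps are affine. -/

set_option autoImplicit false
set_option linter.style.haveILetI false
set_option backward.isDefEq.respectTransparency false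
set_option backward.isDefEq.respectTransparency.types false

universe u

open CategoryTheory CategoryTheory.Limits MonoidalCategory CartesianMonoidalCategory MonObj AlgebraicGeometry
open Groth.Agent.WeilRes21 Groth.Agent.Chevalley25
open scoped CategoryTheory.Obj

noncomputable section

namespace Groth.Agent.NPowAff3

variable {k : Type u} [Field k]

theorem id_pow_comp {X Y : Over (Spec (CommRingCat.of k))} [GrpObj X] [GrpObj Y] (f : X ⟶ Y) [IsMonHom f] (n : ℕ) :
    ((𝟙 X : X ⟶ X) ^ n) ≫ f = f ^ n := by
  rw [MonObj.pow_comp, Category.id_comp]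

theorem killed_of_mono {X Y : Over (Spec (CommRingCat.of k))} [GrpObj X] [GrpObj Y] (f : X ⟶ Y) [IsMonHom f] [Mono f]
    {n : ℕ} (h : (𝟙 Y : Y ⟶ Y) ^ n = 1) : (𝟙 X : X ⟶ X) ^ n = 1 := by
  rw [← cancel_mono f, id_pow_comp, MonObj.one_comp]
  calc f ^ n = f ≫ ((𝟙 Y : Y ⟶ Y) ^ n) := by rw [MonObj.comp_pow, Category.comp_id]
    _ = 1 := by rw [h, MonObj.comp_one]

section AlgClosed

variable [IsAlgClosed k]

theorem isAffine_connected (G : Over (Spec (CommRingCat.of k))) [GrpObj G] [Smooth G.hom] [QuasiCompact G.hom]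
    [ConnectedSpace G.left] {n : ℕ} (hn : 0 < n) (hG : (𝟙 G : G ⟶ G) ^ n = 1) : IsAffine G.left := by
  obtain ⟨N, _, i, ⟨_, _, _, _, _, hN⟩, hmax⟩ := AffPart25.exists_largest G
  obtain ⟨A, _, q, _, _, _, _, hker, _, _, _⟩ := AffPart25.exists_chevalley G N i hN hmax
  haveI : QuasiCompact q.left := AlgGrpBasic19.quasiCompact_left q
  haveI := AlgGrpBasic19.epi_of_cover q
  have hA : (𝟙 A : A ⟶ A) ^ n = 1 := by
    rw [← cancel_epi q, MonObj.comp_pow, Category.comp_id, ← id_pow_comp, hG, MonObj.one_comp, MonObj.comp_one]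
  haveI := AbRigid.geometricallyReduced_of_smooth A.hom
  haveI : GeometricallyIntegral A.hom := AbRigid.geometricallyIntegral_of_connected A
  haveI hsurj : Surjective ((𝟙 A : A ⟶ A) ^ n).left := (CubeField.isFinite_surjective_pow CubeField.finH1 hn).2
  rw [hA, Hom.one_def, Over.comp_left] at hsurj
  haveI : Subsingleton A.left := by
    refine ⟨fun a b => ?_⟩
    obtain ⟨a, rfl⟩ := hsurj.surj a
    obtain ⟨b, rfl⟩ := hsurj.surj b
    simp only [Scheme.Hom.comp_apply]
    exact congrArg _ (Subsingleton.elim (α := PrimeSpectrum k) _ _)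
  haveI : IsAffine A.left := inferInstance
  exact AffPart25.isAffine_of_extension i q hker

theorem isAffine_of_killed (G : Over (Spec (CommRingCat.of k))) [GrpObj G] [LocallyOfFiniteType G.hom]
    [QuasiCompact G.hom] {n : ℕ} (hn : 0 < n) (hG : (𝟙 G : G ⟶ G) ^ n = 1) : IsAffine G.left := by
  obtain ⟨H, _, r, _, _, _, _, _⟩ := BorelFix21.exists_reduced_subgroup G
  haveI : Mono r := Over.mono_of_mono_left r
  haveI : QuasiCompact H.hom := by rw [← Over.w r]; infer_instance
  obtain ⟨H₀, _, j, _, _, _, _, _, _⟩ := Chevalley25.exists_neutral H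
  haveI : Mono j := Over.mono_of_mono_left j
  haveI : IsAffine H₀.left := isAffine_connected H₀ hn (killed_of_mono j (killed_of_mono r hG))
  haveI himm : ∀ h : specOver k k ⟶ H, IsOpenImmersion (j ≫ tau h).left := fun h => by
    rw [Over.comp_left]; infer_instance
  classical
  let T : (specOver k k ⟶ H) → H.left.Opens := fun h => (j ≫ tau h).left.opensRange
  have hcl : ∀ h, IsClosed ((T h : H.left.Opens) : Set H.left) := fun h => by
    haveI : IsClosedImmersion (j ≫ tau h).left := by rw [Over.comp_left]; infer_instance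
    simpa [T] using (j ≫ tau h).left.isClosedEmbedding.isClosed_range
  have heq : ∀ h, ∀ x ∈ T h, ((T h : H.left.Opens) : Set H.left) = connectedComponent x := fun h x hx => by
    have hc : _root_.IsPreconnected ((T h : H.left.Opens) : Set H.left) := by
      simpa [T] using isPreconnected_range (j ≫ tau h).left.continuous
    refine Set.Subset.antisymm (hc.subset_connectedComponent hx) ?_
    exact IsClopen.connectedComponent_subset ⟨hcl h, (T h).isOpen⟩ hx
  haveI : CompactSpace H.left := QuasiCompact.compactSpace_of_compactSpace H.hom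
  obtain ⟨s, hs⟩ := isCompact_univ.elim_finite_subcover (fun h => ((T h : H.left.Opens) : Set H.left))
    (fun h => (T h).isOpen) fun x _ => by
      obtain ⟨h, y, hy⟩ := Chevalley25.exists_translate H j x
      exact Set.mem_iUnion.2 ⟨h, ⟨y, hy⟩⟩
  have htop : IsAffineOpen (⨆ U : ↥(s.image T), (U : H.left.Opens)) := by
    refine IsAffineOpen.iSup_of_disjoint (fun U => ?_) fun U V hUV => ?_
    · obtain ⟨h, -, hh⟩ := Finset.mem_image.1 U.2
      rw [← hh]
      exact isAffineOpen_opensRange _
    · rw [Function.onFun, ← TopologicalSpace.Opens.coe_disjoint, Set.disjoint_left]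
      intro x hxU hxV
      obtain ⟨h, -, hh⟩ := Finset.mem_image.1 U.2
      obtain ⟨h', -, hh'⟩ := Finset.mem_image.1 V.2
      refine hUV (Subtype.ext ?_)
      rw [← hh] at hxU ⊢
      rw [← hh'] at hxV ⊢
      exact SetLike.coe_injective ((heq h x hxU).trans (heq h' x hxV).symm)
  have hsup : (⨆ U : ↥(s.image T), (U : H.left.Opens)) = ⊤ := top_le_iff.1 fun x _ => by
    obtain ⟨h, hh, hx⟩ := Set.mem_iUnion₂.1 (hs (Set.mem_univ x))
    exact TopologicalSpace.Opens.mem_iSup.2 ⟨⟨T h, Finset.mem_image_of_mem _ hh⟩, hx⟩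
  haveI : IsAffine H.left := by
    rw [hsup] at htop
    haveI : IsAffine ((⊤ : H.left.Opens) : Scheme) := htop
    exact .of_isIso H.left.topIso.inv
  haveI : IsLocallyNoetherian G.left := LocallyOfFiniteType.isLocallyNoetherian G.hom
  refine FormalH7.isAffine_of_locally_nilpotent r.left fun V => ?_
  haveI : IsNoetherianRing Γ(G.left, V.1) := IsLocallyNoetherian.component_noetherian V
  refine (Ideal.FG.isNilpotent_iff_le_nilradical (IsNoetherian.noetherian _)).2 ?_
  have hle : r.left.ker.support = ⊤ := by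
    rw [← top_le_iff]
    intro x _
    obtain ⟨y, rfl⟩ := r.left.surjective x
    exact r.left.range_subset_ker_support ⟨y, rfl⟩
  have hle' : r.left.ker ≤ G.left.nilradical := by
    rw [← Scheme.IdealSheafData.vanishingIdeal_top, ← hle, Scheme.IdealSheafData.vanishingIdeal_support]
    exact Scheme.IdealSheafData.le_radical _
  refine (hle' V).trans_eq ?_
  rfl

end AlgClosed

set_option synthInstance.maxHeartbeats 200000 in
theorem isAffine_kernel (G : Over (Spec (CommRingCat.of k))) [GrpObj G] [LocallyOfFiniteType G.hom]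
    [QuasiCompact G.hom] {n : ℕ} (hn : 0 < n) (hG : (𝟙 G : G ⟶ G) ^ n = 1) : IsAffine G.left := by
  let φ : Spec (CommRingCat.of (AlgebraicClosure k)) ⟶ Spec (CommRingCat.of k) :=
    Spec.map (CommRingCat.ofHom (algebraMap k (AlgebraicClosure k)))
  haveI : IsSeparated G.hom := AbRigid.isSeparated_of_grpObj G
  haveI : Flat φ := by
    rw [HasRingHomProperty.Spec_iff (P := @Flat)]
    exact RingHom.flat_algebraMap_iff.2 inferInstance
  haveI : Surjective φ := ⟨fun x => ⟨IsLocalRing.closedPoint _, Subsingleton.elim (α := PrimeSpectrum k) _ _⟩⟩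
  let GK := (Over.pullback φ).obj G
  letI : GrpObj GK := inferInstanceAs (GrpObj ((Over.pullback φ).obj G))
  haveI : LocallyOfFiniteType GK.hom := inferInstanceAs (LocallyOfFiniteType (pullback.snd G.hom φ))
  haveI : QuasiCompact GK.hom := inferInstanceAs (QuasiCompact (pullback.snd G.hom φ))
  have hK : (𝟙 GK : GK ⟶ GK) ^ n = 1 := by
    have h : ∀ m : ℕ, (Over.pullback φ).map ((𝟙 G : G ⟶ G) ^ m) = (𝟙 GK : GK ⟶ GK) ^ m := by
      intro m
      induction m with
      | zero => rw [pow_zero, pow_zero, CategoryTheory.Functor.map_one]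
      | succ m ih => rw [pow_succ, pow_succ, CategoryTheory.Functor.map_mul, ih, CategoryTheory.Functor.map_id]
    rw [← h, hG, CategoryTheory.Functor.map_one]
  haveI : IsAffine (pullback G.hom φ) := isAffine_of_killed GK hn hK
  haveI : IsAffineHom (pullback.snd G.hom φ) := inferInstance
  exact FlatDesc26.isAffine_of_flat_cover G.hom φ

theorem isAffineHom_pow (G : Over (Spec (CommRingCat.of k))) [GrpObj G] [IsCommMonObj G]
    [LocallyOfFiniteType G.hom] [QuasiCompact G.hom] {n : ℕ} (hn : 0 < n) :
    IsAffineHom ((𝟙 G : G ⟶ G) ^ n).left := by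
  let f : G ⟶ G := 𝟙 G ^ n
  haveI : IsMonHom f := by
    refine ⟨?_, ?_⟩
    · rw [MonObj.comp_pow, Category.comp_id, one_eq_one, one_pow]
    · rw [MonObj.comp_pow, Category.comp_id, ← lift_fst_comp_snd_comp, ← Hom.mul_def, MonObj.comp_pow,
        MonObj.comp_pow, Category.comp_id, Category.comp_id, ← mul_pow]
      congr 1
      rw [Hom.mul_def, lift_fst_snd, Category.id_comp]
  haveI : IsSeparated G.hom := AbRigid.isSeparated_of_grpObj G
  haveI : QuasiCompact (f.left ≫ G.hom) := by rw [Over.w]; infer_instance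
  haveI : QuasiCompact f.left := QuasiCompact.of_comp f.left G.hom
  refine GrpAffKer19.isAffineHom_of_isAffine_kernel f ?_
  let K := pullback f η[G]
  let j : K ⟶ G := pullback.fst f η[G]
  have hN : IsPullback j (toUnit K) f η[G] := by
    rw [toUnit_unique (toUnit K) (pullback.snd f η[G])]
    exact IsPullback.of_hasPullback _ _
  obtain ⟨_, hj⟩ := GrpDim20.exists_grpObj_kernel f j hN
  haveI : IsClosedImmersion η[G].left :=
    isClosedImmersion_of_comp_eq_id (Y := Spec (CommRingCat.of k)) G.hom η[G].left (by simp)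
  have hs : IsPullback j.left (toUnit K).left f.left η[G].left := (Over.forget _).map_isPullback hN
  haveI : IsClosedImmersion j.left := MorphismProperty.of_isPullback (P := @IsClosedImmersion) hs.flip ‹_›
  haveI : Mono j := Over.mono_of_mono_left j
  haveI : LocallyOfFiniteType K.hom := by rw [← Over.w j]; infer_instance
  haveI : QuasiCompact K.hom := by rw [← Over.w j]; infer_instance
  refine isAffine_kernel K hn ?_
  rw [← cancel_mono j, id_pow_comp, MonObj.one_comp]
  calc j ^ n = j ≫ f := by rw [show f = (𝟙 G : G ⟶ G) ^ n from rfl, MonObj.comp_pow, Category.comp_id]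
    _ = 1 := by rw [hN.w, Hom.one_def]

end Groth.Agent.NPowAff3
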