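import Groth.Agent.Lib.NumPoly18.Pullback
import Groth.Agent.Lib.NumPoly18.Chow
import Groth.Agent.Lib.NumPoly18.NefApps
import Groth.Agent.Lib.CohBC18.Field
import Groth.Agent.Lib.CurveLocus.GeomFibre
import Groth.Agent.Lib.TensorMod.PullTensor
import Groth.Agent.Lib.TensorMod.PullSupport
import Groth.Agent.Lib.ModM1.Pull
import Groth.Agent.Lib.Ample18.Ample

/-!
# Nefness and extension of the base field
-/

set_option autoImplicit false
set_option linter.style.haveILetI false
set_option linter.unusedSectionVars false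
set_option maxHeartbeats 800000
set_option backward.isDefEq.respectTransparency false

universe u

open CategoryTheory CategoryTheory.Limits AlgebraicGeometry TopologicalSpace Opposite

namespace Groth.Agent.NefBC1

open Groth.Agent Groth.Agent.NumPoly18

variable {k : Type u} [Field k] (k' : Type u) [Field k'] [Algebra k k']
  (X : Scheme.{u}) [X.Over (Spec (CommRingCat.of k))] [IsProper (X ↘ Spec (CommRingCat.of k))]

/-- The structure map of the extension. -/
@[reducible] noncomputable def overBC : (Curv2.bc k X k').Over (Spec (CommRingCat.of k')) := ⟨Curv2.bcSnd k X k'⟩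

theorem isProper_bcSnd : IsProper (Curv2.bcSnd k X k') := by
  unfold Curv2.bcSnd; infer_instance

theorem isAffineHom_bcFst : IsAffineHom (Curv2.bcFst k X k') := by
  unfold Curv2.bcFst
  exact MorphismProperty.pullback_fst _ _ inferInstance

theorem nef_bc_of_ample {A : X.Modules} (hA : CohB1.IsAmple A) {L : X.Modules} (hL : PicF.IsInvertible L)
    (h : Nef k L) :
    letI := overBC (k := k) k' X
    Nef k' ((Scheme.Modules.pullback (Curv2.bcFst k X k')).obj L) := by
  letI := overBC (k := k) k' X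
  haveI : IsProper (Curv2.bc k X k' ↘ Spec (CommRingCat.of k')) := isProper_bcSnd k' X
  haveI := isAffineHom_bcFst (k := k) k' X
  refine nef_of_forall_tensorPow_tensor (PicLoc.isInvertible_pullback (Curv2.bcFst k X k') hA.1) (PicLoc.isInvertible_pullback _ hL)
    fun ν _ => ?_
  have hamp : CohB1.IsAmple (CohB1.tensorMod (CohB1.tensorPow L ν) A) :=
    Amp.isAmple_of_iso (M2.tensorComm _ _) (isAmple_tensor_of_nef (k := k) hA (M2.isInvertible_tensorPow hL ν) (h.pow hL ν))
  refine (nef_of_isAmple (Amp.isAmple_pullback_of_isAffineHom (Curv2.bcFst k X k') hamp)).of_iso ?_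
  exact M2.pullTensorIso _ _ _ ≪≫ M2.tensorIso (M2.pullTensorPowIso _ _ ν) (Iso.refl _)

/-- Nefness passes to an extension of the base field. -/
theorem nef_bc {L : X.Modules} (hL : PicF.IsInvertible L) (h : Nef k L) :
    letI := overBC (k := k) k' X
    Nef k' ((Scheme.Modules.pullback (Curv2.bcFst k X k')).obj L) := by
  letI := overBC (k := k) k' X
  haveI : IsProper (Curv2.bc k X k' ↘ Spec (CommRingCat.of k')) := isProper_bcSnd k' X
  intro ξ hξ
  let η := Curv2.bcFst k X k' ξ
  obtain ⟨hZ, -⟩ := isIntegral_pt η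
  let ι := (ptIdeal η).subschemeι
  letI : (ptIdeal η).subscheme.Over (Spec (CommRingCat.of k)) := ⟨ι ≫ (X ↘ Spec (CommRingCat.of k))⟩
  haveI : IsProper ((ptIdeal η).subscheme ↘ Spec (CommRingCat.of k)) :=
    inferInstanceAs (IsProper (ι ≫ (X ↘ Spec (CommRingCat.of k))))
  haveI := hZ
  obtain ⟨Z, str, hZp, hZi, ⟨A, hA⟩, π, _, hπ, hπη, -⟩ := exists_projective_model k (ptIdeal η).subscheme
  letI : Z.Over (Spec (CommRingCat.of k)) := ⟨str⟩
  haveI : IsProper (Z ↘ Spec (CommRingCat.of k)) := hZp
  haveI : IsProper π := by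
    haveI : IsProper (π ≫ ((ptIdeal η).subscheme ↘ Spec (CommRingCat.of k))) := by rw [hπ]; exact hZp
    exact IsProper.of_comp π ((ptIdeal η).subscheme ↘ Spec (CommRingCat.of k))
  haveI : Surjective π := ⟨fun y => by
    obtain ⟨z, -, hz⟩ : y ∈ π '' Set.univ :=
      (π.isClosedMap _ isClosed_univ).closure_subset_iff.2
        (Set.singleton_subset_iff.2 ⟨genericPoint Z, trivial, hπη⟩) (genericPoint_specializes y).mem_closure
    exact ⟨z, hz⟩⟩
  let g : Z ⟶ X := π ≫ ι
  have hg : g ≫ (X ↘ Spec (CommRingCat.of k)) = Z ↘ Spec (CommRingCat.of k) := by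
    show (π ≫ ι) ≫ _ = str
    rw [Category.assoc]; exact hπ
  have hgL : PicF.IsInvertible ((Scheme.Modules.pullback g).obj L) := PicLoc.isInvertible_pullback g hL
  have hnef : Nef k ((Scheme.Modules.pullback g).obj L) := fun ζ hζ => by
    rcases cdeg_pullback (k := k) g hg hζ with ⟨h0, -⟩ | ⟨h1, c, -, hc⟩
    · exact (h0 L hL).ge
    · rw [hc L hL]; exact mul_nonneg (Nat.cast_nonneg c) (h _ h1)
  letI := overBC (k := k) k' Z
  haveI : IsProper (Curv2.bc k Z k' ↘ Spec (CommRingCat.of k')) := isProper_bcSnd k' Z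
  have hnef' := nef_bc_of_ample (k := k) k' Z hA hgL hnef
  let g' : Curv2.bc k Z k' ⟶ Curv2.bc k X k' :=
    pullback.lift (Curv2.bcFst k Z k' ≫ g) (Curv2.bcSnd k Z k') (by
      rw [Category.assoc, hg]; exact pullback.condition)
  have hg1 : g' ≫ Curv2.bcFst k X k' = Curv2.bcFst k Z k' ≫ g := pullback.lift_fst _ _ _
  have hg2 : g' ≫ Curv2.bcSnd k X k' = Curv2.bcSnd k Z k' := pullback.lift_snd _ _ _
  -- the part of the extension over `η`
  let W := pullback (Curv2.bcFst k X k') ι
  let a : W ⟶ Curv2.bc k X k' := pullback.fst _ _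
  letI : W.Over (Spec (CommRingCat.of k')) := ⟨a ≫ Curv2.bcSnd k X k'⟩
  haveI : IsClosedImmersion a := MorphismProperty.pullback_fst _ _ inferInstance
  haveI : IsProper (W ↘ Spec (CommRingCat.of k')) := by
    haveI := isProper_bcSnd (k := k) k' X
    exact inferInstanceAs (IsProper (a ≫ Curv2.bcSnd k X k'))
  let b : Curv2.bc k Z k' ⟶ W := pullback.lift g' (Curv2.bcFst k Z k' ≫ π) (by
    rw [hg1, Category.assoc])
  have hba : b ≫ a = g' := pullback.lift_fst _ _ _
  have hsq : IsPullback b (Curv2.bcFst k Z k') (pullback.snd (Curv2.bcFst k X k') ι) π := by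
    have hX : IsPullback (Curv2.bcFst k X k') (Curv2.bcSnd k X k') (X ↘ Spec (CommRingCat.of k))
        (Spec.map (CommRingCat.ofHom (algebraMap k k'))) := IsPullback.of_hasPullback _ _
    have hZ' : IsPullback (Curv2.bcFst k Z k') (Curv2.bcSnd k Z k') (Z ↘ Spec (CommRingCat.of k))
        (Spec.map (CommRingCat.ofHom (algebraMap k k'))) := IsPullback.of_hasPullback _ _
    rw [← hg, ← hg2] at hZ'
    have h1 : IsPullback (Curv2.bcFst k Z k') g' g (Curv2.bcFst k X k') :=
      IsPullback.of_bot hZ' hg1.symm hX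
    rw [← hba] at h1
    exact (IsPullback.of_bot h1 (pullback.lift_snd _ _ _).symm
      (IsPullback.of_hasPullback (Curv2.bcFst k X k') ι).flip).flip
  haveI : Surjective b := MorphismProperty.of_isPullback hsq.flip inferInstance
  obtain ⟨w, hw⟩ : ξ ∈ Set.range a := by
    rw [Scheme.Pullback.range_fst]
    exact (range_ptι η).ge (subset_closure rfl)
  have hwd : topologicalKrullDim (closure ({w} : Set W)) = 1 := by
    rw [← hξ, ← hw]
    have e : a '' closure {w} = closure {a w} := by
      rw [← a.isClosedEmbedding.closure_image_eq, Set.image_singleton]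
    exact (((a.isClosedEmbedding.isEmbedding.homeomorphImage (closure {w})).trans (Homeomorph.setCongr e)).isHomeomorph.topologicalKrullDim_eq _)
  obtain ⟨ζ, hζ, hbζ⟩ := exists_curve_over (k := k') b (by
    show b ≫ a ≫ Curv2.bcSnd k X k' = Curv2.bcSnd k Z k'
    rw [← Category.assoc, hba, hg2]) hwd
  have hgζ : g' ζ = ξ := by rw [← hba, Scheme.Hom.comp_apply, hbζ, hw]
  rcases cdeg_pullback (k := k') g' hg2 hζ with ⟨-, hcl⟩ | ⟨-, c, hc0, hc⟩
  · rw [hgζ] at hcl
    exact absurd hcl (not_isClosed_of_dim_one hξ)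
  have h2 : 0 ≤ cdeg k' ((Scheme.Modules.pullback g').obj ((Scheme.Modules.pullback (Curv2.bcFst k X k')).obj L)) (ptMod ζ) := (hnef'.of_iso ((Scheme.Modules.pullbackComp (Curv2.bcFst k Z k') g).app L ≪≫
    (Scheme.Modules.pullbackCongr hg1.symm).app L ≪≫
    ((Scheme.Modules.pullbackComp g' (Curv2.bcFst k X k')).app L).symm)) ζ hζ
  rw [hc _ (PicLoc.isInvertible_pullback _ hL), hgζ] at h2
  exact nonneg_of_mul_nonneg_right h2 (Nat.cast_pos.2 hc0)

/-- Nefness descends along an extension of the base field. -/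
theorem nef_of_bc {L : X.Modules} (hL : PicF.IsInvertible L)
    (h : letI := overBC (k := k) k' X
      Nef k' ((Scheme.Modules.pullback (Curv2.bcFst k X k')).obj L)) : Nef k L := by
  letI := overBC (k := k) k' X
  haveI : IsProper (Curv2.bc k X k' ↘ Spec (CommRingCat.of k')) := isProper_bcSnd k' X
  haveI : IsNoetherian X := CohFound.isNoetherian_of_isProper (X ↘ (Spec (CommRingCat.of k)))
  haveI : IsNoetherian (Curv2.bc k X k') := CohFound.isNoetherian_of_isProper (Curv2.bc k X k' ↘ Spec (CommRingCat.of k'))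
  intro ξ hξ
  have hF := isCoh_ptMod ξ
  have hT : Coh.IsCoh (CohB1.tensorMod (ptMod ξ) L) := CurveCoh17.isCoh_tensor hF (Snapper.isCoh_of_isInvertible hL)
  let F' := (Scheme.Modules.pullback (Curv2.bcFst k X k')).obj (ptMod ξ)
  have hd : topologicalKrullDim (CohB1.support F') ≤ 1 := by
    have hs : CohB1.support F' ⊆ (Curv2.bcFst k X k') ⁻¹' closure {ξ} := by
      rw [M2.support_pullback _ hF.1 hF.2]
      exact Set.preimage_mono (support_ptMod ξ)
    refine Snapper.dim_le_of_subset hs ?_
    let ι := (ptIdeal ξ).subschemeι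
    let a : pullback (Curv2.bcFst k X k') ι ⟶ Curv2.bc k X k' := pullback.fst _ _
    haveI : IsClosedImmersion a := MorphismProperty.pullback_fst _ _ inferInstance
    have hr : Set.range a = (Curv2.bcFst k X k') ⁻¹' closure {ξ} := by
      rw [Scheme.Pullback.range_fst, range_ptι]
    have e := ((a.isClosedEmbedding.isEmbedding.toHomeomorph).trans (Homeomorph.setCongr hr)).isHomeomorph.topologicalKrullDim_eq _
    have sq : IsPullback (pullback.snd (Curv2.bcFst k X k') ι) (a ≫ Curv2.bcSnd k X k')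
        (ι ≫ (X ↘ Spec (CommRingCat.of k))) (Spec.map (CommRingCat.ofHom (algebraMap k k'))) :=
      (IsPullback.of_hasPullback (Curv2.bcFst k X k') ι).flip.paste_vert (IsPullback.of_hasPullback _ _)
    rw [← e, CurveLocus.topologicalKrullDim_bc _ sq, AmpleFin18.dim_subscheme _ (Scheme.IdealSheafData.coe_support_vanishingIdeal _)]
    exact hξ.le
  have h0 := cdeg_nonneg_of_nef (PicLoc.isInvertible_pullback _ hL) h (M1.isCoh_pullback _ hF) hd
  rw [cdeg_eq, CurveCoh17.euler_iso (M2.pullTensorIso (Curv2.bcFst k X k') (ptMod ξ) L).symm,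
    CohBC18.euler_bc X k' _ hT.1, CohBC18.euler_bc X k' _ hF.1] at h0
  rwa [cdeg_eq]

end Groth.Agent.NefBC1
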