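import Groth.Agent.Lib.StabUniq18.Stalk
import Groth.Agent.Lib.IntMult26.Local
import Groth.Agent.Lib.DivDesc12.Sheaf
import Groth.Agent.Lib.H0Comp5.Main
import Groth.Agent.Lib.CurveH1Min27.GorApps
import Mathlib.RingTheory.Ideal.MinimalPrime.Basic
import Mathlib.RingTheory.Finiteness.Prod

/-!
# Two subcurves of a nodal curve meet in reduced points
-/

set_option autoImplicit false
set_option linter.style.haveILetI false
set_option backward.isDefEq.respectTransparency false
set_option backward.isDefEq.respectTransparency.types false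

universe u

open CategoryTheory CategoryTheory.Limits AlgebraicGeometry TopologicalSpace Opposite

namespace Groth.Agent.NodeMeet1

open Groth.Agent
open scoped nonZeroDivisors

/-- Two complementary ideals of a mildly singular local ring span the maximal ideal. -/
theorem sup_eq_maximalIdeal {R : Type u} [CommRing R] [IsLocalRing R] (hm : StabUniq18.MildSing R)
    {I J : Ideal R} (hI : I ≤ IsLocalRing.maximalIdeal R) (hJ : J ≤ IsLocalRing.maximalIdeal R)
    (hIJ : I ⊓ J = ⊥) {s : R} (hs : s ∈ R⁰) (hsm : s ∈ I ⊔ J)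
    (hsI : ∀ b, s * b ∈ I → b ∈ I) (hsJ : ∀ b, s * b ∈ J → b ∈ J) : I ⊔ J = IsLocalRing.maximalIdeal R := by
  refine le_antisymm (sup_le hI hJ) fun a ha => ?_
  obtain ⟨i, hi, j, hj, rfl⟩ := Submodule.mem_sup.1 hsm
  haveI : Module.Finite R (R ⧸ I) := Module.Finite.of_surjective (Algebra.linearMap R (R ⧸ I)) Ideal.Quotient.mk_surjective
  haveI : Module.Finite R (R ⧸ J) := Module.Finite.of_surjective (Algebra.linearMap R (R ⧸ J)) Ideal.Quotient.mk_surjective
  have mem0 : ∀ r : R, r ∈ I → r ∈ J → r = 0 := fun r h1 h2 => by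
    have h : r ∈ I ⊓ J := ⟨h1, h2⟩
    rw [hIJ] at h
    exact h
  have hinj : Function.Injective (algebraMap R ((R ⧸ I) × (R ⧸ J))) :=
    (injective_iff_map_eq_zero _).2 fun r hr =>
      mem0 r (Ideal.Quotient.eq_zero_iff_mem.1 (congrArg Prod.fst hr))
        (Ideal.Quotient.eq_zero_iff_mem.1 (congrArg Prod.snd hr))
  have hB : ∀ b : (R ⧸ I) × (R ⧸ J), ∃ r : R, algebraMap R ((R ⧸ I) × (R ⧸ J)) r = (i + j) • b := by
    rintro ⟨b, c⟩
    obtain ⟨b, rfl⟩ := Ideal.Quotient.mk_surjective b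
    obtain ⟨c, rfl⟩ := Ideal.Quotient.mk_surjective c
    refine ⟨j * b + i * c, Prod.ext (Ideal.Quotient.eq.2 ?_) (Ideal.Quotient.eq.2 ?_)⟩
    · show j * b + i * c - (i + j) * b ∈ I
      rw [show j * b + i * c - (i + j) * b = i * (c - b) by ring]
      exact I.mul_mem_right _ hi
    · show j * b + i * c - (i + j) * c ∈ J
      rw [show j * b + i * c - (i + j) * c = j * (b - c) by ring]
      exact J.mul_mem_right _ hj
  have hreg : ∀ b : (R ⧸ I) × (R ⧸ J), (i + j) • b = 0 → b = 0 := by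
    rintro ⟨b, c⟩ h
    obtain ⟨b, rfl⟩ := Ideal.Quotient.mk_surjective b
    obtain ⟨c, rfl⟩ := Ideal.Quotient.mk_surjective c
    have hb : (i + j) * b ∈ I := Ideal.Quotient.eq_zero_iff_mem.1 (congrArg Prod.fst h)
    have hc : (i + j) * c ∈ J := Ideal.Quotient.eq_zero_iff_mem.1 (congrArg Prod.snd h)
    exact Prod.ext (Ideal.Quotient.eq_zero_iff_mem.2 (hsI _ hb))
      (Ideal.Quotient.eq_zero_iff_mem.2 (hsJ _ hc))
  let S : Submodule R ((R ⧸ I) × (R ⧸ J)) :=
    LinearMap.range (Algebra.linearMap R ((R ⧸ I) × (R ⧸ J))) ⊔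
      Submodule.map ((LinearMap.inl R (R ⧸ I) (R ⧸ J)).comp (Submodule.mkQ I)) (IsLocalRing.maximalIdeal R)
  rcases StabUniq18.dich_B hinj hs hB hreg hm S le_sup_left with h | h
  · have hmem : ((Ideal.Quotient.mk I a, 0) : (R ⧸ I) × (R ⧸ J)) ∈ S := Submodule.mem_sup_right ⟨a, ha, rfl⟩
    rw [h] at hmem
    obtain ⟨r, hr⟩ := hmem
    have h1 : r - a ∈ I := Ideal.Quotient.eq.1 (congrArg Prod.fst hr)
    have h2 : r ∈ J := Ideal.Quotient.eq_zero_iff_mem.1 (congrArg Prod.snd hr)
    exact Submodule.mem_sup.2 ⟨-(r - a), I.neg_mem h1, r, h2, by ring⟩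
  · have hmem : ((1, 0) : (R ⧸ I) × (R ⧸ J)) ∈ S := h ▸ Submodule.mem_top
    obtain ⟨_, ⟨r, rfl⟩, _, ⟨m, hm', rfl⟩, he⟩ := Submodule.mem_sup.1 hmem
    have h1 : r + m - 1 ∈ I := Ideal.Quotient.eq.1 (by
      rw [map_add, map_one]; exact congrArg Prod.fst he)
    have h2 : r ∈ J := Ideal.Quotient.eq_zero_iff_mem.1 (by
      have := congrArg Prod.snd he
      simpa using this)
    refine absurd ((Ideal.eq_top_iff_one _).2 ?_) (IsLocalRing.maximalIdeal.isMaximal R).ne_top
    have h3 := (IsLocalRing.maximalIdeal R).sub_mem ((IsLocalRing.maximalIdeal R).add_mem (hJ h2) hm') (hI h1)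
    rwa [show r + m - (r + m - 1) = 1 by ring] at h3

variable {X : Scheme.{u}}

/-- A generalisation inside the support gives a prime containing the stalk of the ideal. -/
theorem stalkIdeal_le_of_mem_support (I : X.IdealSheafData) {x : X} (hx : x ∈ I.support)
    (p : Spec (X.presheaf.stalk x)) (hp : X.fromSpecStalk x p ∈ I.support) :
    IntMult.stalkIdeal I x ≤ p.asIdeal := by
  obtain ⟨z, rfl⟩ : x ∈ Set.range I.subschemeι := I.range_subschemeι ▸ hx
  obtain ⟨w, hw⟩ : X.fromSpecStalk (I.subschemeι z) p ∈ Set.range I.subschemeι := I.range_subschemeι ▸ hp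
  have hwz : w ⤳ z := by
    rw [← I.subschemeι.isClosedEmbedding.isInducing.specializes_iff, hw]
    have : X.fromSpecStalk (I.subschemeι z) p ∈ {y | y ⤳ I.subschemeι z} :=
      Scheme.range_fromSpecStalk ▸ Set.mem_range_self p
    exact this
  obtain ⟨q, rfl⟩ : w ∈ Set.range (I.subscheme.fromSpecStalk z) := by
    rw [Scheme.range_fromSpecStalk]; exact hwz
  have h := congrArg (fun φ : Spec (I.subscheme.presheaf.stalk z) ⟶ X => φ q)
    (Scheme.SpecMap_stalkMap_fromSpecStalk I.subschemeι (x := z))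
  simp only [Scheme.Hom.comp_apply] at h
  rw [hw] at h
  have hpq : Spec.map (I.subschemeι.stalkMap z) q = p :=
    (X.fromSpecStalk (I.subschemeι z)).isEmbedding.injective h
  rw [IntMult26.stalkIdeal_eq_ker, ← hpq]
  intro r hr
  show (I.subschemeι.stalkMap z).hom r ∈ q.asIdeal
  rw [RingHom.mem_ker.1 hr]
  exact q.asIdeal.zero_mem

theorem stalkIdeal_sup (I J : X.IdealSheafData) (x : X) :
    IntMult.stalkIdeal (I ⊔ J) x = IntMult.stalkIdeal I x ⊔ IntMult.stalkIdeal J x := by
  obtain ⟨U, hU, hx⟩ := DivDesc12.exists_affine x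
  change DivDesc12.stI (I ⊔ J) x = DivDesc12.stI I x ⊔ DivDesc12.stI J x
  rw [DivDesc12.stI_eq _ ⟨U, hU⟩ hx, DivDesc12.stI_eq I ⟨U, hU⟩ hx, DivDesc12.stI_eq J ⟨U, hU⟩ hx,
    Scheme.IdealSheafData.ideal_sup, Pi.sup_apply, Ideal.map_sup]

open Groth.Agent.CurveH1Min27 (vI meet IsComplSub)

/-- Ideals of two closed sets covering a reduced scheme meet in zero. -/
theorem stalk_inf_eq_bot [AlgebraicGeometry.IsReduced X] {T T' : Set X} (hT : IsClosed T) (hT' : IsClosed T')
    (hcov : T ∪ T' = Set.univ) (x : X) :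
    IntMult.stalkIdeal (vI T hT) x ⊓ IntMult.stalkIdeal (vI T' hT') x = ⊥ := by
  have hle : ∀ {A : Set X} (hA : IsClosed A) (p : Spec (X.presheaf.stalk x)), X.fromSpecStalk x p ∈ A →
      IntMult.stalkIdeal (vI A hA) x ≤ p.asIdeal := fun {A} hA p hp => by
    have hs : ((vI A hA).support : Set X) = A := Scheme.IdealSheafData.coe_support_vanishingIdeal _
    have hsp : X.fromSpecStalk x p ⤳ x := by
      have : X.fromSpecStalk x p ∈ {y | y ⤳ x} := Scheme.range_fromSpecStalk ▸ Set.mem_range_self p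
      exact this
    exact stalkIdeal_le_of_mem_support _ (hs.ge (hsp.mem_closed hA hp)) p (hs.ge hp)
  refine le_bot_iff.1 fun r hr => ?_
  have hnil : IsNilpotent r := nilpotent_iff_mem_prime.2 fun P hP => by
    rcases (hcov.ge (Set.mem_univ (X.fromSpecStalk x (⟨P, hP⟩ : PrimeSpectrum _)))) with h | h
    · exact hle hT ⟨P, hP⟩ h hr.1
    · exact hle hT' ⟨P, hP⟩ h hr.2
  exact hnil.eq_zero

/-- At a mildly singular point two complementary subcurves span the maximal ideal. -/
theorem stalk_sup_eq_maximal [AlgebraicGeometry.IsReduced X] [IsLocallyNoetherian X] {T T' : Set X} (hT : IsClosed T)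
    (hT' : IsClosed T') (hgT : TFOne27.GenClosed T) (hgT' : TFOne27.GenClosed T') (hcov : T ∪ T' = Set.univ)
    (hdis : ∀ η ∈ genericPoints (X : Type u), ¬ (η ∈ T ∧ η ∈ T')) {x : X} (hx : x ∈ T ∩ T')
    (hm : StabUniq18.MildSing (X.presheaf.stalk x)) :
    IntMult.stalkIdeal (vI T hT) x ⊔ IntMult.stalkIdeal (vI T' hT') x =
      IsLocalRing.maximalIdeal (X.presheaf.stalk x) := by
  have hsT : ((vI T hT).support : Set X) = T := Scheme.IdealSheafData.coe_support_vanishingIdeal _
  have hsT' : ((vI T' hT').support : Set X) = T' := Scheme.IdealSheafData.coe_support_vanishingIdeal _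
  have hxT : x ∈ (vI T hT).support := hsT.ge hx.1
  have hxT' : x ∈ (vI T' hT').support := hsT'.ge hx.2
  set R := X.presheaf.stalk x
  set I := IntMult.stalkIdeal (vI T hT) x
  set J := IntMult.stalkIdeal (vI T' hT') x
  have hle : ∀ p : Spec R, X.fromSpecStalk x p ∈ T → I ≤ p.asIdeal := fun p hp =>
    stalkIdeal_le_of_mem_support _ hxT p (hsT.ge hp)
  have hle' : ∀ p : Spec R, X.fromSpecStalk x p ∈ T' → J ≤ p.asIdeal := fun p hp =>
    stalkIdeal_le_of_mem_support _ hxT' p (hsT'.ge hp)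
  have hm0 : X.fromSpecStalk x (IsLocalRing.closedPoint R) = x := Scheme.fromSpecStalk_closedPoint
  have hI0 : I ≤ IsLocalRing.maximalIdeal R := hle _ (by rw [hm0]; exact hx.1)
  have hJ0 : J ≤ IsLocalRing.maximalIdeal R := hle' _ (by rw [hm0]; exact hx.2)
  have hIJ : I ⊓ J = ⊥ := stalk_inf_eq_bot hT hT' hcov x
  have hmin : ¬ ∃ P ∈ minimalPrimes R, I ⊔ J ≤ P := by
    rintro ⟨P, hP, hle2⟩
    haveI hPp : P.IsPrime := hP.1.1
    have h1 := IntMult26.fromSpecStalk_mem_support _ hxT ⟨P, hPp⟩ (le_sup_left.trans hle2)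
    have h2 := IntMult26.fromSpecStalk_mem_support _ hxT' ⟨P, hPp⟩ (le_sup_right.trans hle2)
    refine hdis _ (TFOne27.mem_genericPoints.mpr fun ξ hξ => ?_) ⟨hsT.le h1, hsT'.le h2⟩
    obtain ⟨q, rfl⟩ : ξ ∈ Set.range (X.fromSpecStalk x) := by
      rw [Scheme.range_fromSpecStalk]
      refine hξ.trans ?_
      have : X.fromSpecStalk x (⟨P, hPp⟩ : PrimeSpectrum R) ∈ {y | y ⤳ x} :=
        Scheme.range_fromSpecStalk ▸ Set.mem_range_self _
      exact this
    have hqP : q.asIdeal ≤ P :=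
      (PrimeSpectrum.le_iff_specializes q ⟨P, hPp⟩).2 ((X.fromSpecStalk x).isEmbedding.isInducing.specializes_iff.1 hξ)
    exact congrArg _ (PrimeSpectrum.ext (le_antisymm hqP (hP.2 ⟨q.isPrime, bot_le⟩ hqP)))
  obtain ⟨s, hs, hsn⟩ : ∃ s ∈ I ⊔ J, ∀ P ∈ minimalPrimes R, s ∉ P := by
    by_contra hc
    push Not at hc
    have hfin : (minimalPrimes R).Finite := minimalPrimes.finite_of_isNoetherianRing R
    have hsub : ((I ⊔ J : Ideal R) : Set R) ⊆ ⋃ P ∈ (hfin.toFinset : Set (Ideal R)), (P : Set R) := fun s hs => by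
      obtain ⟨P, hP, hsP⟩ := hc s hs
      exact Set.mem_biUnion (hfin.mem_toFinset.2 hP) hsP
    obtain ⟨P, hP, hle2⟩ := (Ideal.subset_union_prime ⊥ ⊥ fun P hP _ _ => (hfin.mem_toFinset.1 hP).1.1).1 hsub
    exact hmin ⟨P, hfin.mem_toFinset.1 hP, hle2⟩
  have hsz : s ∈ R⁰ := by
    rw [mem_nonZeroDivisors_iff_right]
    intro r hr
    refine IsNilpotent.eq_zero (nilpotent_iff_mem_prime.2 fun P hP => ?_)
    obtain ⟨P₀, hP₀, hle0⟩ := Ideal.exists_minimalPrimes_le (I := (⊥ : Ideal R)) (J := P) bot_le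
    exact hle0 ((hP₀.1.1.mem_or_mem (hr ▸ P₀.zero_mem : r * s ∈ P₀)).resolve_right (hsn P₀ hP₀))
  have hsat : ∀ {A : Set X} (hA : IsClosed A), TFOne27.GenClosed A → ∀ (hxA : x ∈ A) (b : R),
      s * b ∈ IntMult.stalkIdeal (vI A hA) x → b ∈ IntMult.stalkIdeal (vI A hA) x := by
    intro A hA hgA hxA b hb
    have hsA : ((vI A hA).support : Set X) = A := Scheme.IdealSheafData.coe_support_vanishingIdeal _
    haveI : AlgebraicGeometry.IsReduced (vI A hA).subscheme := RedSepLib.isReduced_vanishingIdeal_subscheme _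
    obtain ⟨z, hz⟩ : x ∈ Set.range (vI A hA).subschemeι := (vI A hA).range_subschemeι ▸ hsA.ge hxA
    have hrad : (IntMult.stalkIdeal (vI A hA) x).IsRadical := by
      subst hz
      rw [IntMult26.stalkIdeal_eq_ker]
      intro r ⟨n, hn⟩
      rw [RingHom.mem_ker, map_pow] at hn
      exact (IsNilpotent.eq_zero ⟨n, hn⟩ : ((vI A hA).subschemeι.stalkMap z).hom r = 0)
    refine hrad.radical.le ?_
    rw [Ideal.radical_eq_sInf, Submodule.mem_sInf]
    rintro q ⟨hle1, hq⟩
    have hqA : X.fromSpecStalk x (⟨q, hq⟩ : PrimeSpectrum R) ∈ A :=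
      hsA.le (IntMult26.fromSpecStalk_mem_support _ (hsA.ge hxA) ⟨q, hq⟩ hle1)
    obtain ⟨η, hη, hηA, hηq⟩ := hgA _ hqA
    obtain ⟨p, rfl⟩ : η ∈ Set.range (X.fromSpecStalk x) := by
      rw [Scheme.range_fromSpecStalk]
      refine hηq.trans ?_
      have : X.fromSpecStalk x (⟨q, hq⟩ : PrimeSpectrum R) ∈ {y | y ⤳ x} :=
        Scheme.range_fromSpecStalk ▸ Set.mem_range_self _
      exact this
    have hpq : p.asIdeal ≤ q :=
      (PrimeSpectrum.le_iff_specializes p ⟨q, hq⟩).2 ((X.fromSpecStalk x).isEmbedding.isInducing.specializes_iff.1 hηq)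
    refine hpq ((p.isPrime.mem_or_mem (x := s) (y := b) ?_).resolve_left fun hsp => ?_)
    · exact stalkIdeal_le_of_mem_support _ (hsA.ge hxA) p (hsA.ge hηA) hb
    · obtain ⟨P₀, hP₀, hle0⟩ := Ideal.exists_minimalPrimes_le (I := (⊥ : Ideal R)) (J := p.asIdeal) bot_le
      have e : X.fromSpecStalk x (⟨P₀, hP₀.1.1⟩ : PrimeSpectrum R) = X.fromSpecStalk x p :=
        (TFOne27.mem_genericPoints.mp hη) _
          (((PrimeSpectrum.le_iff_specializes (⟨P₀, hP₀.1.1⟩ : PrimeSpectrum R) p).1 hle0).map (X.fromSpecStalk x).continuous)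
      have e' := congrArg PrimeSpectrum.asIdeal ((X.fromSpecStalk x).isEmbedding.injective e)
      exact hsn P₀ hP₀ (by have e2 : P₀ = p.asIdeal := e'; rw [e2]; exact hsp)
  exact sup_eq_maximalIdeal hm hI0 hJ0 hIJ hsz hs
    (hsat hT hgT hx.1) (hsat hT' hgT' hx.2)

variable {k : Type u} [Field k] [IsAlgClosed k] [X.Over (Spec (CommRingCat.of k))]

/-- The functions on a finite reduced subscheme count its points. -/
theorem finrank_quot_eq_ncard [IsProper (X ↘ Spec (CommRingCat.of k))] (Q : X.IdealSheafData)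
    [AlgebraicGeometry.IsReduced Q.subscheme] (hcl : ∀ x ∈ (Q.support : Set X), IsClosed ({x} : Set X)) :
    Module.finrank k (Coh.HH X (ClSub.quotMod Q) 0) = (Q.support : Set X).ncard := by
  letI : Q.subscheme.Over (Spec (CommRingCat.of k)) := ⟨Q.subschemeι ≫ (X ↘ Spec (CommRingCat.of k))⟩
  haveI : IsProper (Q.subscheme ↘ Spec (CommRingCat.of k)) :=
    inferInstanceAs (IsProper (Q.subschemeι ≫ (X ↘ Spec (CommRingCat.of k))))
  haveI := CohFound.isNoetherian_of_isProper (Q.subscheme ↘ Spec (CommRingCat.of k))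
  haveI : T1Space (Q.subscheme : Type u) := ⟨fun z => by
    have h := (hcl (Q.subschemeι z) (Q.range_subschemeι ▸ Set.mem_range_self z)).preimage Q.subschemeι.continuous
    rwa [← Set.image_singleton, Set.preimage_image_eq _ Q.subschemeι.isClosedEmbedding.injective] at h⟩
  haveI : Finite (Q.subscheme : Type u) := Set.finite_univ_iff.1
    ((genericPoints.finite (α := Q.subscheme) NoetherianSpace.finite_irreducibleComponents).subset fun z _ =>
      TFOne27.mem_genericPoints.mpr fun w hw => (hw.eq).symm ▸ rfl)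
  haveI : DiscreteTopology (Q.subscheme : Type u) := inferInstance
  haveI : (Coh.structureModule Q.subscheme).IsQuasicoherent := M1.isQCoh_structureModule _
  have e : Module.finrank k (Coh.HH X (ClSub.quotMod Q) 0) =
      Module.finrank k (Coh.HH Q.subscheme (Coh.structureModule _) 0) :=
    (CurveCoh17.nonempty_hequiv_push k Q.subschemeι rfl (Coh.structureModule Q.subscheme) 0).some.finrank_eq
  rw [e, H0Comp5.finrank_h0_eq_card k]
  have hc : Function.Bijective (@ConnectedComponents.mk (Q.subscheme : Type u) _) :=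
    ⟨fun a b h => by simpa using (ConnectedComponents.coe_eq_coe'.1 h), ConnectedComponents.surjective_coe⟩
  rw [← Nat.card_congr (Equiv.ofBijective _ hc), ← Q.range_subschemeι, ← Nat.card_coe_set_eq]
  exact Nat.card_congr (Equiv.ofInjective _ Q.subschemeι.isClosedEmbedding.injective)

/-- The length of the intersection of two complementary subcurves is the number of their common points. -/
theorem meet_eq_ncard (hX : StabUniq18.IsNodalCurve k X) {T T' : Set X} (hT : IsClosed T) (hT' : IsClosed T')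
    (hgT : TFOne27.GenClosed T) (hgT' : TFOne27.GenClosed T') (hcov : T ∪ T' = Set.univ) (hdis : ∀ η ∈ genericPoints (X : Type u), ¬ (η ∈ T ∧ η ∈ T')) :
    meet k T T' hT hT' = (T ∩ T').ncard := by
  haveI := hX.proper
  haveI := CohFound.isNoetherian_of_isProper (X ↘ Spec (CommRingCat.of k))
  haveI := hX.isReduced
  let Q := vI T hT ⊔ vI T' hT'
  have hsT : ((vI T hT).support : Set X) = T := Scheme.IdealSheafData.coe_support_vanishingIdeal _
  have hsT' : ((vI T' hT').support : Set X) = T' := Scheme.IdealSheafData.coe_support_vanishingIdeal _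
  have hQs : (Q.support : Set X) = T ∩ T' := by
    rw [Scheme.IdealSheafData.support_sup, Closeds.coe_inf, hsT, hsT']
  have hclosed : ∀ x ∈ T ∩ T', IsClosed ({x} : Set X) := fun x hx => by
    by_contra hn
    exact hdis x (CurveH1Min27.mem_genericPoints_of_not_closed (CurveR1_10.topologicalKrullDim_le_of_components fun Z hZ => (hX.dim Z hZ).le) hn) hx
  have hstalk : ∀ x ∈ T ∩ T', IntMult.stalkIdeal Q x = IsLocalRing.maximalIdeal (X.presheaf.stalk x) :=
    fun x hx => (stalkIdeal_sup _ _ x).trans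
      (stalk_sup_eq_maximal hT hT' hgT hgT' hcov hdis hx (StabUniq18.mildSing hX (hclosed x hx)))
  letI : Q.subscheme.Over (Spec (CommRingCat.of k)) := ⟨Q.subschemeι ≫ (X ↘ Spec (CommRingCat.of k))⟩
  haveI : IsProper (Q.subscheme ↘ Spec (CommRingCat.of k)) :=
    inferInstanceAs (IsProper (Q.subschemeι ≫ (X ↘ Spec (CommRingCat.of k))))
  haveI := CohFound.isNoetherian_of_isProper (Q.subscheme ↘ Spec (CommRingCat.of k))
  have hmem : ∀ z : Q.subscheme, Q.subschemeι z ∈ T ∩ T' := fun z =>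
    hQs ▸ (Q.range_subschemeι ▸ Set.mem_range_self z : Q.subschemeι z ∈ (Q.support : Set X))
  haveI : ∀ z : Q.subscheme, _root_.IsReduced (Q.subscheme.presheaf.stalk z) := fun z => by
    haveI : (IntMult.stalkIdeal Q (Q.subschemeι z)).IsMaximal :=
      (hstalk _ (hmem z)) ▸ IsLocalRing.maximalIdeal.isMaximal _
    letI := Ideal.Quotient.field (IntMult.stalkIdeal Q (Q.subschemeι z))
    exact isReduced_of_injective (IntMult26.quotStalkIdealEquiv Q z).symm (IntMult26.quotStalkIdealEquiv Q z).symm.injective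
  haveI : AlgebraicGeometry.IsReduced Q.subscheme := isReduced_of_isReduced_stalk Q.subscheme
  show Module.finrank k (Coh.HH X (ClSub.quotMod Q) 0) = _
  rw [finrank_quot_eq_ncard Q (hQs ▸ hclosed), hQs]

end Groth.Agent.NodeMeet1
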