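import Groth.Prelude.Def_FlatMod2
import Groth.Prelude.Def_CohB1
import Groth.Agent.S1262
import Groth.Agent.Lib.VarDim.Fibre
import Groth.Agent.Lib.DimFormula13.Basic
import Groth.Agent.Lib.FlatH4.ModFlatAt
import Groth.Agent.Lib.Algz25.SymSpec

/-! The non-flat locus in a fibre. -/

set_option autoImplicit false
set_option linter.style.haveILetI false
set_option backward.isDefEq.respectTransparency false
set_option maxHeartbeats 800000

universe u

open CategoryTheory AlgebraicGeometry

namespace Groth.Agent.NonFlat27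

variable {X S : Scheme.{u}} (f : X ⟶ S)

theorem residueFieldMap_surjective {A B : Scheme.{u}} (g : A ⟶ B) [SurjectiveOnStalks g] (a : A) :
    Function.Surjective (g.residueFieldMap a) := by
  intro b
  obtain ⟨b, rfl⟩ := Scheme.residue_surjective A a b
  obtain ⟨c, rfl⟩ := g.stalkMap_surjective a b
  exact ⟨B.residue _ c, ConcreteCategory.congr_hom (Scheme.residue_residueFieldMap g a) c⟩

theorem residueFieldMap_congr {A B : Scheme.{u}} {φ ψ : A ⟶ B} (h : φ = ψ) (a : A) :
    φ.residueFieldMap a = (B.residueFieldCongr (congrArg (fun χ : A ⟶ B => χ a) h)).hom ≫ ψ.residueFieldMap a := by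
  subst h; simp

/-- `sdim` on the fibre is the relative transcendence degree. -/
theorem trdeg_fiberι [LocallyOfFiniteType f] (s : S) (z : f.fiber s) :
    letI := (f.residueFieldMap (f.fiberι s z)).hom.toAlgebra
    Algebra.trdeg (S.residueField (f (f.fiberι s z))) (X.residueField (f.fiberι s z)) =
      (VarDim.sdim (f.fiberToSpecResidueField s) z : Cardinal) := by
  let ι := f.fiberι s
  let g : f.fiber s ⟶ Spec (CommRingCat.of (S.residueField s)) := f.fiberToSpecResidueField s
  haveI : LocallyOfFiniteType g := MorphismProperty.pullback_snd _ _ inferInstance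
  let e : Spec (CommRingCat.of (S.residueField s)) ⟶ S := S.fromSpecResidueField s
  have hw : ι ≫ f = g ≫ e := f.fiber_fac s
  letI := (f.residueFieldMap (ι z)).hom.toAlgebra
  letI := (g.residueFieldMap z).hom.toAlgebra
  rw [← VarDim.trdeg_over_pt g z]
  haveI : SurjectiveOnStalks ι := inferInstanceAs (SurjectiveOnStalks (f.fiberι s))
  haveI : SurjectiveOnStalks e := inferInstanceAs (SurjectiveOnStalks (S.fromSpecResidueField s))
  have key := residueFieldMap_congr hw z
  rw [Scheme.residueFieldMap_comp, Scheme.residueFieldMap_comp] at key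
  let t := (S.residueFieldCongr (congrArg (fun χ : f.fiber s ⟶ S => χ z) hw)).hom ≫ e.residueFieldMap (g z)
  have hts : Function.Surjective t := fun y => by
    obtain ⟨y, rfl⟩ := residueFieldMap_surjective e (g z) y
    let i := S.residueFieldCongr (congrArg (fun χ : f.fiber s ⟶ S => χ z) hw)
    refine ⟨i.inv y, ?_⟩
    show e.residueFieldMap (g z) ((i.inv ≫ i.hom) y) = _
    rw [i.inv_hom_id]; rfl
  exact DimFormula13.trdeg_eq_of_comm (RingEquiv.ofBijective t.hom ⟨t.hom.injective, hts⟩)
    (RingEquiv.ofBijective (ι.residueFieldMap z).hom ⟨(ι.residueFieldMap z).hom.injective, residueFieldMap_surjective ι z⟩)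
    fun r => by
      have := ConcreteCategory.congr_hom key r
      exact this.symm

/-- In a fibre of a morphism locally of finite type, the flat locus of a module of finite type is open. -/
theorem isClosed_nonflat [LocallyOfFiniteType f] (F : X.Modules) [Coh.IsQCoh F] (hF : CohB1.IsFT F) (s : S) :
    IsClosed {x : f ⁻¹' {s} | ¬ FlatMod.IsFlatOverAt f F x.1} := by
  refine ⟨isOpen_iff_forall_mem_open.2 fun x₀ hx₀ => ?_⟩
  have hx₀s : f x₀.1 = s := x₀.2
  obtain ⟨V, hV, hsV, -⟩ := exists_isAffineOpen_mem_and_subset (x := s) (U := ⊤) trivial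
  obtain ⟨W, hW, hxW, e⟩ := exists_isAffineOpen_mem_and_subset (x := x₀.1) (U := f ⁻¹ᵁ V)
    (show f x₀.1 ∈ V by rw [hx₀s]; exact hsV)
  letI := (f.appLE V W e).hom.toAlgebra
  letI := FlatH4.secModuleOver f F V W e
  haveI : IsScalarTower Γ(S, V) Γ(X, W) Γ(F, W) := IsScalarTower.of_algebraMap_smul fun _ _ => rfl
  haveI : Algebra.FiniteType Γ(S, V) Γ(X, W) := f.finiteType_appLE hV hW e
  haveI : Module.Finite Γ(X, W) Γ(F, W) := M1.finite_sections inferInstance hF hW
  let p := hV.primeIdealOf ⟨s, hsV⟩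
  obtain ⟨O, hO, hOeq⟩ := isOpen_induced_iff.1
    ((S1262.result (R := Γ(S, V)) (S := Γ(X, W)) Γ(F, W) p.asIdeal).preimage
      (PrimeSpectrum.preimageHomeomorphFiber Γ(S, V) Γ(X, W) p).continuous)
  have hflat : ∀ (x : f ⁻¹' {s}) (hxW : x.1 ∈ W),
      (FlatMod.IsFlatOverAt f F x.1 ↔ hW.primeIdealOf ⟨x.1, hxW⟩ ∈ O) := by
    intro x hxW
    rw [FlatH4.isFlatOverAt_iff f F V hV W hW e hxW]
    have hq : hW.primeIdealOf ⟨x.1, hxW⟩ ∈ PrimeSpectrum.comap (algebraMap Γ(S, V) Γ(X, W)) ⁻¹' {p} := by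
      show PrimeSpectrum.comap (f.appLE V W e).hom _ = p
      exact (IsAffineOpen.comap_primeIdealOf_appLE V hV W hW e hxW).trans
        (congrArg hV.primeIdealOf (Subtype.ext x.2))
    have := Set.ext_iff.1 hOeq ⟨_, hq⟩
    refine Iff.trans ?_ this.symm
    let q' := PrimeSpectrum.preimageHomeomorphFiber Γ(S, V) Γ(X, W) p ⟨_, hq⟩
    have hq' : q'.asIdeal.comap (Algebra.TensorProduct.includeRight (R := Γ(S, V)) (A := p.asIdeal.ResidueField)
        (B := Γ(X, W))).toRingHom = (hW.primeIdealOf ⟨x.1, hxW⟩).asIdeal := by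
      have h := (PrimeSpectrum.preimageHomeomorphFiber Γ(S, V) Γ(X, W) p).symm_apply_apply ⟨_, hq⟩
      exact congrArg (fun a => a.1.asIdeal) h
    have key : ∀ (a b : Ideal Γ(X, W)) [a.IsPrime] [b.IsPrime], a = b →
        (FlatCA.FlatAt Γ(S, V) a Γ(F, W) ↔ FlatCA.FlatAt Γ(S, V) b Γ(F, W)) :=
      fun a b _ _ hab => by subst hab; exact Iff.rfl
    exact key _ _ hq'.symm
  refine ⟨{x | ∃ h : x.1 ∈ W, hW.primeIdealOf ⟨x.1, h⟩ ∈ O}, fun x ⟨h, hxO⟩ hn => hn ((hflat x h).2 hxO), ?_,
    hxW, (hflat x₀ hxW).1 (not_not.1 hx₀)⟩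
  have h2 : IsOpen (hW.fromSpec '' O) := hW.fromSpec.isOpenEmbedding.isOpenMap _ hO
  convert h2.preimage continuous_subtype_val using 1
  ext x
  constructor
  · rintro ⟨h, hxO⟩
    exact ⟨_, hxO, hW.fromSpec_primeIdealOf ⟨x.1, h⟩⟩
  · rintro ⟨q, hq, hqx⟩
    have hmem : x.1 ∈ W := by
      have : x.1 ∈ Set.range hW.fromSpec := ⟨q, hqx⟩
      rwa [hW.range_fromSpec] at this
    refine ⟨hmem, ?_⟩
    have : hW.primeIdealOf ⟨x.1, hmem⟩ = q := hW.fromSpec.isOpenEmbedding.injective
      ((hW.fromSpec_primeIdealOf ⟨x.1, hmem⟩).trans hqx.symm)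
    rwa [this]

/-- The non-flat locus of a fibre has dimension `< n` iff each of its points has residue transcendence degree `< n`. -/
theorem dim_nonflat_lt_iff [LocallyOfFiniteType f] (F : X.Modules) [Coh.IsQCoh F] (hF : CohB1.IsFT F) (n : ℕ) :
    (∀ s : S, topologicalKrullDim {x : X // f.base x = s ∧ ¬ FlatMod.IsFlatOverAt f F x} < n) ↔
      ∀ x : X, ¬ FlatMod.IsFlatOverAt f F x →
        letI := (f.residueFieldMap x).hom.toAlgebra
        Algebra.trdeg (S.residueField (f x)) (X.residueField x) < n := by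
  have key : ∀ s : S, (topologicalKrullDim {x : X // f.base x = s ∧ ¬ FlatMod.IsFlatOverAt f F x} < n ↔
      ∀ z : f.fiber s, ¬ FlatMod.IsFlatOverAt f F (f.fiberι s z) → VarDim.sdim (f.fiberToSpecResidueField s) z < n) := by
    intro s
    haveI : LocallyOfFiniteType (f.fiberToSpecResidueField s) := MorphismProperty.pullback_snd _ _ inferInstance
    let C : Set (f.fiber s) := f.fiberHomeo s ⁻¹' {x | ¬ FlatMod.IsFlatOverAt f F x.1}
    have hC : IsClosed C := (isClosed_nonflat f F hF s).preimage (f.fiberHomeo s).continuous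
    have hm : ∀ x : {x : X // f.base x = s ∧ ¬ FlatMod.IsFlatOverAt f F x}, (f.fiberHomeo s).symm ⟨x.1, x.2.1⟩ ∈ C := fun x => by
      show ¬ FlatMod.IsFlatOverAt f F (f.fiberHomeo s ((f.fiberHomeo s).symm ⟨x.1, x.2.1⟩)).1
      rw [Homeomorph.apply_symm_apply]; exact x.2.2
    let h : C ≃ₜ {x : X // f.base x = s ∧ ¬ FlatMod.IsFlatOverAt f F x} :=
      { toFun := fun z => ⟨(f.fiberHomeo s z.1).1, (f.fiberHomeo s z.1).2, z.2⟩
        invFun := fun x => ⟨(f.fiberHomeo s).symm ⟨x.1, x.2.1⟩, hm x⟩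
        left_inv := fun z => Subtype.ext ((f.fiberHomeo s).symm_apply_apply z.1)
        right_inv := fun x => Subtype.ext (by
          show (f.fiberHomeo s ((f.fiberHomeo s).symm ⟨x.1, x.2.1⟩)).1 = x.1
          rw [Homeomorph.apply_symm_apply])
        continuous_toFun := (continuous_subtype_val.comp
          ((f.fiberHomeo s).continuous.comp continuous_subtype_val)).subtype_mk _
        continuous_invFun := ((f.fiberHomeo s).symm.continuous.comp
          (continuous_subtype_val.subtype_mk (fun x => x.2.1))).subtype_mk hm }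
    rw [← h.isHomeomorph.topologicalKrullDim_eq, VarDim.topologicalKrullDim_isClosed_eq_iSup_height hC]
    constructor
    · intro hlt z hz
      have := lt_of_le_of_lt (le_iSup (fun z : C => ((Order.height (z : ↥(f.fiber s)) : ℕ∞) : WithBot ℕ∞)) ⟨z, hz⟩) hlt
      rw [VarDim.height_eq_sdim (f.fiberToSpecResidueField s)] at this
      exact_mod_cast this
    · intro hall
      cases n with
      | zero =>
        haveI : IsEmpty C := ⟨fun z => Nat.not_lt_zero _ (hall z.1 z.2)⟩
        rw [ciSup_of_empty]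
        exact WithBot.bot_lt_coe _
      | succ m =>
        refine lt_of_le_of_lt (iSup_le fun z => ?_) (show ((m : ℕ) : WithBot ℕ∞) < (m + 1 : ℕ) by exact_mod_cast Nat.lt_succ_self m)
        rw [VarDim.height_eq_sdim (f.fiberToSpecResidueField s)]
        exact_mod_cast Nat.lt_succ_iff.1 (hall z.1 z.2)
  constructor
  · intro h x hx
    obtain ⟨z, hz⟩ : ∃ z, f.fiberι (f x) z = x := ⟨f.asFiber x, f.fiberι_asFiber x⟩
    have h1 : VarDim.sdim (f.fiberToSpecResidueField (f x)) z < n := (key (f x)).1 (h (f x)) z (by rw [hz]; exact hx)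
    have h2 := trdeg_fiberι f (f x) z
    generalize VarDim.sdim (f.fiberToSpecResidueField (f x)) z = m at h1 h2
    generalize f.fiberι (f x) z = y at hz h2
    subst hz
    rw [h2]
    exact_mod_cast h1
  · intro h s
    refine (key s).2 fun z hz => ?_
    have := h _ hz
    rw [trdeg_fiberι f s z] at this
    exact_mod_cast this

end Groth.Agent.NonFlat27
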