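import Groth.Agent.Lib.NodeMeet1
import Groth.Agent.Lib.CurveH1Min27.Pointed
import Groth.Agent.Lib.CurveH1Min27.NodalOmega
import Groth.Agent.Lib.CurveH1Min27.GorAmple
import Groth.Agent.Lib.CurveAmple18.Cartier
import Groth.Agent.Lib.SecDiv18.Basic
import Groth.Agent.Lib.DlzCurve17.Duality

/-!
# Pluricanonical modules of stable pointed curves
-/

set_option autoImplicit false
set_option linter.style.haveILetI false
set_option backward.isDefEq.respectTransparency false

universe u

open CategoryTheory CategoryTheory.Limits AlgebraicGeometry TopologicalSpace Opposite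

namespace Groth.Agent.PointedAmple1

open Groth.Agent Groth.Agent.CurveH1Min27

variable {X : Scheme.{u}} {k : Type u} [Field k] [IsAlgClosed k] [X.Over (Spec (CommRingCat.of k))]
  [IsProper (X ↘ Spec (CommRingCat.of k))] [AlgebraicGeometry.IsReduced X] [ConnectedSpace X]
  {ω : X.Modules} (hω : PicF.IsInvertible ω) {t : Coh.HH X ω 1 →ₗ[k] k} (ht : IsTrace k ω t)
  (hd : topologicalKrullDim X = 1) {D : Set X} (hDf : D.Finite) (hDc : IsClosed D)
  (hDcl : ∀ x ∈ D, IsClosed ({x} : Set X)) {N : X.Modules}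
  (hN : ClSub.IsInverseOf N (ClSub.idealMod (Scheme.IdealSheafData.vanishingIdeal ⟨D, hDc⟩)))

include hd hDcl hN in
omit [ConnectedSpace X] in
/-- The degree of `O(D)`. -/
theorem deg_inverse : Curv2.deg k X N 1 = (Nat.card D : ℤ) := by
  have hX := CurveAmple18.curveLike k X hd.le
  haveI := hX.noetherian
  let Z : X.IdealSheafData := Scheme.IdealSheafData.vanishingIdeal ⟨D, hDc⟩
  obtain ⟨eN⟩ := hN
  have hNi := M2.isInvertible_of_tensor_iso_unit N _ eN
  have hZi : PicF.IsInvertible (ClSub.idealMod Z) :=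
    M2.isInvertible_of_tensor_iso_unit _ N (M2.tensorComm _ N ≪≫ eN)
  have hZc := SecDiv.isEffCartierIdeal_of_isInvertible Z hZi
  haveI : AlgebraicGeometry.IsReduced Z.subscheme := RedSepLib.isReduced_vanishingIdeal_subscheme _
  have hZs : (Z.support : Set X) = D := Scheme.IdealSheafData.coe_support_vanishingIdeal _
  have h := CurveCoh17.deg_iso (k := k) (r := 1) eN
  rw [hX.deg_tensor_invertible hNi hZi, CurveCoh17.deg_structureModule,
    CurveAmple18.deg_idealMod hd.le hZc, NodeMeet1.finrank_quot_eq_ncard Z (hZs.symm ▸ hDcl), hZs,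
    ← Nat.card_coe_set_eq] at h
  linarith

include hd hDcl hN in
/-- The degree of `O(D)` on a union of components counts the marked points on it. -/
theorem delta_inverse {T : Set X} (hT : IsClosed T) (hg : TFOne27.GenClosed T) :
    TFOne27.delta k N 1 (TFOne27.OT T hT) = ((D ∩ T).ncard : ℤ) := by
  haveI := CohFound.isNoetherian_of_isProper (X ↘ Spec (CommRingCat.of k))
  let Z : X.IdealSheafData := Scheme.IdealSheafData.vanishingIdeal ⟨D, hDc⟩
  have hZs : (Z.support : Set X) = D := Scheme.IdealSheafData.coe_support_vanishingIdeal _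
  have hgenZ : ∀ g ∈ genericPoints (X : Type u), g ∉ (Z.support : Set X) := fun g hg hgZ =>
    not_closed_of_generic (k := k) hd hg (hDcl g (hZs.le hgZ))
  have hcs := isComplSub_closure hT hg
  obtain ⟨hNi, a⟩ := ncard_le_delta_inverse (k := k) hd.le Z hgenZ hN hT hg
  obtain ⟨-, b⟩ := ncard_le_delta_inverse (k := k) hd.le Z hgenZ hN (isClosed_closure (s := Tᶜ)) hcs.2.1
  have s := ((euler_compl (k := k) hd.le hT isClosed_closure hcs).2.2 N hNi).2
  rw [deg_inverse (k := k) hd hDc hDcl hN, Nat.card_coe_set_eq] at s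
  rw [hZs, Set.inter_comm] at a b
  have hD : D = D ∩ T ∪ D ∩ closure Tᶜ := by
    refine Set.Subset.antisymm (fun x hx => ?_) (Set.union_subset Set.inter_subset_left Set.inter_subset_left)
    exact (Classical.em (x ∈ T)).imp (fun h => ⟨hx, h⟩) fun h => ⟨hx, subset_closure h⟩
  have hle := Set.ncard_union_le (D ∩ T) (D ∩ closure Tᶜ)
  rw [← hD] at hle
  omega

include hω ht hd hDf hDcl hN

theorem h1_pow (hst : CohB1.IsAmple (CohB1.tensorMod ω N)) {m : ℕ} (hm : 2 ≤ m) :
    Subsingleton (Coh.HH X (CohB1.tensorPow (CohB1.tensorMod ω N) m) 1) := by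
  classical
  haveI := CohFound.isNoetherian_of_isProper (X ↘ Spec (CommRingCat.of k))
  haveI := hDf.fintype
  let p : Fin (Fintype.card D) → X := fun i => ((Fintype.equivFin D).symm i : X)
  have hpinj : Function.Injective p := Subtype.val_injective.comp (Fintype.equivFin D).symm.injective
  have hpcl : ∀ i, IsClosed ({p i} : Set X) := fun i => hDcl _ ((Fintype.equivFin D).symm i).2
  have hU : (⋃ i, ({p i} : Set X)) = D := by
    ext x
    simp only [Set.mem_iUnion, Set.mem_singleton_iff]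
    exact ⟨fun ⟨i, hi⟩ => hi ▸ ((Fintype.equivFin D).symm i).2, fun hx => ⟨Fintype.equivFin D ⟨x, hx⟩, by simp [p]⟩⟩
  have hN' : ClSub.IsInverseOf N (ClSub.idealMod
      (Scheme.IdealSheafData.vanishingIdeal ⟨⋃ i, ({p i} : Set X), isClosed_iUnion_of_finite hpcl⟩)) := by
    rwa [show (⟨⋃ i, ({p i} : Set X), isClosed_iUnion_of_finite hpcl⟩ : Closeds X) = ⟨D, hDc⟩ from Closeds.ext hU]
  have hM := hst.1
  refine subsingleton_h1 hω ht hd (M2.isInvertible_tensorPow hM m) fun T hT hc h1 hle => ?_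
  rw [degOn_pow hM hd.le hT] at hle
  obtain ⟨-, j, hge, -, -⟩ := deg_pointed_ge hω ht hd p hpinj hpcl hN' T hT hc h1
  have hpos := deg_pos_sub (k := k) hst (vI T hT) hc h1
  rw [← delta_eq_degOn hM hT] at hpos
  have hm' : (2 : ℤ) ≤ m := by exact_mod_cast hm
  nlinarith

theorem h0_pow (hst : CohB1.IsAmple (CohB1.tensorMod ω N)) {m : ℕ} (hm : 2 ≤ m)
    (h0 : Module.finrank k (Coh.HH X (Coh.structureModule X) 0) = 1) :
    (Module.finrank k (Coh.HH X (CohB1.tensorPow (CohB1.tensorMod ω N) m) 0) : ℤ) =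
      (m : ℤ) * (2 * (Curv2.genus k X : ℤ) - 2 + (Nat.card D : ℤ)) + 1 - (Curv2.genus k X : ℤ) := by
  haveI := h1_pow hω ht hd hDf hDc hDcl hN hst hm
  have hX := CurveAmple18.curveLike k X hd.le
  haveI := hX.noetherian
  have hdeg := deg_inverse (k := k) hd hDc hDcl hN
  have hNi : PicF.IsInvertible N := hN.elim fun eN => M2.isInvertible_of_tensor_iso_unit N _ eN
  have hrr := hX.rr (CurveCoh17.isCoh_of_ofRank
    ((M2.isInvertible_iff_isFinLocFreeOfRank_one _).1 (M2.isInvertible_tensorPow hst.1 m)))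
  rw [Module.finrank_zero_of_subsingleton (M := Coh.HH X (CohB1.tensorPow (CohB1.tensorMod ω N) m) 1),
    hX.deg_tensorPow hst.1 m, hX.deg_tensor_invertible hω hNi, gor_total hω ht hd.le, hdeg, h0] at hrr
  push_cast at hrr ⊢
  linarith

end Groth.Agent.PointedAmple1
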