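import Groth.Agent.Lib.PointedAmple1
import Groth.Agent.Lib.AmpleFin18.Curves
import Groth.Agent.Lib.GeomRed18.Smooth
import Groth.Prelude.Def_DualGr

/-!
# Ampleness of the pointed dualizing sheaf through the dual graph
-/

set_option autoImplicit false
set_option linter.style.haveILetI false
set_option backward.isDefEq.respectTransparency false

universe u

open CategoryTheory CategoryTheory.Limits AlgebraicGeometry TopologicalSpace Opposite

namespace Groth.Agent.PointedDeg1

open Groth.Agent Groth.Agent.CurveH1Min27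

variable {X : Scheme.{u}} {k : Type u} [Field k] [IsAlgClosed k] [X.Over (Spec (CommRingCat.of k))]
  [IsProper (X ↘ Spec (CommRingCat.of k))]

theorem genClosed_component {T : Set X} (hT : T ∈ irreducibleComponents (X : Type u)) :
    TFOne27.GenClosed T := fun x hx => by
  obtain ⟨η, hη, hgen⟩ := TFOne27.exists_generic_of_component hT
  exact ⟨η, hη, hgen.mem, hgen.specializes hx⟩

/-- The degree of `ω(D)` on a component. -/
theorem deg_pointed [ConnectedSpace X] (hX : StabUniq18.IsNodalCurve k X)
    {ω : X.Modules} (hω : PicF.IsInvertible ω) {t : Coh.HH X ω 1 →ₗ[k] k} (ht : IsTrace k ω t)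
    (hd : topologicalKrullDim X = 1) {D : Set X} (hDc : IsClosed D) (hDcl : ∀ x ∈ D, IsClosed ({x} : Set X))
    {N : X.Modules} (hN : ClSub.IsInverseOf N (ClSub.idealMod (Scheme.IdealSheafData.vanishingIdeal ⟨D, hDc⟩)))
    {T : Set X} (hT : IsClosed T) (hTc : T ∈ irreducibleComponents (X : Type u)) :
    degOn k (vI T hT) (CohB1.tensorMod ω N) =
      2 * (genusOn k (vI T hT) : ℤ) - 2 + ((T ∩ closure Tᶜ).ncard : ℤ) + ((D ∩ T).ncard : ℤ) := by
  haveI := hX.isReduced
  haveI := CohFound.isNoetherian_of_isProper (X ↘ Spec (CommRingCat.of k))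
  have hsupp : ((vI T hT).support : Set X) = T := Scheme.IdealSheafData.coe_support_vanishingIdeal _
  haveI : IrreducibleSpace (vI T hT).subscheme :=
    irreducibleSpace_of_range (vI T hT).subschemeι (by rw [Scheme.IdealSheafData.range_subschemeι, hsupp]; exact hTc.1)
  have hc : ConnectedSpace (vI T hT).subscheme := inferInstance
  have hg := genClosed_component hTc
  have hNi : PicF.IsInvertible N := hN.elim fun eN => M2.isInvertible_of_tensor_iso_unit N _ eN
  have hcs := isComplSub_closure hT hg
  have hcov : T ∪ closure Tᶜ = Set.univ :=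
    Set.eq_univ_of_forall fun x => (Classical.em (x ∈ T)).imp id fun hx => subset_closure hx
  have hm := NodeMeet1.meet_eq_ncard hX hT isClosed_closure hg hcs.2.1 hcov
    fun η hη he => (hcs.2.2 η hη).1 he.2 he.1
  have hadj := adjunction hω ht hd.le hT isClosed_closure hcs
  rw [euler_connected_sub hd.le hT hc, hm] at hadj
  rw [← delta_eq_degOn (M2.isInvertible_tensor hω hNi) hT, delta_tensor hω hNi hd.le hT,
    PointedAmple1.delta_inverse (k := k) hd hDc hDcl hN hT hg, hadj]
  ring

/-- A point on two components is not a smooth point. -/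
theorem mem_nonsmoothPts_of_two {x : X} {S T : Set X} (hS : S ∈ irreducibleComponents (X : Type u))
    (hT : T ∈ irreducibleComponents (X : Type u)) (hne : S ≠ T) (hxS : x ∈ S) (hxT : x ∈ T) :
    x ∈ DualGr.nonsmoothPts (X ↘ Spec (CommRingCat.of k)) := fun hsm => hne <| by
  haveI := CohFound.isNoetherian_of_isProper (X ↘ Spec (CommRingCat.of k))
  haveI : LocallyOfFinitePresentation (X ↘ Spec (CommRingCat.of k)) := inferInstance
  haveI := GeomRed.isRegularLocalRing_of_mem_smoothLocus (k := k) (X := X) (x := x) hsm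
  haveI : IsDomain (X.presheaf.stalk x) := RegLoc.isDomain _
  let p₀ : PrimeSpectrum (X.presheaf.stalk x) := ⟨⊥, Ideal.isPrime_bot⟩
  have key : ∀ {C : Set X}, C ∈ irreducibleComponents (X : Type u) → x ∈ C →
      IsGenericPoint (X.fromSpecStalk x p₀) C := fun {C} hC hxC => by
    obtain ⟨η, hη, hgen⟩ := TFOne27.exists_generic_of_component hC
    obtain ⟨p, rfl⟩ : η ∈ Set.range (X.fromSpecStalk x) := by
      rw [Scheme.range_fromSpecStalk]; exact hgen.specializes hxC
    rwa [← (TFOne27.mem_genericPoints.mp hη) (X.fromSpecStalk x p₀)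
      (((PrimeSpectrum.le_iff_specializes p₀ p).1 (bot_le : (⊥ : Ideal (X.presheaf.stalk x)) ≤ p.asIdeal)).map
        (X.fromSpecStalk x).continuous)] at hgen
  exact (key hS hxS).def.symm.trans (key hT hxT).def

variable {V E : Type u} {cv : V → Set X} {ce : E → X} {ends : E → V × V}
  (hΓ : DualGr.IsDualGraph (X ↘ Spec (CommRingCat.of k)) cv ce ends)

include hΓ

/-- The edges leaving a vertex are the points where its component meets the others. -/
theorem card_edges (v : V) :
    Nat.card {e : E // (ends e).1 ≠ (ends e).2 ∧ ((ends e).1 = v ∨ (ends e).2 = v)} =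
      (cv v ∩ closure (cv v)ᶜ).ncard := by
  haveI := CohFound.isNoetherian_of_isProper (X ↘ Spec (CommRingCat.of k))
  have hvc := isClosed_of_mem_irreducibleComponents _ (hΓ.comp_mem v)
  have hcs := isComplSub_closure hvc (genClosed_component (hΓ.comp_mem v))
  have hto : ∀ w : V, w ≠ v → cv w ⊆ closure (cv v)ᶜ := fun w hw => by
    obtain ⟨η, hη, hgen⟩ := TFOne27.exists_generic_of_component (hΓ.comp_mem w)
    refine hgen.mem_closed_set_iff isClosed_closure |>.1 ((hcs.2.2 η hη).2 fun hv => hw ?_)
    exact hΓ.comp_injective ((hΓ.comp_mem w).eq_of_le (hΓ.comp_mem v).1 ((hgen.mem_closed_set_iff hvc).1 hv))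
  rw [← Nat.card_coe_set_eq]
  refine Nat.card_congr (Equiv.ofBijective (fun e => ⟨ce e.1, (hΓ.incidence e.1 v).1 e.2.2, ?_⟩) ⟨?_, ?_⟩)
  · obtain ⟨hne, h | h⟩ := e.2
    · exact hto _ (fun hw => hne (h.trans hw.symm)) ((hΓ.incidence e.1 _).1 (Or.inr rfl))
    · exact hto _ (fun hw => hne (hw.trans h.symm)) ((hΓ.incidence e.1 _).1 (Or.inl rfl))
  · intro a b hab
    exact Subtype.ext (hΓ.pt_injective (congrArg Subtype.val hab))
  · rintro ⟨x, hxv, hxc⟩
    obtain ⟨η, hη, hηc, hsp⟩ := hcs.2.1 x hxc
    obtain ⟨w, hw⟩ := hΓ.comp_surjective _ hη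
    have hwv : w ≠ v := fun e => (hcs.2.2 η hη).1 hηc (by rw [← e, hw]; exact subset_closure rfl)
    have hxw : x ∈ cv w := hw ▸ specializes_iff_mem_closure.mp hsp
    obtain ⟨e, rfl⟩ := hΓ.pt_surjective x (mem_nonsmoothPts_of_two (hΓ.comp_mem w) (hΓ.comp_mem v)
      (fun h => hwv (hΓ.comp_injective h)) hxw hxv)
    have h1 := (hΓ.incidence e v).2 hxv
    have h2 := (hΓ.incidence e w).2 hxw
    refine ⟨⟨e, fun he => ?_, h1⟩, rfl⟩
    rcases h1 with h1 | h1 <;> rcases h2 with h2 | h2 <;>
      first
        | exact hwv (h2.symm.trans h1)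
        | exact hwv (h2.symm.trans (he.trans h1))
        | exact hwv (h2.symm.trans (he.symm.trans h1))

end Groth.Agent.PointedDeg1
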