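import Groth.Agent.Lib.PointedAmple1
import Groth.Agent.Lib.CurveVA17.Normal
import Groth.Agent.Lib.CurveH1Min27.Apps

/-!
# Very ampleness of pluricanonical modules of stable pointed curves
-/

set_option autoImplicit false
set_option linter.style.haveILetI false
set_option backward.isDefEq.respectTransparency false

universe u

open CategoryTheory CategoryTheory.Limits AlgebraicGeometry TopologicalSpace Opposite

namespace Groth.Agent.PointedVA1

open Groth.Agent

variable {X : Scheme.{u}} (k : Type u) [Field k] [X.Over (Spec (CommRingCat.of k))]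
  [IsProper (X ↘ Spec (CommRingCat.of k))]

/-- Cancelling an invertible factor. -/
noncomputable def cancel {Y C B B' : X.Modules} (e : Y ≅ CohB1.tensorMod C B)
    (eB : CohB1.tensorMod B B' ≅ Coh.structureModule X) : CohB1.tensorMod Y B' ≅ C :=
  M2.tensorIso e (Iso.refl B') ≪≫ M2.tensorAssoc C B B' ≪≫ M2.tensorIso (Iso.refl C) eB ≪≫ M2.tensorRUnit C

include k in
/-- Sections of `A ⊗ L` are sums of products when `L` is globally generated and `H¹(A ⊗ L⁻¹) = 0`. -/
theorem prods_all (hdim : topologicalKrullDim X ≤ 1) {A L L' : X.Modules} (hA : PicF.IsInvertible A)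
    (hL : PicF.IsInvertible L) (hgg : Curv2.IsGloballyGenerated L) (hL' : PicF.IsInvertible L')
    (eL : CohB1.tensorMod L L' ≅ Coh.structureModule X)
    (h : Subsingleton (Coh.HH X (CohB1.tensorMod A L') 1)) :
    ∀ y, y ∈ CMReg18.TwistData.prods A L := by
  haveI := VB17.isNoetherian_of_over (k := k) (X := X)
  haveI := VB17.isSeparated_of_over (k := k) (X := X)
  obtain ⟨s, hs⟩ := CMReg18.exists_basis_gen k hL hgg
  let D := CMReg18.ofInv eL hL hL' s hs
  let φ : D.O 1 ≅ L := CMReg18.intPowNat 1 ≪≫ M2.tensorPowOne L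
  refine CurveVA17.prods_of_iso (Iso.refl A) φ fun z => D.mem_prods_one k A (fun l _ => ?_) z
  refine CMReg18.van_iso k (D.tpowIso A 1 (2 + l)).symm ?_
  rcases Nat.eq_zero_or_pos l with rfl | hl
  · let ψ : D.O (1 - ((2 + 0 : ℕ) : ℤ)) ≅ L' :=
      eqToIso (congrArg D.O (show (1 : ℤ) - ((2 + 0 : ℕ) : ℤ) = -((1 : ℕ) : ℤ) by norm_num)) ≪≫
        CMReg18.intPowNeg 1 ≪≫ M2.tensorPowOne L'
    exact CMReg18.van_iso k (M2.tensorIso (Iso.refl A) ψ.symm) h
  · obtain ⟨l, rfl⟩ : ∃ l', l = l' + 1 := ⟨l - 1, by omega⟩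
    rw [show 1 + (l + 1) = l + 2 by omega]
    exact CurveCoh17.subsingleton_HH_of_dim hdim _ (CurveCoh17.isCoh_of_ofRank
      ((M2.isInvertible_iff_isFinLocFreeOfRank_one _).1 (M2.isInvertible_tensor hA (D.inv _)))).1 l

/-- A product of two globally generated modules with enough vanishing is very ample. -/
theorem exists_closedImmersion_of_factors (hdim : topologicalKrullDim X ≤ 1) {A A' B B' M : X.Modules}
    (hA : PicF.IsInvertible A) (hAg : Curv2.IsGloballyGenerated A) (hA' : PicF.IsInvertible A')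
    (eA : CohB1.tensorMod A A' ≅ Coh.structureModule X)
    (hB : PicF.IsInvertible B) (hBg : Curv2.IsGloballyGenerated B) (hB' : PicF.IsInvertible B')
    (eB : CohB1.tensorMod B B' ≅ Coh.structureModule X)
    (e : M ≅ CohB1.tensorMod A B) (hM : CohB1.IsAmple M)
    (h1 : ∀ n, 1 ≤ n → Subsingleton (Coh.HH X (CohB1.tensorMod (CohB1.tensorPow M n) A') 1))
    (h2 : ∀ n, 1 ≤ n → Subsingleton (Coh.HH X (CohB1.tensorMod (CohB1.tensorMod (CohB1.tensorPow M n) A) B') 1)) :
    ∃ (n : ℕ) (i : X ⟶ CohB1.ProjSpace n k), IsClosedImmersion i ∧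
      i ≫ CohB1.ProjSpace.toSpec n k = X ↘ Spec (CommRingCat.of k) ∧
      Nonempty ((Scheme.Modules.pullback i).obj (_root_.Twist.twistProjSpace n k 1) ≅ M) := by
  refine CurveVA17.exists_closedImmersion_of_pn k (AmpleFib.isRelVeryAmplePn_of_gen (X ↘ Spec (CommRingCat.of k)) hM ?_)
  intro n hn
  let Mn := CohB1.tensorPow M n
  have hMn : PicF.IsInvertible Mn := M2.isInvertible_tensorPow hM.1 n
  have pA := prods_all k hdim hMn hA hAg hA' eA (h1 n hn)
  have pB := prods_all k hdim (M2.isInvertible_tensor hMn hA) hB hBg hB' eB (h2 n hn)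
  let φ : CohB1.tensorMod (CohB1.tensorMod Mn A) B ≅ CohB1.tensorMod Mn M :=
    M2.tensorAssoc Mn A B ≪≫ M2.tensorIso (Iso.refl Mn) e.symm
  suffices key : ∀ y, y ∈ CMReg18.TwistData.prods Mn M by
    refine eq_top_iff.2 fun y _ => (AddSubgroup.closure_le _).2 ?_ (key y)
    rintro _ ⟨⟨a, s⟩, rfl⟩
    exact AddSubgroup.subset_closure ⟨a, s, (Amp.tmul_eq_tsec _ _).symm⟩
  intro y
  rw [← show φ.hom.app ⊤ (φ.inv.app ⊤ y) = y from congrArg (fun f => f.app ⊤ y) φ.inv_hom_id]
  have hy := pB (φ.inv.app ⊤ y)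
  revert hy
  generalize φ.inv.app ⊤ y = z
  intro hy
  induction hy using AddSubgroup.closure_induction with
  | mem z hz =>
    obtain ⟨⟨b, t⟩, rfl⟩ := hz
    have hb := pA b
    induction hb using AddSubgroup.closure_induction with
    | mem b hb =>
      obtain ⟨⟨a, s⟩, rfl⟩ := hb
      simp only [φ, Iso.trans_hom, Scheme.Modules.Hom.comp_app, CategoryTheory.comp_apply]
      rw [VA11.tensorAssoc_tsec, CMReg18.TwistData.tensorIso_hom_tsec]
      exact CMReg18.TwistData.tsec_mem_prods _ _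
    | zero => dsimp only; rw [Amp.tsec_zero_left, map_zero]; exact zero_mem _
    | add b b' _ _ h1 h2 => dsimp only at h1 h2 ⊢; rw [M2.tsec_add_left, map_add]; exact add_mem h1 h2
    | neg b _ h1 =>
      dsimp only at h1 ⊢
      rw [show M2.tsec (CohB1.tensorMod Mn A) B (-b) t = -M2.tsec (CohB1.tensorMod Mn A) B b t by
        rw [← neg_one_smul Γ(X, ⊤) b, M2.tsec_smul_left, neg_one_smul], map_neg]
      exact neg_mem h1
  | zero => rw [map_zero]; exact zero_mem _
  | add z w _ _ hz hw => rw [map_add]; exact add_mem hz hw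
  | neg z _ hz => rw [map_neg]; exact neg_mem hz

open CurveH1Min27

variable {k} [IsAlgClosed k] [AlgebraicGeometry.IsReduced X] [ConnectedSpace X]
  {ω : X.Modules} (hω : PicF.IsInvertible ω) {t : Coh.HH X ω 1 →ₗ[k] k} (ht : IsTrace k ω t)
  (hd : topologicalKrullDim X = 1) {D : Set X} (hDf : D.Finite) (hDc : IsClosed D)
  (hDcl : ∀ x ∈ D, IsClosed ({x} : Set X)) {N : X.Modules}
  (hN : ClSub.IsInverseOf N (ClSub.idealMod (Scheme.IdealSheafData.vanishingIdeal ⟨D, hDc⟩)))

include hω ht hd hN hDcl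

theorem degBig_pow (hst : CohB1.IsAmple (CohB1.tensorMod ω N)) {i : ℕ} (hi : 2 ≤ i) :
    DegBig k (CohB1.tensorPow (CohB1.tensorMod ω N) i) := by
  intro T hT hg hc h1
  haveI := CohFound.isNoetherian_of_isProper (X ↘ Spec (CommRingCat.of k))
  show 2 * (genusOn k (vI T hT) : ℤ) ≤ _
  have hNi : PicF.IsInvertible N := hN.elim fun eN => M2.isInvertible_of_tensor_iso_unit N _ eN
  rw [degOn_pow hst.1 hd.le hT]
  have hpos := deg_pos_sub (k := k) hst (vI T hT) hc h1
  rw [← delta_eq_degOn hst.1 hT] at hpos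
  have hDT := PointedAmple1.delta_inverse (k := k) hd hDc hDcl hN hT hg
  have hadj := adjunction hω ht hd.le hT isClosed_closure (isComplSub_closure hT hg)
  rw [euler_connected_sub hd.le hT hc] at hadj
  have hsum := delta_tensor (k := k) hω hNi hd.le hT
  have hi' : (2 : ℤ) ≤ i := by exact_mod_cast hi
  have h2 := mul_le_mul_of_nonneg_right hi' hpos.le
  omega

include hDf in
theorem veryAmple_pow (hst : CohB1.IsAmple (CohB1.tensorMod ω N)) {m : ℕ} (hm : 5 ≤ m)
    (hamp : CohB1.IsAmple (CohB1.tensorPow (CohB1.tensorMod ω N) m)) :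
    ∃ (n : ℕ) (i : X ⟶ CohB1.ProjSpace n k), IsClosedImmersion i ∧
      i ≫ CohB1.ProjSpace.toSpec n k = X ↘ Spec (CommRingCat.of k) ∧
      Nonempty ((Scheme.Modules.pullback i).obj (_root_.Twist.twistProjSpace n k 1) ≅
        CohB1.tensorPow (CohB1.tensorMod ω N) m) := by
  let P := CohB1.tensorMod ω N
  have hP : PicF.IsInvertible P := hst.1
  have gg : ∀ {i : ℕ}, 2 ≤ i → Curv2.IsGloballyGenerated (CohB1.tensorPow P i) := fun {i} hi =>
    globallyGenerated_of_degBig (k := k) hd (M2.isInvertible_tensorPow hP i)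
      (degBig_pow hω ht hd hDc hDcl hN hst hi)
  obtain ⟨A', hA', ⟨eA⟩⟩ := M2.exists_inverse (M2.isInvertible_tensorPow hP 2)
  obtain ⟨B', hB', ⟨eB⟩⟩ := M2.exists_inverse (M2.isInvertible_tensorPow hP (m - 2))
  refine exists_closedImmersion_of_factors k hd.le (M2.isInvertible_tensorPow hP 2) (gg le_rfl) hA' eA
    (M2.isInvertible_tensorPow hP (m - 2)) (gg (by omega)) hB' eB
    (eqToIso (congrArg (CohB1.tensorPow P) (show m = 2 + (m - 2) by omega)) ≪≫ M2.tensorPowAdd P 2 (m - 2)) hamp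
    (fun n hn => ?_) fun n hn => ?_
  · have h5 : 5 ≤ m * n := le_trans hm (Nat.le_mul_of_pos_right m hn)
    exact CMReg18.van_iso k
      (cancel (M2.tensorPowPow P m n ≪≫
        eqToIso (congrArg (CohB1.tensorPow P) (show m * n = (m * n - 2) + 2 by omega)) ≪≫
        M2.tensorPowAdd P (m * n - 2) 2) eA).symm
      (PointedAmple1.h1_pow hω ht hd hDf hDc hDcl hN hst (by omega))
  · have h5 : m ≤ m * n := Nat.le_mul_of_pos_right m hn
    exact CMReg18.van_iso k
      (cancel (M2.tensorIso (M2.tensorPowPow P m n) (Iso.refl _) ≪≫ (M2.tensorPowAdd P (m * n) 2).symm ≪≫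
        eqToIso (congrArg (CohB1.tensorPow P) (show m * n + 2 = (m * n + 4 - m) + (m - 2) by omega)) ≪≫
        M2.tensorPowAdd P (m * n + 4 - m) (m - 2)) eB).symm
      (PointedAmple1.h1_pow hω ht hd hDf hDc hDcl hN hst (by omega))

end Groth.Agent.PointedVA1
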