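import Groth.Prelude.Def_FEt
import Groth.Agent.S1573
import Groth.Agent.Lib.KrullAkizuki.Basic
import Mathlib.AlgebraicGeometry.Stalk
import Mathlib.AlgebraicGeometry.Morphisms.LocalIso
import Mathlib.AlgebraicGeometry.Morphisms.UniversallyOpen
import Mathlib.RingTheory.Ideal.Height
import Mathlib.RingTheory.Localization.BaseChange

/-! Fibres of morphisms that are open immersions off a closed point. -/

set_option autoImplicit false
set_option linter.style.haveILetI false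
set_option linter.unusedSectionVars false
set_option backward.isDefEq.respectTransparency false
set_option maxHeartbeats 800000

universe u

open CategoryTheory CategoryTheory.Limits AlgebraicGeometry TensorProduct

namespace Groth.Agent.Pur27

/-- Between a one-dimensional Noetherian domain and its fraction field, primes containing a nonzero element of the
base are maximal. -/
theorem isMaximal_of_akizuki {R D : Type u} [CommRing R] [IsDomain R] [IsNoetherianRing R] [Ring.KrullDimLE 1 R]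
    [CommRing D] [Algebra R D] (K : Type u) [Field K] [Algebra R K] [IsFractionRing R K] (ι : D →ₐ[R] K)
    (hι : Function.Injective ι) {a : R} (ha : a ≠ 0) (P : Ideal D) [P.IsPrime] (haP : algebraMap R D a ∈ P) :
    P.IsMaximal := by
  let M : Submodule R K := LinearMap.range ι.toLinearMap
  have hfin : IsFiniteLength R (M ⧸ KrullAkizuki.mulRange a M) :=
    Module.length_ne_top_iff.1 (KrullAkizuki.length_quotient_le R K (L := K) M ha)
  haveI : IsArtinian R (M ⧸ KrullAkizuki.mulRange a M) := (isFiniteLength_iff_isNoetherian_isArtinian.1 hfin).2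
  let e : D ≃ₗ[R] M := LinearEquiv.ofInjective ι.toLinearMap hι
  let g : M →ₗ[R] D ⧸ P := (Ideal.Quotient.mkₐ R P).toLinearMap ∘ₗ e.symm.toLinearMap
  have hg : KrullAkizuki.mulRange a M ≤ LinearMap.ker g := by
    rintro _ ⟨x, rfl⟩
    change Ideal.Quotient.mk P (e.symm (a • x)) = 0
    rw [map_smul, Ideal.Quotient.eq_zero_iff_mem, Algebra.smul_def]
    exact P.mul_mem_right _ haP
  haveI : IsArtinian R (D ⧸ P) := isArtinian_of_surjective _ ((KrullAkizuki.mulRange a M).liftQ g hg) (fun x => by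
    obtain ⟨d, rfl⟩ := Ideal.Quotient.mk_surjective x
    exact ⟨Submodule.Quotient.mk (e d), by simp [g]⟩)
  haveI : IsArtinianRing (D ⧸ P) := isArtinian_of_tower R inferInstance
  exact Ideal.Quotient.maximal_of_isField P (IsArtinianRing.isField_of_isDomain _)

variable {R : CommRingCat.{u}}

/-- Where a morphism of affine schemes is an open immersion, the local rings agree. -/
theorem bijective_localRingHom {C : CommRingCat.{u}} (ψ : R ⟶ C) (P : (Spec R).Opens)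
    [IsOpenImmersion (Spec.map ψ ∣_ P)] (q : Spec C) (hq : (Spec.map ψ) q ∈ P) :
    Function.Bijective (Localization.localRingHom (q.asIdeal.comap ψ.hom) q.asIdeal ψ.hom rfl) := by
  have h1 : IsIso ((Spec.map ψ ∣_ P).stalkMap ⟨q, hq⟩) := inferInstance
  have h2 : IsIso ((Spec.map ψ).stalkMap q) :=
    ((MorphismProperty.isomorphisms CommRingCat).arrow_mk_iso_iff (morphismRestrictStalkMap (Spec.map ψ) P ⟨q, hq⟩)).1 h1
  have h3 := ((MorphismProperty.isomorphisms CommRingCat).arrow_mk_iso_iff (Scheme.arrowStalkMapSpecIso ψ q)).1 h2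
  haveI : IsIso (CommRingCat.ofHom (Localization.localRingHom (q.asIdeal.comap ψ.hom) q.asIdeal ψ.hom rfl)) := h3
  exact ConcreteCategory.bijective_of_isIso (CommRingCat.ofHom (Localization.localRingHom (q.asIdeal.comap ψ.hom) q.asIdeal ψ.hom rfl))

/-- A prime over a point next to the closed one has no proper chain above it. -/
theorem eq_of_le [IsLocalRing R] [IsNoetherianRing R] {C : CommRingCat.{u}} (ψ : R ⟶ C) (P : (Spec R).Opens)
    [IsOpenImmersion (Spec.map ψ ∣_ P)] (q w w' : Spec C) (hq : (Spec.map ψ) q ∈ P)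
    (hne : (Spec.map ψ) q ≠ IsLocalRing.closedPoint R)
    (hmax : ∀ t : Spec R, (Spec.map ψ) q ⤳ t → t = (Spec.map ψ) q ∨ t = IsLocalRing.closedPoint R)
    (hw : (Spec.map ψ) w = IsLocalRing.closedPoint R) (hqw : q.asIdeal ≤ w.asIdeal) (hww' : w.asIdeal ≤ w'.asIdeal) :
    w' = w := by
  let t := q.asIdeal.comap ψ.hom
  have hbij := bijective_localRingHom ψ P q hq
  let θ : t.ResidueField →+* q.asIdeal.ResidueField := Ideal.ResidueField.map t q.asIdeal ψ.hom rfl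
  have hθ : Function.Bijective θ := ⟨θ.injective, fun x => by
    obtain ⟨x, rfl⟩ := IsLocalRing.residue_surjective x
    obtain ⟨y, rfl⟩ := hbij.2 x
    exact ⟨IsLocalRing.residue _ y, rfl⟩⟩
  let θe := RingEquiv.ofBijective θ hθ
  haveI : Ring.KrullDimLE 1 (R ⧸ t) := by
    refine Ring.krullDimLE_one_iff_of_noZeroDivisors.2 fun J hJ0 hJ => ?_
    let t' : Spec R := ⟨J.comap (Ideal.Quotient.mk t), inferInstance⟩
    rcases hmax t' ((PrimeSpectrum.le_iff_specializes _ _).1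
      (show t ≤ J.comap (Ideal.Quotient.mk t) from
        fun x hx => by simp [Ideal.Quotient.eq_zero_iff_mem.2 hx])) with h | h
    · refine absurd ?_ hJ0
      rw [← Ideal.map_comap_of_surjective _ Ideal.Quotient.mk_surjective J,
        show J.comap (Ideal.Quotient.mk t) = t from congrArg PrimeSpectrum.asIdeal h, Ideal.map_quotient_self]
    · have hm : (J.comap (Ideal.Quotient.mk t)).IsMaximal := by
        rw [show J.comap (Ideal.Quotient.mk t) = IsLocalRing.maximalIdeal R from congrArg PrimeSpectrum.asIdeal h]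
        infer_instance
      have := Ideal.map_eq_top_or_isMaximal_of_surjective (Ideal.Quotient.mk t) Ideal.Quotient.mk_surjective hm
      rw [Ideal.map_comap_of_surjective _ Ideal.Quotient.mk_surjective] at this
      exact this.resolve_left hJ.ne_top
  letI : Algebra (R ⧸ t) (C ⧸ q.asIdeal) := (Ideal.quotientMap q.asIdeal ψ.hom le_rfl).toAlgebra
  let ι : C ⧸ q.asIdeal →ₐ[R ⧸ t] t.ResidueField :=
    { toRingHom := θe.symm.toRingHom.comp (algebraMap (C ⧸ q.asIdeal) q.asIdeal.ResidueField)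
      commutes' := fun x => by
        obtain ⟨x, rfl⟩ := Ideal.Quotient.mk_surjective x
        change θe.symm _ = _
        rw [RingEquiv.symm_apply_eq]
        exact (Ideal.ResidueField.map_algebraMap t q.asIdeal ψ.hom rfl x).symm }
  have hι : Function.Injective ι :=
    θe.symm.injective.comp (IsFractionRing.injective (C ⧸ q.asIdeal) q.asIdeal.ResidueField)
  have hwm : w.asIdeal.comap ψ.hom = IsLocalRing.maximalIdeal R := congrArg PrimeSpectrum.asIdeal hw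
  obtain ⟨a, ham, hat⟩ := Set.not_subset.1 (show ¬ (IsLocalRing.maximalIdeal R : Set R) ⊆ t from fun h =>
    hne (PrimeSpectrum.ext ((IsLocalRing.maximalIdeal.isMaximal R).eq_of_le
      (Ideal.IsPrime.ne_top inferInstance) h).symm))
  haveI : (w.asIdeal.map (Ideal.Quotient.mk q.asIdeal)).IsPrime :=
    Ideal.map_isPrime_of_surjective Ideal.Quotient.mk_surjective (by rwa [Ideal.mk_ker])
  have haw : ψ.hom a ∈ w.asIdeal := by rw [← hwm] at ham; exact ham
  haveI hmaxw : (w.asIdeal.map (Ideal.Quotient.mk q.asIdeal)).IsMaximal :=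
    isMaximal_of_akizuki t.ResidueField ι hι (a := Ideal.Quotient.mk t a)
      (fun h => hat (Ideal.Quotient.eq_zero_iff_mem.1 h)) _ (Ideal.mem_map_of_mem _ haw)
  have hw_max : w.asIdeal.IsMaximal := by
    have := Ideal.comap_isMaximal_of_surjective (Ideal.Quotient.mk q.asIdeal) Ideal.Quotient.mk_surjective
      (K := w.asIdeal.map (Ideal.Quotient.mk q.asIdeal))
    rwa [Ideal.comap_map_of_surjective _ Ideal.Quotient.mk_surjective, ← RingHom.ker, Ideal.mk_ker,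
      sup_eq_left.2 hqw] at this
  exact PrimeSpectrum.ext (hw_max.eq_of_le w'.isPrime.ne_top hww').symm

/-- The dimension bound, once the image avoids a point of every component. -/
theorem dim_le_one {A : Type u} [CommRing A] [IsLocalRing A]
    (hW : ∀ U : (Spec (CommRingCat.of A)).Opens, ∀ hU : U ≤ FEt.puncturedSpec A,
      (∀ T ∈ irreducibleComponents ↥(FEt.puncturedSpec A), ¬ Subtype.val '' T ⊆ (U : Set _)) →
        IsAffineHom ((Spec (CommRingCat.of A)).homOfLE hU) → IsAffineOpen U)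
    {N : Scheme.{u}} [IsAffine N] [IsLocallyNoetherian N] (φ : N ⟶ Spec (CommRingCat.of A))
    [IsOpenImmersion (φ ∣_ FEt.puncturedSpec A)]
    (hcomp : ∀ T ∈ irreducibleComponents ↥(FEt.puncturedSpec A), ∃ t ∈ T, ∀ n : N, φ n ≠ t.1)
    (w : N) (hw : w ∉ φ ⁻¹ᵁ FEt.puncturedSpec A)
    (hgen : ∀ n : N, n ∉ φ ⁻¹ᵁ FEt.puncturedSpec A → n ⤳ w → n = w) :
    ringKrullDim (N.presheaf.stalk w) ≤ 1 := by
  let P := FEt.puncturedSpec A
  let j := (φ ∣_ P) ≫ P.ι
  let U := j.opensRange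
  have hU : U ≤ P := by
    rintro _ ⟨n, rfl⟩
    exact ((φ ∣_ P) n).2
  have hrange : ∀ x ∈ U, ∃ n : N, φ n = x := by
    rintro _ ⟨n, rfl⟩
    exact ⟨(φ ⁻¹ᵁ P).ι n, by rw [← Scheme.Hom.comp_apply, ← morphismRestrict_ι]⟩
  have hfac : j.isoOpensRange.hom ≫ (Spec (CommRingCat.of A)).homOfLE hU = φ ∣_ P := by
    rw [← cancel_mono P.ι, Category.assoc, Scheme.homOfLE_ι]
    exact j.isoOpensRange_hom_ι
  haveI : IsAffineHom φ := isAffineHom_of_isAffine φ
  haveI : IsAffineHom (φ ∣_ P) := IsZariskiLocalAtTarget.restrict (P := @IsAffineHom) ‹_› P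
  have haff : IsAffineHom ((Spec (CommRingCat.of A)).homOfLE hU) := by
    rw [(Iso.eq_inv_comp j.isoOpensRange).2 hfac]
    infer_instance
  haveI : IsAffine (U : Scheme.{u}) := hW U hU (fun T hT hsub => by
    obtain ⟨t, htT, ht⟩ := hcomp T hT
    obtain ⟨n, hn⟩ := hrange _ (hsub ⟨t, htT, rfl⟩)
    exact ht n hn) haff
  haveI : IsAffine (φ ⁻¹ᵁ P : Scheme.{u}) := IsAffine.of_isIso j.isoOpensRange.hom
  haveI : IsAffineHom (φ ⁻¹ᵁ P).ι := isAffineHom_of_isAffine _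
  exact (Groth.Agent.S1573.result N (φ ⁻¹ᵁ P) w hw hgen).1

/-- Either the local ring has dimension at most one or the point is closed in the fibre on the chart. -/
theorem core {X Y : Scheme.{u}} [IsLocallyNoetherian X] [IsLocallyNoetherian Y] (g : X ⟶ Y) (y : ↥Y)
    (Y' : Y.Opens) (hY' : ∀ y' : Y, y' ⤳ y → (y' ∈ Y' ↔ y' ≠ y))
    (hW : (∀ U : (Spec (Y.presheaf.stalk y)).Opens, ∀ hU : U ≤ FEt.puncturedSpec ↑(Y.presheaf.stalk y),
        (∀ T ∈ irreducibleComponents ↥(FEt.puncturedSpec ↑(Y.presheaf.stalk y)), ¬ Subtype.val '' T ⊆ (U : Set _)) →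
        IsAffineHom ((Spec (Y.presheaf.stalk y)).homOfLE hU) → IsAffineOpen U))
    {V : Y.Opens} (hV : IsAffineOpen V) (hyV : y ∈ V) {O : X.Opens} (hO : IsAffineOpen O) (hOV : O ≤ g ⁻¹ᵁ V)
    (hImm : IsOpenImmersion ((O.ι ≫ g) ∣_ Y'))
    (z : ↥X) (hzO : z ∈ O) (hz : g z = y) (hmax : ∀ z' : ↥X, z' ∈ O → g z' = y → z' ⤳ z → z' = z) :
    ringKrullDim ↑(X.presheaf.stalk z) ≤ 1 ∨ ∀ z' : ↥X, z' ∈ O → g z' = y → z ⤳ z' → z' = z := by
  classical
  let φ₀ : Γ(Y, V) ⟶ Γ(X, O) := g.appLE V O hOV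
  letI : Algebra Γ(Y, V) Γ(X, O) := φ₀.hom.toAlgebra
  letI : Algebra Γ(Y, V) (Y.presheaf.stalk y) := TopCat.Presheaf.algebra_section_stalk Y.presheaf ⟨y, hyV⟩
  haveI hloc := hV.isLocalization_stalk ⟨y, hyV⟩
  let pp := (hV.primeIdealOf ⟨y, hyV⟩).asIdeal
  haveI : IsNoetherianRing Γ(Y, V) := IsLocallyNoetherian.component_noetherian ⟨V, hV⟩
  haveI : IsNoetherianRing Γ(X, O) := IsLocallyNoetherian.component_noetherian ⟨O, hO⟩
  haveI : IsNoetherianRing (Y.presheaf.stalk y) := IsLocalization.isNoetherianRing pp.primeCompl _ inferInstance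
  let R : CommRingCat.{u} := Y.presheaf.stalk y
  let C : CommRingCat.{u} := CommRingCat.of (Γ(X, O) ⊗[Γ(Y, V)] (Y.presheaf.stalk y))
  let ψ : R ⟶ C := CommRingCat.ofHom (Algebra.TensorProduct.includeRight (R := Γ(Y, V)) (A := Γ(X, O)) (B := Y.presheaf.stalk y)).toRingHom
  let χ : Γ(X, O) ⟶ C := CommRingCat.ofHom Algebra.TensorProduct.includeLeftRingHom
  let S := Algebra.algebraMapSubmonoid Γ(X, O) pp.primeCompl
  haveI hCloc : IsLocalization S (Γ(X, O) ⊗[Γ(Y, V)] (Y.presheaf.stalk y)) :=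
    IsLocalization.tensor _ pp.primeCompl
  haveI : IsNoetherianRing C := IsLocalization.isNoetherianRing S _ inferInstance
  let h := Spec.map ψ
  let jR : Spec R ⟶ Y := Spec.map (CommRingCat.ofHom (algebraMap Γ(Y, V) (Y.presheaf.stalk y))) ≫ hV.fromSpec
  have hjR : jR = Y.fromSpecStalk y := hV.fromSpecStalk_eq_fromSpecStalk hyV
  have hjmono : Mono jR := hjR ▸ inferInstance
  have hcomm : CommRingCat.ofHom (algebraMap Γ(Y, V) (Y.presheaf.stalk y)) ≫ ψ = φ₀ ≫ χ :=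
    CommRingCat.hom_ext (Algebra.TensorProduct.includeLeftRingHom_comp_algebraMap
      (R := Γ(Y, V)) (A := Γ(X, O)) (B := Y.presheaf.stalk y)).symm
  let π : Spec C ⟶ X := Spec.map χ ≫ hO.fromSpec
  have hsq : π ≫ g = h ≫ jR := by
    simp only [π, h, jR, Category.assoc]
    rw [← hV.SpecMap_appLE_fromSpec g hO hOV, ← Spec.map_comp_assoc, ← Spec.map_comp_assoc, hcomm]
  let P := FEt.puncturedSpec R
  have hjinj : Function.Injective jR := hjR ▸ (Y.fromSpecStalk y).isEmbedding.injective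
  have hjc : jR (IsLocalRing.closedPoint R) = y := by rw [hjR]; exact Scheme.fromSpecStalk_closedPoint
  have hjP : ∀ x : Spec R, x ∈ P ↔ jR x ∈ Y' := fun x => by
    change x ∈ ({IsLocalRing.closedPoint R}ᶜ : Set _) ↔ jR x ∈ Y'
    rw [hY' (jR x) (hjc ▸ (IsLocalRing.specializes_closedPoint x).map jR.continuous), Set.mem_compl_singleton_iff]
    exact ⟨fun hx e => hx (hjinj (e.trans hjc.symm)), fun hx e => hx (e ▸ hjc)⟩
  have hbase : IsPullback (Spec.map χ) h (Spec.map φ₀)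
      (Spec.map (CommRingCat.ofHom (algebraMap Γ(Y, V) (Y.presheaf.stalk y)))) := by
    exact isPullback_SpecMap_of_isPushout _ _ _ _
      (CommRingCat.isPushout_tensorProduct Γ(Y, V) Γ(X, O) (Y.presheaf.stalk y))
  haveI hPimm : IsOpenImmersion (h ∣_ P) := by
    let f := hO.fromSpec ≫ g
    have hf : f = Spec.map φ₀ ≫ hV.fromSpec := (hV.SpecMap_appLE_fromSpec g hO hOV).symm
    have hbig : IsPullback (Spec.map χ) h f jR := by
      rw [hf]
      refine ⟨⟨by simp only [jR, ← Category.assoc, hbase.w]⟩, ⟨PullbackCone.IsLimit.mk _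
        (fun s => hbase.lift s.fst s.snd ?_) (fun s => hbase.lift_fst _ _ _) (fun s => hbase.lift_snd _ _ _)
        (fun s m h₁ h₂ => hbase.hom_ext ?_ ?_)⟩⟩
      · rw [← cancel_mono hV.fromSpec, Category.assoc, Category.assoc]; exact s.condition
      · rw [hbase.lift_fst]; exact h₁
      · rw [hbase.lift_snd]; exact h₂
    haveI : IsOpenImmersion (f ∣_ Y') := by
      haveI := hImm
      rw [show f = hO.isoSpec.inv ≫ O.ι ≫ g from rfl, morphismRestrict_comp]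
      infer_instance
    have hle : Set.range (P.ι ≫ jR) ⊆ Set.range Y'.ι := by
      rintro _ ⟨x, rfl⟩
      rw [Scheme.Opens.range_ι]
      exact (hjP _).1 x.2
    let k := IsOpenImmersion.lift Y'.ι (P.ι ≫ jR) hle
    have hk : k ≫ Y'.ι = P.ι ≫ jR := IsOpenImmersion.lift_fac _ _ _
    have h1 : IsPullback ((h ⁻¹ᵁ P).ι ≫ Spec.map χ) (h ∣_ P) f (k ≫ Y'.ι) := by
      rw [hk]
      exact (isPullback_morphismRestrict h P).flip.paste_horiz hbig
    have hle' : Set.range ((h ⁻¹ᵁ P).ι ≫ Spec.map χ) ⊆ Set.range (f ⁻¹ᵁ Y').ι := by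
      rintro _ ⟨x, rfl⟩
      rw [Scheme.Opens.range_ι]
      change f (((h ⁻¹ᵁ P).ι ≫ Spec.map χ) x) ∈ Y'
      rw [← Scheme.Hom.comp_apply, h1.w, Scheme.Hom.comp_apply]
      exact ((k _) : ↥Y').2
    let l := IsOpenImmersion.lift (f ⁻¹ᵁ Y').ι ((h ⁻¹ᵁ P).ι ≫ Spec.map χ) hle'
    have hl : l ≫ (f ⁻¹ᵁ Y').ι = (h ⁻¹ᵁ P).ι ≫ Spec.map χ := IsOpenImmersion.lift_fac _ _ _
    have h2 : IsPullback l (h ∣_ P) (f ∣_ Y') k := by
      refine IsPullback.of_right (by rw [hl]; exact h1) ?_ (isPullback_morphismRestrict f Y').flip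
      rw [← cancel_mono Y'.ι, Category.assoc, Category.assoc, morphismRestrict_ι, ← Category.assoc, hl, hk]
      exact h1.w.trans (by rw [hk])
    exact MorphismProperty.of_isPullback h2 inferInstance
  have hπemb : IsPreimmersion π := by
    haveI : IsPreimmersion (Spec.map χ) := IsPreimmersion.of_isLocalization S
    exact inferInstanceAs (IsPreimmersion (Spec.map χ ≫ hO.fromSpec))
  have hlift : ∀ x ∈ O, g x = y → ∃ w : Spec C, π w = x ∧ h w = IsLocalRing.closedPoint R := by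
    intro x hxO hgx
    let q := hO.primeIdealOf ⟨x, hxO⟩
    have hqx : hO.fromSpec q = x := hO.fromSpec_primeIdealOf _
    have hqp : q.asIdeal.comap φ₀.hom = pp := by
      refine congrArg PrimeSpectrum.asIdeal (?_ : Spec.map φ₀ q = hV.primeIdealOf ⟨y, hyV⟩)
      apply hV.fromSpec.isOpenEmbedding.injective
      rw [hV.fromSpec_primeIdealOf, ← Scheme.Hom.comp_apply, hV.SpecMap_appLE_fromSpec g hO hOV,
        Scheme.Hom.comp_apply, hqx, hgx]
    have hdis : Disjoint (S : Set Γ(X, O)) q.asIdeal := by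
      refine Set.disjoint_left.2 ?_
      rintro _ ⟨b, hb, rfl⟩ hbq
      exact hb (hqp ▸ (hbq : b ∈ q.asIdeal.comap φ₀.hom))
    let w : Spec C := ⟨Ideal.map (algebraMap Γ(X, O) C) q.asIdeal,
      IsLocalization.isPrime_of_isPrime_disjoint S _ _ q.isPrime hdis⟩
    have hw : π w = x := by
      refine Eq.trans ?_ hqx
      change hO.fromSpec ((Spec.map χ) w) = _
      exact congrArg _ (PrimeSpectrum.ext (IsLocalization.under_map_of_isPrime_disjoint S _ q.isPrime hdis))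
    refine ⟨w, hw, hjinj ?_⟩
    rw [hjc, ← Scheme.Hom.comp_apply, ← hsq, Scheme.Hom.comp_apply, hw, hgx]
  obtain ⟨w, hwz, hwc⟩ := hlift z hzO hz
  have hnotP : ∀ {x : Spec R}, x ∉ P → x = IsLocalRing.closedPoint R := fun hx => not_not.1 hx
  haveI : TopologicalSpace.NoetherianSpace ↥P :=
    (TopologicalSpace.NoetherianSpace.set (α := Spec R) (P : Set (Spec R)) : _)
  have hchoice : ∀ T ∈ irreducibleComponents ↥P, ∃ t ∈ T,
      ∀ t' : Spec R, t.1 ⤳ t' → t' = t.1 ∨ t' = IsLocalRing.closedPoint R := by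
    intro T hT
    obtain ⟨t₀, ht₀⟩ := hT.1.nonempty
    obtain ⟨J, hJ, hJmax⟩ := set_has_maximal_iff_noetherian.2 (inferInstance : IsNoetherianRing R)
      {J : Ideal R | J.IsPrime ∧ J ≠ IsLocalRing.maximalIdeal R ∧ t₀.1.asIdeal ≤ J}
      ⟨_, t₀.1.isPrime, fun e => t₀.2 (PrimeSpectrum.ext e), le_rfl⟩
    let t : Spec R := ⟨J, hJ.1⟩
    have htP : t ∈ P := fun e => hJ.2.1 (congrArg PrimeSpectrum.asIdeal e)
    refine ⟨⟨t, htP⟩, ?_, fun t' ht' => ?_⟩
    · refine Specializes.mem_closed ?_ (isClosed_of_mem_irreducibleComponents T hT) ht₀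
      exact (subtype_specializes_iff _ _).2 ((PrimeSpectrum.le_iff_specializes t₀.1 t).1 hJ.2.2)
    · by_contra hno
      rw [not_or] at hno
      have hle : J ≤ t'.asIdeal := (PrimeSpectrum.le_iff_specializes t t').2 ht'
      exact hJmax t'.asIdeal ⟨t'.isPrime, fun e => hno.2 (PrimeSpectrum.ext e), hJ.2.2.trans hle⟩
        (lt_of_le_of_ne hle fun e => hno.1 (PrimeSpectrum.ext e.symm))
  choose t htT htmax using hchoice
  by_cases hiso : ∃ T, ∃ hT : T ∈ irreducibleComponents ↥P, ∃ q : Spec C, h q = (t T hT).1 ∧ q ⤳ w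
  · obtain ⟨T, hT, q, hq, hqw⟩ := hiso
    refine Or.inr (fun z' hz'O hgz' hsp => ?_)
    obtain ⟨w', hw', -⟩ := hlift z' hz'O hgz'
    have hww' : w ⤳ w' := π.isEmbedding.toIsInducing.specializes_iff.1 (by rw [hwz, hw']; exact hsp)
    have := eq_of_le ψ P q w w' (by rw [hq]; exact (t T hT).2)
      (by rw [hq]; exact (t T hT).2) (by rw [hq]; exact htmax T hT) hwc
      ((PrimeSpectrum.le_iff_specializes q w).2 hqw) ((PrimeSpectrum.le_iff_specializes w w').2 hww')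
    rw [← hw', this, hwz]
  · refine Or.inl ?_
    simp only [not_exists, not_and] at hiso
    haveI : Fintype ↥(irreducibleComponents ↥P) :=
      TopologicalSpace.NoetherianSpace.finite_irreducibleComponents.fintype
    have hc : ∀ T : ↥(irreducibleComponents ↥P), ∃ c : C, c ∉ w.asIdeal ∧
        ∀ q : Spec C, h q = (t T.1 T.2).1 → c ∈ q.asIdeal := by
      intro T
      by_cases hex : ∃ q, h q = (t T.1 T.2).1
      · obtain ⟨q, hq⟩ := hex
        obtain ⟨c, hcq, hcw⟩ := Set.not_subset.1 (show ¬ (q.asIdeal : Set C) ⊆ w.asIdeal from fun hh =>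
          hiso T.1 T.2 q hq ((PrimeSpectrum.le_iff_specializes q w).1 hh))
        refine ⟨c, hcw, fun q' hq' => ?_⟩
        have hqP : q ∈ h ⁻¹ᵁ P := show h q ∈ P from hq ▸ (t T.1 T.2).2
        have hqP' : q' ∈ h ⁻¹ᵁ P := show h q' ∈ P from hq' ▸ (t T.1 T.2).2
        have := congrArg Subtype.val ((h ∣_ P).isOpenEmbedding.injective (a₁ := ⟨q, hqP⟩) (a₂ := ⟨q', hqP'⟩)
          (Subtype.ext ((show ((h ∣_ P) ⟨q, hqP⟩).1 = h q by rw [morphismRestrict_base]; rfl).trans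
            ((hq.trans hq'.symm).trans (show ((h ∣_ P) ⟨q', hqP'⟩).1 = h q' by rw [morphismRestrict_base]; rfl).symm))))
        exact (show q = q' from this) ▸ hcq
      · exact ⟨1, fun h1 => w.isPrime.ne_top ((Ideal.eq_top_iff_one _).2 h1), fun q hq => absurd ⟨q, hq⟩ hex⟩
    choose c hcw hc using hc
    let c₀ : C := ∏ T, c T
    let N : (Spec C).Opens := PrimeSpectrum.basicOpen c₀
    have hwN : w ∈ N := fun hh => by
      obtain ⟨T, -, hT⟩ := (w.isPrime.prod_mem_iff).1 hh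
      exact hcw T hT
    have hNaff : IsAffineOpen N := by
      have := (isAffineOpen_top (Spec C)).basicOpen ((Scheme.ΓSpecIso C).inv c₀)
      rwa [basicOpen_eq_of_affine] at this
    haveI : IsAffine (N : Scheme.{u}) := hNaff
    haveI : IsOpenImmersion ((N.ι ≫ h) ∣_ P) := by rw [morphismRestrict_comp]; infer_instance
    have hdim : ringKrullDim ((N : Scheme.{u}).presheaf.stalk ⟨w, hwN⟩) ≤ 1 := by
      refine dim_le_one (A := R) hW (N.ι ≫ h) (fun T hT => ⟨t T hT, htT T hT, fun n hn => ?_⟩) ⟨w, hwN⟩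
        (fun hh => ?_) (fun n hn hsp => ?_)
      · exact n.2 (Ideal.IsPrime.prod_mem_iff.2 ⟨⟨T, hT⟩, Finset.mem_univ _, hc ⟨T, hT⟩ n.1 hn⟩)
      · exact (show h w ∈ ({IsLocalRing.closedPoint R}ᶜ : Set _) from hh) hwc
      · have h1 : g (π n.1) = y := by
          rw [← Scheme.Hom.comp_apply, hsq, Scheme.Hom.comp_apply, hnotP (x := h n.1) hn, hjc]
        have h2 : π n.1 ⤳ z := hwz ▸ (hsp.map N.ι.continuous).map π.continuous
        exact Subtype.ext (π.isEmbedding.injective ((hmax _ (show π n.1 ∈ O from hO.range_fromSpec.le ⟨_, rfl⟩) h1 h2).trans hwz.symm))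
    rw [ringKrullDim_eq_of_ringEquiv (asIso (N.ι.stalkMap ⟨w, hwN⟩)).commRingCatIsoToRingEquiv.symm] at hdim
    change ringKrullDim ((Spec C).presheaf.stalk w) ≤ 1 at hdim
    letI : Algebra C ((Spec C).presheaf.stalk w) := StructureSheaf.stalkAlgebra C w
    haveI : IsLocalization.AtPrime ((Spec C).presheaf.stalk w) w.asIdeal :=
      StructureSheaf.IsLocalization.to_stalk C w
    rw [IsLocalization.AtPrime.ringKrullDim_eq_height w.asIdeal,
      ← IsLocalization.height_comap S w.asIdeal] at hdim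
    letI : Algebra Γ(X, O) (X.presheaf.stalk z) := TopCat.Presheaf.algebra_section_stalk X.presheaf ⟨z, hzO⟩
    haveI := hO.isLocalization_stalk ⟨z, hzO⟩
    rw [IsLocalization.AtPrime.ringKrullDim_eq_height (hO.primeIdealOf ⟨z, hzO⟩).asIdeal]
    have e : w.asIdeal.comap (algebraMap Γ(X, O) (Γ(X, O) ⊗[Γ(Y, V)] (Y.presheaf.stalk y))) =
        (hO.primeIdealOf ⟨z, hzO⟩).asIdeal := by
      refine congrArg PrimeSpectrum.asIdeal (?_ : Spec.map χ w = hO.primeIdealOf ⟨z, hzO⟩)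
      apply hO.fromSpec.isOpenEmbedding.injective
      rw [hO.fromSpec_primeIdealOf]
      exact hwz
    rw [← e]
    exact hdim

/-- Either the local ring has dimension at most one or the point is isolated in its closure inside the fibre. -/
theorem dim_le_one_or_isolated {X Y : Scheme.{u}}
    [IsLocallyNoetherian X] [IsLocallyNoetherian Y] (g : X ⟶ Y) (y : ↥Y) (Y' : Y.Opens)
    (hY' : (Y' : Set ↥Y) = {y}ᶜ) [IsOpenImmersion (g ∣_ Y')]
    (hW : (∀ U : (Spec (Y.presheaf.stalk y)).Opens, ∀ hU : U ≤ FEt.puncturedSpec ↑(Y.presheaf.stalk y),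
        (∀ T ∈ irreducibleComponents ↥(FEt.puncturedSpec ↑(Y.presheaf.stalk y)), ¬ Subtype.val '' T ⊆ (U : Set _)) →
        IsAffineHom ((Spec (Y.presheaf.stalk y)).homOfLE hU) → IsAffineOpen U))
    (z : ↥X) (hz : g z = y) (hmax : ∀ z' : ↥X, g z' = y → z' ⤳ z → z' = z) :
    ringKrullDim ↑(X.presheaf.stalk z) ≤ 1 ∨
      ∃ O : X.Opens, z ∈ O ∧ ∀ z' : ↥X, z' ∈ O → g z' = y → z ⤳ z' → z' = z := by
  obtain ⟨V, hV, hyV, -⟩ := exists_isAffineOpen_mem_and_subset (x := y) (U := ⊤) trivial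
  obtain ⟨O, hO, hzO, hOV⟩ := exists_isAffineOpen_mem_and_subset (x := z) (U := g ⁻¹ᵁ V)
    (show g z ∈ V from hz ▸ hyV)
  refine (core g y Y' (fun y' _ => ?_) hW hV hyV hO hOV ?_ z hzO hz (fun z' _ => hmax z')).imp id
    fun h => ⟨O, hzO, h⟩
  · exact (Set.ext_iff.1 hY' y').trans Set.mem_compl_singleton_iff
  · rw [morphismRestrict_comp]; infer_instance

/-- Two local inverses through a separated chart agree at a point generalised by a point where they agree. -/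
theorem injOn_of_isLocalIso {X Y : Scheme.{u}} [IrreducibleSpace X] (g : X ⟶ Y) {O : X.Opens} (hO : IsAffineOpen O)
    (x₁ x₂ : X) (h₁ : x₁ ∈ O) (h₂ : x₂ ∈ O) (he : g x₁ = g x₂)
    (hl₁ : ∃ W : X.Opens, x₁ ∈ W ∧ IsLocalIso (W.ι ≫ g)) (hl₂ : ∃ W : X.Opens, x₂ ∈ W ∧ IsLocalIso (W.ι ≫ g)) :
    x₁ = x₂ := by
  have hnb : ∀ x : X, x ∈ O → (∃ W : X.Opens, x ∈ W ∧ IsLocalIso (W.ι ≫ g)) →
      ∃ W : X.Opens, x ∈ W ∧ W ≤ O ∧ IsOpenImmersion (W.ι ≫ g) := by
    rintro x hx ⟨W, hxW, hW⟩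
    obtain ⟨W', hxW', hW'⟩ := hW.exists_isOpenImmersion ⟨x, hxW⟩
    let W₁ := W.ι ''ᵁ W'
    have hxW₁ : x ∈ W₁ := ⟨⟨x, hxW⟩, hxW', rfl⟩
    have h1 : IsOpenImmersion (W₁.ι ≫ g) := by
      rw [← Scheme.Hom.isoImage_inv_ι W.ι W', Category.assoc, Category.assoc]
      haveI := hW'
      infer_instance
    refine ⟨W₁ ⊓ O, ⟨hxW₁, hx⟩, inf_le_right, ?_⟩
    rw [← X.homOfLE_ι (inf_le_left : W₁ ⊓ O ≤ W₁), Category.assoc]
    haveI := h1
    infer_instance
  obtain ⟨W₁, hx₁, hW₁O, hi₁⟩ := hnb x₁ h₁ hl₁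
  obtain ⟨W₂, hx₂, hW₂O, hi₂⟩ := hnb x₂ h₂ hl₂
  let U : Y.Opens := (W₁.ι ≫ g).opensRange ⊓ (W₂.ι ≫ g).opensRange
  have hyU : g x₁ ∈ U := ⟨⟨⟨x₁, hx₁⟩, rfl⟩, ⟨⟨x₂, hx₂⟩, he.symm⟩⟩
  have hr₁ : Set.range U.ι ⊆ Set.range (W₁.ι ≫ g) := by
    rw [Scheme.Opens.range_ι]; exact fun _ h => h.1
  have hr₂ : Set.range U.ι ⊆ Set.range (W₂.ι ≫ g) := by
    rw [Scheme.Opens.range_ι]; exact fun _ h => h.2
  let s₁ := IsOpenImmersion.lift (W₁.ι ≫ g) U.ι hr₁
  let s₂ := IsOpenImmersion.lift (W₂.ι ≫ g) U.ι hr₂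
  have e₁ : s₁ ≫ W₁.ι ≫ g = U.ι := IsOpenImmersion.lift_fac _ _ _
  have e₂ : s₂ ≫ W₂.ι ≫ g = U.ι := IsOpenImmersion.lift_fac _ _ _
  let t₁ : (U : Scheme.{u}) ⟶ O := s₁ ≫ X.homOfLE hW₁O
  let t₂ : (U : Scheme.{u}) ⟶ O := s₂ ≫ X.homOfLE hW₂O
  have ht₁ : t₁ ≫ O.ι ≫ g = U.ι := by simp only [t₁, Category.assoc, Scheme.homOfLE_ι_assoc, e₁]
  have ht₂ : t₂ ≫ O.ι ≫ g = U.ι := by simp only [t₂, Category.assoc, Scheme.homOfLE_ι_assoc, e₂]
  haveI : IsAffine (O : Scheme.{u}) := hO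
  haveI : IsSeparated ((O : Scheme.{u}).toSpecΓ ≫ terminal.from _) := inferInstance
  haveI : IsSeparated (O.ι ≫ g) := IsSeparated.of_comp _ (terminal.from Y)
  let f₁ : Over.mk U.ι ⟶ Over.mk (O.ι ≫ g) := Over.homMk t₁ ht₁
  let f₂ : Over.mk U.ι ⟶ Over.mk (O.ι ≫ g) := Over.homMk t₂ ht₂
  haveI : IsSeparated (Over.mk (O.ι ≫ g)).hom := ‹IsSeparated (O.ι ≫ g)›
  obtain ⟨η, hη⟩ : ∃ η : X, η ∈ (W₁ : Set X) ∩ W₂ :=
    nonempty_preirreducible_inter W₁.2 W₂.2 ⟨x₁, hx₁⟩ ⟨x₂, hx₂⟩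
  let W₃ : X.Opens := W₁ ⊓ W₂
  have hi₃ : IsOpenImmersion (W₃.ι ≫ g) := by
    rw [← X.homOfLE_ι (inf_le_left : W₃ ≤ W₁), Category.assoc]
    haveI := hi₁
    infer_instance
  have hle₃ : Set.range (W₃.ι ≫ g) ⊆ Set.range U.ι := by
    rintro _ ⟨w, rfl⟩
    rw [Scheme.Opens.range_ι]
    exact ⟨⟨⟨w.1, w.2.1⟩, rfl⟩, ⟨⟨w.1, w.2.2⟩, rfl⟩⟩
  let k := IsOpenImmersion.lift U.ι (W₃.ι ≫ g) hle₃
  have hk : k ≫ U.ι = W₃.ι ≫ g := IsOpenImmersion.lift_fac _ _ _
  have hk₁ : k ≫ s₁ = X.homOfLE (inf_le_left : W₃ ≤ W₁) := by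
    rw [← cancel_mono (W₁.ι ≫ g), Category.assoc, e₁, hk, ← Category.assoc, Scheme.homOfLE_ι]
  have hk₂ : k ≫ s₂ = X.homOfLE (inf_le_right : W₃ ≤ W₂) := by
    rw [← cancel_mono (W₂.ι ≫ g), Category.assoc, e₂, hk, ← Category.assoc, Scheme.homOfLE_ι]
  let k' : Over.mk (W₃.ι ≫ g) ⟶ Over.mk U.ι := Over.homMk k hk
  have hkk : k' ≫ f₁ = k' ≫ f₂ := by
    ext1
    change k ≫ s₁ ≫ X.homOfLE hW₁O = k ≫ s₂ ≫ X.homOfLE hW₂O
    rw [reassoc_of% hk₁, reassoc_of% hk₂, Scheme.homOfLE_homOfLE, Scheme.homOfLE_homOfLE]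
  let u₀ : (U : Scheme.{u}) := ⟨g x₁, hyU⟩
  let u₁ : (U : Scheme.{u}) := k ⟨η, hη⟩
  have hu₁ : u₁ ∈ Set.range (equalizer.ι f₁ f₂).left :=
    ⟨(equalizer.lift k' hkk).left ⟨η, hη⟩, by
      rw [← Scheme.Hom.comp_apply, ← Over.comp_left, equalizer.lift_ι]; rfl⟩
  have hsub : (Set.univ : Set (U : Scheme.{u})) ∩ closure {u₁} ⊆ Set.range (equalizer.ι f₁ f₂).left :=
    fun u hu => closure_minimal (Set.singleton_subset_iff.2 hu₁)
      (equalizer.ι f₁ f₂).left.isClosedEmbedding.isClosed_range hu.2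
  have hgen : ∀ V : Set (U : Scheme.{u}), IsOpen V → u₀ ∈ V → ∃ w : (W₃ : Scheme.{u}), k w ∈ V := by
    intro V hV h0
    have hop : IsOpen (W₁.ι '' (s₁ '' V)) := by
      haveI : IsOpenImmersion (s₁ ≫ W₁.ι ≫ g) := by rw [e₁]; infer_instance
      haveI : IsOpenImmersion s₁ := IsOpenImmersion.of_comp s₁ (W₁.ι ≫ g)
      exact W₁.ι.isOpenEmbedding.isOpenMap _ (s₁.isOpenEmbedding.isOpenMap _ hV)
    obtain ⟨x, ⟨_, ⟨u, hu, rfl⟩, hxeq⟩, hx3⟩ := nonempty_preirreducible_inter hop W₃.2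
      ⟨_, _, ⟨u₀, h0, rfl⟩, rfl⟩ ⟨η, hη⟩
    refine ⟨⟨x, hx3⟩, ?_⟩
    have : k ⟨x, hx3⟩ = u := by
      apply U.ι.isOpenEmbedding.injective
      rw [← Scheme.Hom.comp_apply, hk, ← e₁, Scheme.Hom.comp_apply, Scheme.Hom.comp_apply, Scheme.Hom.comp_apply]
      exact congrArg g hxeq.symm
    rwa [this]
  have hclo : u₀ ∈ closure (Set.range k) := mem_closure_iff.2 fun V hV h0 => by
    obtain ⟨w, hw⟩ := hgen V hV h0
    exact ⟨_, hw, w, rfl⟩
  have hall : Set.range k ⊆ Set.range (equalizer.ι f₁ f₂).left := by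
    rintro _ ⟨w, rfl⟩
    exact ⟨(equalizer.lift k' hkk).left w, by rw [← Scheme.Hom.comp_apply, ← Over.comp_left, equalizer.lift_ι]; rfl⟩
  obtain ⟨e, he'⟩ := closure_minimal hall (equalizer.ι f₁ f₂).left.isClosedEmbedding.isClosed_range hclo
  have hpt : t₁ u₀ = t₂ u₀ := by
    rw [← he']
    exact congrArg (fun φ => φ.left e) (equalizer.condition f₁ f₂)
  have q₁ : s₁ u₀ = ⟨x₁, hx₁⟩ := (W₁.ι ≫ g).isOpenEmbedding.injective (by
    rw [← Scheme.Hom.comp_apply, e₁]; rfl)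
  have q₂ : s₂ u₀ = ⟨x₂, hx₂⟩ := (W₂.ι ≫ g).isOpenEmbedding.injective (by
    rw [← Scheme.Hom.comp_apply, e₂]; exact he)
  have := congrArg O.ι hpt
  simp only [t₁, t₂, Scheme.Hom.comp_apply, q₁, q₂] at this
  rw [← Scheme.Hom.comp_apply, ← Scheme.Hom.comp_apply, Scheme.homOfLE_ι, Scheme.homOfLE_ι] at this
  exact this

/-- A point of the locus of local isomorphisms has no other point of its fibre below it. -/
theorem eq_of_specializes {X Y : Scheme.{u}} (g : X ⟶ Y) (z' z : X)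
    (hl : ∃ W : X.Opens, z' ∈ W ∧ IsLocalIso (W.ι ≫ g)) (hsp : z' ⤳ z) (he : g z' = g z) : z' = z := by
  obtain ⟨W, hzW, hW⟩ := hl
  obtain ⟨W', hW'z, hW'⟩ := hW.exists_isOpenImmersion ⟨z', hzW⟩
  haveI := hW'
  haveI : IsIso ((W'.ι ≫ W.ι ≫ g).stalkMap ⟨⟨z', hzW⟩, hW'z⟩) := inferInstance
  have hiso : IsIso (g.stalkMap z') := by
    have h := (W'.ι ≫ W.ι).stalkMap_comp g ⟨⟨z', hzW⟩, hW'z⟩
    have h' : IsIso (((W'.ι ≫ W.ι) ≫ g).stalkMap ⟨⟨z', hzW⟩, hW'z⟩) := by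
      rw [Scheme.Hom.stalkMap_congr_hom _ _ (Category.assoc W'.ι W.ι g)]
      infer_instance
    rw [h] at h'
    exact @IsIso.of_isIso_comp_right _ _ _ _ _ (g.stalkMap ((W'.ι ≫ W.ι) ⟨⟨z', hzW⟩, hW'z⟩))
      ((W'.ι ≫ W.ι).stalkMap ⟨⟨z', hzW⟩, hW'z⟩) inferInstance h'
  let sp := X.presheaf.stalkSpecializes hsp
  have hnat := g.stalkSpecializes_stalkMap z' z hsp
  have hdet : ∀ a, IsUnit (sp a) → IsUnit a := by
    have key : IsLocalHom sp.hom := by
      constructor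
      intro a ha
      by_contra hna
      have hp : ∃ b, (g.stalkMap z') b = sp a :=
        ((ConcreteCategory.isIso_iff_bijective _).1 hiso).2 _
      obtain ⟨b, hb⟩ := hp
      let b' : Y.presheaf.stalk (g z) := Y.presheaf.stalkSpecializes (specializes_of_eq he.symm) b
      have hbb : Y.presheaf.stalkSpecializes (g.continuous.specialization_monotone hsp) b' = b := by
        rw [← CommRingCat.comp_apply, TopCat.Presheaf.stalkSpecializes_comp, TopCat.Presheaf.stalkSpecializes_refl]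
        rfl
      have h1 : sp ((g.stalkMap z) b') = sp a := by
        rw [← hb]
        have := ConcreteCategory.congr_hom hnat b'
        simp only [CommRingCat.comp_apply] at this
        rw [hbb] at this
        exact this.symm
      have hbu : IsUnit b := by
        have : IsUnit ((g.stalkMap z') b) := hb ▸ ha
        exact (isUnit_map_iff _ _).1 this
      have hbu' : IsUnit ((g.stalkMap z) b') := (hbu.map _).map _
      have hd : ¬ IsUnit (sp (a - (g.stalkMap z) b')) := by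
        rw [map_sub, h1, sub_self]
        exact not_isUnit_zero
      have : IsUnit (a - (g.stalkMap z) b') := by
        by_contra hn
        have := Ideal.sub_mem _ ((IsLocalRing.mem_maximalIdeal _).2 hna) ((IsLocalRing.mem_maximalIdeal _).2 hn)
        rw [sub_sub_cancel] at this
        exact (IsLocalRing.mem_maximalIdeal _).1 this hbu'
      exact hd (this.map _)
    exact fun a ha => key.map_nonunit a ha
  have hsp' : z ⤳ z' := by
    rw [specializes_iff_forall_open]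
    intro U hU hz'U
    by_contra hzU
    obtain ⟨V, hV, hzV, -⟩ := exists_isAffineOpen_mem_and_subset (x := z) (U := ⊤) trivial
    have hz'V : z' ∈ V := hsp.mem_open V.2 hzV
    obtain ⟨r, hr, hz'r⟩ := hV.exists_basicOpen_le (V := ⟨U, hU⟩) ⟨z', hz'U⟩ hz'V
    have hu : IsUnit (X.presheaf.germ V z' hz'V r) := (X.mem_basicOpen r z' hz'V).1 hz'r
    have hu' : IsUnit (X.presheaf.germ V z hzV r) :=
      hdet _ (by rw [TopCat.Presheaf.germ_stalkSpecializes_apply]; exact hu)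
    exact hzU (hr ((X.mem_basicOpen r z hzV).2 hu'))
  exact (hsp.antisymm hsp').eq

/-- The irreducible variant for the locus where the morphism is not a local isomorphism. -/
theorem dim_le_one_or_isolated_of_localIso {X Y : Scheme.{u}}
    [IsLocallyNoetherian X] [IsLocallyNoetherian Y] [IrreducibleSpace ↥X] (g : X ⟶ Y)
    (hW : ∀ y : ↥Y, (∀ U : (Spec (Y.presheaf.stalk y)).Opens, ∀ hU : U ≤ FEt.puncturedSpec ↑(Y.presheaf.stalk y),
        (∀ T ∈ irreducibleComponents ↥(FEt.puncturedSpec ↑(Y.presheaf.stalk y)), ¬ Subtype.val '' T ⊆ (U : Set _)) →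
        IsAffineHom ((Spec (Y.presheaf.stalk y)).homOfLE hU) → IsAffineOpen U))
    (z : ↥X) (hz : ¬ ∃ W : X.Opens, z ∈ W ∧ IsLocalIso (W.ι ≫ g))
    (hmax : ∀ z' : ↥X, (¬ ∃ W : X.Opens, z' ∈ W ∧ IsLocalIso (W.ι ≫ g)) → z' ⤳ z → z' = z) :
    ringKrullDim ↑(X.presheaf.stalk z) ≤ 1 ∨
      ∃ O : X.Opens, z ∈ O ∧ ∀ z' : ↥X, z' ∈ O → g z' = g z → z' = z := by
  classical
  obtain ⟨V, hV, hyV, -⟩ := exists_isAffineOpen_mem_and_subset (x := g z) (U := ⊤) trivial
  obtain ⟨O₀, hO₀, hzO₀, hO₀V⟩ := exists_isAffineOpen_mem_and_subset (x := z) (U := g ⁻¹ᵁ V) hyV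
  let good : X → Prop := fun x => ∃ W : X.Opens, x ∈ W ∧ IsLocalIso (W.ι ≫ g)
  let B : Set X := {x | ¬ good x}
  have hB : IsClosed B := by
    refine ⟨isOpen_iff_forall_mem_open.2 fun x hx => ?_⟩
    obtain ⟨W, hxW, hW⟩ := not_not.1 hx
    exact ⟨W, fun x' hx' h => h ⟨W, hx', hW⟩, W.2, hxW⟩
  haveI : IsAffine (O₀ : Scheme.{u}) := hO₀
  haveI : IsNoetherianRing Γ(X, O₀) := IsLocallyNoetherian.component_noetherian ⟨O₀, hO₀⟩
  haveI : TopologicalSpace.NoetherianSpace ↥O₀ := noetherianSpace_of_isAffineOpen _ hO₀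
  let B₀ : Set ↥O₀ := Subtype.val ⁻¹' B
  obtain ⟨S, hSf, hSc, hSi, hSeq⟩ := TopologicalSpace.NoetherianSpace.exists_finite_set_isClosed_irreducible
    (hB.preimage continuous_subtype_val : IsClosed B₀)
  let bad : Set ↥O₀ := ⋃ C ∈ {C ∈ S | (⟨z, hzO₀⟩ : ↥O₀) ∉ C}, C
  have hbad : IsClosed bad := (hSf.subset fun C hC => hC.1).isClosed_biUnion fun C hC => hSc C hC.1
  obtain ⟨badC, hbadC, hbadC'⟩ : ∃ G : X.Opens, z ∈ G ∧ ∀ x : ↥O₀, x.1 ∈ G → x ∉ bad :=
    ⟨⟨Subtype.val '' badᶜ, O₀.2.isOpenEmbedding_subtypeVal.isOpenMap _ hbad.isOpen_compl⟩,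
      ⟨⟨z, hzO₀⟩, fun h => by
        obtain ⟨C, hC, hzC⟩ := Set.mem_iUnion₂.1 h
        exact hC.2 hzC, rfl⟩,
      fun x ⟨x', hx', e⟩ => Subtype.ext e ▸ hx'⟩
  have hbadsp : ∀ x : ↥O₀, x.1 ∈ badC → x.1 ∈ B → z ⤳ x.1 := by
    intro x hxG hxB
    have : x ∈ ⋃₀ S := by rw [← hSeq]; exact hxB
    obtain ⟨C, hCS, hxC⟩ := this
    by_cases hzC : (⟨z, hzO₀⟩ : ↥O₀) ∈ C
    · haveI : QuasiSober ↥O₀ := O₀.2.isOpenEmbedding_subtypeVal.quasiSober
      obtain ⟨ξ, hξ⟩ := QuasiSober.sober (hSi C hCS) (hSc C hCS)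
      have hξB : ξ.1 ∈ B := by
        have h : ξ ∈ ⋃₀ S := Set.mem_sUnion_of_mem hξ.mem hCS
        rw [← hSeq] at h
        exact h
      have hξz : ξ.1 = z := hmax _ hξB ((hξ.specializes hzC).map continuous_subtype_val)
      exact hξz ▸ (hξ.specializes hxC).map continuous_subtype_val
    · exact absurd (Set.mem_iUnion₂.2 ⟨C, ⟨hCS, hzC⟩, hxC⟩) (hbadC' x hxG)
  obtain ⟨O₁, hO₁, hzO₁, hO₁le⟩ := exists_isAffineOpen_mem_and_subset (x := z) (U := O₀ ⊓ badC) ⟨hzO₀, hbadC⟩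
  have hspec : ∀ x ∈ O₁, ¬ good x → z ⤳ x := fun x hx hb =>
    hbadsp ⟨x, (hO₁le hx).1⟩ (hO₁le hx).2 hb
  have huniq : ∀ x₁ x₂, x₁ ∈ O₁ → x₂ ∈ O₁ → good x₁ → good x₂ → g x₁ = g x₂ → x₁ = x₂ :=
    fun x₁ x₂ h₁ h₂ g₁ g₂ e => injOn_of_isLocalIso g hO₁ x₁ x₂ h₁ h₂ e g₁ g₂
  let cl : Set Y := closure {g z}
  let Y' : Y.Opens := ⟨clᶜ, isClosed_closure.isOpen_compl⟩
  have hY' : ∀ y' : Y, y' ⤳ g z → (y' ∈ Y' ↔ y' ≠ g z) := fun y' hy' =>
    ⟨fun h e => h (e ▸ subset_closure rfl), fun hne h =>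
      hne (hy'.antisymm (specializes_iff_mem_closure.2 h)).eq⟩
  have hImm : IsOpenImmersion ((O₁.ι ≫ g) ∣_ Y') := by
    let W := (O₁.ι ≫ g) ⁻¹ᵁ Y'
    have hgood : ∀ w : (W : Scheme.{u}), good w.1.1 := fun w => by
      by_contra hb
      exact w.2 (specializes_iff_mem_closure.1 ((hspec _ w.1.2 hb).map g.continuous))
    have hloc : IsLocalIso (W.ι ≫ O₁.ι ≫ g) := ⟨fun w => by
      obtain ⟨G, hwG, hG⟩ := hgood w
      obtain ⟨G', hwG', hG'⟩ := hG.exists_isOpenImmersion ⟨w.1.1, hwG⟩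
      let G₁ := G.ι ''ᵁ G'
      have h1 : IsOpenImmersion (G₁.ι ≫ g) := by
        rw [← Scheme.Hom.isoImage_inv_ι G.ι G', Category.assoc, Category.assoc]
        haveI := hG'
        infer_instance
      let G₂ := (W.ι ≫ O₁.ι) ⁻¹ᵁ G₁
      refine ⟨G₂, ⟨⟨w.1.1, hwG⟩, hwG', rfl⟩, ?_⟩
      haveI := h1
      have e : G₂.ι ≫ W.ι ≫ O₁.ι ≫ g = ((W.ι ≫ O₁.ι) ∣_ G₁) ≫ G₁.ι ≫ g := by
        rw [morphismRestrict_ι_assoc]; simp [G₂]
      rw [e]
      infer_instance⟩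
    haveI := hloc
    have hinj : Function.Injective (W.ι ≫ O₁.ι ≫ g) := fun w₁ w₂ e =>
      Subtype.ext (Subtype.ext (huniq _ _ w₁.1.2 w₂.1.2 (hgood w₁) (hgood w₂) e))
    have hop : IsOpenImmersion (W.ι ≫ O₁.ι ≫ g) := by
      haveI : UniversallyOpen (W.ι ≫ O₁.ι ≫ g) :=
        IsLocalIso.le_of_isZariskiLocalAtSource @UniversallyOpen _ _ _ hloc
      have hm := (W.ι ≫ O₁.ι ≫ g).isOpenMap
      refine IsOpenImmersion.iff_isIso_stalkMap.2 ⟨⟨⟨⟨?_⟩, hinj⟩, ?_⟩, fun w => ?_⟩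
      · exact (Topology.IsOpenEmbedding.of_continuous_injective_isOpenMap (W.ι ≫ O₁.ι ≫ g).continuous hinj hm).eq_induced
      · exact hm.isOpen_range
      · obtain ⟨G, hwG, hG⟩ := hloc.exists_isOpenImmersion w
        haveI := hG
        have h : IsIso ((G.ι ≫ W.ι ≫ O₁.ι ≫ g).stalkMap ⟨w, hwG⟩) := inferInstance
        rw [Scheme.Hom.stalkMap_comp] at h
        exact @IsIso.of_isIso_comp_right _ _ _ _ _ ((W.ι ≫ O₁.ι ≫ g).stalkMap (G.ι ⟨w, hwG⟩))
          (G.ι.stalkMap ⟨w, hwG⟩) inferInstance h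
    rw [← morphismRestrict_ι] at hop
    exact IsOpenImmersion.of_comp _ Y'.ι
  rcases core g (g z) Y' hY' (hW (g z)) hV hyV hO₁ (((hO₁le).trans inf_le_left).trans hO₀V) hImm z hzO₁ rfl
    (fun z' hz' he hsp => by
      by_cases hg : good z'
      · exact eq_of_specializes g z' z hg hsp he
      · exact hmax z' hg hsp) with h | h
  · exact Or.inl h
  · refine Or.inr ?_
    by_cases hex : ∃ x, x ∈ O₁ ∧ g x = g z ∧ good x
    · obtain ⟨x, hxO, hxy, hxg⟩ := hex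
      refine ⟨O₁ ⊓ ⟨(closure {x})ᶜ, isClosed_closure.isOpen_compl⟩, ⟨hzO₁, fun hc => ?_⟩, fun z' hz' he => ?_⟩
      · exact hz (eq_of_specializes g x z hxg (specializes_iff_mem_closure.2 hc) hxy ▸ hxg)
      · by_cases hg : good z'
        · exact absurd (show z' ∈ closure ({x} : Set X) from
            subset_closure (Set.mem_singleton_iff.2 (huniq z' x hz'.1 hxO hg hxg (he.trans hxy.symm)))) hz'.2
        · exact h z' hz'.1 he (hspec z' hz'.1 hg)
    · refine ⟨O₁, hzO₁, fun z' hz' he => h z' hz' he (hspec z' hz' fun hg => hex ⟨z', hz', he, hg⟩)⟩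

end Groth.Agent.Pur27
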