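import Groth.Agent.Lib.H2Alg.WeakAss
import Mathlib.RingTheory.QuasiFinite.Basic
import Mathlib.RingTheory.Localization.Integral
import Mathlib.RingTheory.LocalRing.Basic
import Mathlib.RingTheory.IntegralClosure.IsIntegralClosure.Basic
import Mathlib.RingTheory.Nilpotent.Lemmas

/-!
Quasi-finite algebras of finite type over a (dense open piece of an) arbitrary base.

* `exists_isIntegral`: near a minimal prime a quasi-finite algebra of finite type is finite.
* `exists_notMem_image`: images of nowhere dense closed subsets are nowhere dense.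
-/

universe u

open TensorProduct

namespace Groth.Agent.QFDense4

lemma exists_mul_eq_zero {A : Type u} [CommRing A] [IsReduced A] {η : Ideal A} [η.IsPrime]
    (hη : η ∈ minimalPrimes A) {x : A} (hx : x ∈ η) : ∃ u ∉ η, u * x = 0 := by
  obtain ⟨n, u, hu, h⟩ := (H2Alg.mem_minimalPrimes_iff_exists_mul_pow_mem.1 hη).2 x hx
  refine ⟨u, hu, IsReduced.eq_zero _ ⟨n + 1, ?_⟩⟩
  rw [Ideal.mem_bot] at h
  rw [mul_pow, pow_succ, pow_succ, show u ^ n * u * (x ^ n * x) = u * x ^ n * (u ^ n * x) by ring, h, zero_mul]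

lemma isField_localization {A : Type u} [CommRing A] [IsReduced A] {η : Ideal A} [η.IsPrime]
    (hη : η ∈ minimalPrimes A) : IsField (Localization.AtPrime η) := by
  rw [IsLocalRing.isField_iff_maximalIdeal_eq, ← Localization.AtPrime.map_eq_maximalIdeal, Ideal.map_eq_bot_iff_le_ker]
  intro x hx
  obtain ⟨u, hu, h⟩ := exists_mul_eq_zero hη hx
  exact (IsLocalization.map_eq_zero_iff η.primeCompl _ x).2 ⟨⟨u, hu⟩, h⟩

attribute [local instance] Algebra.TensorProduct.rightAlgebra in
lemma exists_isIntegral {A : Type u} [CommRing A] [IsReduced A] {η : Ideal A} [η.IsPrime] (hη : η ∈ minimalPrimes A)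
    (C : Type u) [CommRing C] [Algebra A C] [Algebra.FiniteType A C] [Algebra.QuasiFinite A C] (x : C) :
    ∃ a ∉ η, IsIntegral A (algebraMap A C a * x) := by
  let K := Localization.AtPrime η
  have : IsArtinianRing K := by
    letI := (isField_localization hη).toField
    infer_instance
  have : Module.Finite K (K ⊗[A] C) := Module.Finite.of_quasiFinite
  have : IsLocalization (Algebra.algebraMapSubmonoid C η.primeCompl) (K ⊗[A] C) := inferInstance
  obtain ⟨⟨m, hm⟩, hint⟩ := IsIntegral.exists_multiple_integral_of_isLocalization η.primeCompl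
    (algebraMap C (K ⊗[A] C) x) (IsIntegral.of_finite K _)
  have hint' : IsIntegral A (algebraMap C (K ⊗[A] C) (algebraMap A C m * x)) := by
    rw [map_mul, ← IsScalarTower.algebraMap_apply, ← Algebra.smul_def]
    exact hint
  obtain ⟨m', hm', h'⟩ := IsLocalization.exists_isIntegral_smul_of_isIntegral_map (Sₘ := K ⊗[A] C) η.primeCompl hint'
  refine ⟨m' * m, fun h => ((‹η.IsPrime›).mem_or_mem h).elim hm' hm, ?_⟩
  rwa [map_mul, mul_assoc, ← Algebra.smul_def]

lemma exists_fg_saturation {A : Type u} [CommRing A] {C : Type u} [CommRing C] [Algebra A C]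
    (η : Ideal A) [η.IsPrime] (s : Finset C) (hs : Algebra.adjoin A (s : Set C) = ⊤)
    (h : ∀ x ∈ s, ∃ a ∉ η, IsIntegral A (algebraMap A C a * x)) :
    ∃ a ∉ η, ∃ (n : ℕ) (v : Fin n → C), ∀ z : C, ∃ k : ℕ, algebraMap A C a ^ k * z ∈ Submodule.span A (Set.range v) := by
  classical
  choose b hb hint using h
  let a := ∏ x ∈ s.attach, b x.1 x.2
  have haη : a ∉ η := fun h => by
    obtain ⟨x, -, hx⟩ := (Ideal.IsPrime.prod_mem_iff (hp := ‹η.IsPrime›)).1 h
    exact hb x.1 x.2 hx
  have hint' : ∀ x ∈ s, IsIntegral A (algebraMap A C a * x) := fun x hx => by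
    obtain ⟨d, hd⟩ := Finset.dvd_prod_of_mem (fun y : {y // y ∈ s} => b y.1 y.2) (Finset.mem_attach s ⟨x, hx⟩)
    have : algebraMap A C a * x = algebraMap A C d * (algebraMap A C (b x hx) * x) := by
      rw [show a = b x hx * d from hd, map_mul, mul_comm (algebraMap A C (b x hx)), mul_assoc]
    rw [this]
    exact isIntegral_algebraMap.mul (hint x hx)
  have hfin : (Subalgebra.toSubmodule (Algebra.adjoin A ((fun x => algebraMap A C a * x) '' s))).FG :=
    fg_adjoin_of_finite (s.finite_toSet.image _) (by rintro _ ⟨x, hx, rfl⟩; exact hint' x hx)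
  obtain ⟨n, v, hv⟩ := Submodule.fg_iff_exists_fin_generating_family.1 hfin
  refine ⟨a, haη, n, v, fun z => ?_⟩
  rw [hv]
  have hz : z ∈ Algebra.adjoin A (s : Set C) := hs ▸ trivial
  induction hz using Algebra.adjoin_induction with
  | mem x hx => exact ⟨1, by rw [pow_one]; exact Algebra.subset_adjoin ⟨x, hx, rfl⟩⟩
  | algebraMap r => exact ⟨0, by rw [pow_zero, one_mul]; exact Subalgebra.algebraMap_mem _ r⟩
  | add x y _ _ hx hy =>
    obtain ⟨k, hk⟩ := hx
    obtain ⟨l, hl⟩ := hy
    refine ⟨k + l, ?_⟩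
    rw [mul_add, pow_add]
    refine Subalgebra.add_mem _ ?_ ?_
    · rw [mul_comm (_ ^ k), mul_assoc]
      exact Subalgebra.mul_mem _ (pow_mem (Subalgebra.algebraMap_mem _ a) l) hk
    · rw [mul_assoc]
      exact Subalgebra.mul_mem _ (pow_mem (Subalgebra.algebraMap_mem _ a) k) hl
  | mul x y _ _ hx hy =>
    obtain ⟨k, hk⟩ := hx
    obtain ⟨l, hl⟩ := hy
    exact ⟨k + l, by rw [pow_add, mul_mul_mul_comm]; exact Subalgebra.mul_mem _ hk hl⟩

/-- Images of nowhere dense closed subsets under quasi-finite maps are nowhere dense: reduced case. -/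
theorem exists_notMem_image_of_isReduced {A B : Type u} [CommRing A] [IsReduced A] [Nontrivial A] [CommRing B] [Algebra A B]
    [Algebra.FiniteType A B] [Algebra.QuasiFinite A B] (J : Ideal B)
    (hJ : ∀ g : B, (∀ P : Ideal B, P.IsPrime → g ∉ P → J ≤ P) → IsNilpotent g) :
    ∃ a : A, a ≠ 0 ∧ ∀ P : Ideal B, P.IsPrime → J ≤ P → algebraMap A B a ∈ P := by
  classical
  obtain ⟨m, hm⟩ := Ideal.exists_maximal A
  have := hm.isPrime
  obtain ⟨η₀, hη₀, -⟩ := Ideal.exists_minimalPrimes_le (I := (⊥ : Ideal A)) (J := m) bot_le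
  have := hη₀.1.1
  let C := B ⧸ J
  obtain ⟨gens, hgens⟩ := (inferInstance : Algebra.FiniteType A B).out
  have hgC : Algebra.adjoin A ((gens.image (Ideal.Quotient.mkₐ A J) : Finset C) : Set C) = ⊤ := by
    rw [Finset.coe_image, Algebra.adjoin_image, hgens, Algebra.map_top, AlgHom.range_eq_top]
    exact Ideal.Quotient.mkₐ_surjective A J
  let Good : ℕ → Prop := fun n => ∃ a : A, a ≠ 0 ∧
    ∃ v : Fin n → C, ∀ z : C, ∃ k : ℕ, algebraMap A C a ^ k * z ∈ Submodule.span A (Set.range v)
  have hgood : ∃ n, Good n := by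
    obtain ⟨a, ha, n, v, hv⟩ := exists_fg_saturation η₀ _ hgC fun x _ => exists_isIntegral hη₀ C x
    exact ⟨n, a, fun h => ha (h ▸ zero_mem η₀), v, hv⟩
  obtain ⟨n, ⟨a, ha, v, hv⟩, hmin⟩ : ∃ n, Good n ∧ ∀ l < n, ¬ Good l :=
    ⟨Nat.find hgood, Nat.find_spec hgood, fun l => Nat.find_min hgood⟩
  refine ⟨a, ha, ?_⟩
  have hind : ∀ r : Fin n → A, ∑ i, r i • v i = 0 → ∀ i, a * r i = 0 := by
    intro r hr i₀
    by_contra hne
    rcases n.eq_zero_or_pos with hn | hn
    · exact (hn ▸ i₀ : Fin 0).elim0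
    obtain ⟨l, hl⟩ := Nat.exists_eq_add_of_le' hn
    change n = l + 1 at hl
    refine hmin l (by omega) ⟨a * r i₀, hne, fun j => v ((finCongr hl.symm) ((finCongr hl i₀).succAbove j)), fun z => ?_⟩
    set W := Submodule.span A (Set.range fun j => v ((finCongr hl.symm) ((finCongr hl i₀).succAbove j)))
    have hW : ∀ i, i ≠ i₀ → v i ∈ W := fun i hi => by
      obtain ⟨j, hj⟩ := Fin.exists_succAbove_eq (x := finCongr hl i) (y := finCongr hl i₀) (fun h => hi ((finCongr hl).injective h))
      exact Submodule.subset_span ⟨j, congrArg v ((congrArg (finCongr hl.symm) hj).trans (by simp))⟩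
    have hri : r i₀ • v i₀ ∈ W := by
      rw [← Finset.add_sum_erase _ _ (Finset.mem_univ i₀), add_eq_zero_iff_eq_neg] at hr
      rw [hr]
      exact neg_mem (Submodule.sum_mem _ fun i hi => W.smul_mem _ (hW i (Finset.ne_of_mem_erase hi)))
    obtain ⟨k, hk⟩ := hv z
    refine ⟨k + 1, ?_⟩
    have key : ∀ y ∈ Submodule.span A (Set.range v), algebraMap A C (r i₀) * y ∈ W := fun y hy => by
      induction hy using Submodule.span_induction with
      | mem y hy =>
        obtain ⟨i, rfl⟩ := hy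
        rw [← Algebra.smul_def]
        rcases eq_or_ne i i₀ with rfl | hi
        · exact hri
        · exact W.smul_mem _ (hW i hi)
      | zero => rw [mul_zero]; exact W.zero_mem
      | add x y _ _ hx hy => rw [mul_add]; exact W.add_mem hx hy
      | smul c x _ hx => rw [mul_smul_comm]; exact W.smul_mem _ hx
    have h := key _ hk
    have : algebraMap A C (a * r i₀) ^ (k + 1) * z =
        (a * r i₀ ^ k) • (algebraMap A C (r i₀) * (algebraMap A C a ^ k * z)) := by
      rw [Algebra.smul_def, map_mul, map_mul, map_pow]; ring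
    rw [this]
    exact W.smul_mem _ h
  rcases n.eq_zero_or_pos with hn | hn
  · intro P hP hJP
    obtain ⟨k, hk⟩ := hv 1
    have hr : Set.range v = ∅ := by
      have : IsEmpty (Fin n) := hn ▸ inferInstance
      exact Set.range_eq_empty v
    rw [hr, Submodule.span_empty, Submodule.mem_bot, mul_one, ← map_pow] at hk
    exact hP.mem_of_pow_mem k (hJP (Ideal.Quotient.eq_zero_iff_mem.1 (show Ideal.Quotient.mk J (algebraMap A B a ^ k) = 0 by
      rw [← map_pow]; exact hk)))
  -- a minimal prime avoiding `a`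
  obtain ⟨η, hη, haη⟩ : ∃ η ∈ minimalPrimes A, a ∉ η := by
    by_contra! h
    refine ha (IsReduced.eq_zero a (mem_nilradical.1 ?_))
    rw [nilradical_eq_sInf, Ideal.mem_sInf]
    intro I hI
    have : I.IsPrime := hI
    obtain ⟨p, hp, hpI⟩ := Ideal.exists_minimalPrimes_le (I := (⊥ : Ideal A)) (J := I) bot_le
    exact hpI (h p hp)
  have := hη.1.1
  -- a point over `η` in `V(J)`
  obtain ⟨y, hy, hJy, hyη⟩ : ∃ y : Ideal B, y.IsPrime ∧ J ≤ y ∧ y.comap (algebraMap A B) = η := by
    have hd : Disjoint (J : Set B) (Algebra.algebraMapSubmonoid B η.primeCompl : Set B) := by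
      rw [Set.disjoint_left]
      rintro _ hxJ ⟨c, hc, rfl⟩
      have h0 : ∑ i, (Pi.single (⟨0, hn⟩ : Fin n) c : Fin n → A) i • v i = 0 := by
        rw [Finset.sum_eq_single ⟨0, hn⟩ (fun i _ hi => by rw [Pi.single_eq_of_ne hi, zero_smul])
          (fun h => absurd (Finset.mem_univ _) h), Pi.single_eq_same, Algebra.smul_def]
        exact mul_eq_zero_of_left (Ideal.Quotient.eq_zero_iff_mem.2 hxJ) _
      have := hind _ h0 ⟨0, hn⟩
      rw [Pi.single_eq_same] at this
      exact ((‹η.IsPrime›).mem_or_mem (this ▸ zero_mem η)).elim haη hc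
    obtain ⟨y, hy, hle, hdy⟩ := Ideal.exists_le_prime_disjoint J _ hd
    have hle' : y.comap (algebraMap A B) ≤ η := fun c hc => by_contra fun h => Set.disjoint_left.1 hdy hc ⟨c, h, rfl⟩
    exact ⟨y, hy, hle, le_antisymm hle' (hη.2 ⟨inferInstance, bot_le⟩ hle')⟩
  exfalso
  -- finitely many elements of `J` cut out `V(J)` over `D(a)`
  choose w hw using fun i => Ideal.Quotient.mkₐ_surjective A J (v i)
  let W := Submodule.span A (Set.range w)
  have hlift : ∀ z : B, ∃ k : ℕ, ∃ e ∈ J, algebraMap A B a ^ k * z - e ∈ W := fun z => by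
    obtain ⟨k, hk⟩ := hv (Ideal.Quotient.mk J z)
    have : Submodule.span A (Set.range v) = W.map (Ideal.Quotient.mkₐ A J).toLinearMap := by
      rw [Submodule.map_span, ← Set.range_comp]; exact congrArg _ (congrArg _ (funext fun i => (hw i).symm))
    rw [this, Submodule.mem_map] at hk
    obtain ⟨t, ht, hte⟩ := hk
    refine ⟨k, algebraMap A B a ^ k * z - t, Ideal.Quotient.eq_zero_iff_mem.1 ?_, by rwa [sub_sub_cancel]⟩
    rw [map_sub, map_mul, map_pow, sub_eq_zero]
    exact hte.symm
  choose k e heJ heW using hlift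
  let s : Finset B := insert (e 1) ((gens ×ˢ (Finset.univ : Finset (Fin n))).image fun x => e (x.1 * w x.2))
  have hsJ : ∀ x ∈ s, x ∈ J := fun x hx => by
    rcases Finset.mem_insert.1 hx with rfl | hx
    · exact heJ 1
    · obtain ⟨y, -, rfl⟩ := Finset.mem_image.1 hx; exact heJ _
  let I : Ideal B := Ideal.span s
  let WI : Submodule A B := W ⊔ I.restrictScalars A
  have hcl : ∀ z : B, ∃ k : ℕ, algebraMap A B a ^ k * z ∈ WI := by
    have hgen : ∀ g ∈ gens, ∀ y ∈ W, ∃ k : ℕ, algebraMap A B a ^ k * (g * y) ∈ WI := fun g hg y hy => by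
      induction hy using Submodule.span_induction with
      | mem y hy =>
        obtain ⟨i, rfl⟩ := hy
        refine ⟨k (g * w i), ?_⟩
        rw [← sub_add_cancel (algebraMap A B a ^ k (g * w i) * (g * w i)) (e (g * w i))]
        exact WI.add_mem (Submodule.mem_sup_left (heW _)) (Submodule.mem_sup_right (Ideal.subset_span
          (Finset.mem_coe.2 (Finset.mem_insert_of_mem (Finset.mem_image.2 ⟨(g, i), Finset.mem_product.2 ⟨hg, Finset.mem_univ i⟩, rfl⟩)))))
      | zero => exact ⟨0, by simp⟩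
      | add x y _ _ hx hy =>
        obtain ⟨k, hk⟩ := hx
        obtain ⟨l, hl⟩ := hy
        refine ⟨k + l, ?_⟩
        have : algebraMap A B a ^ (k + l) * (g * (x + y)) =
            (a ^ l) • (algebraMap A B a ^ k * (g * x)) + (a ^ k) • (algebraMap A B a ^ l * (g * y)) := by
          rw [Algebra.smul_def, Algebra.smul_def, map_pow, map_pow]; ring
        rw [this]
        exact WI.add_mem (WI.smul_mem _ hk) (WI.smul_mem _ hl)
      | smul c x _ hx =>
        obtain ⟨k, hk⟩ := hx
        exact ⟨k, by rw [mul_smul_comm, mul_smul_comm]; exact WI.smul_mem _ hk⟩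
    intro z
    have hz : z ∈ Algebra.adjoin A (gens : Set B) := hgens ▸ trivial
    rw [← Subalgebra.mem_toSubmodule, Algebra.adjoin_eq_span] at hz
    induction hz using Submodule.span_induction with
    | mem x hx =>
      induction hx using Submonoid.closure_induction_left with
      | one =>
        refine ⟨k 1, ?_⟩
        rw [← sub_add_cancel (algebraMap A B a ^ k 1 * 1) (e 1)]
        exact WI.add_mem (Submodule.mem_sup_left (heW 1)) (Submodule.mem_sup_right (Ideal.subset_span (Finset.mem_coe.2 (Finset.mem_insert_self _ _))))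
      | mul_left g hg x _ hx =>
        obtain ⟨k, hk⟩ := hx
        obtain ⟨p, hp, q, hq, hpq⟩ := Submodule.mem_sup.1 hk
        obtain ⟨l, hl⟩ := hgen g hg p hp
        refine ⟨l + k, ?_⟩
        have : algebraMap A B a ^ (l + k) * (g * x) =
            algebraMap A B a ^ l * (g * p) + (algebraMap A B a ^ l * g) * q := by
          rw [pow_add]; linear_combination (algebraMap A B a ^ l * g) * hpq.symm
        rw [this]
        exact WI.add_mem hl (Submodule.mem_sup_right (I.mul_mem_left _ hq))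
    | zero => exact ⟨0, by simp⟩
    | add x y _ _ hx hy =>
      obtain ⟨k, hk⟩ := hx
      obtain ⟨l, hl⟩ := hy
      refine ⟨k + l, ?_⟩
      have : algebraMap A B a ^ (k + l) * (x + y) =
          (a ^ l) • (algebraMap A B a ^ k * x) + (a ^ k) • (algebraMap A B a ^ l * y) := by
        rw [Algebra.smul_def, Algebra.smul_def, map_pow, map_pow]; ring
      rw [this]
      exact WI.add_mem (WI.smul_mem _ hk) (WI.smul_mem _ hl)
    | smul c x _ hx =>
      obtain ⟨k, hk⟩ := hx
      exact ⟨k, by rw [mul_smul_comm]; exact WI.smul_mem _ hk⟩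
  have hcut : ∀ h ∈ J, ∃ k : ℕ, algebraMap A B a ^ k * h ∈ I := fun h hh => by
    obtain ⟨k, hk⟩ := hcl h
    obtain ⟨p, hp, q, hq, hpq⟩ := Submodule.mem_sup.1 hk
    obtain ⟨r, hr⟩ := Submodule.mem_span_range_iff_exists_fun A |>.1 hp
    have h0 : ∑ i, r i • v i = 0 := by
      have hpJ : p ∈ J := by
        rw [eq_sub_of_add_eq hpq]
        exact J.sub_mem (J.mul_mem_left _ hh) (Ideal.span_le.2 hsJ hq)
      rw [← hr] at hpJ
      have := Ideal.Quotient.eq_zero_iff_mem.2 hpJ
      rw [map_sum] at this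
      refine Eq.trans (Finset.sum_congr rfl fun i _ => ?_) this
      rw [← hw i]
      exact ((Ideal.Quotient.mkₐ A J).toLinearMap.map_smul (r i) (w i)).symm
    refine ⟨k + 1, ?_⟩
    have : algebraMap A B a ^ (k + 1) * h = algebraMap A B a * q := by
      have ep : algebraMap A B a * p = 0 := by
        rw [← hr, Finset.mul_sum]
        exact Finset.sum_eq_zero fun i _ => by rw [Algebra.smul_def, ← mul_assoc, ← map_mul, hind r h0 i, map_zero, zero_mul]
      rw [pow_succ]; linear_combination (algebraMap A B a) * hpq.symm + ep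
    rw [this]
    exact I.mul_mem_left _ hq
  -- an element isolating `y` in its fibre
  have : η.IsPrime := hη.1.1
  have hfin : (η.primesOver B).Finite := Algebra.QuasiFinite.finite_primesOver η
  have hsep : ∀ Q ∈ hfin.toFinset.erase y, ∃ g, g ∈ Q ∧ g ∉ y := fun Q hQ => by
    obtain ⟨hne, hQ⟩ := Finset.mem_erase.1 hQ
    obtain ⟨hQp, hQo⟩ := hfin.mem_toFinset.1 hQ
    refine SetLike.not_le_iff_exists.1 fun hle => hne ?_
    exact Algebra.QuasiFinite.eq_of_le_of_under_eq (R := A) Q y hle (hQo.over.symm.trans hyη.symm)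
  choose g hgQ hgy using hsep
  let G := ∏ Q ∈ (hfin.toFinset.erase y).attach, g Q.1 Q.2
  have hGy : G ∉ y := fun h => by
    obtain ⟨Q, -, hQ⟩ := (Ideal.IsPrime.prod_mem_iff (hp := hy)).1 h
    exact hgy Q.1 Q.2 hQ
  have hnil : ∀ h ∈ s, ∃ c, c ∉ η ∧ IsNilpotent (algebraMap A B c * (G * h)) := by
    intro h hs
    by_contra! hc
    obtain ⟨Q, hQ, -, hd⟩ := Ideal.exists_le_prime_disjoint (⊥ : Ideal B)
      (Algebra.algebraMapSubmonoid B η.primeCompl ⊔ Submonoid.powers (G * h)) (by
        rw [Set.disjoint_left]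
        rintro x hx hxS
        obtain ⟨_, ⟨c, hc', rfl⟩, _, ⟨j, rfl⟩, rfl⟩ := Submonoid.mem_sup.1 hxS
        refine hc c hc' ⟨j + 1, ?_⟩
        simp only [SetLike.mem_coe, Ideal.mem_bot] at hx
        rw [mul_pow, pow_succ, pow_succ (G * h),
          show algebraMap A B c ^ j * algebraMap A B c * ((G * h) ^ j * (G * h)) =
            algebraMap A B c * (G * h) ^ j * (algebraMap A B c ^ j * (G * h)) by ring, hx, zero_mul])
    have hle : Q.comap (algebraMap A B) ≤ η := fun c hc' => by_contra fun h' =>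
      Set.disjoint_left.1 hd hc' (Submonoid.mem_sup_left ⟨c, h', rfl⟩)
    have hQη : Q.comap (algebraMap A B) = η := le_antisymm hle (hη.2 ⟨inferInstance, bot_le⟩ hle)
    refine Set.disjoint_left.1 hd ?_ (Submonoid.mem_sup_right (Submonoid.mem_powers (G * h)))
    rcases eq_or_ne Q y with rfl | hne
    · exact Q.mul_mem_left _ (hJy (hsJ h hs))
    · have hQm : Q ∈ hfin.toFinset.erase y := Finset.mem_erase.2 ⟨hne, hfin.mem_toFinset.2 ⟨hQ, ⟨hQη.symm⟩⟩⟩
      refine Q.mul_mem_right _ ?_
      obtain ⟨d, hd'⟩ := Finset.dvd_prod_of_mem (fun Q : {Q // Q ∈ hfin.toFinset.erase y} => g Q.1 Q.2) (Finset.mem_attach _ ⟨Q, hQm⟩)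
      rw [show G = g Q hQm * d from hd']
      exact Q.mul_mem_right _ (hgQ Q hQm)
  choose c hc hcn using hnil
  let cc := a * ∏ h ∈ s.attach, c h.1 h.2
  have hccη : cc ∉ η := fun h => by
    rcases (‹η.IsPrime›).mem_or_mem h with h | h
    · exact haη h
    · obtain ⟨Q, -, hQ⟩ := (Ideal.IsPrime.prod_mem_iff (hp := ‹η.IsPrime›)).1 h
      exact hc Q.1 Q.2 hQ
  have hbad : algebraMap A B cc * G ∉ y := fun h => (hy.mem_or_mem h).elim (fun h => hccη (hyη.le h)) hGy
  obtain ⟨N, hN⟩ := hJ (algebraMap A B cc * G) fun P hP hP' h hh => by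
    obtain ⟨k, hk⟩ := hcut h hh
    have hsP : I ≤ P := Ideal.span_le.2 fun x hx => by
      obtain ⟨j, hj⟩ := hcn x hx
      have h1 := hP.mem_of_pow_mem j (hj ▸ P.zero_mem)
      rw [← mul_assoc] at h1
      refine (hP.mem_or_mem h1).resolve_left fun h2 => hP' ?_
      obtain ⟨d, hd'⟩ := Finset.dvd_prod_of_mem (fun Q : {x // x ∈ s} => c Q.1 Q.2) (Finset.mem_attach _ ⟨x, hx⟩)
      rw [show cc = c x hx * (a * d) by rw [mul_left_comm]; exact congrArg (a * ·) hd', map_mul,
        mul_comm (algebraMap A B (c x hx)), mul_assoc]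
      exact P.mul_mem_left _ h2
    refine (hP.mem_or_mem (hsP hk)).resolve_left fun h2 => hP' ?_
    rw [map_mul, mul_assoc]
    exact P.mul_mem_right _ (hP.mem_of_pow_mem k h2)
  exact hbad (hy.mem_of_pow_mem N (hN ▸ y.zero_mem))

/-- Images of nowhere dense closed subsets under quasi-finite maps are nowhere dense. -/
theorem exists_notMem_image {A B : Type u} [CommRing A] [Nontrivial A] [CommRing B] [Algebra A B]
    [Algebra.FiniteType A B] [Algebra.QuasiFinite A B] (J : Ideal B)
    (hJ : ∀ g : B, (∀ P : Ideal B, P.IsPrime → g ∉ P → J ≤ P) → IsNilpotent g) :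
    ∃ a : A, ¬ IsNilpotent a ∧ ∀ P : Ideal B, P.IsPrime → J ≤ P → algebraMap A B a ∈ P := by
  let N := nilradical A
  let NB := N.map (algebraMap A B)
  have hNB : ∀ P : Ideal B, P.IsPrime → NB ≤ P := fun P hP => Ideal.map_le_iff_le_comap.2
    (fun x hx => by
      obtain ⟨n, hn⟩ := mem_nilradical.1 hx
      exact hP.mem_of_pow_mem n (by rw [← map_pow, hn, map_zero]; exact zero_mem P))
  have : IsReduced (A ⧸ N) := (Ideal.isRadical_iff_quotient_reduced N).1 (Ideal.radical_isRadical _)
  have : Nontrivial (A ⧸ N) := Ideal.Quotient.nontrivial_iff.2 fun h => by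
    obtain ⟨n, hn⟩ := mem_nilradical.1 (h ▸ Submodule.mem_top : (1 : A) ∈ N)
    simp at hn
  letI : Algebra (A ⧸ N) (B ⧸ NB) := (Ideal.quotientMap NB (algebraMap A B) Ideal.le_comap_map).toAlgebra
  have : IsScalarTower A (A ⧸ N) (B ⧸ NB) := IsScalarTower.of_algebraMap_eq fun x => rfl
  have : Algebra.FiniteType (A ⧸ N) (B ⧸ NB) := Algebra.FiniteType.of_restrictScalars_finiteType A _ _
  have : Algebra.QuasiFinite (A ⧸ N) (B ⧸ NB) := Algebra.QuasiFinite.of_restrictScalars A (A ⧸ N) (B ⧸ NB)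
  obtain ⟨a, ha, h⟩ := exists_notMem_image_of_isReduced (A := A ⧸ N) (J.map (Ideal.Quotient.mk NB)) fun g hg => by
    obtain ⟨g, rfl⟩ := Ideal.Quotient.mk_surjective g
    refine (hJ g fun P hP hgP => ?_).map _
    have := Ideal.map_isPrime_of_surjective (f := Ideal.Quotient.mk NB) Ideal.Quotient.mk_surjective (I := P)
      (by rw [Ideal.mk_ker]; exact hNB P hP)
    have h := hg (P.map (Ideal.Quotient.mk NB)) this fun h => hgP (by
      have := Ideal.mem_comap.2 h
      rwa [Ideal.comap_map_mk (hNB P hP)] at this)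
    rw [Ideal.map_le_iff_le_comap, Ideal.comap_map_mk (hNB P hP)] at h
    exact h
  obtain ⟨a, rfl⟩ := Ideal.Quotient.mk_surjective a
  refine ⟨a, fun hn => ha (Ideal.Quotient.eq_zero_iff_mem.2 (mem_nilradical.2 hn)), fun P hP hJP => ?_⟩
  have := Ideal.map_isPrime_of_surjective (f := Ideal.Quotient.mk NB) Ideal.Quotient.mk_surjective (I := P)
    (by rw [Ideal.mk_ker]; exact hNB P hP)
  have h := h (P.map (Ideal.Quotient.mk NB)) this (Ideal.map_mono hJP)
  have h' : algebraMap A B a ∈ (P.map (Ideal.Quotient.mk NB)).comap (Ideal.Quotient.mk NB) := h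
  rwa [Ideal.comap_map_mk (hNB P hP)] at h'

end Groth.Agent.QFDense4
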