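import Groth.Agent.Lib.NodeCpl1.Flat
import Groth.Agent.Lib.FlatDepth.CplMap
import Groth.Agent.Lib.FlatDepth.CplQuot
import Groth.Agent.Lib.CohenAlg3.Exists
import Groth.Agent.Lib.Cohen.Structure

/-! # Completion of a flat family at a split node -/

set_option autoImplicit false
set_option linter.style.haveILetI false
set_option backward.isDefEq.respectTransparency false
universe u

open IsLocalRing MvPowerSeries

namespace Groth.Agent.SplitNode3

theorem mem_span_range_X {k : Type u} [CommRing k] (F : MvPowerSeries (Fin 2) k) (hF : constantCoeff (σ := Fin 2) F = 0) :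
    F ∈ Ideal.span (Set.range (X : Fin 2 → MvPowerSeries (Fin 2) k)) := by
  have := H2Alg.PSHom.mem_pow (m := 1) (f := F) fun d hd => by
    rw [Nat.lt_one_iff, Finsupp.degree_eq_zero_iff] at hd
    subst hd
    simpa using hF
  rwa [pow_one] at this

theorem exists_node_iso_of_complete {A B : Type u} [CommRing A] [IsLocalRing A] [IsNoetherianRing A]
    [CommRing B] [IsLocalRing B] [IsNoetherianRing B] [Algebra A B] [IsLocalHom (algebraMap A B)]
    [IsAdicComplete (maximalIdeal A) A] [IsAdicComplete (maximalIdeal B) B] [Module.Flat A B]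
    (ω : B →+* (MvPowerSeries (Fin 2) (ResidueField A) ⧸
      Ideal.span {(X 0 * X 1 : MvPowerSeries (Fin 2) (ResidueField A))}))
    (hω : Function.Surjective ω) (hker : RingHom.ker ω = (maximalIdeal A).map (algebraMap A B))
    (hA : ∀ a, ω (algebraMap A B a) = Ideal.Quotient.mk _ (C (residue A a))) :
    ∃ h ∈ maximalIdeal A, ∃ e : B ≃+* (MvPowerSeries (Fin 2) A ⧸ Ideal.span {(X 0 * X 1 - C h : MvPowerSeries (Fin 2) A)}),
      ∀ a, e (algebraMap A B a) = Ideal.Quotient.mk _ (C a) := by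
  let k := ResidueField A
  let N0 := MvPowerSeries (Fin 2) k ⧸ Ideal.span {(X 0 * X 1 : MvPowerSeries (Fin 2) k)}
  let J : Ideal B := (maximalIdeal A).map (algebraMap A B)
  haveI : Nontrivial N0 := by
    refine Ideal.Quotient.nontrivial_iff.2 fun h => ?_
    rw [Ideal.span_singleton_eq_top, isUnit_iff_constantCoeff, map_mul, constantCoeff_X, zero_mul] at h
    exact not_isUnit_zero h
  haveI : IsLocalRing N0 := .of_surjective' ω hω
  have hmax : (maximalIdeal B).map ω = maximalIdeal N0 := map_maximalIdeal_of_surjective ω hω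
  have hm0 : maximalIdeal N0 = Ideal.span {Ideal.Quotient.mk _ (X 0), Ideal.Quotient.mk _ (X 1)} := by
    refine le_antisymm (fun f hf => ?_) ?_
    · obtain ⟨F, rfl⟩ := Ideal.Quotient.mk_surjective f
      have hF : constantCoeff (σ := Fin 2) F = 0 := by
        by_contra h
        exact hf ((isUnit_iff_constantCoeff.2 (Ne.isUnit h)).map _)
      have hF' : F ∈ Ideal.span (Set.range (X : Fin 2 → MvPowerSeries (Fin 2) k)) := mem_span_range_X F hF
      have := Ideal.mem_map_of_mem (Ideal.Quotient.mk (Ideal.span {(X 0 * X 1 : MvPowerSeries (Fin 2) k)})) hF'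
      rw [Ideal.map_span, ← Set.range_comp] at this
      refine Ideal.span_mono ?_ this
      rintro _ ⟨i, rfl⟩
      fin_cases i
      · exact Or.inl rfl
      · exact Or.inr rfl
    · rw [Ideal.span_le]
      intro x hx
      have key : ∀ i : Fin 2, Ideal.Quotient.mk (Ideal.span {(X 0 * X 1 : MvPowerSeries (Fin 2) k)}) (X i) ∈ maximalIdeal N0 := fun i => by
        haveI : IsLocalHom (Ideal.Quotient.mk (Ideal.span {(X 0 * X 1 : MvPowerSeries (Fin 2) k)})) :=
          IsLocalHom.of_surjective _ Ideal.Quotient.mk_surjective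
        refine map_nonunit _ _ ?_
        intro h
        have := isUnit_iff_constantCoeff.1 h
        rw [constantCoeff_X] at this
        exact not_isUnit_zero this
      rcases hx with rfl | rfl
      · exact key 0
      · exact key 1
  obtain ⟨u, hu⟩ := hω (Ideal.Quotient.mk _ (X 0))
  obtain ⟨v, hv⟩ := hω (Ideal.Quotient.mk _ (X 1))
  haveI : IsLocalHom ω := IsLocalHom.of_surjective ω hω
  have hcomap : maximalIdeal B = Ideal.span {u, v} ⊔ J := by
    rw [← IsLocalRing.maximalIdeal_comap ω, hm0,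
      show Ideal.span {Ideal.Quotient.mk _ (X 0), Ideal.Quotient.mk _ (X 1)} = (Ideal.span {u, v}).map ω by
        rw [Ideal.map_span, Set.image_pair, hu, hv],
      Ideal.comap_map_of_surjective ω hω, ← RingHom.ker_eq_comap_bot, hker]
  have hu' : u ∈ maximalIdeal B := hcomap ▸ Ideal.mem_sup_left (Ideal.subset_span (Or.inl rfl))
  have hv' : v ∈ maximalIdeal B := hcomap ▸ Ideal.mem_sup_left (Ideal.subset_span (Or.inr rfl))
  have huv : u * v ∈ J := by
    show _ ∈ (maximalIdeal A).map (algebraMap A B)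
    rw [← hker, RingHom.mem_ker, map_mul, hu, hv, ← map_mul]
    exact Ideal.Quotient.eq_zero_iff_mem.2 (Ideal.mem_span_singleton_self _)
  have hres : Function.Bijective (ResidueField.map (algebraMap A B)) := by
    refine ⟨RingHom.injective _, fun z => ?_⟩
    obtain ⟨b, rfl⟩ := residue_surjective z
    obtain ⟨F, hF⟩ := Ideal.Quotient.mk_surjective (ω b)
    obtain ⟨a, ha⟩ := residue_surjective (constantCoeff (σ := Fin 2) F)
    refine ⟨residue A a, ?_⟩
    rw [ResidueField.map_residue]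
    refine Ideal.Quotient.eq.2 ?_
    rw [← IsLocalRing.maximalIdeal_comap ω, Ideal.mem_comap, map_sub, hA, ← hF, ha, ← map_sub, hm0]
    have hF' : C (constantCoeff (σ := Fin 2) F) - F ∈ Ideal.span (Set.range (X : Fin 2 → MvPowerSeries (Fin 2) k)) :=
      mem_span_range_X _ (by rw [map_sub, constantCoeff_C, sub_self])
    have := Ideal.mem_map_of_mem (Ideal.Quotient.mk (Ideal.span {(X 0 * X 1 : MvPowerSeries (Fin 2) k)})) hF'
    rw [Ideal.map_span, ← Set.range_comp] at this
    refine Ideal.span_mono ?_ this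
    rintro _ ⟨i, rfl⟩
    fin_cases i
    · exact Or.inl rfl
    · exact Or.inr rfl
  haveI : Nontrivial (B ⧸ J) := Ideal.Quotient.nontrivial_iff.2
    (ne_top_of_le_ne_top (maximalIdeal.isMaximal B).ne_top (le_sup_right.trans hcomap.ge))
  haveI : IsLocalRing (B ⧸ J) := .of_surjective' (Ideal.Quotient.mk J) Ideal.Quotient.mk_surjective
  haveI : IsAdicComplete ((maximalIdeal B).map (Ideal.Quotient.mk J)) (B ⧸ J) := by
    rw [map_maximalIdeal_of_surjective (Ideal.Quotient.mk J) Ideal.Quotient.mk_surjective]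
    exact CohenAlg3.isAdicComplete_quotient J
  obtain ⟨α, -, ψ, hψ, -, -⟩ := NodeCpl1.exists_node_equiv A B hres u v hu' hv' huv hcomap
    (((AdicCompletion.ofAlgEquiv ((maximalIdeal B).map (Ideal.Quotient.mk J))).symm.toRingEquiv).trans
      ((Ideal.quotEquivOfEq hker.symm).trans (RingHom.quotientKerEquivOfSurjective hω)))
  let cA := AdicCompletion.ofAlgEquiv (maximalIdeal A)
  let cB := AdicCompletion.ofAlgEquiv (maximalIdeal B)
  let Φ := MvPowerSeries.map (σ := Fin 2) cA.symm.toRingEquiv.toRingHom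
  have hΦi : Function.Bijective Φ := by
    refine ⟨fun f g h => MvPowerSeries.ext fun d => cA.symm.injective ?_, fun G => ⟨fun d => cA (coeff d G), MvPowerSeries.ext fun d => ?_⟩⟩
    · have := congrArg (coeff d) h
      rwa [coeff_map, coeff_map] at this
    · rw [coeff_map]
      exact cA.symm_apply_apply _
  let ΦE := RingEquiv.ofBijective Φ hΦi
  let α' := cA.symm α
  have hspan : Ideal.span {(X 0 * X 1 - C α' : MvPowerSeries (Fin 2) A)} =
      (Ideal.span {(X 0 * X 1 - C α : MvPowerSeries (Fin 2) (EGA4.Cpl A))}).map ΦE := by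
    rw [Ideal.map_span, Set.image_singleton]
    congr 2
    show _ = Φ _
    rw [map_sub, map_mul, map_X, map_X, map_C]; rfl
  let Ψ := Ideal.quotientEquiv _ _ ΦE hspan
  let E : B ≃+* (MvPowerSeries (Fin 2) A ⧸ Ideal.span {(X 0 * X 1 - C α' : MvPowerSeries (Fin 2) A)}) :=
    cB.toRingEquiv.trans ((AlgEquiv.ofBijective ψ hψ).symm.toRingEquiv.trans Ψ)
  have hE : ∀ a, E (algebraMap A B a) = Ideal.Quotient.mk _ (C a) := fun a => by
    show Ψ ((AlgEquiv.ofBijective ψ hψ).symm (cB (algebraMap A B a))) = _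
    rw [show cB (algebraMap A B a) = algebraMap A (EGA4.Cpl B) a from
      (cB.commutes (algebraMap A B a)).trans (IsScalarTower.algebraMap_apply A B (EGA4.Cpl B) a).symm]
    rw [AlgEquiv.commutes, IsScalarTower.algebraMap_apply A (EGA4.Cpl A)
      (MvPowerSeries (Fin 2) (EGA4.Cpl A) ⧸ Ideal.span {(X 0 * X 1 - C α : MvPowerSeries (Fin 2) (EGA4.Cpl A))})]
    show Ψ (Ideal.Quotient.mk _ (C (algebraMap A (EGA4.Cpl A) a))) = _
    rw [Ideal.quotientEquiv_mk]
    show Ideal.Quotient.mk _ (Φ _) = _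
    rw [map_C]
    congr 2
    exact (congrArg cA.symm (cA.commutes a).symm).trans (cA.symm_apply_apply a)
  refine ⟨α', ?_, E, hE⟩
  by_contra hnot
  have hu1 : IsUnit α' := notMem_maximalIdeal.1 hnot
  haveI := E.symm.toRingHom.domain_nontrivial
  refine Ideal.Quotient.nontrivial_iff.1 this (Ideal.eq_top_of_isUnit_mem _ (Ideal.mem_span_singleton_self _) ?_)
  rw [isUnit_iff_constantCoeff, map_sub, map_mul, constantCoeff_X, zero_mul, zero_sub, constantCoeff_C, IsUnit.neg_iff]
  exact hu1

theorem exists_node_iso {A B F : Type u} [CommRing A] [IsLocalRing A] [IsNoetherianRing A]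
    [CommRing B] [IsLocalRing B] [IsNoetherianRing B] [Algebra A B] [IsLocalHom (algebraMap A B)] [Module.Flat A B]
    [CommRing F] [IsLocalRing F]
    (β : B →+* F) (hβ : Function.Surjective β) (hkerβ : RingHom.ker β = (maximalIdeal A).map (algebraMap A B))
    (σ : ResidueField A →+* F) (hσ : ∀ a, β (algebraMap A B a) = σ (residue A a))
    (e : EGA4.Cpl F ≃+* (MvPowerSeries (Fin 2) (ResidueField A) ⧸
      Ideal.span {(X 0 * X 1 : MvPowerSeries (Fin 2) (ResidueField A))}))
    (he : ∀ c, e (algebraMap F (EGA4.Cpl F) (σ c)) = Ideal.Quotient.mk _ (C c)) :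
    ∃ h ∈ maximalIdeal (EGA4.Cpl A), ∃ e' : EGA4.Cpl B ≃+*
      (MvPowerSeries (Fin 2) (EGA4.Cpl A) ⧸ Ideal.span {(X 0 * X 1 - C h : MvPowerSeries (Fin 2) (EGA4.Cpl A))}),
      ∀ a, e' (algebraMap B (EGA4.Cpl B) (algebraMap A B a)) = Ideal.Quotient.mk _ (C (algebraMap A (EGA4.Cpl A) a)) := by
  haveI : IsNoetherianRing F := isNoetherianRing_of_surjective B F β hβ
  letI : Algebra B F := β.toAlgebra
  obtain ⟨inst, htow, hff⟩ := FlatDepth.exists_cpl_tower A B
  letI := inst
  haveI : IsScalarTower A (EGA4.Cpl A) (EGA4.Cpl B) := htow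
  haveI := hff inferInstance
  haveI := CplLocH7.isNoetherianRing_cpl A
  haveI := CplLocH7.isNoetherianRing_cpl B
  haveI := NodeCpl1.isAdicComplete_cpl A
  haveI := NodeCpl1.isAdicComplete_cpl B
  haveI : IsLocalHom (algebraMap (EGA4.Cpl A) (EGA4.Cpl B)) := by
    refine ((local_hom_TFAE _).out 2 0).1 ?_
    rw [CplLocH7.maximalIdeal_cpl, Ideal.map_map, ← IsScalarTower.algebraMap_eq, IsScalarTower.algebraMap_eq A B (EGA4.Cpl B),
      ← Ideal.map_map, CplLocH7.maximalIdeal_cpl]
    exact Ideal.map_mono (((local_hom_TFAE (algebraMap A B)).out 0 2 rfl rfl).1 ‹IsLocalHom (algebraMap A B)›)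
  haveI : IsLocalHom (algebraMap A (EGA4.Cpl A)) :=
    ((local_hom_TFAE _).out 2 0).1 (CplLocH7.maximalIdeal_cpl (A := A)).ge
  let r : ResidueField A ≃+* ResidueField (EGA4.Cpl A) := RingEquiv.ofBijective (ResidueField.map (algebraMap A (EGA4.Cpl A))) (by
    refine ⟨RingHom.injective _, fun z => ?_⟩
    obtain ⟨x, rfl⟩ := residue_surjective z
    obtain ⟨a, ha⟩ := CplLocH7.exists_sub_mem_pow (A := A) 1 x
    refine ⟨residue A a, ?_⟩
    rw [ResidueField.map_residue]
    refine Ideal.Quotient.eq.2 ?_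
    rw [← neg_sub]
    refine (Ideal.neg_mem_iff _).2 ?_
    rwa [pow_one] at ha)
  let Φ := MvPowerSeries.map (σ := Fin 2) r.toRingHom
  have hΦi : Function.Bijective Φ := by
    refine ⟨fun f g h => MvPowerSeries.ext fun d => r.injective ?_, fun G => ⟨fun d => r.symm (coeff d G), MvPowerSeries.ext fun d => ?_⟩⟩
    · have := congrArg (coeff d) h
      rwa [coeff_map, coeff_map] at this
    · rw [coeff_map]
      exact r.apply_symm_apply _
  let ΦE := RingEquiv.ofBijective Φ hΦi
  have hspan : Ideal.span {(X 0 * X 1 : MvPowerSeries (Fin 2) (ResidueField (EGA4.Cpl A)))} =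
      (Ideal.span {(X 0 * X 1 : MvPowerSeries (Fin 2) (ResidueField A))}).map ΦE := by
    rw [Ideal.map_span, Set.image_singleton]
    congr 2
    show _ = Φ _
    rw [map_mul, map_X, map_X]
  let q := FlatDepth.cplQuotHom B F hβ
  let ω : EGA4.Cpl B →+* _ := ((Ideal.quotientEquiv _ _ ΦE hspan).toRingHom.comp e.toRingHom).comp q
  have hωA : ∀ a, ω (algebraMap B (EGA4.Cpl B) (algebraMap A B a)) = Ideal.Quotient.mk _ (C (r (residue A a))) := fun a => by
    show (Ideal.quotientEquiv _ _ ΦE hspan) (e (FlatDepth.cplQuotHom B F hβ (algebraMap B (EGA4.Cpl B) (algebraMap A B a)))) = _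
    rw [FlatDepth.cplQuotHom_algebraMap, IsScalarTower.algebraMap_apply B F (EGA4.Cpl F)]
    show (Ideal.quotientEquiv _ _ ΦE hspan) (e (algebraMap F _ (β (algebraMap A B a)))) = _
    rw [hσ, he, Ideal.quotientEquiv_mk]
    show Ideal.Quotient.mk _ (Φ _) = _
    rw [map_C]; rfl
  have hres : ∀ x : EGA4.Cpl A, ∃ a : A, x - algebraMap A (EGA4.Cpl A) a ∈ maximalIdeal (EGA4.Cpl A) := fun x => by
    obtain ⟨a, ha⟩ := CplLocH7.exists_sub_mem_pow (A := A) 1 x
    exact ⟨a, by rwa [pow_one] at ha⟩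
  have hkerω : RingHom.ker ω = (maximalIdeal (EGA4.Cpl A)).map (algebraMap (EGA4.Cpl A) (EGA4.Cpl B)) := by
    rw [show RingHom.ker ω = RingHom.ker q from RingHom.ker_comp_of_injective _
      ((Ideal.quotientEquiv _ _ ΦE hspan).injective.comp e.injective),
      FlatDepth.ker_cplQuotHom, show RingHom.ker (algebraMap B F) = RingHom.ker β from rfl, hkerβ, CplLocH7.maximalIdeal_cpl, Ideal.map_map,
      Ideal.map_map, ← IsScalarTower.algebraMap_eq, ← IsScalarTower.algebraMap_eq]
  have hA : ∀ x, ω (algebraMap (EGA4.Cpl A) (EGA4.Cpl B) x) = Ideal.Quotient.mk _ (C (residue (EGA4.Cpl A) x)) := fun x => by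
    obtain ⟨a, ha⟩ := hres x
    have h1 : ω (algebraMap (EGA4.Cpl A) (EGA4.Cpl B) (x - algebraMap A (EGA4.Cpl A) a)) = 0 := by
      rw [← RingHom.mem_ker, hkerω]; exact Ideal.mem_map_of_mem _ ha
    rw [map_sub, map_sub, sub_eq_zero, ← IsScalarTower.algebraMap_apply, IsScalarTower.algebraMap_apply A B (EGA4.Cpl B), hωA] at h1
    rw [h1, show residue (EGA4.Cpl A) x = residue (EGA4.Cpl A) (algebraMap A (EGA4.Cpl A) a) from Ideal.Quotient.eq.2 ha]
    congr 1
  obtain ⟨h, hh, E, hE⟩ := exists_node_iso_of_complete ω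
    ((((Ideal.quotientEquiv _ _ ΦE hspan).surjective.comp e.surjective).comp (FlatDepth.cplQuotHom_surjective B F hβ))) hkerω hA
  refine ⟨h, hh, E, fun a => ?_⟩
  rw [← IsScalarTower.algebraMap_apply A B (EGA4.Cpl B), IsScalarTower.algebraMap_apply A (EGA4.Cpl A) (EGA4.Cpl B), hE]

end Groth.Agent.SplitNode3
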