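import Groth.Agent.Lib.NodeCpl1.Flat
import Groth.Agent.Lib.NodeCpl1.Basic
import Groth.Agent.Lib.SplitNode3
import Groth.Agent.Lib.FlatDepth.CplMap
import Groth.Agent.Lib.FlatDepth.CplQuot

/-! # Completion of a flat family at a node with quadratic normal form -/

set_option autoImplicit false
set_option linter.style.haveILetI false
set_option backward.isDefEq.respectTransparency false
universe u

open IsLocalRing MvPowerSeries

namespace Groth.Agent.QuadNode3

/-- The quadratic form `a x² + b xy + c y²`. -/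
noncomputable def quad {k : Type u} [CommRing k] (a b c : k) : MvPowerSeries (Fin 2) k :=
  C a * X 0 ^ 2 + C b * X 0 * X 1 + C c * X 1 ^ 2

theorem map_quad {k l : Type u} [CommRing k] [CommRing l] (φ : k →+* l) (a b c : k) :
    MvPowerSeries.map φ (quad a b c) = quad (φ a) (φ b) (φ c) := by
  simp [quad, map_add, map_mul, map_pow, map_C, map_X]

theorem exists_split {k : Type u} [CommRing k] (F : MvPowerSeries (Fin 2) k) :
    ∃ G H, F = C (constantCoeff (σ := Fin 2) F) + X 0 * G + X 1 * H := by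
  have h := SplitNode3.mem_span_range_X (F - C (constantCoeff (σ := Fin 2) F)) (by rw [map_sub, constantCoeff_C, sub_self])
  obtain ⟨c, hc⟩ := Ideal.mem_span_range_iff_exists_fun.1 h
  refine ⟨c 0, c 1, ?_⟩
  rw [Fin.sum_univ_two] at hc
  linear_combination -hc

theorem exists_quad_iso_of_complete {A B : Type u} [CommRing A] [IsLocalRing A] [IsNoetherianRing A]
    [CommRing B] [IsLocalRing B] [IsNoetherianRing B] [Algebra A B] [IsLocalHom (algebraMap A B)]
    [IsAdicComplete (maximalIdeal A) A] [IsAdicComplete (maximalIdeal B) B] [Module.Flat A B]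
    (a b c : A) (hD : IsUnit (b ^ 2 - 4 * a * c))
    (ω : B →+* (MvPowerSeries (Fin 2) (ResidueField A) ⧸
      Ideal.span {quad (residue A a) (residue A b) (residue A c)}))
    (hω : Function.Surjective ω) (hker : RingHom.ker ω = (maximalIdeal A).map (algebraMap A B))
    (hA : ∀ r, ω (algebraMap A B r) = Ideal.Quotient.mk _ (C (residue A r))) :
    ∃ h ∈ maximalIdeal A, ∃ e : B ≃+* (MvPowerSeries (Fin 2) A ⧸ Ideal.span {quad a b c - C h}),
      ∀ r, e (algebraMap A B r) = Ideal.Quotient.mk _ (C r) := by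
  classical
  let k := ResidueField A
  let q0 := quad (residue A a) (residue A b) (residue A c)
  let N0 := MvPowerSeries (Fin 2) k ⧸ Ideal.span {q0}
  let i := algebraMap A B
  have hq0 : constantCoeff (σ := Fin 2) q0 = 0 := by simp [q0, quad]
  haveI : Nontrivial N0 := by
    refine Ideal.Quotient.nontrivial_iff.2 fun h => ?_
    rw [Ideal.span_singleton_eq_top, isUnit_iff_constantCoeff, hq0] at h
    exact not_isUnit_zero h
  haveI : IsLocalRing N0 := .of_surjective' ω hω
  haveI : IsLocalHom ω := IsLocalHom.of_surjective ω hω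
  haveI : IsLocalHom (Ideal.Quotient.mk (Ideal.span {q0})) := IsLocalHom.of_surjective _ Ideal.Quotient.mk_surjective
  let J : Ideal B := (maximalIdeal A).map i
  have hJm : J ≤ maximalIdeal B := ((local_hom_TFAE i).out 0 2 rfl rfl).1 ‹IsLocalHom (algebraMap A B)›
  obtain ⟨u, hu⟩ := hω (Ideal.Quotient.mk _ (X 0))
  obtain ⟨v, hv⟩ := hω (Ideal.Quotient.mk _ (X 1))
  have hXm : ∀ j : Fin 2, Ideal.Quotient.mk (Ideal.span {q0}) (X j) ∈ maximalIdeal N0 := fun j => by
    refine map_nonunit _ _ fun h => ?_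
    have := isUnit_iff_constantCoeff.1 h
    rw [constantCoeff_X] at this
    exact not_isUnit_zero this
  have hum : u ∈ maximalIdeal B := by rw [← IsLocalRing.maximalIdeal_comap ω, Ideal.mem_comap, hu]; exact hXm 0
  have hvm : v ∈ maximalIdeal B := by rw [← IsLocalRing.maximalIdeal_comap ω, Ideal.mem_comap, hv]; exact hXm 1
  -- every element is a constant plus a combination of `u` and `v`
  have hdec : ∀ β : B, ∃ (c0 : A) (G H : B), β - (i c0 + u * G + v * H) ∈ J := fun β => by
    obtain ⟨F, hF⟩ := Ideal.Quotient.mk_surjective (ω β)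
    obtain ⟨G, H, hGH⟩ := exists_split F
    obtain ⟨c0, hc0⟩ := residue_surjective (constantCoeff (σ := Fin 2) F)
    obtain ⟨G', hG'⟩ := hω (Ideal.Quotient.mk _ G)
    obtain ⟨H', hH'⟩ := hω (Ideal.Quotient.mk _ H)
    refine ⟨c0, G', H', ?_⟩
    show _ ∈ (maximalIdeal A).map (algebraMap A B)
    rw [← hker, RingHom.mem_ker, map_sub, map_add, map_add, map_mul, map_mul, hA, hu, hv, hG', hH', ← hF, hc0,
      ← map_mul, ← map_mul, ← map_add, ← map_add, ← hGH, sub_self]
  obtain ⟨D', hD'⟩ := hD.exists_right_inv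
  let Q : B → B → B := fun x y => i a * x ^ 2 + i b * x * y + i c * y ^ 2
  let Qx : B → B → B := fun x y => 2 * i a * x + i b * y
  let Qy : B → B → B := fun x y => i b * x + 2 * i c * y
  have hJpow : ∀ n : ℕ, (maximalIdeal A ^ n).map i = J ^ n := fun n => Ideal.map_pow _ _ _
  -- one step
  have step : ∀ (n : ℕ) (x y : B), x - u ∈ J → y - v ∈ J → ∀ ε ∈ J ^ (n + 1),
      ∃ δh ∈ maximalIdeal A ^ (n + 1), ∃ δx ∈ J ^ (n + 1), ∃ δy ∈ J ^ (n + 1),
        ε - (i δh + δx * Qx x y + δy * Qy x y) ∈ J ^ (n + 2) := by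
    intro n x y hx hy ε hε
    rw [← hJpow, Ideal.map] at hε
    suffices ∀ g, ∃ δh ∈ maximalIdeal A ^ (n + 1), ∃ δx ∈ J ^ (n + 1), ∃ δy ∈ J ^ (n + 1),
        g * ε - (i δh + δx * Qx x y + δy * Qy x y) ∈ J ^ (n + 2) by simpa using this 1
    induction hε using Submodule.span_induction with
    | mem z hz =>
      obtain ⟨μ, hμ, rfl⟩ := hz
      intro g
      obtain ⟨c0, G, H, hg⟩ := hdec g
      have hμJ : i μ ∈ J ^ (n + 1) := by rw [← hJpow]; exact Ideal.mem_map_of_mem i hμ
      refine ⟨c0 * μ, Ideal.mul_mem_left _ _ hμ, -(i D' * (2 * i c * G - i b * H)) * i μ, Ideal.mul_mem_left _ _ hμJ,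
        -(i D' * (2 * i a * H - i b * G)) * i μ, Ideal.mul_mem_left _ _ hμJ, ?_⟩
      have hg2 : g - (i c0 + x * G + y * H) ∈ J := by
        have := sub_mem hg (add_mem (J.mul_mem_right G hx) (J.mul_mem_right H hy))
        convert this using 1
        ring
      have := Ideal.mul_mem_mul hg2 hμJ
      rw [← pow_succ'] at this
      convert this using 1
      have h1 : i D' * (i b ^ 2 - 4 * i a * i c) = 1 := by
        have := congrArg i hD'
        simp only [map_mul, map_sub, map_pow, map_ofNat, map_one] at this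
        rw [mul_comm]; exact this
      simp only [map_mul, Qx, Qy]
      linear_combination (i μ * (x * G + y * H)) * (-1 : B) * h1
    | zero => exact fun g => ⟨0, zero_mem _, 0, zero_mem _, 0, zero_mem _, by simp⟩
    | add z w _ _ hz hw =>
      intro g
      obtain ⟨a1, ha1, a2, ha2, a3, ha3, ha⟩ := hz g
      obtain ⟨b1, hb1, b2, hb2, b3, hb3, hb⟩ := hw g
      refine ⟨a1 + b1, add_mem ha1 hb1, a2 + b2, add_mem ha2 hb2, a3 + b3, add_mem ha3 hb3, ?_⟩
      convert add_mem ha hb using 1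
      rw [map_add]; ring
    | smul s z _ hz =>
      intro g
      simpa [mul_assoc] using hz (g * s)
  -- the approximations
  let Good : ℕ → B × B × A → Prop := fun n w =>
    w.1 - u ∈ J ∧ w.2.1 - v ∈ J ∧ w.2.2 ∈ maximalIdeal A ∧ Q w.1 w.2.1 - i w.2.2 ∈ J ^ (n + 1)
  have h0 : Good 0 (u, v, 0) := by
    refine ⟨by simp, by simp, zero_mem _, ?_⟩
    rw [zero_add, pow_one]
    show _ ∈ (maximalIdeal A).map (algebraMap A B)
    rw [← hker, RingHom.mem_ker]
    simp only [Q, i, map_sub, map_add, map_mul, map_pow, map_zero, sub_zero, hA, hu, hv]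
    simp only [← map_mul, ← map_pow, ← map_add]
    exact Ideal.Quotient.eq_zero_iff_mem.2 (Ideal.mem_span_singleton_self _)
  have next : ∀ n w, Good n w → ∃ w', Good (n + 1) w' ∧ w'.1 - w.1 ∈ J ^ (n + 1) ∧ w'.2.1 - w.2.1 ∈ J ^ (n + 1) ∧
      w'.2.2 - w.2.2 ∈ maximalIdeal A ^ (n + 1) := by
    rintro n ⟨x, y, h⟩ ⟨hx, hy, hh, he⟩
    obtain ⟨δh, hδh, δx, hδx, δy, hδy, hδ⟩ := step n x y hx hy _ he
    have hsub : J ^ (n + 1) ≤ J := Ideal.pow_le_self n.succ_ne_zero
    refine ⟨(x - δx, y - δy, h + δh), ⟨?_, ?_, add_mem hh (Ideal.pow_le_self n.succ_ne_zero hδh), ?_⟩, by simpa using hδx,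
      by simpa using hδy, by simpa using hδh⟩
    · have := sub_mem hx (hsub hδx); convert this using 1; ring
    · have := sub_mem hy (hsub hδy); convert this using 1; ring
    · have h2 : ∀ s t : B, s ∈ J ^ (n + 1) → t ∈ J ^ (n + 1) → s * t ∈ J ^ (n + 2) := fun s t hs ht =>
        Ideal.pow_le_pow_right (show n + 2 ≤ n + 1 + (n + 1) by omega) (by rw [pow_add]; exact Ideal.mul_mem_mul hs ht)
      have := add_mem hδ (add_mem (add_mem (Ideal.mul_mem_left _ (i a) (h2 _ _ hδx hδx))
        (Ideal.mul_mem_left _ (i b) (h2 _ _ hδx hδy))) (Ideal.mul_mem_left _ (i c) (h2 _ _ hδy hδy)))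
      convert this using 1
      simp only [Q, Qx, Qy, map_add]
      ring
  choose! nx hnx using next
  let w : ℕ → B × B × A := fun n => Nat.rec (u, v, 0) nx n
  have hw : ∀ n, Good n (w n) := fun n => by
    induction n with
    | zero => exact h0
    | succ n ih => exact (hnx n _ ih).1
  have hJp : ∀ n, J ^ n ≤ maximalIdeal B ^ n := fun n => Ideal.pow_right_mono hJm n
  obtain ⟨U, hU⟩ := NodeCpl1.exists_limit (maximalIdeal B) (fun n => (w n).1) fun n => hJp _ (hnx n _ (hw n)).2.1
  obtain ⟨V, hV⟩ := NodeCpl1.exists_limit (maximalIdeal B) (fun n => (w n).2.1) fun n => hJp _ (hnx n _ (hw n)).2.2.1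
  obtain ⟨E, hE⟩ := NodeCpl1.exists_limit (maximalIdeal A) (fun n => (w n).2.2) fun n => (hnx n _ (hw n)).2.2.2
  have hE0 : E ∈ maximalIdeal A := by
    have := hE 0; rw [zero_add, pow_one] at this
    simpa [w] using this
  have him : ∀ n, ∀ z ∈ maximalIdeal A ^ n, i z ∈ maximalIdeal B ^ n := fun n z hz => hJp n (hJpow n ▸ Ideal.mem_map_of_mem i hz)
  have hrel : Q U V - i E = 0 := by
    refine Cohen.eq_zero_of_mem_pow (maximalIdeal B) (maximalIdeal.isMaximal _).ne_top _ fun n => ?_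
    refine Ideal.pow_le_pow_right n.le_succ ?_
    have h1 := hJp _ (hw n).2.2.2
    have h2 := him _ _ (hE n)
    rw [map_sub] at h2
    have := add_mem (sub_mem h1 h2) (add_mem
      (Ideal.mul_mem_right (i a * (U + (w n).1) + i b * V) _ (hU n))
      (Ideal.mul_mem_right (i b * (w n).1 + i c * (V + (w n).2.1)) _ (hV n)))
    convert this using 1
    simp only [Q]
    ring
  have hUu : U - u ∈ maximalIdeal B := by
    have := hU 0; rw [zero_add, pow_one] at this; exact this
  have hVv : V - v ∈ maximalIdeal B := by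
    have := hV 0; rw [zero_add, pow_one] at this; exact this
  have hUm : U ∈ maximalIdeal B := by simpa using add_mem hUu hum
  have hVm : V ∈ maximalIdeal B := by simpa using add_mem hVv hvm
  have hUJ : U - u ∈ J := by
    refine NodeCpl1.mem_of_forall_mem_sup_pow J _ fun n => ?_
    have := add_mem (Submodule.mem_sup_right (Ideal.pow_le_pow_right n.le_succ (hU n)) : _ ∈ J ⊔ maximalIdeal B ^ n)
      (Submodule.mem_sup_left (hw n).1)
    rwa [sub_add_sub_cancel] at this
  have hVJ : V - v ∈ J := by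
    refine NodeCpl1.mem_of_forall_mem_sup_pow J _ fun n => ?_
    have := add_mem (Submodule.mem_sup_right (Ideal.pow_le_pow_right n.le_succ (hV n)) : _ ∈ J ⊔ maximalIdeal B ^ n)
      (Submodule.mem_sup_left (hw n).2.1)
    rwa [sub_add_sub_cancel] at this
  obtain ⟨ψ₁, hψ₁⟩ := H2Alg.PSHom.exists_algHom (A := A) (maximalIdeal B) ![U, V] (fun j => by
    fin_cases j
    · exact hUm
    · exact hVm)
  have e0 : ψ₁ (X 0) = U := hψ₁ 0
  have e1 : ψ₁ (X 1) = V := hψ₁ 1
  have eC : ∀ z, ψ₁ (C z) = i z := fun z => by rw [MvPowerSeries.c_eq_algebraMap]; exact ψ₁.commutes z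
  -- surjectivity
  haveI := ArtFunLib.isAdicComplete_mvPowerSeries (A := A) (n := 2)
  let M := maximalIdeal (MvPowerSeries (Fin 2) A)
  have hmM : ∀ (f : MvPowerSeries (Fin 2) A), f ∈ M ↔ constantCoeff (σ := Fin 2) f ∈ maximalIdeal A := fun f => by
    simp only [M, mem_maximalIdeal, mem_nonunits_iff, isUnit_iff_constantCoeff]
  have hmax : maximalIdeal B = Ideal.span {U, V} ⊔ J := by
    refine le_antisymm (fun z hz => ?_) (sup_le ?_ hJm)
    · obtain ⟨c0, G, H, hg⟩ := hdec z
      have hc0 : c0 ∈ maximalIdeal A := by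
        by_contra hc
        have : i c0 ∈ maximalIdeal B := by
          have := sub_mem hz (add_mem (add_mem (hJm hg) (Ideal.mul_mem_right G _ hum)) (Ideal.mul_mem_right H _ hvm))
          convert this using 1; ring
        exact this ((notMem_maximalIdeal.1 hc).map i)
      have hG : U * G + V * H ∈ Ideal.span {U, V} :=
        add_mem (Ideal.mul_mem_right _ _ (Ideal.subset_span (Or.inl rfl))) (Ideal.mul_mem_right _ _ (Ideal.subset_span (Or.inr rfl)))
      have := add_mem (Submodule.mem_sup_left hG : _ ∈ Ideal.span {U, V} ⊔ J)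
        (Submodule.mem_sup_right (sub_mem (add_mem hg (Ideal.mem_map_of_mem i hc0)) (add_mem (J.mul_mem_right G hUJ) (J.mul_mem_right H hVJ))))
      convert this using 1; ring
    · rw [Ideal.span_le]; rintro _ (rfl | rfl) <;> assumption
  have hmap : M.map ψ₁.toRingHom = maximalIdeal B := by
    refine le_antisymm (Ideal.map_le_iff_le_comap.2 fun f hf => ?_) ?_
    · show ψ₁ f ∈ maximalIdeal B
      obtain ⟨G, H, hGH⟩ := exists_split f
      rw [hGH, map_add, map_add, map_mul, map_mul, e0, e1, eC]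
      exact add_mem (add_mem (hJm (Ideal.mem_map_of_mem i ((hmM f).1 hf))) (Ideal.mul_mem_right _ _ hUm))
        (Ideal.mul_mem_right _ _ hVm)
    · rw [hmax]
      refine sup_le (Ideal.span_le.2 ?_) (Ideal.map_le_iff_le_comap.2 fun z hz => ?_)
      · rintro _ (rfl | rfl)
        · rw [← e0]; exact Ideal.mem_map_of_mem _ ((hmM _).2 (by simp))
        · rw [← e1]; exact Ideal.mem_map_of_mem _ ((hmM _).2 (by simp))
      · rw [Ideal.mem_comap, ← eC]
        exact Ideal.mem_map_of_mem ψ₁.toRingHom ((hmM _).2 (by simpa using hz))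
  have hsurj₁ : Function.Surjective ψ₁ := by
    haveI : IsHausdorff (M.map ψ₁.toRingHom) B := by rw [hmap]; infer_instance
    refine surjective_of_mk_map_comp_surjective (I := M) (f := ψ₁.toRingHom) fun z => ?_
    obtain ⟨z, rfl⟩ := Ideal.Quotient.mk_surjective z
    obtain ⟨c0, G, H, hg⟩ := hdec z
    refine ⟨C c0, ?_⟩
    show Ideal.Quotient.mk _ (ψ₁ (C c0)) = _
    rw [Ideal.Quotient.eq, hmap, eC]
    have := neg_mem (add_mem (add_mem (hJm hg) (Ideal.mul_mem_right G _ hum)) (Ideal.mul_mem_right H _ hvm))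
    convert this using 1; ring
  let r : MvPowerSeries (Fin 2) A := quad a b c - C E
  let N := MvPowerSeries (Fin 2) A ⧸ Ideal.span {r}
  have hψr : ψ₁ r = 0 := by
    rw [← hrel]
    simp only [r, quad, Q, map_sub, map_add, map_mul, map_pow, e0, e1, eC]
  let ψ : N →ₐ[A] B := Ideal.Quotient.liftₐ _ ψ₁ (fun x hx => by
    obtain ⟨z, rfl⟩ := Ideal.mem_span_singleton'.1 hx
    rw [map_mul, hψr, mul_zero])
  have hsurj : Function.Surjective ψ := fun z => by
    obtain ⟨f, rfl⟩ := hsurj₁ z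
    exact ⟨Ideal.Quotient.mk _ f, rfl⟩
  -- injectivity by flatness
  have hres0 : MvPowerSeries.map (residue A) r = q0 := by
    rw [map_sub, map_quad, map_C, (residue_eq_zero_iff E).2 hE0, map_zero, sub_zero]
  obtain ⟨S, hS⟩ := (IsNoetherian.noetherian (RingHom.ker (residue A)) : (RingHom.ker (residue A)).FG)
  have hkmap := NodeCpl1.ker_map_powerSeries (σ := Fin 2) (residue A) hS
  obtain ⟨π, hπs, hπk⟩ := NodeCpl1.ker_quot_map (MvPowerSeries.map (σ := Fin 2) (residue A))
    (fun f => ⟨fun d => (residue_surjective (coeff d f)).choose,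
      MvPowerSeries.ext fun d => (coeff_map _ d _).trans (residue_surjective (coeff d f)).choose_spec⟩) r q0 hres0
  have hmR : RingHom.ker π = (maximalIdeal A).map (algebraMap A N) := by
    rw [hπk, hkmap, show RingHom.ker (residue A) = maximalIdeal A from Ideal.mk_ker, Ideal.map_map]
    rfl
  let g : N →+* N0 := ω.comp ψ.toRingHom
  have hgs : Function.Surjective g := hω.comp hsurj
  have hgk : RingHom.ker π ≤ RingHom.ker g := by
    rw [hmR]
    refine Ideal.map_le_iff_le_comap.2 fun z hz => ?_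
    show ω (ψ (algebraMap A N z)) = 0
    rw [AlgHom.commutes, hA, (residue_eq_zero_iff z).2 hz, map_zero, map_zero]
  let g₀ := π.liftOfSurjective hπs ⟨g, hgk⟩
  have hg₀ : ∀ z, g₀ (π z) = g z := fun z => RingHom.liftOfRightInverse_comp_apply _ _ _ ⟨g, hgk⟩ z
  have hinj := NodeCpl1.injective_of_surjective_endo g₀ fun z => by
    obtain ⟨x, rfl⟩ := hgs z
    exact ⟨π x, hg₀ x⟩
  have hkerle : RingHom.ker ψ.toRingHom ≤ RingHom.ker π := fun x hx => by
    have hx' : ψ x = 0 := hx
    apply hinj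
    rw [hg₀, map_zero]
    show ω (ψ x) = 0
    rw [hx', map_zero]
  haveI : Nontrivial N := ψ.toRingHom.domain_nontrivial
  haveI : IsLocalRing N := .of_surjective' (Ideal.Quotient.mk _) Ideal.Quotient.mk_surjective
  have hbot : RingHom.ker ψ.toRingHom = ⊥ := by
    refine Submodule.eq_bot_of_le_smul_of_le_jacobson_bot ((maximalIdeal A).map (algebraMap A N))
      _ (IsNoetherian.noetherian _) (fun x hx => ?_) ?_
    · exact HfpH6.mem_map_mul_ker_of_flat (maximalIdeal A) ψ hsurj x hx (hmR ▸ hkerle hx)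
    · refine le_trans ?_ (IsLocalRing.jacobson_eq_maximalIdeal _ bot_ne_top).ge
      rw [← hmR]
      exact le_maximalIdeal (RingHom.ker_ne_top _)
  refine ⟨E, hE0, (AlgEquiv.ofBijective ψ ⟨(RingHom.injective_iff_ker_eq_bot ψ.toRingHom).2 hbot, hsurj⟩).symm.toRingEquiv, fun z => ?_⟩
  exact AlgEquiv.commutes _ z

theorem exists_quad_iso {A B F : Type u} [CommRing A] [IsLocalRing A] [IsNoetherianRing A]
    [CommRing B] [IsLocalRing B] [IsNoetherianRing B] [Algebra A B] [IsLocalHom (algebraMap A B)] [Module.Flat A B]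
    [CommRing F] [IsLocalRing F]
    (β : B →+* F) (hβ : Function.Surjective β) (hkerβ : RingHom.ker β = (maximalIdeal A).map (algebraMap A B))
    (σ : ResidueField A →+* F) (hσ : ∀ a, β (algebraMap A B a) = σ (residue A a))
    (a₀ b₀ c₀ : ResidueField A) (hD : b₀ ^ 2 - 4 * a₀ * c₀ ≠ 0)
    (e : EGA4.Cpl F ≃+* (MvPowerSeries (Fin 2) (ResidueField A) ⧸ Ideal.span {quad a₀ b₀ c₀}))
    (he : ∀ c, e (algebraMap F (EGA4.Cpl F) (σ c)) = Ideal.Quotient.mk _ (C c)) :
    ∃ a b c : EGA4.Cpl A, IsUnit (b ^ 2 - 4 * a * c) ∧ ∃ h ∈ maximalIdeal (EGA4.Cpl A), ∃ e' : EGA4.Cpl B ≃+*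
      (MvPowerSeries (Fin 2) (EGA4.Cpl A) ⧸ Ideal.span {quad a b c - C h}),
      ∀ a, e' (algebraMap B (EGA4.Cpl B) (algebraMap A B a)) = Ideal.Quotient.mk _ (C (algebraMap A (EGA4.Cpl A) a)) := by
  haveI : IsNoetherianRing F := isNoetherianRing_of_surjective B F β hβ
  letI : Algebra B F := β.toAlgebra
  obtain ⟨inst, htow, hff⟩ := FlatDepth.exists_cpl_tower A B
  letI := inst
  haveI : IsScalarTower A (EGA4.Cpl A) (EGA4.Cpl B) := htow
  haveI := hff inferInstance
  haveI := CplLocH7.isNoetherianRing_cpl A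
  haveI := CplLocH7.isNoetherianRing_cpl B
  haveI := NodeCpl1.isAdicComplete_cpl A
  haveI := NodeCpl1.isAdicComplete_cpl B
  haveI : IsLocalHom (algebraMap (EGA4.Cpl A) (EGA4.Cpl B)) := by
    refine ((local_hom_TFAE _).out 2 0).1 ?_
    rw [CplLocH7.maximalIdeal_cpl, Ideal.map_map, ← IsScalarTower.algebraMap_eq, IsScalarTower.algebraMap_eq A B (EGA4.Cpl B),
      ← Ideal.map_map, CplLocH7.maximalIdeal_cpl]
    exact Ideal.map_mono (((local_hom_TFAE (algebraMap A B)).out 0 2 rfl rfl).1 ‹IsLocalHom (algebraMap A B)›)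
  haveI : IsLocalHom (algebraMap A (EGA4.Cpl A)) :=
    ((local_hom_TFAE _).out 2 0).1 (CplLocH7.maximalIdeal_cpl (A := A)).ge
  let r : ResidueField A ≃+* ResidueField (EGA4.Cpl A) := RingEquiv.ofBijective (ResidueField.map (algebraMap A (EGA4.Cpl A))) (by
    refine ⟨RingHom.injective _, fun z => ?_⟩
    obtain ⟨x, rfl⟩ := residue_surjective z
    obtain ⟨a, ha⟩ := CplLocH7.exists_sub_mem_pow (A := A) 1 x
    refine ⟨residue A a, ?_⟩
    rw [ResidueField.map_residue]
    refine Ideal.Quotient.eq.2 ?_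
    rw [← neg_sub]
    refine (Ideal.neg_mem_iff _).2 ?_
    rwa [pow_one] at ha)
  let Φ := MvPowerSeries.map (σ := Fin 2) r.toRingHom
  have hΦi : Function.Bijective Φ := by
    refine ⟨fun f g h => MvPowerSeries.ext fun d => r.injective ?_, fun G => ⟨fun d => r.symm (coeff d G), MvPowerSeries.ext fun d => ?_⟩⟩
    · have := congrArg (coeff d) h
      rwa [coeff_map, coeff_map] at this
    · rw [coeff_map]
      exact r.apply_symm_apply _
  let ΦE := RingEquiv.ofBijective Φ hΦi
  obtain ⟨a, ha⟩ := residue_surjective (r a₀)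
  obtain ⟨b, hb⟩ := residue_surjective (r b₀)
  obtain ⟨c, hc⟩ := residue_surjective (r c₀)
  have hunit : IsUnit (b ^ 2 - 4 * a * c) := by
    rw [← notMem_maximalIdeal, ← residue_eq_zero_iff]
    simp only [map_sub, map_mul, map_pow, map_ofNat, ha, hb, hc]
    rw [← map_ofNat r 4, ← map_mul, ← map_mul, ← map_pow, ← map_sub, map_eq_zero_iff _ r.injective]
    exact hD
  have hspan : Ideal.span {quad (residue (EGA4.Cpl A) a) (residue (EGA4.Cpl A) b) (residue (EGA4.Cpl A) c)} =
      (Ideal.span {quad a₀ b₀ c₀}).map ΦE := by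
    rw [Ideal.map_span, Set.image_singleton]
    congr 2
    show _ = Φ _
    rw [map_quad, ha, hb, hc]
    rfl
  let q := FlatDepth.cplQuotHom B F hβ
  let ω : EGA4.Cpl B →+* _ := ((Ideal.quotientEquiv _ _ ΦE hspan).toRingHom.comp e.toRingHom).comp q
  have hωA : ∀ a, ω (algebraMap B (EGA4.Cpl B) (algebraMap A B a)) = Ideal.Quotient.mk _ (C (r (residue A a))) := fun a => by
    show (Ideal.quotientEquiv _ _ ΦE hspan) (e (FlatDepth.cplQuotHom B F hβ (algebraMap B (EGA4.Cpl B) (algebraMap A B a)))) = _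
    rw [FlatDepth.cplQuotHom_algebraMap, IsScalarTower.algebraMap_apply B F (EGA4.Cpl F)]
    show (Ideal.quotientEquiv _ _ ΦE hspan) (e (algebraMap F _ (β (algebraMap A B a)))) = _
    rw [hσ, he, Ideal.quotientEquiv_mk]
    show Ideal.Quotient.mk _ (Φ _) = _
    rw [map_C]; rfl
  have hres : ∀ x : EGA4.Cpl A, ∃ a : A, x - algebraMap A (EGA4.Cpl A) a ∈ maximalIdeal (EGA4.Cpl A) := fun x => by
    obtain ⟨a, ha⟩ := CplLocH7.exists_sub_mem_pow (A := A) 1 x
    exact ⟨a, by rwa [pow_one] at ha⟩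
  have hkerω : RingHom.ker ω = (maximalIdeal (EGA4.Cpl A)).map (algebraMap (EGA4.Cpl A) (EGA4.Cpl B)) := by
    rw [show RingHom.ker ω = RingHom.ker q from RingHom.ker_comp_of_injective _
      ((Ideal.quotientEquiv _ _ ΦE hspan).injective.comp e.injective),
      FlatDepth.ker_cplQuotHom, show RingHom.ker (algebraMap B F) = RingHom.ker β from rfl, hkerβ, CplLocH7.maximalIdeal_cpl, Ideal.map_map,
      Ideal.map_map, ← IsScalarTower.algebraMap_eq, ← IsScalarTower.algebraMap_eq]
  have hA : ∀ x, ω (algebraMap (EGA4.Cpl A) (EGA4.Cpl B) x) = Ideal.Quotient.mk _ (C (residue (EGA4.Cpl A) x)) := fun x => by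
    obtain ⟨a, ha⟩ := hres x
    have h1 : ω (algebraMap (EGA4.Cpl A) (EGA4.Cpl B) (x - algebraMap A (EGA4.Cpl A) a)) = 0 := by
      rw [← RingHom.mem_ker, hkerω]; exact Ideal.mem_map_of_mem _ ha
    rw [map_sub, map_sub, sub_eq_zero, ← IsScalarTower.algebraMap_apply, IsScalarTower.algebraMap_apply A B (EGA4.Cpl B), hωA] at h1
    rw [h1, show residue (EGA4.Cpl A) x = residue (EGA4.Cpl A) (algebraMap A (EGA4.Cpl A) a) from Ideal.Quotient.eq.2 ha]
    congr 1
  obtain ⟨h, hh, E, hE⟩ := exists_quad_iso_of_complete a b c hunit ω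
    ((((Ideal.quotientEquiv _ _ ΦE hspan).surjective.comp e.surjective).comp (FlatDepth.cplQuotHom_surjective B F hβ))) hkerω hA
  refine ⟨a, b, c, hunit, h, hh, E, fun a => ?_⟩
  rw [← IsScalarTower.algebraMap_apply A B (EGA4.Cpl B), IsScalarTower.algebraMap_apply A (EGA4.Cpl A) (EGA4.Cpl B), hE]

end Groth.Agent.QuadNode3
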