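import Groth.Agent.Lib.FlatFibInj.Indep
import Mathlib.RingTheory.Jacobson.Ring
import Mathlib.RingTheory.Nullstellensatz
import Mathlib.RingTheory.Flat.Basic
import Mathlib.RingTheory.Flat.Tensor
import Mathlib.RingTheory.LocalProperties.Submodule
import Mathlib.RingTheory.Localization.Away.Basic
import Mathlib.RingTheory.TensorProduct.Free

/-! # Relative principal divisors avoiding finitely many sections -/

set_option autoImplicit false
set_option linter.style.haveILetI false
universe u

open TensorProduct

namespace Groth.Agent.RelDiv3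

variable {k A : Type u} [Field k] [IsAlgClosed k] [CommRing A] [IsDomain A] [Algebra k A] [Algebra.FiniteType k A]

theorem exists_point {a : A} (ha : a ≠ 0) : ∃ z : A →ₐ[k] k, z a ≠ 0 := by
  haveI : IsJacobsonRing A := isJacobsonRing_of_finiteType (A := k)
  obtain ⟨m, hm, ham⟩ : ∃ m : Ideal A, m.IsMaximal ∧ a ∉ m := by
    by_contra h
    push Not at h
    have : a ∈ (⊥ : Ideal A).jacobson := Ideal.mem_sInf.2 fun {J} hJ => h J hJ.2
    rw [IsJacobsonRing.out' _ (Ideal.isPrime_bot (α := A)).isRadical] at this
    exact ha (Ideal.mem_bot.1 this)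
  haveI := hm
  letI : Field (A ⧸ m) := Ideal.Quotient.field m
  haveI : Module.Finite k (A ⧸ m) := finite_of_finite_type_of_isJacobsonRing k (A ⧸ m)
  have hb := IsAlgClosed.algebraMap_bijective_of_isIntegral (k := k) (K := A ⧸ m)
  let e : k ≃ₐ[k] A ⧸ m := AlgEquiv.ofBijective (Algebra.ofId k (A ⧸ m)) hb
  exact ⟨e.symm.toAlgHom.comp (Ideal.Quotient.mkₐ k m), fun h => ham (Ideal.Quotient.eq_zero_iff_mem.1 (e.symm.injective (h.trans (map_zero _).symm)))⟩

/-- A variety over an algebraically closed field stays integral after a field extension. -/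
theorem isDomain_tensor (κ : Type u) [Field κ] [Algebra k κ] : IsDomain (κ ⊗[k] A) := by
  classical
  let b := Module.Basis.ofVectorSpace k κ
  let bA : Module.Basis _ A (A ⊗[k] κ) := Algebra.TensorProduct.basis A b
  let e : κ ⊗[k] A ≃ₐ[k] A ⊗[k] κ := Algebra.TensorProduct.comm k κ A
  have hev : ∀ (z : A →ₐ[k] k) (x : A ⊗[k] κ) i,
      b.repr (Algebra.TensorProduct.lift ((Algebra.ofId k κ).comp z) (AlgHom.id k κ) (fun _ _ => Commute.all _ _) x) i =
        z (bA.repr x i) := fun z x i => by
    induction x using TensorProduct.induction_on with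
    | zero => simp
    | tmul a c => simp [bA, Algebra.TensorProduct.basis_repr_tmul, ← Algebra.smul_def]
    | add x y hx hy => simp [map_add, hx, hy]
  haveI : IsDomain (A ⊗[k] κ) := by
    haveI : Nonempty (Module.Basis.ofVectorSpaceIndex k κ) := b.index_nonempty
    haveI : Nontrivial (A ⊗[k] κ) := bA.repr.toEquiv.nontrivial
    haveI : NoZeroDivisors (A ⊗[k] κ) := by
      refine ⟨fun {x y} hxy => ?_⟩
      by_contra h
      push Not at h
      obtain ⟨hx, hy⟩ := h
      obtain ⟨i, hi⟩ := Finsupp.ne_iff.1 ((map_ne_zero_iff _ bA.repr.injective).2 hx)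
      obtain ⟨j, hj⟩ := Finsupp.ne_iff.1 ((map_ne_zero_iff _ bA.repr.injective).2 hy)
      simp only [Finsupp.coe_zero, Pi.zero_apply] at hi hj
      obtain ⟨z, hz⟩ := exists_point (k := k) (mul_ne_zero hi hj)
      rw [map_mul, ← hev z x i, ← hev z y j] at hz
      have h0 := congrArg (Algebra.TensorProduct.lift ((Algebra.ofId k κ).comp z) (AlgHom.id k κ) (fun _ _ => Commute.all _ _)) hxy
      rw [map_mul, map_zero, mul_eq_zero] at h0
      rcases h0 with h0 | h0 <;> simp [h0] at hz
    exact NoZeroDivisors.to_isDomain _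
  exact e.injective.isDomain

variable {R : Type u} [CommRing R] [Algebra k R]

theorem exists_residue_eq {f : R ⊗[k] A} {P : Ideal R} [P.IsPrime]
    (h : ∀ (n : R ⊗[k] A →ₐ[R] P.ResidueField ⊗[k] A), (∀ r a, n (r ⊗ₜ a) = algebraMap R P.ResidueField r ⊗ₜ a) → n f = 0) :
    ∀ i, (Algebra.TensorProduct.basis R (Module.Basis.ofVectorSpace k A)).repr f i ∈ P := by
  intro i
  let b := Module.Basis.ofVectorSpace k A
  let n : R ⊗[k] A →ₐ[R] P.ResidueField ⊗[k] A :=
    Algebra.TensorProduct.map (Algebra.ofId R P.ResidueField) (AlgHom.id k A)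
  have key : ∀ g : R ⊗[k] A, (Algebra.TensorProduct.basis P.ResidueField b).repr (n g) i =
      algebraMap R P.ResidueField ((Algebra.TensorProduct.basis R b).repr g i) := fun g => by
    induction g using TensorProduct.induction_on with
    | zero => simp
    | tmul r a => simp [n, b, Algebra.TensorProduct.basis_repr_tmul, IsScalarTower.algebraMap_apply k R P.ResidueField, Algebra.smul_def]
    | add x y hx hy => simp [map_add, hx, hy]
  have := key f
  rw [h n fun r a => rfl, map_zero, Finsupp.zero_apply] at this
  exact Ideal.algebraMap_residueField_eq_zero.1 this.symm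

/-- An element which is nonzero on every fibre is regular with flat quotient. -/
theorem regular_flat (f : R ⊗[k] A) {i : Module.Basis.ofVectorSpaceIndex k A}
    (hi : IsUnit ((Algebra.TensorProduct.basis R (Module.Basis.ofVectorSpace k A)).repr f i)) :
    f ∈ nonZeroDivisors (R ⊗[k] A) ∧ Module.Flat R ((R ⊗[k] A) ⧸ Ideal.span {f}) := by
  classical
  let b := Module.Basis.ofVectorSpace k A
  let bR := Algebra.TensorProduct.basis R b
  let u : R ⊗[k] A →ₗ[R] R ⊗[k] A := LinearMap.mulLeft R f
  have hu : ∀ (W : Type u) [AddCommGroup W] [Module R W], Function.Injective (u.lTensor W) := by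
    intro W _ _
    rw [injective_iff_map_eq_zero]
    intro ξ hξ
    let e := TensorProduct.equivFinsuppOfBasisRight (R := R) (M := W) bR
    obtain ⟨w, rfl⟩ := e.symm.surjective ξ
    suffices w = 0 by rw [this, map_zero]
    have hexp : e.symm w = ∑ j ∈ w.support, w j ⊗ₜ[R] bR j := by
      rw [TensorProduct.equivFinsuppOfBasisRight_symm_apply]; rfl
    rw [hexp, map_sum] at hξ
    simp only [LinearMap.lTensor_tmul] at hξ
    ext j
    by_contra hj
    refine hj (Module.eq_zero_of_localization_maximal (fun (P : Ideal R) [P.IsMaximal] => LocalizedModule P.primeCompl W) (fun (P : Ideal R) [P.IsMaximal] => LocalizedModule.mkLinearMap P.primeCompl W) (w j) fun P hP => ?_)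
    haveI := hP.isPrime
    let L := LocalizedModule P.primeCompl W
    let l : W →ₗ[R] L := LocalizedModule.mkLinearMap P.primeCompl W
    have h0 : ∑ j : w.support, l (w j) ⊗ₜ[R] u (bR j) = 0 := by
      have := congrArg (l.rTensor _) hξ
      simp only [map_sum, LinearMap.rTensor_tmul, map_zero] at this
      rw [Finset.sum_coe_sort w.support (fun j => l (w j) ⊗ₜ[R] u (bR j))]
      exact this
    have := FlatFibInj.eq_zero_of_sum_tmul P (fun j : w.support => u (bR j)) ?_ ?_ (fun j => l (w j)) h0
    · exact congrFun this ⟨j, Finsupp.mem_support_iff.2 hj⟩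
    · intro c hc
      let ψ : P.ResidueField ⊗[R] (R ⊗[k] A) ≃ₐ[P.ResidueField] P.ResidueField ⊗[k] A :=
        Algebra.TensorProduct.cancelBaseChange k R P.ResidueField P.ResidueField A
      haveI := isDomain_tensor (k := k) (A := A) P.ResidueField
      have h1 : ψ (1 ⊗ₜ f) * ∑ j : w.support, c j • ((1 : P.ResidueField) ⊗ₜ[k] b j) = 0 := by
        have h2 := congrArg ψ hc
        rw [map_zero, map_sum] at h2
        rw [Finset.mul_sum, ← h2]
        refine Finset.sum_congr rfl fun j _ => ?_
        have hb : ψ (c j ⊗ₜ[R] bR j) = c j • ((1 : P.ResidueField) ⊗ₜ[k] b j) := by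
          simp [ψ, bR, TensorProduct.smul_tmul']
        rw [← hb, ← map_mul, Algebra.TensorProduct.tmul_mul_tmul, one_mul]
        rfl
      rcases mul_eq_zero.1 h1 with h2 | h2
      · exfalso
        have hmem := exists_residue_eq (f := f) (P := P) (fun n hn => by
          have : ∀ g, n g = ψ (1 ⊗ₜ g) := fun g => by
            induction g using TensorProduct.induction_on with
            | zero => simp
            | tmul r a => rw [hn]; simp [ψ, Algebra.smul_def]
            | add x y hx hy => rw [map_add, hx, hy, TensorProduct.tmul_add, map_add]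
          rw [this, h2]) i
        exact hP.ne_top (Ideal.eq_top_of_isUnit_mem _ hmem hi)
      · funext j
        have h3 := congrArg (fun t => (Algebra.TensorProduct.basis P.ResidueField b).repr t j.1) h2
        simp only [← Algebra.TensorProduct.basis_apply, map_sum, map_smul, Module.Basis.repr_self,
          Finsupp.finsetSum_apply, Finsupp.smul_apply, Finsupp.single_apply, map_zero, Finsupp.zero_apply,
          smul_eq_mul, mul_ite, mul_one, mul_zero] at h3
        rw [Finset.sum_eq_single j (fun x _ hx => if_neg fun h => hx (Subtype.ext h)) (fun h => absurd (Finset.mem_univ _) h),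
          if_pos rfl] at h3
        exact h3
    · intro a ha v hv
      have hu : IsUnit (algebraMap R (Module.End R L) a) :=
        IsLocalizedModule.map_units l (⟨a, ha⟩ : P.primeCompl)
      exact ((Module.End.isUnit_iff _).1 hu).1 (hv.trans (smul_zero a).symm)
  have hinj : Function.Injective u := by
    intro x y h
    exact (TensorProduct.lid R (R ⊗[k] A)).symm.injective ((hu R) (by
      simp only [TensorProduct.lid_symm_apply, LinearMap.lTensor_tmul, h]))
  refine ⟨mem_nonZeroDivisors_iff_right.2 fun x hx => hinj (show f * x = f * 0 by rw [mul_comm, hx, mul_zero]), ?_⟩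
  have hex : Function.Exact u (Ideal.Quotient.mkₐ R (Ideal.span {f})).toLinearMap := fun x => by
    constructor
    · intro hx
      obtain ⟨c, hc⟩ := Ideal.mem_span_singleton'.1 (Ideal.Quotient.eq_zero_iff_mem.1 hx)
      exact ⟨c, (mul_comm f c).trans hc⟩
    · rintro ⟨c, rfl⟩
      exact Ideal.Quotient.eq_zero_iff_mem.2 (Ideal.mem_span_singleton'.2 ⟨c, mul_comm c f⟩)
  refine Module.Flat.iff_rTensor_injective'.2 fun I => ?_
  let π := (Ideal.Quotient.mkₐ R (Ideal.span {f})).toLinearMap
  have hπ : Function.Surjective π := Ideal.Quotient.mk_surjective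
  rw [injective_iff_map_eq_zero]
  intro a ha
  obtain ⟨a, rfl⟩ := LinearMap.lTensor_surjective I hπ a
  have h1 : π.lTensor R (I.subtype.rTensor (R ⊗[k] A) a) = 0 := by
    rwa [← LinearMap.comp_apply, LinearMap.lTensor_comp_rTensor, ← LinearMap.rTensor_comp_lTensor]
  obtain ⟨c, hc⟩ := (lTensor_exact R hex hπ _).1 h1
  have h2 : I.mkQ.rTensor (R ⊗[k] A) c = 0 := hu (R ⧸ I) (by
    rw [← LinearMap.comp_apply, LinearMap.lTensor_comp_rTensor, ← LinearMap.rTensor_comp_lTensor,
      LinearMap.comp_apply, hc, map_zero, ← LinearMap.comp_apply, ← LinearMap.rTensor_comp]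
    simp [LinearMap.exact_subtype_mkQ I |>.linearMap_comp_eq_zero])
  obtain ⟨c', rfl⟩ := (rTensor_exact (R ⊗[k] A) (LinearMap.exact_subtype_mkQ I) I.mkQ_surjective c).1 h2
  have h3 : a = u.lTensor I c' := Module.Flat.rTensor_preserves_injective_linearMap (M := R ⊗[k] A) I.subtype
    Subtype.val_injective (by
      rw [← hc, ← LinearMap.comp_apply, ← LinearMap.comp_apply, LinearMap.lTensor_comp_rTensor,
        LinearMap.rTensor_comp_lTensor])
  rw [h3, ← LinearMap.lTensor_comp_apply, hex.linearMap_comp_eq_zero, LinearMap.lTensor_zero, LinearMap.zero_apply]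

end Groth.Agent.RelDiv3
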