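import Groth.Agent.Lib.SectionCompGI4
import Groth.Agent.Lib.SectionCompOpen4
import Groth.Agent.Lib.FlatGenApp4
import Groth.Agent.Lib.FibDepth5.GeomRedOpen
import Groth.Agent.Lib.RedSep.Basic

/-!
# Components of constant dimension along a section (EGA IV 15.6.6)
-/

universe u

open CategoryTheory CategoryTheory.Limits AlgebraicGeometry Topology TopologicalSpace IsLocalRing
open Groth.Agent.FibDim14

set_option backward.isDefEq.respectTransparency.types false
set_option linter.style.haveILetI false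

namespace Groth.Agent.SectionCompIrr4

open MoreMor (sectionComponents)
open SectionCompGI4 (GI)
open DivDesc12

variable {X Y : Scheme.{u}}

/-- The component of the fibre along the section. -/
abbrev comp (f : X ⟶ Y) (g : Y ⟶ X) (y : Y) : Set X := connectedComponentIn (f.base ⁻¹' {y}) (g.base y)

/-- With equal dimensions, the component over a generization reaches every point over the component. -/
theorem exists_lift_const (f : X ⟶ Y) [LocallyOfFiniteType f] (g : Y ⟶ X) (hg : g ≫ f = 𝟙 Y)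
    {P S' : Scheme.{u}} {h : S' ⟶ Y} {f' : P ⟶ S'} {p : P ⟶ X} [LocallyOfFiniteType f']
    (hsq : IsPullback p f' f h) {z s : S'} (hz : z ⤳ s) (hgs : GI f g (h s)) (hgz : GI f g (h z))
    (hdim : topologicalKrullDim ↥(comp f g (h z)) = topologicalKrullDim ↥(comp f g (h s))) :
    ∃ t : P, f' t = z ∧ p t ∈ comp f g (h z) ∧ ∀ a, f' a = s → p a ∈ comp f g (h s) → t ⤳ a := by
  have hfp : ∀ a, f (p a) = h (f' a) := fun a => by
    rw [← Scheme.Hom.comp_apply, hsq.w, Scheme.Hom.comp_apply]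
  obtain ⟨τ, hfτ, hτmax, hpτ, hspτ, hdτ⟩ := SectionComp4.exists_gen_bc g hg hsq s hgs
  obtain ⟨t, hft, -, hpt, hspt, hdt⟩ := SectionComp4.exists_gen_bc g hg hsq z hgz
  have hrd : rd f' t = rd f' τ := by
    rw [hdt, hdτ] at hdim
    exact_mod_cast hdim
  let g' : S' ⟶ P := hsq.lift (h ≫ g) (𝟙 S') (by rw [Category.assoc, hg]; simp)
  have hg'1 : ∀ a, p (g' a) = g (h a) := fun a => by
    rw [← Scheme.Hom.comp_apply, hsq.lift_fst, Scheme.Hom.comp_apply]
  have hg'2 : ∀ a, f' (g' a) = a := fun a => by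
    rw [← Scheme.Hom.comp_apply, hsq.lift_snd]; rfl
  have htg : t ⤳ g' s := (hspt _ (hg'2 z) (by rw [hg'1]; exact SectionComp4.mem_comp f g hg _)).trans
    (hz.map g'.continuous)
  obtain ⟨w, hw⟩ := EquidimStalk4.exists_preimage htg
  obtain ⟨b, hb, hfb, hbmax, hd⟩ := FibGen4.exists_isMaxFib (EquidimStalk4.clι t ≫ f') w
  have hle : rd f' τ ≤ rd f' (EquidimStalk4.clι t b) := by
    have h2 := (EquidimStalk4.cl_bounds f' w).1.trans (le_of_eq (hd.symm.trans
      ((FibGen4.fibreDimAt_eq_rd_of_isMaxFib _ hbmax).trans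
        (congrArg (Nat.cast : ℕ → WithBot ℕ∞) (EquidimStalk4.rd_clι f' t b)))))
    rw [← hrd]
    exact_mod_cast h2
  have hfb' : f' (EquidimStalk4.clι t b) = s := by
    rw [show f' (EquidimStalk4.clι t b) = f' (EquidimStalk4.clι t w) from hfb, hw, hg'2]
  have hbg : EquidimStalk4.clι t b ⤳ g' s := hw ▸ hb.map (EquidimStalk4.clι t).continuous
  have hτb : τ ⤳ EquidimStalk4.clι t b := hspτ _ hfb' (SectionComp4.mem_comp_of_specializes f
    (SectionComp4.mem_comp f g hg _) (hg'1 s ▸ hbg.map p.continuous) (by rw [hfp, hfb']))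
  have hτeq : τ = EquidimStalk4.clι t b := by
    by_contra hne
    exact absurd (rd_lt_of_specializes (f := f') hτb hne (hfτ.trans hfb'.symm)) (not_lt.2 hle)
  exact ⟨t, hft, hpt, fun a ha hpa =>
    ((EquidimStalk4.specializes_clι t b).trans (hτeq ▸ specializes_rfl)).trans (hspτ a ha hpa)⟩

/-- EGA IV 15.6.6: universal openness, any base. -/
theorem isUnivOpenAt_of_const (f : X ⟶ Y) [LocallyOfFinitePresentation f] (g : Y ⟶ X) (hg : g ≫ f = 𝟙 Y)
    (hgi : ∀ y, GI f g y) {y : Y}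
    (hc : ∃ V ∈ nhds y, ∀ z ∈ V, topologicalKrullDim ↥(comp f g z) = topologicalKrullDim ↥(comp f g y)) :
    ∀ x ∈ comp f g y, EGA43.IsUnivOpenAt f x := by
  intro x hx
  obtain ⟨V, hV, hVc⟩ := hc
  obtain ⟨O, hOV, hO, hyO⟩ := mem_nhds_iff.1 hV
  rw [EGA43Top.isUnivOpenAt_iff_liftsAt]
  intro S' h x' hx' z hz
  have hsy : h (pullback.snd f h x') = y := by
    rw [← Scheme.Hom.comp_apply, ← pullback.condition, Scheme.Hom.comp_apply, hx']
    exact SectionComp4.apply_of_mem f hx
  have hzy : h z ⤳ y := hsy ▸ hz.map h.continuous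
  obtain ⟨t, hft, -, ht⟩ := exists_lift_const f g hg (IsPullback.of_hasPullback f h) hz (hgi _) (hgi _)
    (by rw [hsy]; exact hVc _ (hOV (hzy.mem_open hO hyO)))
  exact ⟨t, ht x' rfl (by rw [hx', hsy]; exact hx), hft⟩

/-- A Noetherian local ring with a regular element generating a prime ideal is a domain. -/
theorem isDomain_of_span_prime {O : Type u} [CommRing O] [IsNoetherianRing O] [IsLocalRing O] {π : O}
    (hπ : π ∈ nonZeroDivisors O) (hp : (Ideal.span {π}).IsPrime) : IsDomain O := by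
  have hdec : ∀ a : O, a ≠ 0 → ∃ (n : ℕ) (b : O), a = π ^ n * b ∧ b ∉ Ideal.span {π} := by
    intro a ha
    by_contra hcon
    refine ha ?_
    have hall : ∀ n, ∃ b, a = π ^ n * b := by
      intro n
      induction n with
      | zero => exact ⟨a, by simp⟩
      | succ n ih =>
        obtain ⟨b, hb⟩ := ih
        by_cases hbm : b ∈ Ideal.span {π}
        · obtain ⟨c, hc⟩ := Ideal.mem_span_singleton.1 hbm
          exact ⟨c, by rw [hb, hc, pow_succ, mul_assoc]⟩
        · exact absurd ⟨n, b, hb, hbm⟩ hcon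
    have h1 : a ∈ ⨅ n : ℕ, Ideal.span {π} ^ n := by
      simp only [Submodule.mem_iInf]
      intro n
      obtain ⟨b, hb⟩ := hall n
      rw [Ideal.span_singleton_pow, Ideal.mem_span_singleton]
      exact ⟨b, hb⟩
    rwa [Ideal.iInf_pow_eq_bot_of_isLocalRing _ hp.ne_top, Ideal.mem_bot] at h1
  haveI : NoZeroDivisors O := ⟨fun {a b} hab => by
    by_contra hne
    rw [not_or] at hne
    obtain ⟨n, a', rfl, ha'⟩ := hdec a hne.1
    obtain ⟨k, b', rfl, hb'⟩ := hdec b hne.2
    have h2 : (π ^ n * π ^ k) * (a' * b') = 0 := by rw [← hab]; ring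
    have h3 : a' * b' = 0 := (mem_nonZeroDivisors_iff.1 (mul_mem (pow_mem hπ n) (pow_mem hπ k))).1 _ h2
    exact (hp.mem_or_mem (h3 ▸ zero_mem _)).elim ha' hb'⟩
  exact NoZeroDivisors.to_isDomain O

variable [IsLocallyNoetherian Y] (f : X ⟶ Y) [LocallyOfFiniteType f]

/-- Generizations of a point of a component of locally constant dimension, where the fibre is
geometrically reduced, lie in the components along the section. -/
theorem mem_comp_of_specializes (g : Y ⟶ X) (hg : g ≫ f = 𝟙 Y) (hgi : ∀ y, GI f g y) {y : Y} {x x' : X}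
    (hc : ∃ V ∈ nhds y, ∀ z ∈ V, topologicalKrullDim ↥(comp f g z) = topologicalKrullDim ↥(comp f g y))
    (hred : FBase.IsGeomReducedAt (f.fiberToSpecResidueField (f x)) (f.asFiber x))
    (hx : x ∈ comp f g y) (hx' : x' ⤳ x) : x' ∈ comp f g (f x') := by
  obtain rfl : f x = y := SectionComp4.apply_of_mem f hx
  by_cases hy' : f x' = f x
  · rw [hy']
    exact SectionComp4.mem_comp_of_specializes f hx hx' hy'
  haveI : IsLocallyNoetherian X := LocallyOfFiniteType.isLocallyNoetherian f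
  haveI : LocallyOfFinitePresentation f := VarDim.locallyOfFinitePresentation_of_locallyNoetherian f
  have hUO := isUnivOpenAt_of_const f g hg hgi hc
  obtain ⟨V, hV, hVc⟩ := hc
  obtain ⟨O, hOV, hO, hyO⟩ := mem_nhds_iff.1 hV
  have hne : x ≠ x' := fun h => hy' (h ▸ rfl)
  obtain ⟨A, mx, hA, hmx, hmx'⟩ := SectionComp4.exists_dvr_to hx' hne
  have hmxb := SectionComp4.gen_apply A mx hmx'
  let m := mx ≫ f
  let p := pullback.fst f m
  let F := pullback.snd f m
  haveI : LocallyOfFiniteType F := MorphismProperty.pullback_snd _ _ inferInstance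
  haveI : IsLocallyNoetherian (pullback f m) := LocallyOfFiniteType.isLocallyNoetherian F
  let a : ↥(Spec (CommRingCat.of A)) := closedPoint A
  let b : ↥(Spec (CommRingCat.of A)) := (⟨⊥, Ideal.isPrime_bot⟩ : PrimeSpectrum A)
  have hb : ∀ z, b ⤳ z := fun z =>
    (PrimeSpectrum.le_iff_specializes (⟨⊥, Ideal.isPrime_bot⟩ : PrimeSpectrum A) z).1 bot_le
  have hma : m a = f x := by rw [Scheme.Hom.comp_apply, hmx]
  have hmb : m b = f x' := by rw [Scheme.Hom.comp_apply, hmxb]
  let w : Spec (CommRingCat.of A) ⟶ pullback f m := pullback.lift mx (𝟙 _) (Category.id_comp _).symm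
  have hpw : ∀ z, p (w z) = mx z := fun z => by rw [← Scheme.Hom.comp_apply, pullback.lift_fst]
  have hFw : ∀ z, F (w z) = z := fun z => by rw [← Scheme.Hom.comp_apply, pullback.lift_snd]; rfl
  have hsq : IsPullback p F f m := IsPullback.of_hasPullback f m
  obtain ⟨t, hft, hpt, ht⟩ := exists_lift_const f g hg hsq (hb a) (hgi _) (hgi _) (by
    rw [hma, hmb]; exact hVc _ (hOV ((hx'.map f.continuous).mem_open hO hyO)))
  obtain ⟨τ, hfτ, -, hpτ, hspτ, -⟩ := SectionComp4.exists_gen_bc g hg hsq a (hgi _)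
  let q₀ := w a
  have hq₀a : F q₀ = a := hFw a
  have hq₀C : p q₀ ∈ comp f g (m a) := by rw [hpw, hmx, hma]; exact hx
  have hfp : ∀ c, f (p c) = m (F c) := fun c => by rw [← Scheme.Hom.comp_apply, hsq.w, Scheme.Hom.comp_apply]
  have hred' := FlatUnivOpen4.isGeomReducedAt_baseChange f hsq q₀ (by
    rw [show p q₀ = x by rw [hpw, hmx]]; exact hred)
  have hfib : ∀ c, c ⤳ q₀ → F c = F q₀ → p c ∈ comp f g (m a) := fun c hc hFc =>
    SectionComp4.mem_comp_of_specializes f hq₀C (hc.map p.continuous) (by rw [hfp, hFc, hq₀a])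
  have hflat := FlatUnivOpen4.flat_stalkMap F q₀ (fun c hc hFc _ => EGA43Top.isUnivOpenAt_baseChange hsq
    (hUO _ (hma ▸ hfib c hc hFc))) hred' inferInstance
  have hquot := FlatUnivOpen4.isReduced_quotient F q₀ (GeomRedRes4.isReduced_stalk F hred')
  let O' := (pullback f m).presheaf.stalk q₀
  let J : Ideal O' := (maximalIdeal ((Spec (CommRingCat.of A)).presheaf.stalk (F q₀))).map (F.stalkMap q₀).hom
  -- the fibre ring has a unique minimal prime
  have hJtop : J ≠ ⊤ := by
    haveI : IsLocalHom (F.stalkMap q₀).hom := inferInstanceAs (IsLocalHom (F.stalkMap q₀).hom)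
    exact (lt_top_iff_ne_top.1 (lt_of_le_of_lt
      (((local_hom_TFAE (F.stalkMap q₀).hom).out 0 2 (a := IsLocalHom (F.stalkMap q₀).hom)).mp ‹_›)
      (lt_top_iff_ne_top.2 (maximalIdeal.isMaximal O').ne_top)))
  have hJ : J.IsPrime := by
    have huniq : ∀ P ∈ J.minimalPrimes, ∀ P' ∈ J.minimalPrimes, P = P' := by
      intro P hP P' hP'
      obtain ⟨c, hc, rfl, hFc, hcmax⟩ := FlatUnivOpen4.exists_point_of_minimalPrimes F q₀ P hP
      obtain ⟨c', hc', rfl, hFc', hcmax'⟩ := FlatUnivOpen4.exists_point_of_minimalPrimes F q₀ P' hP'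
      have e : ∀ d, d ⤳ q₀ → F d = F q₀ → IsMaxFib F d → d = τ := fun d hd hFd hdmax =>
        (hdmax τ (hspτ d (hFd.trans hq₀a) (hfib d hd hFd)) (hfτ.trans (hFd.trans hq₀a).symm)).symm
      obtain rfl := e c hc hFc hcmax
      obtain rfl := (e c' hc' hFc' hcmax').symm
      rfl
    have hrad : J.radical = J := by
      refine le_antisymm (fun r hr => ?_) Ideal.le_radical
      obtain ⟨n, hn⟩ := hr
      haveI := hquot
      exact Ideal.Quotient.eq_zero_iff_mem.1 (IsReduced.eq_zero _ ⟨n, by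
        rw [← map_pow, Ideal.Quotient.eq_zero_iff_mem]; exact hn⟩)
    obtain ⟨P, hP, -⟩ := Ideal.exists_minimalPrimes_le (I := J) (J := maximalIdeal O')
      (le_maximalIdeal hJtop)
    rw [← hrad, ← Ideal.sInf_minimalPrimes, show J.minimalPrimes = {P} from
      Set.eq_singleton_iff_unique_mem.2 ⟨hP, fun P' hP' => huniq P' hP' P hP⟩, sInf_singleton]
    exact hP.1.1
  haveI hdom : IsDomain O' := by
    obtain ⟨π, hπ⟩ := IsDiscreteValuationRing.exists_irreducible A
    have hFa : F q₀ = a := hq₀a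
    have hgen : ∀ a', a' = a → ∃ π' : (Spec (CommRingCat.of A)).presheaf.stalk a',
        π' ∈ nonZeroDivisors _ ∧ maximalIdeal ((Spec (CommRingCat.of A)).presheaf.stalk a') = Ideal.span {π'} := by
      rintro _ rfl
      refine ⟨(StructureSheaf.toStalk (CommRingCat.of A) a).hom π, ?_, ?_⟩
      · refine mem_nonZeroDivisors_of_ne_zero fun h0 => hπ.ne_zero ?_
        haveI : IsLocalization.AtPrime ((Spec.structureSheaf A).presheaf.stalk a) (a : PrimeSpectrum A).asIdeal :=
          StructureSheaf.IsLocalization.to_stalk A a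
        exact IsLocalization.injective ((Spec.structureSheaf A).presheaf.stalk a)
          (Ideal.primeCompl_le_nonZeroDivisors (a : PrimeSpectrum A).asIdeal) (h0.trans (map_zero _).symm)
      · rw [SectionComp4.maximalIdeal_stalk_spec (CommRingCat.of A) a,
          show (a : PrimeSpectrum A).asIdeal = Ideal.span {π} from hπ.maximalIdeal_eq]
        refine (Ideal.map_span _ _).trans ?_
        rw [Set.image_singleton]
        rfl
    obtain ⟨π', hπ'ne, hπ'm⟩ := hgen (F q₀) hFa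
    have hJspan : J = Ideal.span {(F.stalkMap q₀).hom π'} := by
      show Ideal.map _ _ = _
      rw [hπ'm, Ideal.map_span, Set.image_singleton]
    refine isDomain_of_span_prime ?_ (hJspan ▸ hJ)
    algebraize [(F.stalkMap q₀).hom]
    rw [mem_nonZeroDivisors_iff_right]
    intro r hr
    have hreg : IsSMulRegular ((Spec (CommRingCat.of A)).presheaf.stalk (F q₀)) π' := fun u v huv => by
      have h1 : π' * (u - v) = 0 := by rw [mul_sub, show π' * u = π' * v from huv, sub_self]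
      exact sub_eq_zero.1 ((mem_nonZeroDivisors_iff.1 hπ'ne).1 _ h1)
    have hreg' := hreg.of_flat (S := O')
    refine hreg' (show (F.stalkMap q₀).hom π' • r = (F.stalkMap q₀).hom π' • 0 from ?_)
    rw [smul_zero, smul_eq_mul, mul_comm]
    exact hr
  -- the generic point
  obtain ⟨q, hq, hqbot⟩ := exists_primeAt_eq q₀ (⊥ : Ideal O')
  have ht₀ : t ⤳ q₀ := ht q₀ hq₀a hq₀C
  have hqt : q ⤳ t := specializes_of_primeAt_le ht₀ hq (hqbot.trans_le bot_le)
  have hqw : q ⤳ w b := specializes_of_primeAt_le ((hb a).map w.continuous) hq (hqbot.trans_le bot_le)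
  have hFqb : F q = b := by
    have h1 : F q ⤳ b := hft ▸ hqt.map F.continuous
    exact (h1.antisymm (hb _)).eq
  have hqC : p q ∈ comp f g (m b) :=
    SectionComp4.mem_comp_of_specializes f hpt (hqt.map p.continuous) (by rw [hfp, hFqb])
  rw [← hmb]
  obtain ⟨ξ, hfξ, -, -, hCeq, -, -, -⟩ :=
    SectionComp4.exists_gen_comp f g hg (SectionComp4.isIrreducible_of_geom g hg (hgi (m b)))
  have hcl := SectionComp4.closure_subset_comp f hqC specializes_rfl (by rw [hfp, hFqb])
  refine hcl ⟨?_, hmb.symm ▸ rfl⟩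
  have hpb : p (w b) = x' := by rw [hpw, hmxb]
  exact ((hqw.map p.continuous).trans (specializes_of_eq hpb)).mem_closure

/-- EGA IV 15.6.6: the components form a neighbourhood. -/
theorem mem_interior (g : Y ⟶ X) (hg : g ≫ f = 𝟙 Y) (hgi : ∀ y, GI f g y) {x : X}
    (hc : ∃ V ∈ nhds (f x), ∀ z ∈ V, topologicalKrullDim ↥(comp f g z) = topologicalKrullDim ↥(comp f g (f x)))
    (hred : FBase.IsGeomReducedAt (f.fiberToSpecResidueField (f x)) (f.asFiber x))
    (hx : x ∈ sectionComponents f g) : x ∈ interior (sectionComponents f g) := by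
  set y := f x with hy
  obtain ⟨U₁, hU₁c, hgU₁, -⟩ := SectionCompOpen4.exists_qc_open f hg (show x ∈ connectedComponentIn (f ⁻¹' {y}) (g y) from hx)
  obtain ⟨Ux, hUx, hxUx, -⟩ := exists_isAffineOpen_mem_and_subset (X := X) (x := x) (U := ⊤) trivial
  obtain ⟨Va, hVa, hyVa, -⟩ := exists_isAffineOpen_mem_and_subset (X := Y) (x := y) (U := ⊤) trivial
  let V : Y.Opens := Va ⊓ g ⁻¹ᵁ (U₁ ⊔ Ux)
  let U : X.Opens := (U₁ ⊔ Ux) ⊓ f ⁻¹ᵁ V
  have hgU : ∀ z ∈ V, g z ∈ U := fun z hz => ⟨hz.2, show f (g z) ∈ V by rw [SectionCompConn4.apply_section hg]; exact hz⟩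
  have hxU : x ∈ U := ⟨.inr hxUx, hyVa, .inl hgU₁⟩
  haveI : IsLocallyNoetherian X := LocallyOfFiniteType.isLocallyNoetherian f
  haveI : IsLocallyNoetherian (Va : Scheme.{u}) := LocallyOfFiniteType.isLocallyNoetherian Va.ι
  haveI : IsAffine (Va : Scheme.{u}) := hVa
  haveI : IsNoetherian (Va : Scheme.{u}) := {}
  haveI : IsLocallyNoetherian (V : Scheme.{u}) := LocallyOfFiniteType.isLocallyNoetherian V.ι
  haveI : CompactSpace (V : Scheme.{u}) := by
    refine isCompact_iff_compactSpace.1 ?_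
    rw [show (V : Set Y) = Va.ι '' (Va.ι ⁻¹' (V : Set Y)) from ?_]
    · exact (NoetherianSpace.isCompact _).image Va.ι.continuous
    · rw [Set.image_preimage_eq_of_subset]
      rw [Scheme.Opens.range_ι]
      exact fun v hv => hv.1
  haveI : IsNoetherian (V : Scheme.{u}) := {}
  haveI : CompactSpace (U : Scheme.{u}) := by
    refine isCompact_iff_compactSpace.1 ?_
    haveI : CompactSpace ((U₁ ⊔ Ux : X.Opens) : Scheme.{u}) := isCompact_iff_compactSpace.1 (hU₁c.union hUx.isCompact)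
    haveI : IsLocallyNoetherian ((U₁ ⊔ Ux : X.Opens) : Scheme.{u}) := LocallyOfFiniteType.isLocallyNoetherian (U₁ ⊔ Ux).ι
    haveI : IsNoetherian ((U₁ ⊔ Ux : X.Opens) : Scheme.{u}) := {}
    rw [show (U : Set X) = (U₁ ⊔ Ux).ι '' ((U₁ ⊔ Ux).ι ⁻¹' (U : Set X)) from ?_]
    · exact (NoetherianSpace.isCompact _).image (U₁ ⊔ Ux).ι.continuous
    · rw [Set.image_preimage_eq_of_subset]
      rw [Scheme.Opens.range_ι]
      exact fun v hv => hv.1
  let f₁ : (U : Scheme.{u}) ⟶ (V : Scheme.{u}) := IsOpenImmersion.lift V.ι (U.ι ≫ f) (by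
    rintro _ ⟨v, rfl⟩
    rw [Scheme.Opens.range_ι]
    exact v.2.2)
  have hf₁ : f₁ ≫ V.ι = U.ι ≫ f := IsOpenImmersion.lift_fac _ _ _
  let g₁ : (V : Scheme.{u}) ⟶ (U : Scheme.{u}) := IsOpenImmersion.lift U.ι (V.ι ≫ g) (by
    rintro _ ⟨z, rfl⟩
    rw [Scheme.Opens.range_ι]
    exact hgU z.1 z.2)
  have hg₁' : g₁ ≫ U.ι = V.ι ≫ g := IsOpenImmersion.lift_fac _ _ _
  have hg₁ : g₁ ≫ f₁ = 𝟙 _ := by
    rw [← cancel_mono V.ι, Category.assoc, hf₁, ← Category.assoc, hg₁', Category.assoc, hg, Category.comp_id,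
      Category.id_comp]
  haveI : LocallyOfFiniteType (f₁ ≫ V.ι) := by rw [hf₁]; infer_instance
  haveI : LocallyOfFiniteType f₁ := locallyOfFiniteType_of_comp f₁ V.ι
  haveI : QuasiCompact f₁ := QuasiCompact.of_comp f₁ (terminal.from _)
  have hval : ∀ v : (U : Scheme.{u}), (f₁ v).1 = f v.1 := fun v => congrArg (fun q => q v) hf₁
  have hgval : ∀ z : (V : Scheme.{u}), (g₁ z).1 = g z.1 := fun z => congrArg (fun q => q z) hg₁'
  have hcomp : ∀ v : (U : Scheme.{u}),
      U.ι '' connectedComponentIn (f₁ ⁻¹' {f₁ v}) (g₁ (f₁ v)) =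
        connectedComponentIn (f ⁻¹' {f v.1} ∩ (U : Set X)) (g (f v.1)) := by
    intro v
    rw [SectionCompOpen4.image_connectedComponentIn U.ι.isEmbedding
      (show g₁ (f₁ v) ∈ f₁ ⁻¹' {f₁ v} from SectionCompConn4.apply_section hg₁ _)]
    rw [show U.ι (g₁ (f₁ v)) = g (f v.1) by show (g₁ (f₁ v)).1 = _; rw [hgval, hval]]
    refine congrArg (fun S => connectedComponentIn S (g (f v.1))) (Set.ext fun z => ⟨?_, fun ⟨hz, hzU⟩ => ?_⟩)
    · rintro ⟨z, hz, rfl⟩
      refine ⟨?_, z.2⟩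
      show f z.1 = f v.1
      rw [← hval, ← hval, show f₁ z = f₁ v from hz]
    · exact ⟨⟨z, hzU⟩, Subtype.ext (by rw [hval, hval]; exact hz), rfl⟩
  have hnhd : sectionComponents f₁ g₁ ∈ nhds (⟨x, hxU⟩ : (U : Scheme.{u})) := by
    refine EGA43Top.mem_nhds_of_generizations
      (SectionCompConn4.isConstructible_noetherian f₁ g₁ hg₁).isLocallyConstructible fun v hv => ?_
    have hvC : v.1 ∈ comp f g (f v.1) := mem_comp_of_specializes f g hg hgi hc hred hx (hv.map U.ι.continuous)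
    have hvV : f v.1 ∈ V := v.2.2
    have hirr : IsIrreducible (comp f g (f v.1) ∩ (U : Set X)) :=
      ⟨⟨v.1, hvC, v.2⟩, fun A B hA hB ⟨a, ⟨ha, haU⟩, haA⟩ ⟨b, ⟨hb, hbU⟩, hbB⟩ => by
        obtain ⟨c, hc, ⟨hcA, hcU⟩, hcB⟩ := (SectionComp4.isIrreducible_of_geom g hg (hgi (f v.1))).isPreirreducible
          (A ∩ U) B (hA.inter U.2) hB ⟨a, ha, haA, haU⟩ ⟨b, hb, hbB⟩
        exact ⟨c, ⟨hc, hcU⟩, hcA, hcB⟩⟩
    have h0 := hirr.isPreirreducible.isPreconnected.subset_connectedComponentIn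
      (show g (f v.1) ∈ comp f g (f v.1) ∩ (U : Set X) from ⟨SectionComp4.mem_comp f g hg _, hgU _ hvV⟩)
      (Set.inter_subset_inter_left _ (connectedComponentIn_subset (f ⁻¹' {f v.1}) _))
    obtain ⟨v', hv', hvv⟩ := (hcomp v).ge (h0 ⟨hvC, v.2⟩)
    exact U.ι.isEmbedding.injective hvv ▸ hv'
  rw [mem_interior_iff_mem_nhds]
  exact Filter.mem_of_superset (U.ι.isOpenEmbedding.isOpenMap.image_mem_nhds hnhd)
    (Set.image_subset_iff.2 fun v hv => connectedComponentIn_mono _ Set.inter_subset_left ((hcomp v).le ⟨v, hv, rfl⟩))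

/-- EGA IV 15.6.6: the good locus is open (Noetherian base). -/
theorem isOpen_const_geomReduced (g : Y ⟶ X) (hg : g ≫ f = 𝟙 Y) (hgi : ∀ y, GI f g y) :
    IsOpen {x : X | x ∈ sectionComponents f g ∧
      (∃ V ∈ nhds (f x), ∀ z ∈ V, topologicalKrullDim ↥(comp f g z) = topologicalKrullDim ↥(comp f g (f x))) ∧
      FBase.IsGeomReducedAt (f.fiberToSpecResidueField (f x)) (f.asFiber x)} := by
  haveI : LocallyOfFinitePresentation f := VarDim.locallyOfFinitePresentation_of_locallyNoetherian f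
  rw [isOpen_iff_mem_nhds]
  rintro x ⟨hx, hc, hred⟩
  obtain ⟨V, hV, hVc⟩ := hc
  obtain ⟨O, hOV, hO, hyO⟩ := mem_nhds_iff.1 hV
  have h1 := mem_interior_iff_mem_nhds.1 (mem_interior f g hg hgi ⟨V, hV, hVc⟩ hred hx)
  have h2 : f ⁻¹' O ∈ nhds x := (hO.preimage f.continuous).mem_nhds hyO
  let I := Scheme.IdealSheafData.vanishingIdeal (⊤ : Closeds Y)
  let h : I.subscheme ⟶ Y := I.subschemeι
  haveI : IsReduced I.subscheme := RedSepLib.isReduced_vanishingIdeal_subscheme _
  haveI : IsLocallyNoetherian I.subscheme := LocallyOfFiniteType.isLocallyNoetherian h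
  haveI : Surjective h := ⟨by
    intro z
    refine (Set.eq_univ_iff_forall (s := Set.range h)).1 ?_ z
    show Set.range h = Set.univ
    rw [Scheme.IdealSheafData.range_subschemeι, Scheme.IdealSheafData.coe_support_vanishingIdeal]
    rfl⟩
  let p := pullback.fst f h
  let f' := pullback.snd f h
  haveI : LocallyOfFinitePresentation f' := MorphismProperty.pullback_snd _ _ inferInstance
  have hsq : IsPullback p f' f h := IsPullback.of_hasPullback _ _
  haveI : Surjective p := MorphismProperty.pullback_fst _ _ inferInstance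
  obtain ⟨x', rfl⟩ := p.surjective x
  have hUO := isUnivOpenAt_of_const f g hg hgi ⟨V, hV, hVc⟩
  have hflat : (f'.stalkMap x').hom.Flat := by
    refine FlatUnivOpen4.flat_stalkMap f' x' (fun z hz hfz _ => EGA43Top.isUnivOpenAt_baseChange hsq (hUO _ ?_))
      (FlatUnivOpen4.isGeomReducedAt_baseChange f hsq x' hred) inferInstance
    refine SectionComp4.mem_comp_of_specializes f (show p x' ∈ comp f g (f (p x')) from hx) (hz.map p.continuous) ?_
    rw [← Scheme.Hom.comp_apply, hsq.w, Scheme.Hom.comp_apply, hfz, ← Scheme.Hom.comp_apply, ← hsq.w,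
      Scheme.Hom.comp_apply]
  let W' := {a : ↥(pullback f h) | (f'.stalkMap a).hom.Flat ∧
    FBase.IsGeomReducedAt (f'.fiberToSpecResidueField (f' a)) (f'.asFiber a)}
  have hW' : IsOpen W' := FibDepth5.isOpen_flat_geomReduced f'
  have hcl : IsOpen (p '' W') := by
    have heq : p '' W' = (p '' W'ᶜ)ᶜ := by
      ext a
      obtain ⟨a', rfl⟩ := p.surjective a
      constructor
      · rintro ⟨c, hc, e⟩ ⟨c', hc', e'⟩
        exact hc' (p.isEmbedding.injective (e'.trans e.symm) ▸ hc)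
      · intro ha
        exact ⟨a', by_contra fun hn => ha ⟨a', hn, rfl⟩, rfl⟩
    rw [heq]
    exact (p.isClosedMap _ hW'.isClosed_compl).isOpen_compl
  have h3 : p '' W' ∈ nhds (p x') :=
    hcl.mem_nhds ⟨x', ⟨hflat, FlatUnivOpen4.isGeomReducedAt_baseChange f hsq x' hred⟩, rfl⟩
  filter_upwards [h1, h2, h3] with a ha haO haW
  refine ⟨ha, ⟨O, hO.mem_nhds haO, fun z hz => (hVc z (hOV hz)).trans (hVc _ (hOV haO)).symm⟩, ?_⟩
  obtain ⟨a', ha', rfl⟩ := haW
  exact SectionCompFlat4.isGeomReducedAt_of_baseChange f hsq a' ha'.2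

end Groth.Agent.SectionCompIrr4
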