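import Groth.Agent.Lib.NodeMeet1

/-!
# The ideal of a separating node splits
-/

set_option autoImplicit false
set_option linter.style.haveILetI false
set_option backward.isDefEq.respectTransparency false
set_option backward.isDefEq.respectTransparency.types false

universe u

open CategoryTheory CategoryTheory.Limits AlgebraicGeometry TopologicalSpace Opposite

namespace Groth.Agent.SepNode1

open Groth.Agent Groth.Agent.M1 Groth.Agent.CurveCoh17
open Groth.Agent.CurveH1Min27 (vI)

variable {X : Scheme.{u}}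

theorem mono_ι (K : X.IdealSheafData) : Mono (ClSub.idealModι K) :=
  inferInstanceAs (Mono (kernel.ι (ClSub.toSubscheme K)))

theorem stalkLin_one {M : X.Modules} (x : X) (a : M.presheaf.stalk x) : stalkLin (𝟙 M) x a = a := by
  rw [stalkLin_apply, CategoryTheory.Functor.map_id]; rfl

/-- The germ of `1`. -/
noncomputable abbrev g1 (x : X) : (Coh.structureModule X).presheaf.stalk x :=
  (Coh.structureModule X).presheaf.germ ⊤ x trivial (one ⊤)

theorem smul_g1 {x : X} {U : X.Opens} (hx : x ∈ U) (r : Γ(X, U)) :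
    X.presheaf.germ U x hx r • g1 x = (Coh.structureModule X).presheaf.germ U x hx (show Γ(Coh.structureModule X, U) from r) := by
  rw [g1, ← germ_mres (Coh.structureModule X) (le_top : U ≤ ⊤) hx, ← germ_smul]
  refine congrArg _ ?_
  show r * (X.presheaf.map (homOfLE le_top).op (1 : Γ(X, ⊤))) = r
  rw [map_one, mul_one]

theorem bijective_smul_g1 (x : X) :
    Function.Bijective (LinearMap.toSpanSingleton (X.presheaf.stalk x) _ (g1 x)) := by
  have hs : Function.Surjective (LinearMap.toSpanSingleton (X.presheaf.stalk x) _ (g1 x)) := fun a => by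
    obtain ⟨U, hU, s, rfl⟩ := (Coh.structureModule X).presheaf.exists_germ_eq a
    exact ⟨X.presheaf.germ U x hU (show Γ(X, U) from s), smul_g1 hU _⟩
  obtain ⟨e⟩ := CurveCoh17.nonempty_stalk_equiv_structureModule x
  let e1 := e ≪≫ₗ LinearEquiv.funUnique (Fin 1) _ _
  have hs2 : Function.Surjective ((e1.toLinearMap).comp (LinearMap.toSpanSingleton (X.presheaf.stalk x) _ (g1 x))) :=
    e1.surjective.comp hs
  exact ⟨fun r r' h => OrzechProperty.injective_of_surjective_endomorphism _ hs2 (congrArg e1 h), hs⟩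

/-- The stalk of the structure module is the local ring. -/
noncomputable def eqv (x : X) : X.presheaf.stalk x ≃ₗ[X.presheaf.stalk x] (Coh.structureModule X).presheaf.stalk x :=
  LinearEquiv.ofBijective _ (bijective_smul_g1 x)

/-- The value in the local ring. -/
noncomputable def val (K : X.IdealSheafData) (x : X) :
    (ClSub.idealMod K).presheaf.stalk x →ₗ[X.presheaf.stalk x] X.presheaf.stalk x :=
  (eqv x).symm.toLinearMap.comp (stalkLin (ClSub.idealModι K) x)

theorem val_eq_iff {K : X.IdealSheafData} {x : X} {a : (ClSub.idealMod K).presheaf.stalk x} {r : X.presheaf.stalk x} :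
    val K x a = r ↔ stalkLin (ClSub.idealModι K) x a = r • g1 x :=
  (eqv x).symm_apply_eq

theorem val_germ (K : X.IdealSheafData) {x : X} {U : X.Opens} (hx : x ∈ U) (a : Γ(ClSub.idealMod K, U)) :
    val K x ((ClSub.idealMod K).presheaf.germ U x hx a) = X.presheaf.germ U x hx (M2.idealIncl K a) := by
  rw [val_eq_iff, smul_g1, stalkLin_apply, germ_naturality]
  rfl

theorem val_injective (K : X.IdealSheafData) (x : X) : Function.Injective (val K x) :=
  (eqv x).symm.injective.comp
    ((M1.mono_iff_stalk (ClSub.idealModι K)).1 (mono_ι K) x)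

theorem val_incl {I K : X.IdealSheafData} {j : ClSub.idealMod I ⟶ ClSub.idealMod K}
    (h : j ≫ ClSub.idealModι K = ClSub.idealModι I) (x : X) (a : (ClSub.idealMod I).presheaf.stalk x) :
    val K x (stalkLin j x a) = val I x a := by
  show (eqv x).symm (stalkLin (ClSub.idealModι K) x (stalkLin j x a)) = _
  rw [← stalkLin_comp, h]; rfl

theorem val_mem (K : X.IdealSheafData) (x : X) (a : (ClSub.idealMod K).presheaf.stalk x) :
    val K x a ∈ IntMult.stalkIdeal K x := by
  show val K x a ∈ DivDesc12.stI K x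
  obtain ⟨W, hW, s, rfl⟩ := (ClSub.idealMod K).presheaf.exists_germ_eq a
  obtain ⟨V, hV, hxV, hVW⟩ := exists_isAffineOpen_mem_and_subset hW
  rw [DivDesc12.stI_eq K ⟨V, hV⟩ hxV, ← germ_mres (ClSub.idealMod K) hVW hxV, val_germ]
  exact Ideal.mem_map_of_mem _ ((M2.range_idealIncl K ⟨V, hV⟩).le ⟨_, rfl⟩)

theorem exists_val (K : X.IdealSheafData) (x : X) {r : X.presheaf.stalk x} (hr : r ∈ IntMult.stalkIdeal K x) :
    ∃ a, val K x a = r := by
  obtain ⟨V, hV, hxV⟩ := DivDesc12.exists_affine x
  change r ∈ DivDesc12.stI K x at hr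
  rw [DivDesc12.stI_eq K ⟨V, hV⟩ hxV] at hr
  induction hr using Submodule.span_induction with
  | mem r hr =>
    obtain ⟨f, hf, rfl⟩ := hr
    obtain ⟨a, rfl⟩ := (M2.range_idealIncl K ⟨V, hV⟩).ge hf
    exact ⟨(ClSub.idealMod K).presheaf.germ V x hxV a, val_germ K hxV a⟩
  | zero => exact ⟨0, map_zero _⟩
  | add r s _ _ hr hs =>
    obtain ⟨a, rfl⟩ := hr
    obtain ⟨b, rfl⟩ := hs
    exact ⟨a + b, map_add _ _ _⟩
  | smul c r _ hr =>
    obtain ⟨a, rfl⟩ := hr
    exact ⟨c • a, map_smul _ _ _⟩

theorem stalkIdeal_eq_top {K : X.IdealSheafData} {x : X} (hx : x ∉ (K.support : Set X)) :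
    IntMult.stalkIdeal K x = ⊤ := eq_top_iff.2 fun r _ => by
  obtain ⟨a, ha⟩ := CurveH1Min27.surjective_stalk_idealModι K hx (r • g1 x)
  exact val_eq_iff.2 ha ▸ val_mem K x a

/-- The inclusion of ideal modules. -/
theorem exists_incl {I K : X.IdealSheafData} (h : I ≤ K) :
    ∃ j : ClSub.idealMod I ⟶ ClSub.idealMod K, j ≫ ClSub.idealModι K = ClSub.idealModι I := by
  have h0 : ClSub.idealModι I ≫ ClSub.toSubscheme K = 0 :=
    CurveH1Min27.idealModι_comp_eq_zero _ _ fun U a ha => by
      obtain ⟨b, hb⟩ := (M2.range_idealIncl K U).ge (h U ha)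
      rw [← hb]
      exact M2.subschemeι_app_idealIncl _ b
  exact ⟨kernel.lift _ _ h0, kernel.lift_ι _ _ _⟩

/-- An ideal which is the direct sum of two smaller non-zero ideals has a non-trivial idempotent. -/
theorem exists_idempotent {I J K : X.IdealSheafData} (hI : I ≤ K) (hJ : J ≤ K)
    (hinf : ∀ x, IntMult.stalkIdeal I x ⊓ IntMult.stalkIdeal J x = ⊥)
    (hsup : ∀ x, IntMult.stalkIdeal K x ≤ IntMult.stalkIdeal I x ⊔ IntMult.stalkIdeal J x)
    (hI0 : ∃ x, IntMult.stalkIdeal I x ≠ ⊥) (hJ0 : ∃ x, IntMult.stalkIdeal J x ≠ ⊥) :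
    ∃ e : ClSub.idealMod K ⟶ ClSub.idealMod K, e ≫ e = e ∧ e ≠ 0 ∧ e ≠ 𝟙 _ := by
  obtain ⟨jI, eI⟩ := exists_incl hI
  obtain ⟨jJ, eJ⟩ := exists_incl hJ
  haveI : Mono (ClSub.idealModι I) := mono_ι I
  haveI : Mono (ClSub.idealModι J) := mono_ι J
  haveI : Mono (ClSub.idealModι K) := mono_ι K
  haveI : Mono jI := mono_of_mono_fac eI
  haveI : Mono jJ := mono_of_mono_fac eJ
  let c : ClSub.idealMod I ⊞ ClSub.idealMod J ⟶ ClSub.idealMod K := biprod.desc jI jJ
  haveI : IsIso c := by
    refine (M1.isIso_iff_stalk c).2 fun x => ⟨?_, fun a => ?_⟩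
    · refine (injective_iff_map_eq_zero (stalkLin c x)).2 fun z hz => ?_
      have hz' : z = stalkLin biprod.inl x (stalkLin biprod.fst x z) + stalkLin biprod.inr x (stalkLin biprod.snd x z) := by
        rw [← stalkLin_comp, ← stalkLin_comp, ← TFOne27.stalkLin_add, biprod.total, stalkLin_one]
      have h0 := congrArg (val K x) hz
      rw [hz', map_add, map_add, map_zero, ← stalkLin_comp biprod.inl c, biprod.inl_desc, val_incl eI,
        ← stalkLin_comp biprod.inr c, biprod.inr_desc, val_incl eJ, add_eq_zero_iff_eq_neg] at h0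
      have h1 : val I x (stalkLin biprod.fst x z) = 0 :=
        (hinf x).le ⟨val_mem I x _, show _ ∈ IntMult.stalkIdeal J x from h0 ▸ neg_mem (val_mem J x _)⟩
      have h2 : val J x (stalkLin biprod.snd x z) = 0 := by
        rw [h1, zero_eq_neg] at h0; exact h0
      rw [hz', val_injective I x (h1.trans (map_zero _).symm), val_injective J x (h2.trans (map_zero _).symm),
        map_zero, map_zero, add_zero]
    · obtain ⟨i, hi, j, hj, hij⟩ := Submodule.mem_sup.1 (hsup x (val_mem K x a))
      obtain ⟨p, rfl⟩ := exists_val I x hi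
      obtain ⟨q, rfl⟩ := exists_val J x hj
      refine ⟨stalkLin biprod.inl x p + stalkLin biprod.inr x q, val_injective K x ?_⟩
      show val K x (stalkLin c x _) = val K x a
      rw [map_add, map_add, ← stalkLin_comp biprod.inl c, biprod.inl_desc, val_incl eI,
        ← stalkLin_comp biprod.inr c, biprod.inr_desc, val_incl eJ]
      exact hij
  have nonzero : ∀ {M : X.IdealSheafData}, (∃ x, IntMult.stalkIdeal M x ≠ ⊥) →
      (𝟙 (ClSub.idealMod M)) ≠ 0 := fun {M} hM h0 => hM.elim fun x hx => hx <| eq_bot_iff.2 fun r hr => by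
    obtain ⟨a, rfl⟩ := exists_val M x hr
    rw [← stalkLin_one x a, h0, TFOne27.stalkLin_zero, map_zero]
    exact Submodule.zero_mem _
  let p : ClSub.idealMod I ⊞ ClSub.idealMod J ⟶ ClSub.idealMod I ⊞ ClSub.idealMod J := biprod.fst ≫ biprod.inl
  refine ⟨inv c ≫ p ≫ c, by simp [p], fun h => nonzero hI0 ?_, fun h => nonzero hJ0 ?_⟩
  · have h' : p = 0 := by
      have := congrArg (fun e => c ≫ e ≫ inv c) h
      simpa using this
    have := congrArg (fun e => biprod.inl ≫ e ≫ biprod.fst) h'
    simpa [p] using this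
  · have h' : p = 𝟙 _ := by
      have := congrArg (fun e => c ≫ e ≫ inv c) h
      simpa using this
    have := congrArg (fun e => biprod.inr ≫ e ≫ biprod.snd) h'
    simpa [p] using this.symm

variable {k : Type u} [Field k] [IsAlgClosed k] [X.Over (Spec (CommRingCat.of k))]
  [IsProper (X ↘ Spec (CommRingCat.of k))] [AlgebraicGeometry.IsReduced X] [ConnectedSpace X]

theorem exists_idempotent_of_separating (hequi : ∀ Z ∈ irreducibleComponents (X : Type u), topologicalKrullDim Z = 1)
    {P : X} (hP : IsClosed ({P} : Set X)) (hnode : Curv2.IsNode k X P)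
    (hsep : ¬ IsPreconnected (({P} : Set X)ᶜ)) :
    ∃ e : ClSub.idealMod (Scheme.IdealSheafData.vanishingIdeal ⟨{P}, hP⟩) ⟶
        ClSub.idealMod (Scheme.IdealSheafData.vanishingIdeal ⟨{P}, hP⟩), e ≫ e = e ∧ e ≠ 0 ∧ e ≠ 𝟙 _ := by
  haveI := CohFound.isNoetherian_of_isProper (X ↘ Spec (CommRingCat.of k))
  have hfin : (genericPoints (X : Type u)).Finite := genericPoints.finite NoetherianSpace.finite_irreducibleComponents
  rw [_root_.IsPreconnected] at hsep
  push Not at hsep
  obtain ⟨u, v, hu, hv, hcov, hnu, hnv, he⟩ := hsep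
  have hP' : IsOpen (({P} : Set X)ᶜ) := hP.isOpen_compl
  let U : Set X := {P}ᶜ ∩ u
  let V : Set X := {P}ᶜ ∩ v
  have hUV : ∀ z, z ∈ U → z ∈ V → False := fun z h1 h2 => Set.notMem_empty z (he ▸ ⟨h1.1, h1.2, h2.2⟩)
  have hall : ∀ z, z ≠ P → z ∈ U ∨ z ∈ V := fun z hz => (hcov hz).imp (fun h => ⟨hz, h⟩) fun h => ⟨hz, h⟩
  have side : ∀ {A B : Set X}, IsOpen A → IsOpen B → A.Nonempty → B.Nonempty → (∀ z, z ∈ A → z ∈ B → False) →
      (∀ z, z ≠ P → z ∈ A ∨ z ∈ B) → P ∉ A → P ∉ B →
      closure A = insert P A ∧ TFOne27.GenClosed (closure A) := by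
    intro A B hA hB hAn hBn hAB hAll hPA hPB
    have hsub : closure A ⊆ insert P A := by
      rintro z hz
      by_contra hz'
      rw [Set.mem_insert_iff, not_or] at hz'
      obtain ⟨y, hyB, hyA⟩ := mem_closure_iff.1 hz B hB ((hAll z hz'.1).resolve_left hz'.2)
      exact hAB y hyA hyB
    have hPc : P ∈ closure A := by
      by_contra hPc
      have hcl : closure A = A := subset_antisymm
        (fun z hz => (hsub hz).resolve_left fun e => hPc (e ▸ hz)) subset_closure
      have hu : A = Set.univ := IsClopen.eq_univ ⟨hcl ▸ isClosed_closure, hA⟩ hAn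
      exact hPA (hu ▸ Set.mem_univ P)
    refine ⟨subset_antisymm hsub (Set.insert_subset hPc subset_closure), fun z hz => ?_⟩
    let S := genericPoints (X : Type u) ∩ A
    have : closure A ⊆ CurveH1Min27.span S := closure_minimal (fun y hy => by
      obtain ⟨η, hη, hgen⟩ := TFOne27.exists_generic_of_component (irreducibleComponent_mem_irreducibleComponents y)
      have hsp : η ⤳ y := hgen.specializes mem_irreducibleComponent
      exact Set.mem_iUnion₂.mpr ⟨η, ⟨hη, hsp.mem_open hA hy⟩, specializes_iff_mem_closure.mp hsp⟩)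
      (CurveH1Min27.isClosed_span (hfin.subset Set.inter_subset_left))
    obtain ⟨η, hη, hηz⟩ := Set.mem_iUnion₂.mp (this hz)
    exact ⟨η, hη.1, subset_closure hη.2, specializes_iff_mem_closure.mpr hηz⟩
  have hUo : IsOpen U := hP'.inter hu
  have hVo : IsOpen V := hP'.inter hv
  have hPU : P ∉ U := fun h => h.1 rfl
  have hPV : P ∉ V := fun h => h.1 rfl
  obtain ⟨cU, gU⟩ := side hUo hVo hnu hnv hUV hall hPU hPV
  obtain ⟨cV, gV⟩ := side hVo hUo hnv hnu (fun z a b => hUV z b a) (fun z hz => (hall z hz).symm) hPV hPU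
  have hgen : ∀ η ∈ genericPoints (X : Type u), η ≠ P := fun η hη e => by
    have h1 := hequi _ hη
    rw [e, hP.closure_eq] at h1
    haveI : Subsingleton (IrreducibleCloseds ({P} : Set X)) := ⟨fun a b => IrreducibleCloseds.ext
      (Subsingleton.eq_univ_of_nonempty a.isIrreducible.nonempty |>.trans
        (Subsingleton.eq_univ_of_nonempty b.isIrreducible.nonempty).symm)⟩
    have h0 : topologicalKrullDim ({P} : Set X) ≤ 0 := Order.krullDim_nonpos_of_subsingleton
    rw [h1] at h0
    exact absurd h0 (by decide)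
  have hdis : ∀ η ∈ genericPoints (X : Type u), ¬ (η ∈ closure U ∧ η ∈ closure V) := fun η hη ⟨a, b⟩ => by
    rw [cU] at a; rw [cV] at b
    exact hUV η (a.resolve_left (hgen η hη)) (b.resolve_left (hgen η hη))
  have hT : closure U ∪ closure V = Set.univ := Set.eq_univ_of_forall fun z => by
    by_cases hz : z = P
    · exact Or.inl (cU ▸ Or.inl hz)
    · exact (hall z hz).imp (fun h => subset_closure h) fun h => subset_closure h
  have hd : ringKrullDim (X.presheaf.stalk P) = 1 := Multicross5.dim_stalk_eq_one k hequi hP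
  have hm : StabUniq18.MildSing (X.presheaf.stalk P) := by
    refine StabUniq18.MildSing.of_length (Multicross5.deltaInv_node hnode hd) fun hloc => ?_
    have h2 := StabUniq18.numBranches_node hnode hd
    rw [WedgeDVR3.numBranches_eq_card] at h2
    haveI := hloc
    haveI : Subsingleton (MaximalSpectrum ↥(integralClosure (X.presheaf.stalk P) (FractionRing (X.presheaf.stalk P)))) :=
      ⟨fun a b => MaximalSpectrum.ext ((IsLocalRing.eq_maximalIdeal a.isMaximal).trans (IsLocalRing.eq_maximalIdeal b.isMaximal).symm)⟩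
    have h1 := (ENat.card_le_one_iff_subsingleton _).2 (inferInstance : Subsingleton (MaximalSpectrum ↥(integralClosure (X.presheaf.stalk P) (FractionRing (X.presheaf.stalk P)))))
    rw [h2] at h1
    exact absurd h1 (by decide)
  let K : X.IdealSheafData := Scheme.IdealSheafData.vanishingIdeal ⟨{P}, hP⟩
  have hsupp : ∀ {A : Set X} (hA : IsClosed A), ((vI A hA).support : Set X) = A := fun hA =>
    Scheme.IdealSheafData.coe_support_vanishingIdeal _
  have hle : ∀ {A : Set X} (hA : IsClosed A), P ∈ A → vI A hA ≤ K := fun {A} hA hPA =>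
    Scheme.IdealSheafData.vanishingIdeal_antimono (show (⟨{P}, hP⟩ : Closeds X) ≤ ⟨A, hA⟩ from fun z hz => hz ▸ hPA)
  have hPU' : P ∈ closure U := cU ▸ Set.mem_insert P U
  have hPV' : P ∈ closure V := cV ▸ Set.mem_insert P V
  refine exists_idempotent (hle isClosed_closure hPU') (hle isClosed_closure hPV')
    (fun x => NodeMeet1.stalk_inf_eq_bot isClosed_closure isClosed_closure hT x) (fun x => ?_) ?_ ?_
  · by_cases hx : x = P
    · subst hx
      rw [NodeMeet1.stalk_sup_eq_maximal isClosed_closure isClosed_closure gU gV hT hdis ⟨hPU', hPV'⟩ hm]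
      refine IsLocalRing.le_maximalIdeal fun htop => ?_
      have h1 := NodeMeet1.stalkIdeal_le_of_mem_support K ((hsupp hP).ge rfl)
        (IsLocalRing.closedPoint (X.presheaf.stalk x)) ((hsupp hP).ge Scheme.fromSpecStalk_closedPoint)
      exact (IsLocalRing.maximalIdeal.isMaximal (X.presheaf.stalk x)).ne_top (top_le_iff.1 (htop ▸ h1))
    · rcases hall x hx with h | h
      · refine le_trans le_top (le_trans (stalkIdeal_eq_top fun hxs => ?_).ge le_sup_right)
        rw [hsupp, cV] at hxs
        exact hUV x h (hxs.resolve_left hx)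
      · refine le_trans le_top (le_trans (stalkIdeal_eq_top fun hxs => ?_).ge le_sup_left)
        rw [hsupp, cU] at hxs
        exact hUV x (hxs.resolve_left hx) h
  · obtain ⟨z, hz⟩ := hnv
    refine ⟨z, fun h => ?_⟩
    rw [stalkIdeal_eq_top fun hzs => ?_] at h
    · exact top_ne_bot h
    · rw [hsupp, cU] at hzs
      exact hUV z (hzs.resolve_left hz.1) hz
  · obtain ⟨z, hz⟩ := hnu
    refine ⟨z, fun h => ?_⟩
    rw [stalkIdeal_eq_top fun hzs => ?_] at h
    · exact top_ne_bot h
    · rw [hsupp, cV] at hzs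
      exact hUV z hz (hzs.resolve_left hz.1)

end Groth.Agent.SepNode1
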