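import Mathlib

/-! Trace of an endomorphism of a finite product of finite free modules in block form. -/

namespace Groth.Agent.SuperTrace

open LinearMap

variable {R : Type*} [CommRing R] {ι : Type*} [Fintype ι] [DecidableEq ι]
  {M : ι → Type*} [∀ i, AddCommGroup (M i)] [∀ i, Module R (M i)]

theorem sum_single_proj : (∑ i, (single R M i) ∘ₗ (proj i : (Π k, M k) →ₗ[R] M i)) = LinearMap.id := by
  refine LinearMap.ext fun x => ?_
  simp [LinearMap.sum_apply, Finset.univ_sum_single]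

variable [∀ i, Module.Free R (M i)] [∀ i, Module.Finite R (M i)]

theorem trace_sign_comp (c : ι → R) (f : (Π k, M k) →ₗ[R] (Π k, M k)) :
    trace R (Π k, M k) ((∑ i : ι, (single R M i) ∘ₗ (c i • (proj i : (Π k, M k) →ₗ[R] M i))) ∘ₗ f)
      = ∑ i, c i * trace R (M i) ((proj i : (Π k, M k) →ₗ[R] M i) ∘ₗ f ∘ₗ single R M i) := by
  rw [show (∑ i : ι, (single R M i) ∘ₗ (c i • (proj i : (Π k, M k) →ₗ[R] M i))) ∘ₗ f
      = ∑ i : ι, c i • ((single R M i) ∘ₗ ((proj i : (Π k, M k) →ₗ[R] M i) ∘ₗ f)) from ?_, map_sum]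
  · refine Finset.sum_congr rfl fun i _ => ?_
    rw [map_smul, trace_comp_comm', LinearMap.comp_assoc, smul_eq_mul]
  · refine LinearMap.ext fun x => ?_
    simp [LinearMap.sum_apply, Pi.single_smul]

theorem trace_block_comp (f g : (Π k, M k) →ₗ[R] (Π k, M k)) (i : ι) :
    trace R (M i) ((proj i : (Π k, M k) →ₗ[R] M i) ∘ₗ f ∘ₗ g ∘ₗ single R M i)
      = ∑ j, trace R (M i) (((proj i : (Π k, M k) →ₗ[R] M i) ∘ₗ f ∘ₗ single R M j) ∘ₗ ((proj j : (Π k, M k) →ₗ[R] M j) ∘ₗ g ∘ₗ single R M i)) := by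
  rw [← map_sum]
  congr 1
  refine LinearMap.ext fun x => ?_
  simp only [LinearMap.sum_apply, LinearMap.comp_apply]
  conv_lhs => rw [← LinearMap.id_apply (R := R) (g (single R M i x)), ← sum_single_proj]
  simp [LinearMap.sum_apply, Finset.sum_apply]

theorem trace_block_comm (f g : (Π k, M k) →ₗ[R] (Π k, M k)) (i j : ι) :
    trace R (M i) (((proj i : (Π k, M k) →ₗ[R] M i) ∘ₗ f ∘ₗ single R M j) ∘ₗ ((proj j : (Π k, M k) →ₗ[R] M j) ∘ₗ g ∘ₗ single R M i))
      = trace R (M j) (((proj j : (Π k, M k) →ₗ[R] M j) ∘ₗ g ∘ₗ single R M i) ∘ₗ ((proj i : (Π k, M k) →ₗ[R] M i) ∘ₗ f ∘ₗ single R M j)) :=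
  trace_comp_comm' _ _

theorem neg_one_pow_parity {m n : ℕ} (h : Even m ↔ Even n) : (-1 : R) ^ m = (-1 : R) ^ n := by
  rcases Nat.even_or_odd m with hm | hm
  · rw [hm.neg_one_pow, (h.1 hm).neg_one_pow]
  · have hn : Odd n := Nat.not_even_iff_odd.1 fun h' => Nat.not_even_iff_odd.2 hm (h.2 h')
    rw [hm.neg_one_pow, hn.neg_one_pow]

end Groth.Agent.SuperTrace
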