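import Groth.Prelude.Def_DualGr
import Groth.Agent.Lib.GRing6.RegOpen
import Groth.Agent.Lib.GRing6.Excellent
import Groth.Agent.Lib.FlatDepth.CplQuot
import Groth.Agent.Lib.FlatDepth.RingFib
import Groth.Agent.Lib.SmoothReg17.Basic
import Groth.Agent.S0600
import Groth.Agent.S2652
import Mathlib.RingTheory.MvPowerSeries.Rename
import Mathlib.RingTheory.MvPowerSeries.NoZeroDivisors
import Mathlib.RingTheory.Smooth.Basic
import Mathlib.RingTheory.RingHom.Smooth

/-! # Thickness of a node of a generically smooth family -/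

set_option autoImplicit false
set_option linter.style.haveILetI false
universe u

open IsLocalRing MvPowerSeries TensorProduct

noncomputable section

namespace Groth.Agent.ThickNode3

variable (R : Type u) [CommRing R]

/-- The split node over `R`. -/
abbrev node0 : Type u :=
  MvPowerSeries (Fin 2) R ⧸ Ideal.span {(X 0 * X 1 : MvPowerSeries (Fin 2) R)}

theorem const_rel : ∀ f ∈ Ideal.span {(X 0 * X 1 : MvPowerSeries (Fin 2) R)}, constantCoeff (σ := Fin 2) (R := R) f = 0 := by
  intro f hf
  obtain ⟨g, rfl⟩ := Ideal.mem_span_singleton'.1 hf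
  simp

/-- The constant term. -/
def const0 : node0 R →+* R := Ideal.Quotient.lift _ (constantCoeff (σ := Fin 2) (R := R)) (const_rel R)

theorem not_regular [IsDomain R] [(RingHom.ker (const0 R)).IsPrime]
    (h : IsRegularLocalRing (Localization.AtPrime (RingHom.ker (const0 R)))) : False := by
  let L := Localization.AtPrime (RingHom.ker (const0 R))
  haveI : IsDomain L := RegLoc.isDomain L
  have h0 : algebraMap (node0 R) L (Ideal.Quotient.mk _ (X 0)) * algebraMap (node0 R) L (Ideal.Quotient.mk _ (X 1)) = 0 := by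
    rw [← map_mul, ← map_mul, Ideal.Quotient.eq_zero_iff_mem.2 (Ideal.mem_span_singleton_self _), map_zero]
  have key : ∀ i j : Fin 2, j ≠ i → ¬ algebraMap (node0 R) L (Ideal.Quotient.mk _ (X i)) = 0 := by
    intro i j hji hi
    obtain ⟨⟨s, hs⟩, hsx⟩ := (IsLocalization.map_eq_zero_iff (RingHom.ker (const0 R)).primeCompl L _).1 hi
    let e : Unit ↪ Fin 2 := ⟨fun _ => i, fun _ _ _ => rfl⟩
    have hj : (killCompl (R := R) e) (X j) = 0 := killCompl_X_eq_zero fun ⟨_, h⟩ => hji h.symm
    have hrel : ∀ f ∈ Ideal.span {(X 0 * X 1 : MvPowerSeries (Fin 2) R)}, (killCompl (R := R) e) f = 0 := by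
      intro f hf
      obtain ⟨g, rfl⟩ := Ideal.mem_span_singleton'.1 hf
      fin_cases j <;> simp_all [map_mul]
    obtain ⟨s, rfl⟩ := Ideal.Quotient.mk_surjective s
    have h1 := congrArg (Ideal.Quotient.lift _ (killCompl (R := R) e).toRingHom hrel) hsx
    rw [map_mul, map_zero, Ideal.Quotient.lift_mk, Ideal.Quotient.lift_mk] at h1
    rcases mul_eq_zero.1 h1 with h1 | h1
    · refine hs ?_
      have h2 : coeff 0 ((killCompl (R := R) e) s) = 0 := by rw [show (killCompl (R := R) e) s = 0 from h1, map_zero]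
      rw [coeff_killCompl, Finsupp.embDomain_zero, coeff_zero_eq_constantCoeff_apply] at h2
      exact h2
    · have : (killCompl (R := R) e) (X (e ())) = 0 := h1
      rw [killCompl_X] at this
      exact one_ne_zero (α := R) (by simpa [coeff_X] using congrArg (coeff (Finsupp.single () 1)) this)
  rcases mul_eq_zero.1 h0 with h | h
  · exact key 0 1 (by decide) h
  · exact key 1 0 (by decide) h

variable {R}

theorem exists_node_hom {A' R0 : Type u} [CommRing A'] [CommRing R0] (ρ : A' →+* R0) (hρ : Function.Surjective ρ)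
    (a : A') (ha : ρ a = 0) (L : ℕ) (w : Fin L → A') (hw : RingHom.ker ρ = Ideal.span (Set.range w)) :
    ∃ θ : (MvPowerSeries (Fin 2) A' ⧸ Ideal.span {(X 0 * X 1 - C a : MvPowerSeries (Fin 2) A')}) →+* node0 R0,
      Function.Surjective θ ∧ (∀ r, θ (Ideal.Quotient.mk _ (C r)) = Ideal.Quotient.mk _ (C (ρ r))) ∧
      RingHom.ker θ = Ideal.span (Set.range fun l => Ideal.Quotient.mk _ (C (w l))) := by
  have hrel : Ideal.span {(X 0 * X 1 - C a : MvPowerSeries (Fin 2) A')} ≤
      (Ideal.span {(X 0 * X 1 : MvPowerSeries (Fin 2) R0)}).comap (MvPowerSeries.map ρ) := by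
    rw [Ideal.span_singleton_le_iff_mem, Ideal.mem_comap, map_sub, map_mul, map_X, map_X, map_C, ha, map_zero,
      sub_zero]
    exact Ideal.mem_span_singleton_self _
  have hmaps : Function.Surjective (MvPowerSeries.map (σ := Fin 2) ρ) := fun G => by
    choose F hF using fun d => hρ (coeff d G)
    exact ⟨fun d => F d, MvPowerSeries.ext fun d => (coeff_map ρ d _).trans (hF d)⟩
  refine ⟨Ideal.quotientMap _ (MvPowerSeries.map ρ) hrel, Ideal.quotientMap_surjective (H := hrel) hmaps,
    fun r => ?_, le_antisymm (fun x hx => ?_) ?_⟩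
  · show Ideal.Quotient.mk _ (MvPowerSeries.map ρ (C r)) = _
    rw [map_C]
  · obtain ⟨F, rfl⟩ := Ideal.Quotient.mk_surjective x
    rw [RingHom.mem_ker, Ideal.quotientMap_mk, Ideal.Quotient.eq_zero_iff_mem, Ideal.mem_span_singleton'] at hx
    obtain ⟨G0, hG0⟩ := hx
    obtain ⟨G, rfl⟩ := hmaps G0
    let H := F - G * (X 0 * X 1 - C a)
    have hH : ∀ d, coeff d H ∈ Ideal.span (Set.range w) := fun d => by
      rw [← hw, RingHom.mem_ker, ← coeff_map, show MvPowerSeries.map ρ H = 0 by
        simp [H, map_sub, map_mul, map_X, map_C, ha, hG0], map_zero]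
    choose z hz using fun d => Ideal.mem_span_range_iff_exists_fun.1 (hH d)
    let Z : Fin L → MvPowerSeries (Fin 2) A' := fun l d => z d l
    have hH' : H = ∑ l, C (w l) * Z l :=
      MvPowerSeries.ext fun d => by
        rw [map_sum, ← hz d]
        exact Finset.sum_congr rfl fun l _ => by rw [coeff_C_mul, mul_comm]; rfl
    rw [Ideal.mem_span_range_iff_exists_fun]
    refine ⟨fun l => Ideal.Quotient.mk _ (Z l), ?_⟩
    simp only [← map_mul, ← map_sum, Ideal.Quotient.eq]
    refine Ideal.mem_span_singleton'.2 ⟨-G, ?_⟩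
    rw [show (∑ l, Z l * C (w l)) = H from hH'.trans (Finset.sum_congr rfl fun l _ => mul_comm _ _) |>.symm]
    show -G * _ = F - G * (X 0 * X 1 - C a) - F
    ring
  · rw [Ideal.span_le]
    rintro _ ⟨l, rfl⟩
    rw [SetLike.mem_coe, RingHom.mem_ker, Ideal.quotientMap_mk, map_C,
      show ρ (w l) = 0 from (hw.symm ▸ Ideal.subset_span ⟨l, rfl⟩ : w l ∈ RingHom.ker ρ), map_zero, map_zero]

set_option maxHeartbeats 1000000 in
set_option backward.isDefEq.respectTransparency false in
theorem false_of_smooth [IsLocalRing R] [IsNoetherianRing R] [IsAdicComplete (maximalIdeal R) R]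
    {S : Type u} [CommRing S] [Algebra R S] [Algebra.FiniteType R S] (m : Ideal S) [m.IsPrime]
    (B : Type u) [CommRing B] [IsLocalRing B] [Algebra S B] [Algebra R B] [IsScalarTower R S B]
    [IsLocalization.AtPrime B m] (a : R) (hnode : DualGr.IsThickNode (algebraMap R B) a)
    (p : Ideal R) [p.IsPrime] (ha : a ∈ p) (g : R) (hg : g ∉ p)
    (hsm : Algebra.Smooth R (Localization.Away (algebraMap R S g))) : False := by
  classical
  have hSexc : EGA4.IsExcellent S := GRing6.isExcellent_of_finiteType R S (Groth.Agent.S2652.result R)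
  have hBexc : EGA4.IsExcellent B := GRing6.isExcellent_of_isLocalization S B m.primeCompl hSexc
  haveI := hBexc.1
  let R0 := R ⧸ p
  obtain ⟨e, he⟩ := hnode
  let c : R ≃ₐ[R] Curv2.cpl R := AdicCompletion.ofAlgEquiv (maximalIdeal R)
  have hc : ∀ r, c r = algebraMap R (Curv2.cpl R) r := fun r => c.commutes r
  let ρ : Curv2.cpl R →+* R0 := (Ideal.Quotient.mk p).comp c.symm.toRingEquiv.toRingHom
  have hρ : ∀ r, ρ (algebraMap R (Curv2.cpl R) r) = Ideal.Quotient.mk p r := fun r => by
    show Ideal.Quotient.mk p (c.symm _) = _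
    rw [← hc, AlgEquiv.symm_apply_apply]
  have hρs : Function.Surjective ρ := Ideal.Quotient.mk_surjective.comp c.symm.surjective
  obtain ⟨L, w, hw⟩ := Submodule.fg_iff_exists_fin_generating_family.1 (IsNoetherian.noetherian p)
  have hkerρ : RingHom.ker ρ = Ideal.span (Set.range fun l => algebraMap R (Curv2.cpl R) (w l)) := by
    ext x
    obtain ⟨r, rfl⟩ := c.surjective x
    rw [hc, RingHom.mem_ker, hρ, Ideal.Quotient.eq_zero_iff_mem, ← hw]
    have : Ideal.span (Set.range fun l => algebraMap R (Curv2.cpl R) (w l)) = (Ideal.span (Set.range w)).map c.toRingEquiv := by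
      rw [Ideal.map_span, ← Set.range_comp]
      exact congrArg _ (congrArg _ (funext fun l => (hc _).symm))
    rw [this, ← hc, show c r = c.toRingEquiv r from rfl, ← Ideal.mem_comap, Ideal.comap_map_of_bijective _ c.toRingEquiv.bijective]
  obtain ⟨θ, hθs, hθC, hθker⟩ := exists_node_hom ρ hρs (algebraMap R (Curv2.cpl R) a)
    (by rw [hρ, Ideal.Quotient.eq_zero_iff_mem.2 ha]) L _ hkerρ
  let ω : EGA4.Cpl B →+* node0 R0 := θ.comp e.toRingHom
  have hωs : Function.Surjective ω := hθs.comp e.surjective
  have hωR : ∀ r, ω (algebraMap B (EGA4.Cpl B) (algebraMap R B r)) = Ideal.Quotient.mk _ (C (Ideal.Quotient.mk p r)) := fun r => by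
    show θ (e (algebraMap B (Curv2.cpl B) (algebraMap R B r))) = _
    rw [he r]
    exact (hθC _).trans (by rw [hρ])
  let I : Ideal B := p.map (algebraMap R B)
  let B0 := B ⧸ I
  have hkerω : RingHom.ker ω = I.map (algebraMap B (EGA4.Cpl B)) := by
    rw [show RingHom.ker ω = (RingHom.ker θ).comap e from (RingHom.comap_ker θ e.toRingHom).symm,
      hθker, ← Ideal.map_symm]
    simp only [I, ← hw]
    simp only [Ideal.submodule_span_eq, Ideal.map_span, ← Set.range_comp]
    refine congrArg _ (congrArg _ (funext fun l => ?_))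
    show e.symm _ = _
    rw [RingEquiv.symm_apply_eq]
    exact (he (w l)).symm
  have hI : I ≠ ⊤ := fun h => by
    haveI : Nontrivial R0 := Ideal.Quotient.nontrivial_iff.2 (Ideal.IsPrime.ne_top inferInstance)
    have h1 : ω 1 = 0 := RingHom.mem_ker.1 (by rw [hkerω, h, Ideal.map_top]; trivial)
    exact one_ne_zero (α := R0) (by simpa [const0] using congrArg (const0 R0) h1)
  haveI : Nontrivial B0 := Ideal.Quotient.nontrivial_iff.2 hI
  haveI : IsLocalRing B0 := .of_surjective' (Ideal.Quotient.mk I) Ideal.Quotient.mk_surjective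
  have hs : Function.Surjective (algebraMap B B0) := Ideal.Quotient.mk_surjective
  let q := FlatDepth.cplQuotHom B B0 hs
  have hkerq : RingHom.ker q = RingHom.ker ω := by
    rw [FlatDepth.ker_cplQuotHom, hkerω, Ideal.Quotient.algebraMap_eq, Ideal.mk_ker]
  let η : node0 R0 ≃+* EGA4.Cpl B0 :=
    (RingHom.quotientKerEquivOfSurjective hωs).symm.trans ((Ideal.quotEquivOfEq hkerq.symm).trans
      (RingHom.quotientKerEquivOfSurjective (FlatDepth.cplQuotHom_surjective B B0 hs)))
  have hη : ∀ x, η.symm (q x) = ω x := fun x => by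
    rw [RingEquiv.symm_apply_eq]
    have h1 : (RingHom.quotientKerEquivOfSurjective hωs).symm (ω x) = Ideal.Quotient.mk _ x := by
      rw [RingEquiv.symm_apply_eq]; rfl
    show q x = (RingHom.quotientKerEquivOfSurjective (FlatDepth.cplQuotHom_surjective B B0 hs))
      ((Ideal.quotEquivOfEq hkerq.symm) ((RingHom.quotientKerEquivOfSurjective hωs).symm (ω x)))
    rw [h1, Ideal.quotEquivOfEq_mk]; rfl
  haveI hQ0 : (RingHom.ker (const0 R0)).IsPrime := RingHom.ker_isPrime _
  let Q : Ideal (EGA4.Cpl B0) := (RingHom.ker (const0 R0)).comap η.symm.toRingHom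
  haveI : Q.IsPrime := Ideal.IsPrime.comap _
  let P0 : Ideal B0 := Q.comap (algebraMap B0 (EGA4.Cpl B0))
  let P1 : Ideal B := P0.comap (algebraMap B B0)
  have hP1R : P1.comap (algebraMap R B) = p := by
    ext r
    show const0 R0 (η.symm (algebraMap B0 (EGA4.Cpl B0) (algebraMap B B0 (algebraMap R B r)))) = 0 ↔ _
    rw [← IsScalarTower.algebraMap_apply B B0, ← FlatDepth.cplQuotHom_algebraMap B B0 hs, hη, hωR]
    show constantCoeff (σ := Fin 2) (C (Ideal.Quotient.mk p r)) = 0 ↔ _
    rw [constantCoeff_C, Ideal.Quotient.eq_zero_iff_mem]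
  -- the fibre ring is regular
  let P2 : Ideal S := P1.comap (algebraMap S B)
  let gS := algebraMap R S g
  let Sg := Localization.Away gS
  have hgP : gS ∉ P2 := fun h => hg (by
    rw [← hP1R, Ideal.mem_comap, IsScalarTower.algebraMap_apply R S B]; exact h)
  have hdisj : Disjoint ((Submonoid.powers gS : Submonoid S) : Set S) (P2 : Set S) := by
    rw [Set.disjoint_left]
    rintro x ⟨i, rfl⟩ hx
    exact hgP (Ideal.IsPrime.mem_of_pow_mem inferInstance i hx)
  let P3 : Ideal Sg := P2.map (algebraMap S Sg)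
  haveI : P3.IsPrime := IsLocalization.isPrime_of_isPrime_disjoint (Submonoid.powers gS) Sg P2 inferInstance hdisj
  have hP3 : P3.comap (algebraMap S Sg) = P2 :=
    IsLocalization.comap_map_of_isPrime_disjoint (Submonoid.powers gS) Sg inferInstance hdisj
  have hP3R : P3.comap (algebraMap R Sg) = p := by
    rw [IsScalarTower.algebraMap_eq R S Sg, ← Ideal.comap_comap, hP3, ← hP1R, IsScalarTower.algebraMap_eq R S B,
      ← Ideal.comap_comap]
  haveI hreg3 : IsRegularLocalRing (EGA4.FibLocRing R Sg P3) := by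
    obtain ⟨p', _, Qf, _, ⟨ef⟩⟩ := FlatDepth.exists_fibLoc_equiv (A := R) P3
    haveI := hsm
    haveI : IsRegularLocalRing (Localization.AtPrime Qf) :=
      SmoothReg17.isRegularLocalRing_of_smooth (algebraMap p'.ResidueField (p'.Fiber Sg))
        (RingHom.smooth_algebraMap.2 inferInstance) Qf
    exact IsRegularLocalRing.of_ringEquiv (R := Localization.AtPrime Qf) ef
  haveI : IsLocalization.AtPrime (Localization.AtPrime P1) P2 :=
    IsLocalization.isLocalization_isLocalization_atPrime_isLocalization m.primeCompl (Localization.AtPrime P1) P1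
  haveI : IsLocalization.AtPrime (Localization.AtPrime P3) P2 := by
    have := IsLocalization.isLocalization_isLocalization_atPrime_isLocalization (Submonoid.powers gS) (Localization.AtPrime P3) P3
    simpa only [hP3] using this
  let e13 := IsLocalization.algEquiv P2.primeCompl (Localization.AtPrime P3) (Localization.AtPrime P1)
  let J1 : Ideal (Localization.AtPrime P1) := I.map (algebraMap B (Localization.AtPrime P1))
  haveI : IsRegularLocalRing (Localization.AtPrime P1 ⧸ J1) := by
    refine IsRegularLocalRing.of_ringEquiv (R := EGA4.FibLocRing R Sg P3) (Ideal.quotientEquiv _ _ e13.toRingEquiv ?_)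
    rw [hP3R]
    show (p.map (algebraMap R B)).map (algebraMap B (Localization.AtPrime P1)) = _
    rw [Ideal.map_map, Ideal.map_map]
    congr 1
    ext r
    show algebraMap B _ (algebraMap R B r) = e13 (algebraMap R (Localization.AtPrime P3) r)
    rw [IsScalarTower.algebraMap_apply R S (Localization.AtPrime P3), e13.commutes,
      IsScalarTower.algebraMap_apply R S B, ← IsScalarTower.algebraMap_apply S B]
  haveI : IsRegularLocalRing (Localization.AtPrime P0) := by
    have hM : Algebra.algebraMapSubmonoid B0 P1.primeCompl = P0.primeCompl := by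
      ext x
      constructor
      · rintro ⟨y, hy, rfl⟩; exact hy
      · intro hx
        obtain ⟨y, rfl⟩ := hs x
        exact ⟨y, hx, rfl⟩
    haveI : IsLocalization.AtPrime (Localization.AtPrime P1 ⧸ J1) P0 := by
      show IsLocalization P0.primeCompl _
      rw [← hM]; infer_instance
    exact IsRegularLocalRing.of_ringEquiv
      (IsLocalization.algEquiv P0.primeCompl (Localization.AtPrime P1 ⧸ J1) (Localization.AtPrime P0)).toRingEquiv
  have hB0exc : EGA4.IsExcellent B0 := GRing6.isExcellent_of_finiteType B B0 hBexc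
  haveI := hB0exc.1
  have hregQ : (⟨Q, inferInstance⟩ : PrimeSpectrum (EGA4.Cpl B0)) ∈ EGA4.regLocus (EGA4.Cpl B0) := by
    rw [GRing6.regLocus_eq_preimage B0 (EGA4.Cpl B0) (Groth.Agent.S0600.result B0 hB0exc.2.2.1 (maximalIdeal B0))]
    show IsRegularLocalRing (Localization.AtPrime P0)
    infer_instance
  haveI : IsRegularLocalRing (Localization.AtPrime Q) := hregQ
  refine not_regular R0 (IsRegularLocalRing.of_ringEquiv (R := Localization.AtPrime Q)
    (IsLocalization.ringEquivOfRingEquiv (M := Q.primeCompl) (T := (RingHom.ker (const0 R0)).primeCompl) (Localization.AtPrime Q) (Localization.AtPrime (RingHom.ker (const0 R0))) η.symm ?_))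
  ext x
  constructor
  · rintro ⟨y, hy, rfl⟩; exact hy
  · intro hx
    exact ⟨η x, show ¬ const0 R0 (η.symm (η x)) = 0 by rw [η.symm_apply_apply]; exact hx, η.symm_apply_apply x⟩

end Groth.Agent.ThickNode3
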