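import Groth.Agent.Lib.PointedDeg1
import Groth.Agent.Lib.CurveH1Min27.TreeH0

/-!
# Genus zero nodal curves with at most three nodes
-/

set_option autoImplicit false
set_option linter.style.haveILetI false
set_option linter.unusedSectionVars false
set_option backward.isDefEq.respectTransparency false

universe u

open CategoryTheory CategoryTheory.Limits AlgebraicGeometry TopologicalSpace Opposite

namespace Groth.Agent.TreeSq1

open Groth.Agent Groth.Agent.CurveH1Min27

variable {X : Scheme.{u}} {k : Type u} [Field k] [IsAlgClosed k] [X.Over (Spec (CommRingCat.of k))]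
  [IsProper (X ↘ Spec (CommRingCat.of k))] [AlgebraicGeometry.IsReduced X] [ConnectedSpace X]

/-- The degree of `ω` on a connected union of components. -/
theorem delta_omega (hX : StabUniq18.IsNodalCurve k X) {ω : X.Modules} (hω : PicF.IsInvertible ω)
    {t : Coh.HH X ω 1 →ₗ[k] k} (ht : IsTrace k ω t) (hd : topologicalKrullDim X = 1)
    (hg0 : Curv2.genus k X = 0) {T : Set X} (hT : IsClosed T) (hc : ConnectedSpace (vI T hT).subscheme)
    (h1 : topologicalKrullDim (vI T hT).subscheme = 1) :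
    TFOne27.delta k ω 1 (TFOne27.OT T hT) = ((T ∩ closure Tᶜ).ncard : ℤ) - 2 ∧ genusOn k (vI T hT) = 0 := by
  haveI := CohFound.isNoetherian_of_isProper (X ↘ Spec (CommRingCat.of k))
  have hg := genClosed_of_dim_one hd.le hT hc h1
  have hb : genusOn k (vI T hT) ≤ Curv2.genus k X := h1_OT_le (k := k) hd.le T hT
  have hg' : genusOn k (vI T hT) = 0 := by omega
  have hcs := isComplSub_closure hT hg
  have hcov : T ∪ closure Tᶜ = Set.univ :=
    Set.eq_univ_of_forall fun x => (Classical.em (x ∈ T)).imp id fun hx => subset_closure hx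
  have hm := NodeMeet1.meet_eq_ncard hX hT isClosed_closure hg hcs.2.1 hcov
    fun η hη he => (hcs.2.2 η hη).1 he.2 he.1
  have hadj := adjunction hω ht hd.le hT isClosed_closure hcs
  rw [euler_connected_sub hd.le hT hc, hm, hg'] at hadj
  refine ⟨?_, hg'⟩
  push_cast at hadj
  linarith

/-- Two complementary subcurves meet only at nodes. -/
theorem inter_subset_nodes (hX : StabUniq18.IsNodalCurve k X) (hd : topologicalKrullDim X = 1) {T : Set X}
    (hT : IsClosed T) (hg : TFOne27.GenClosed T) : T ∩ closure Tᶜ ⊆ {x | Curv2.IsNode k X x} := by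
  haveI := CohFound.isNoetherian_of_isProper (X ↘ Spec (CommRingCat.of k))
  intro x hx
  have hcs := isComplSub_closure hT hg
  have hcl : IsClosed ({x} : Set X) := by
    by_contra hn
    exact (hcs.2.2 x (mem_genericPoints_of_not_closed hd.le hn)).1 hx.2 hx.1
  refine (hX.nodal x hcl).resolve_left fun hsm => ?_
  haveI := StabUniq18.regular_of_smooth_nbhd (k := k) hsm
  haveI : IsDomain (X.presheaf.stalk x) := RegLoc.isDomain _
  let p₀ : PrimeSpectrum (X.presheaf.stalk x) := ⟨⊥, Ideal.isPrime_bot⟩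
  obtain ⟨η, hη, hηT, hs⟩ := hg x hx.1
  obtain ⟨θ, hθ, hθT, hs'⟩ := hcs.2.1 x hx.2
  have key : ∀ ξ ∈ genericPoints (X : Type u), ξ ⤳ x → ξ = X.fromSpecStalk x p₀ := fun ξ hξ hξx => by
    obtain ⟨p, rfl⟩ : ξ ∈ Set.range (X.fromSpecStalk x) := by
      rw [Scheme.range_fromSpecStalk]; exact hξx
    exact ((TFOne27.mem_genericPoints.mp hξ) (X.fromSpecStalk x p₀)
      (((PrimeSpectrum.le_iff_specializes p₀ p).1 (bot_le : (⊥ : Ideal (X.presheaf.stalk x)) ≤ p.asIdeal)).map
        (X.fromSpecStalk x).continuous)).symm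
  exact (hcs.2.2 θ hθ).1 hθT ((key θ hθ hs').trans (key η hη hs).symm ▸ hηT)

variable {ω : X.Modules} (hω : PicF.IsInvertible ω) {t : Coh.HH X ω 1 →ₗ[k] k} (ht : IsTrace k ω t)
  (hX : StabUniq18.IsNodalCurve k X) (hd : topologicalKrullDim X = 1) (hg0 : Curv2.genus k X = 0)
  (h3 : {x : X | Curv2.IsNode k X x}.encard ≤ 3)

include hω ht hX hd hg0 h3

theorem meet_le_three {T : Set X} (hT : IsClosed T) (hg : TFOne27.GenClosed T) :
    (T ∩ closure Tᶜ).ncard ≤ 3 ∧ ((T ∩ closure Tᶜ).ncard = 3 → T ∩ closure Tᶜ = {x | Curv2.IsNode k X x}) := by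
  have hfin : {x : X | Curv2.IsNode k X x}.Finite := Set.finite_of_encard_le_coe h3
  have hsub := inter_subset_nodes hX hd hT hg
  have hc : {x : X | Curv2.IsNode k X x}.ncard ≤ 3 := by
    rw [← hfin.cast_ncard_eq] at h3
    exact_mod_cast h3
  exact ⟨(Set.ncard_le_ncard hsub hfin).trans hc, fun he => Set.eq_of_subset_of_ncard_le hsub (hc.trans he.ge) hfin⟩

/-- Two components cannot both carry three nodes. -/
theorem eq_of_three {E F : Set X} (hE : E ∈ irreducibleComponents (X : Type u))
    (hF : F ∈ irreducibleComponents (X : Type u)) (h1 : (E ∩ closure Eᶜ).ncard = 3)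
    (h2 : (F ∩ closure Fᶜ).ncard = 3) : E = F := by
  haveI := CohFound.isNoetherian_of_isProper (X ↘ Spec (CommRingCat.of k))
  by_contra hne
  have hEc := isClosed_of_mem_irreducibleComponents E hE
  have hFc := isClosed_of_mem_irreducibleComponents F hF
  have gE := PointedDeg1.genClosed_component hE
  have gF := PointedDeg1.genClosed_component hF
  obtain ⟨x, hx⟩ := Set.nonempty_of_ncard_ne_zero (by omega : (E ∩ closure Eᶜ).ncard ≠ 0)
  have hxF : x ∈ F := ((((meet_le_three hω ht hX hd hg0 h3 hFc gF).2 h2).trans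
    ((meet_le_three hω ht hX hd hg0 h3 hEc gE).2 h1).symm).ge hx).1
  obtain ⟨η, hη, hηE⟩ := TFOne27.exists_generic_of_component hE
  obtain ⟨θ, hθ, hθF⟩ := TFOne27.exists_generic_of_component hF
  let T := E ∪ F
  have hT : IsClosed T := hEc.union hFc
  have hsupp : ∀ {A : Set X} (hA : IsClosed A), ((vI A hA).support : Set X) = A := fun hA =>
    Scheme.IdealSheafData.coe_support_vanishingIdeal _
  have conn : ∀ {A : Set X} (hA : IsClosed A), _root_.IsConnected A → ConnectedSpace (vI A hA).subscheme := by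
    intro A hA hAc
    haveI := (_root_.isConnected_iff_connectedSpace (s := Set.range (vI A hA).subschemeι)).1
      (by rwa [Scheme.IdealSheafData.range_subschemeι, hsupp])
    exact (vI A hA).subschemeι.isClosedEmbedding.isEmbedding.toHomeomorph.symm.surjective.connectedSpace
      (vI A hA).subschemeι.isClosedEmbedding.isEmbedding.toHomeomorph.symm.continuous
  have dim1 : ∀ {A : Set X} (hA : IsClosed A), E ⊆ A ∨ F ⊆ A → topologicalKrullDim (vI A hA).subscheme = 1 := by
    intro A hA hsub
    rw [AmpleFin18.dim_subscheme _ (hsupp hA)]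
    refine le_antisymm (Topology.IsInducing.subtypeVal.topologicalKrullDim_le.trans hd.le) ?_
    rcases hsub with h | h
    · rw [← hX.dim E hE]; exact (Topology.IsEmbedding.inclusion h).isInducing.topologicalKrullDim_le
    · rw [← hX.dim F hF]; exact (Topology.IsEmbedding.inclusion h).isInducing.topologicalKrullDim_le
  have cE := conn hEc hE.1.isConnected
  have cF := conn hFc hF.1.isConnected
  have cT := conn hT (_root_.IsConnected.union ⟨x, hx.1, hxF⟩ hE.1.isConnected hF.1.isConnected)
  obtain ⟨dE, -⟩ := delta_omega hX hω ht hd hg0 hEc cE (dim1 hEc (Or.inl subset_rfl))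
  obtain ⟨dF, -⟩ := delta_omega hX hω ht hd hg0 hFc cF (dim1 hFc (Or.inr subset_rfl))
  obtain ⟨dT, -⟩ := delta_omega hX hω ht hd hg0 hT cT (dim1 hT (Or.inl Set.subset_union_left))
  have hgT : TFOne27.GenClosed T := fun y hy => hy.elim
    (fun h => (gE y h).imp fun _ ⟨a, b, c⟩ => ⟨a, Or.inl b, c⟩)
    (fun h => (gF y h).imp fun _ ⟨a, b, c⟩ => ⟨a, Or.inr b, c⟩)
  have hS : (T ∩ genericPoints (X : Type u)) \ {η} = {θ} := by
    ext z
    constructor
    · rintro ⟨⟨hz | hz, hzg⟩, hzη⟩
      · exact absurd ((TFOne27.mem_genericPoints.mp hzg η (hηE.specializes hz)).symm) hzη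
      · exact ((TFOne27.mem_genericPoints.mp hzg θ (hθF.specializes hz)).symm : z = θ)
    · rintro rfl
      exact ⟨⟨Or.inr hθF.mem, hθ⟩, fun e : z = η => hne (hηE.def.symm.trans (e ▸ hθF.def))⟩
  have hspan : CurveH1Min27.span ((T ∩ genericPoints (X : Type u)) \ {η}) = F := by
    rw [hS, CurveH1Min27.span, Set.biUnion_singleton, hθF.def]
  have hsplit := split_gen (k := k) hd.le hω hT hgT hη (Or.inl hηE.mem) (hspan.symm ▸ hFc)
  have e1 : TFOne27.OT (closure ({η} : Set X)) isClosed_closure = TFOne27.OT (X := X) E hEc := by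
    congr 1
  have e2 : ∀ h, TFOne27.OT (CurveH1Min27.span ((T ∩ genericPoints (X : Type u)) \ {η})) h = TFOne27.OT (X := X) F hFc := fun h => by
    congr 1
  rw [e1, e2, dE, dF, dT] at hsplit
  have := (meet_le_three hω ht hX hd hg0 h3 hT hgT).1
  omega

/-- No bicanonical sections. -/
theorem subsingleton_h0_sq : Subsingleton (Coh.HH X (CohB1.tensorPow ω 2) 0) := by
  haveI := CohFound.isNoetherian_of_isProper (X ↘ Spec (CommRingCat.of k))
  have val : ∀ (E : Set X) (hE : E ∈ irreducibleComponents (X : Type u)),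
      degOn k (vI E (isClosed_of_mem_irreducibleComponents E hE)) (CohB1.tensorPow ω 2) =
        2 * ((E ∩ closure Eᶜ).ncard : ℤ) - 4 ∧ (E ∩ closure Eᶜ).ncard ≤ 3 := fun E hE => by
    have hEc := isClosed_of_mem_irreducibleComponents E hE
    have hsupp : ((vI E hEc).support : Set X) = E := Scheme.IdealSheafData.coe_support_vanishingIdeal _
    haveI : IrreducibleSpace (vI E hEc).subscheme := irreducibleSpace_of_range (vI E hEc).subschemeι
      (by rw [Scheme.IdealSheafData.range_subschemeι, hsupp]; exact hE.1)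
    obtain ⟨d, -⟩ := delta_omega hX hω ht hd hg0 hEc inferInstance
      ((AmpleFin18.dim_subscheme _ hsupp).trans (hX.dim E hE))
    refine ⟨?_, (meet_le_three hω ht hX hd hg0 h3 hEc (PointedDeg1.genClosed_component hE)).1⟩
    rw [← delta_eq_degOn (M2.isInvertible_tensorPow hω 2) hEc, degOn_pow hω hd.le hEc, d]
    push_cast; ring
  by_cases h : ∃ (E : Set X), E ∈ irreducibleComponents (X : Type u) ∧ (E ∩ closure Eᶜ).ncard = 3
  · obtain ⟨E₀, hE₀, he⟩ := h
    refine subsingleton_h0_tree hω ht hd hg0 (M2.isInvertible_tensorPow hω 2) E₀ hE₀ ?_ fun E hE hne => ?_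
    · obtain ⟨a, -⟩ := val E₀ hE₀; omega
    · obtain ⟨a, b⟩ := val E hE
      have : (E ∩ closure Eᶜ).ncard ≠ 3 := fun e => hne (eq_of_three hω ht hX hd hg0 h3 hE hE₀ e he)
      omega
  · obtain ⟨x⟩ := (inferInstance : Nonempty X)
    have hE₀ := irreducibleComponent_mem_irreducibleComponents x
    refine subsingleton_h0_tree hω ht hd hg0 (M2.isInvertible_tensorPow hω 2) _ hE₀ ?_ fun E hE _ => ?_
    · obtain ⟨a, b⟩ := val _ hE₀
      have : (_ : Set X).ncard ≠ 3 := fun e => h ⟨_, hE₀, e⟩
      omega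
    · obtain ⟨a, b⟩ := val E hE
      have : (E ∩ closure Eᶜ).ncard ≠ 3 := fun e => h ⟨_, hE, e⟩
      omega

/-- The anticanonical module. -/
theorem inverse_coh {ν : X.Modules} (hν : ClSub.IsInverseOf ν ω)
    (h0 : Module.finrank k (Coh.HH X (Coh.structureModule X) 0) = 1) :
    Subsingleton (Coh.HH X ν 1) ∧ Module.finrank k (Coh.HH X ν 0) = 3 := by
  obtain ⟨eν⟩ := hν
  have hνi : PicF.IsInvertible ν := M2.isInvertible_of_tensor_iso_unit ν _ eν
  haveI hsub : Subsingleton (Coh.HH X ν 1) := by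
    refine subsingleton_h1 hω ht hd hνi fun T hT hc h1 hle => ?_
    obtain ⟨d, hg'⟩ := delta_omega hX hω ht hd hg0 hT hc h1
    haveI := CohFound.isNoetherian_of_isProper (X ↘ Spec (CommRingCat.of k))
    have hm := (meet_le_three hω ht hX hd hg0 h3 hT (genClosed_of_dim_one hd.le hT hc h1)).1
    have hs := delta_tensor (k := k) hνi hω hd.le hT
    rw [delta_congr eν, delta_unit hd.le] at hs
    omega
  have hX' := CurveAmple18.curveLike k X hd.le
  haveI := hX'.noetherian
  have hrr := hX'.rr (CurveCoh17.isCoh_of_ofRank ((M2.isInvertible_iff_isFinLocFreeOfRank_one _).1 hνi))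
  have hs := CurveCoh17.deg_iso (k := k) (r := 1) eν
  rw [hX'.deg_tensor_invertible hνi hω, CurveCoh17.deg_structureModule, gor_total hω ht hd.le, hg0] at hs
  rw [Module.finrank_zero_of_subsingleton (M := Coh.HH X ν 1), hg0, h0] at hrr
  refine ⟨hsub, ?_⟩
  push_cast at hs hrr
  omega

end Groth.Agent.TreeSq1
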