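import Groth.Agent.Lib.CurveVA1
import Groth.Agent.Lib.DlzBC1
import Groth.Agent.Lib.CurveH1Min27.NodalOmega
import Groth.Agent.Lib.CurveH1Min27.GorAmple
import Groth.Agent.Lib.DlzCurve17.Duality
import Groth.Agent.Lib.CurveOm17.AnyField
import Groth.Agent.Lib.Nodal27.Scheme
import Groth.Agent.Lib.CurveCoh17.GenusBC
import Groth.Agent.Lib.AmpleFib.DescVA
import Groth.Agent.Lib.BC8.RightAdj
import Groth.Agent.S4642

/-!
# The tricanonical module of a nodal curve over an algebraic closure
-/

set_option autoImplicit false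
set_option linter.style.haveILetI false
set_option backward.isDefEq.respectTransparency false

universe u

open CategoryTheory CategoryTheory.Limits AlgebraicGeometry
open Curves

attribute [local instance] HasDerivedCategory.standard

namespace Groth.Agent.TriCan1

/-- The degree of a power of the dualizing module on subcurves. -/
theorem degVA_tri {K : Type u} [Field K] [IsAlgClosed K] {X : Scheme.{u}} [X.Over (Spec (CommRingCat.of K))]
    [IsProper (X ↘ Spec (CommRingCat.of K))] [AlgebraicGeometry.IsReduced X] [ConnectedSpace X]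
    (hd : topologicalKrullDim X = 1) {ω : X.Modules} (hA : CohB1.IsAmple ω)
    {t : Coh.HH X ω 1 →ₗ[K] K} (ht : CurveH1Min27.IsTrace K ω t) (hg : 2 ≤ Curv2.genus K X) :
    CurveVA1.DegVA K (CohB1.tensorPow ω 3) := by
  intro T hT hc h1
  have hr : AlgebraicGeometry.IsReduced (CurveH1Min27.vI T hT).subscheme :=
    inferInstanceAs (AlgebraicGeometry.IsReduced (VecSt.subsch X T hT))
  obtain ⟨a, b, -⟩ := CurveH1Min27.sub_data hA.1 ht hd _ hr hc h1
  have hp := CurveH1Min27.deg_pos_sub (k := K) hA _ hc h1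
  rw [CurveH1Min27.pow_deg (k := K) hd hA.1]
  rcases Nat.eq_zero_or_pos (CurveH1Min27.meetJ K (CurveH1Min27.vI T hT)) with hm | hm
  · have := b hm
    push_cast
    omega
  · push_cast
    omega

set_option maxHeartbeats 1600000 in
/-- The pullback of the tricanonical module to an algebraically closed extension. -/
theorem geometric (k : Type u) [Field k] (X : Scheme.{u}) [X.Over (Spec (CommRingCat.of k))]
    [IsProper (X ↘ (Spec (CommRingCat.of k)))] (hdim : topologicalKrullDim X = 1)
    (h0 : Module.finrank k (Coh.HH X (Coh.structureModule X) 0) = 1) (hg : 2 ≤ Curv2.genus k X)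
    (hX : Curv2.AtWorstNodal k X)
    [DCoh.HasRpush (X ↘ (Spec (CommRingCat.of k)))] (h : DCoh.RpushPreservesQCoh (X ↘ (Spec (CommRingCat.of k))))
    [DCoh.HasShriek (X ↘ (Spec (CommRingCat.of k))) h]
    (OY : DCoh.DQCoh (Spec (CommRingCat.of k)))
    (hOY : Nonempty (OY.obj ≅ DCoh.inD (Spec (CommRingCat.of k)) (Coh.structureModule (Spec (CommRingCat.of k)))))
    (hample : CohB1.IsAmple (DCoh.dualizingMod (X ↘ (Spec (CommRingCat.of k))) h OY 1)) :
    letI : (Curv2.bc k X (AlgebraicClosure k)).Over (Spec (CommRingCat.of (AlgebraicClosure k))) :=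
      ⟨Curv2.bcSnd k X (AlgebraicClosure k)⟩
    IsProper (Curv2.bcSnd k X (AlgebraicClosure k)) ∧ AlgebraicGeometry.IsReduced (Curv2.bc k X (AlgebraicClosure k)) ∧
    ConnectedSpace (Curv2.bc k X (AlgebraicClosure k)) ∧
    topologicalKrullDim (Curv2.bc k X (AlgebraicClosure k)) = 1 ∧
    CurveVA1.DegVA (AlgebraicClosure k) ((Scheme.Modules.pullback (Curv2.bcFst k X (AlgebraicClosure k))).obj
      (CohB1.tensorPow (DCoh.dualizingMod (X ↘ (Spec (CommRingCat.of k))) h OY 1) 3)) := by
  let K := AlgebraicClosure k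
  let X' := Curv2.bc k X K
  let g := Curv2.bcFst k X K
  let q' := Curv2.bcSnd k X K
  let q := X ↘ Spec (CommRingCat.of k)
  have sq : IsPullback g q' q (Spec.map (CommRingCat.ofHom (algebraMap k K))) := IsPullback.of_hasPullback _ _
  letI : X'.Over (Spec (CommRingCat.of K)) := ⟨q'⟩
  haveI hP : IsProper (X' ↘ Spec (CommRingCat.of K)) := MorphismProperty.of_isPullback (P := @IsProper) sq inferInstance
  haveI := CohFound.isNoetherian_of_isProper (X ↘ Spec (CommRingCat.of k))
  haveI : IsAffineHom g := MorphismProperty.of_isPullback sq.flip inferInstance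
  have hdim' : topologicalKrullDim X' = 1 := (S4642.result (K := K) q).trans hdim
  have h0' : Module.finrank K (Coh.HH X' (Coh.structureModule X') 0) = 1 :=
    (CurveCoh17.finrank_HH_bc (k := k) (X := X) K 0).trans h0
  have hg' : Curv2.genus K X' = Curv2.genus k X := CurveCoh17.finrank_HH_bc (k := k) (X := X) K 1
  haveI : LocallyOfFiniteType q' := inferInstanceAs (LocallyOfFiniteType (X' ↘ Spec (CommRingCat.of K)))
  haveI : ConnectedSpace X := CurveOm17.connectedSpace_of_h0 h0
  have hgood : Nodal27.Good q' :=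
    (Nodal27.good_bar_iff X k).2 ⟨CurveH1Min27.components_dim_one k X hdim, hX⟩
  have hX' : Curv2.AtWorstNodal K X' :=
    ((Nodal27.good_bar_iff X' K).1 ((Nodal27.good_bc_iff (L := AlgebraicClosure K) q').2 hgood)).2
  haveI hR : AlgebraicGeometry.IsReduced X' := Nodal27.isReduced_of_good q' hgood
  haveI hC : ConnectedSpace X' := CurveOm17.connectedSpace_of_h0 h0'
  haveI := CohFound.isNoetherian_of_isProper (X' ↘ Spec (CommRingCat.of K))
  -- the dualizing module upstairs
  haveI : DCoh.HasRpush (X' ↘ Spec (CommRingCat.of K)) := DBC9.hasRpush _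
  have hK : DCoh.RpushPreservesQCoh (X' ↘ Spec (CommRingCat.of K)) := fun _ hM => FMAdj9.rpushPreservesQCoh _ hM
  haveI : DCoh.HasShriek (X' ↘ Spec (CommRingCat.of K)) hK := BC8.isLeftAdjoint_rpushQ _ hK
  let OK : DCoh.DQCoh (Spec (CommRingCat.of K)) :=
    ⟨DCoh.inD _ (Coh.structureModule _), BC8.isQCohD_inD' (M1.isQCoh_structureModule _)⟩
  have hOK : Nonempty (OK.obj ≅ DCoh.inD (Spec (CommRingCat.of K)) (Coh.structureModule (Spec (CommRingCat.of K)))) :=
    ⟨Iso.refl _⟩
  let ω' := DCoh.dualizingMod (X' ↘ Spec (CommRingCat.of K)) hK OK 1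
  let ω := DCoh.dualizingMod q h OY 1
  haveI : Flat (Spec.map (CommRingCat.ofHom (algebraMap k K))) := inferInstance
  haveI : Flat g := inferInstanceAs (Flat (pullback.fst _ _))
  obtain ⟨e⟩ : Nonempty ((Scheme.Modules.pullback g).obj ω ≅ ω') :=
    DlzBC1.nonempty_dualizingMod_baseChange (f' := X' ↘ Spec (CommRingCat.of K)) sq h hK OY hOY OK hOK 1
  have hA' : CohB1.IsAmple ω' := Amp.isAmple_of_iso e (Amp.isAmple_pullback_of_isAffineHom g hample)
  obtain ⟨t, ht⟩ := DlzCurve17.exists_trace K X' hdim' hK OK hOK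
  have hD := degVA_tri hdim' hA' (t := t) ht (hg' ▸ hg)
  refine ⟨hP, hR, hC, hdim', fun T hT hc h1 => (hD T hT hc h1).trans (le_of_eq ?_)⟩
  let i : CohB1.tensorPow ω' 3 ≅ (Scheme.Modules.pullback g).obj (CohB1.tensorPow ω 3) :=
    M2.tensorPowIso e.symm 3 ≪≫ (M2.pullTensorPowIso g ω 3).symm
  rw [TFOne27.delta, TFOne27.delta, CurveCoh17.euler_iso (M2.tensorIso (Iso.refl _) i)]

end Groth.Agent.TriCan1
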