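import Groth.Agent.Lib.CurveVA1
import Groth.Agent.Lib.PointedAmple1
import Groth.Agent.Lib.CurveAmple18.PointTwist
import Groth.Agent.Lib.RankFree12.Scheme
import Groth.Agent.S3572

/-!
# Very ample invertible modules of bounded degree on reduced curves
-/

set_option autoImplicit false
set_option linter.style.haveILetI false
set_option backward.isDefEq.respectTransparency false

universe u

open CategoryTheory Limits AlgebraicGeometry TopologicalSpace Opposite

namespace Groth.Agent.UnifVA1

open IsLocalRing Groth.Agent.M1 Groth.Agent.M2 Groth.Agent.CurveCoh17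
open TFOne27 (GenClosed)

variable {k : Type u} [Field k] {X : Scheme.{u}} [X.Over (Spec (CommRingCat.of k))]

/-- The ideal of a regular closed point of codimension one is invertible. -/
theorem isInvertible_pointIdeal [IsNoetherian X] (hdim : topologicalKrullDim X ≤ 1)
    {x : X} (hx : IsClosed ({x} : Set X)) [IsRegularLocalRing (X.presheaf.stalk x)]
    (h1 : ringKrullDim (X.presheaf.stalk x) = 1) :
    PicF.IsInvertible (ClSub.idealMod (Scheme.IdealSheafData.vanishingIdeal (⟨{x}, hx⟩ : Closeds X))) := by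
  haveI := RegLoc.isDomain (X.presheaf.stalk x)
  set Z := Scheme.IdealSheafData.vanishingIdeal (⟨{x}, hx⟩ : Closeds X)
  set I := ClSub.idealMod Z
  have hO : FlatMod.IsFinLocFreeOfRank 1 (Coh.structureModule X) :=
    (M2.isInvertible_iff_isFinLocFreeOfRank_one _).1 (PicLoc.isInvertible_structureModule X)
  have hc : Coh.IsCoh I := isCoh_idealMod Z
  haveI : Mono (ClSub.idealModι Z) := (M2.shortExact_idealMod Z).mono_f
  have hinj : ∀ y, Function.Injective (stalkLin (ClSub.idealModι Z) y) := fun y =>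
    (M1.mono_iff_stalk (ClSub.idealModι Z)).1 inferInstance y
  have hbij : ∀ y, y ≠ x → Function.Bijective (stalkLin (ClSub.idealModι Z) y) := fun y hy =>
    ⟨hinj y, fun b => (M1.exact_iff_stalk_eq_zero _).1 (M2.shortExact_idealMod Z).exact y b
        ((suppIn_quotMod_point hx).zero y (by simpa using hy) _)⟩
  obtain ⟨e0⟩ := nonempty_stalk_equiv hO x
  obtain ⟨_, hdvr⟩ : ∃ _ : IsDomain (X.presheaf.stalk x), IsDiscreteValuationRing (X.presheaf.stalk x) :=
    (Hens.isDiscreteValuationRing_iff_regular_dim_one _).2 ⟨inferInstance, h1⟩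
  haveI : IsPrincipalIdealRing (X.presheaf.stalk x) := hdvr.toIsPrincipalIdealRing
  haveI : Module.Finite (X.presheaf.stalk x) (I.presheaf.stalk x) := M1.finite_stalk hc.1 hc.2 x
  let j : I.presheaf.stalk x →ₗ[X.presheaf.stalk x] (Fin 1 → X.presheaf.stalk x) :=
    e0.toLinearMap.comp (stalkLin (ClSub.idealModι Z) x)
  have hj : Function.Injective j := e0.injective.comp (hinj x)
  haveI : Module.IsTorsionFree (X.presheaf.stalk x) (I.presheaf.stalk x) := hj.moduleIsTorsionFree _ (map_smul j)
  have hfx : Module.Free (X.presheaf.stalk x) (I.presheaf.stalk x) := Module.free_of_finite_type_torsion_free'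
  have hrx : Module.finrank (X.presheaf.stalk x) (I.presheaf.stalk x) ≤ 1 :=
    (LinearMap.finrank_le_finrank_of_injective hj).trans (Module.finrank_fin_fun _).le
  have hnt : Nontrivial (I.presheaf.stalk x) := by
    by_contra hn
    haveI := not_nontrivial_iff_subsingleton.1 hn
    obtain ⟨hm, -⟩ := quot_point_props hx
    haveI := (M2.shortExact_idealMod Z).epi_g
    have hm0 : maximalIdeal (X.presheaf.stalk x) = ⊥ := by
      refine (Submodule.eq_bot_iff _).2 fun r hr => ?_
      have h0 : stalkLin (ClSub.toSubscheme Z) x (r • e0.symm 1) = 0 := by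
        rw [map_smul]; exact hm r hr _
      obtain ⟨b, hb⟩ := (M1.exact_iff_stalk_eq_zero _).1 (M2.shortExact_idealMod Z).exact x (r • e0.symm 1) h0
      replace hb : stalkLin (ClSub.idealModι Z) x b = r • e0.symm 1 := hb
      rw [Subsingleton.elim (α := I.presheaf.stalk x) b 0, map_zero] at hb
      have h := congrArg (fun a => e0 a 0) hb
      simp only [map_zero, map_smul, LinearEquiv.apply_symm_apply, Pi.zero_apply, Pi.smul_apply, Pi.one_apply,
        smul_eq_mul, mul_one] at h
      exact h.symm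
    have hF : IsField (X.presheaf.stalk x) := IsLocalRing.isField_iff_maximalIdeal_eq.2 hm0
    rw [ringKrullDim_eq_zero_of_isField hF] at h1
    exact zero_ne_one h1
  have hfree : ∀ y, Module.Free (X.presheaf.stalk y) (I.presheaf.stalk y) ∧
      Module.finrank (X.presheaf.stalk y) (I.presheaf.stalk y) = 1 := fun y => by
    rcases eq_or_ne y x with rfl | hy
    · haveI := hfx
      haveI : Module.Finite (X.presheaf.stalk y) (I.presheaf.stalk y) := M1.finite_stalk hc.1 hc.2 y
      exact ⟨hfx, le_antisymm hrx (Module.finrank_pos (R := X.presheaf.stalk y))⟩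
    · obtain ⟨e⟩ := nonempty_stalk_equiv hO y
      let f := (LinearEquiv.ofBijective _ (hbij y hy)).trans e
      exact ⟨Module.Free.of_equiv f.symm, f.finrank_eq.trans (Module.finrank_fin_fun _)⟩
  have hlf : FlatMod.IsFinLocFree I := (M1.isFinLocFree_iff I).2 ⟨M1.isFP_of_isCoh hc, fun y => (hfree y).1⟩
  refine (M2.isInvertible_iff_isFinLocFreeOfRank_one _).2 fun y => ?_
  obtain ⟨U, n, hyU, ⟨e⟩⟩ := hlf y
  have hn := RankFree12.rk_of_freeMod hc.1 e hyU
  haveI := (hfree y).1
  rw [RankFree12.rk, Module.finrank_baseChange, (hfree y).2] at hn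
  subst hn
  exact ⟨U, hyU, ⟨e⟩⟩

variable [IsAlgClosed k] [IsProper (X ↘ Spec (CommRingCat.of k))] [AlgebraicGeometry.IsReduced X] [ConnectedSpace X]

/-- The complete linear system of a module of degree at least `2g + 1` on every subcurve. -/
theorem exists_closedImmersion_of_degVA (hdim : topologicalKrullDim X = 1) {L : X.Modules}
    (hL : PicF.IsInvertible L) (hD : CurveVA1.DegVA k L) :
    ∃ (n : ℕ) (i : X ⟶ CohB1.ProjSpace n k), IsClosedImmersion i ∧
      i ≫ CohB1.ProjSpace.toSpec n k = X ↘ Spec (CommRingCat.of k) ∧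
      Nonempty ((Scheme.Modules.pullback i).obj (_root_.Twist.twistProjSpace n k 1) ≅ L) := by
  classical
  let q := X ↘ Spec (CommRingCat.of k)
  have hX : CurveLike k X := CurveAmple18.curveLike k X hdim.le
  haveI := hX.noetherian
  have hL1 := (M2.isInvertible_iff_isFinLocFreeOfRank_one L).1 hL
  haveI := hX.fin L (CurveCoh17.isCoh_of_ofRank hL1) 0
  let bs := Module.finBasis k (Coh.HH X L 0)
  let σ : Fin (Module.finrank k (Coh.HH X L 0) + 1) → Γ(L, (⊤ : X.Opens)) :=
    Fin.cons 0 fun i => CurveCoh17.hh0 L (bs i)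
  let comb : (Fin (Module.finrank k (Coh.HH X L 0) + 1) → k) → Γ(L, (⊤ : X.Opens)) := fun c =>
    ∑ i, (show Γ(X, ⊤) from Coh.toGlobal q (c i)) • σ i
  have hcomb : ∀ t, ∃ c, comb c = t := fun t => by
    let co := bs.repr ((CurveCoh17.hh0 L).symm t)
    refine ⟨Fin.cons 0 fun i => co i, ?_⟩
    simp only [comb]
    rw [Fin.sum_univ_succ]
    simp only [Fin.cons_zero, Fin.cons_succ, map_zero, zero_smul, zero_add, σ]
    conv_rhs => rw [← (CurveCoh17.hh0 L).apply_symm_apply t, ← bs.sum_repr ((CurveCoh17.hh0 L).symm t), map_sum]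
    exact Finset.sum_congr rfl fun i _ => (CurveCoh17.hh0_smul _ _).symm
  have hgen : ProjUP.GeneratedBy L σ := by
    intro y
    have hle : ∀ t : Γ(L, (⊤ : X.Opens)), (L.presheaf.germ ⊤ y trivial t : L.presheaf.stalk y) ∈
        Submodule.span (X.presheaf.stalk y) (Set.range fun i => (L.presheaf.germ ⊤ y trivial).hom (σ i)) := fun t => by
      obtain ⟨c, rfl⟩ := hcomb t
      refine (map_sum (L.presheaf.germ ⊤ y trivial).hom _ _).symm ▸ Submodule.sum_mem _ fun i _ => ?_
      exact (M1.germ_smul L (U := (⊤ : X.Opens)) trivial _ (σ i)).symm ▸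
        Submodule.smul_mem _ _ (Submodule.subset_span ⟨i, rfl⟩)
    exact top_le_iff.1 (le_trans (CurveVA1.spanTop_of_degVA hdim hL hD y).ge
      (Submodule.span_le.2 (Set.range_subset_iff.2 hle)))
  obtain ⟨r, hr, τ, hτ⟩ := S3572.result _ q L hL σ hgen
  have hspan : ∀ t : Γ(L, (⊤ : X.Opens)), ∃ c, τ.hom.app ⊤ (Curve17.vSec q r c) = t := fun t => by
    obtain ⟨c, hc⟩ := hcomb t
    refine ⟨c, Eq.trans ?_ hc⟩
    refine (map_sum (τ.hom.app ⊤).hom _ _).trans ?_
    refine Finset.sum_congr rfl fun i _ => ?_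
    refine (Scheme.Modules.Hom.app_smul τ.hom _ _).trans ?_
    exact congrArg₂ (· • ·) rfl (hτ i)
  exact ⟨_, r, CurveVA1.isClosedImmersion_of_degVA hdim hL hD r hr τ hspan, hr, ⟨τ⟩⟩

include k in
/-- A regular closed point on a given component only. -/
theorem exists_point (hdim : topologicalKrullDim X = 1) {η : X} (hη : η ∈ genericPoints (X : Type u)) :
    ∃ x : X, IsClosed ({x} : Set X) ∧ IsRegularLocalRing (X.presheaf.stalk x) ∧ η ⤳ x ∧
      ∀ θ ∈ genericPoints (X : Type u), θ ⤳ x → θ = η := by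
  haveI := CohFound.isNoetherian_of_isProper (X ↘ Spec (CommRingCat.of k))
  let f := X ↘ Spec (CommRingCat.of k)
  haveI : JacobsonSpace X := LocallyOfFiniteType.jacobsonSpace f
  haveI : LocallyOfFinitePresentation f := VarDim.locallyOfFinitePresentation_of_locallyNoetherian f
  haveI : GeometricallyReduced f := AlgClosedExt25.geometricallyReduced_of_isReduced f
  have hfin : (genericPoints (X : Type u)).Finite := genericPoints.finite NoetherianSpace.finite_irreducibleComponents
  let U : X.Opens := ⟨(CurveH1Min27.span (genericPoints (X : Type u) \ {η}))ᶜ,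
    (CurveH1Min27.isClosed_span (hfin.subset Set.sdiff_subset)).isOpen_compl⟩
  have hηU : η ∈ U := fun h => ((CurveH1Min27.mem_span_iff Set.sdiff_subset hη).1 h).2 rfl
  obtain ⟨y, hy⟩ := f.dense_smoothLocus_of_perfectField.inter_open_nonempty _ U.2 ⟨η, hηU⟩
  let W := U ⊓ f.smoothLocus
  obtain ⟨x, ⟨hxU, hxs⟩, hx⟩ := nonempty_inter_closedPoints (Z := (W : Set X)) ⟨y, hy⟩ W.isOpen.isLocallyClosed
  have hall : ∀ θ ∈ genericPoints (X : Type u), θ ⤳ x → θ = η := fun θ hθ hs => by
    by_contra hne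
    exact hxU (Set.mem_iUnion₂.2 ⟨θ, ⟨hθ, hne⟩, specializes_iff_mem_closure.1 hs⟩)
  obtain ⟨θ, hθx, hθ⟩ := CurveCoh17.exists_maximal_generization x
  have hθg := TFOne27.mem_genericPoints.mpr hθ
  exact ⟨x, hx, GeomRed.isRegularLocalRing_of_mem_smoothLocus (k := k) hxs, hall θ hθg hθx ▸ hθx, hall⟩

/-- An effective divisor of regular points. -/
theorem exists_divisor (hdim : topologicalKrullDim X = 1) (s : Finset X)
    (hs : ∀ x ∈ s, IsClosed ({x} : Set X) ∧ IsRegularLocalRing (X.presheaf.stalk x)) :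
    ∃ L : X.Modules, PicF.IsInvertible L ∧ ∀ (T : Set X) (hT : IsClosed T), GenClosed T →
      TFOne27.delta k L 1 (TFOne27.OT T hT) = (((↑s : Set X) ∩ T).ncard : ℤ) := by
  classical
  haveI := CohFound.isNoetherian_of_isProper (X ↘ Spec (CommRingCat.of k))
  induction s using Finset.induction_on with
  | empty =>
    exact ⟨Coh.structureModule X, PicLoc.isInvertible_structureModule X, fun T hT _ => by
      rw [CurveH1Min27.delta_unit (k := k) hdim.le hT]; simp⟩
  | insert a s ha ih =>
    obtain ⟨L, hL, hLd⟩ := ih fun x hx => hs x (Finset.mem_insert_of_mem hx)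
    obtain ⟨hac, har⟩ := hs a (Finset.mem_insert_self a s)
    haveI := har
    have hI := isInvertible_pointIdeal hdim.le hac
      (Multicross5.dim_stalk_eq_one k (CurveH1Min27.components_dim_one k X hdim) hac)
    obtain ⟨N, hN, ⟨eN⟩⟩ := M2.exists_inverse hI
    refine ⟨CohB1.tensorMod L N, M2.isInvertible_tensor hL hN, fun T hT hg => ?_⟩
    have hN' : ClSub.IsInverseOf N (ClSub.idealMod (Scheme.IdealSheafData.vanishingIdeal ⟨{a}, hac⟩)) :=
      ⟨M2.tensorComm _ _ ≪≫ eN⟩
    rw [CurveH1Min27.delta_tensor hL hN hdim.le hT, hLd T hT hg,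
      PointedAmple1.delta_inverse (k := k) hdim hac (fun z hz => (Set.mem_singleton_iff.1 hz).symm ▸ hac) hN' hT hg]
    rw [Finset.coe_insert]
    by_cases haT : a ∈ T
    · rw [Set.insert_inter_of_mem haT, Set.ncard_insert_of_notMem (fun h => ha h.1) (s.finite_toSet.inter_of_left T),
        Set.inter_eq_left.2 (Set.singleton_subset_iff.2 haT), Set.ncard_singleton]
      push_cast; ring
    · rw [Set.insert_inter_of_notMem haT, Set.singleton_inter_eq_empty.2 haT, Set.ncard_empty]
      simp

/-- A very ample module of degree bounded by the genus and the number of components. -/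
theorem exists_bounded (hdim : topologicalKrullDim X = 1) {g e : ℕ}
    (he : (irreducibleComponents (X : Type u)).ncard ≤ e) (hg : Curv2.genus k X = g) :
    ∃ L : X.Modules, PicF.IsInvertible L ∧ Curv2.deg k X L 1 ≤ (((2 * g + 1) * e : ℕ) : ℤ) ∧
      Subsingleton (Coh.HH X L 1) ∧
        ∃ (m : ℕ) (i : X ⟶ CohB1.ProjSpace m k), IsClosedImmersion i ∧
          i ≫ CohB1.ProjSpace.toSpec m k = X ↘ Spec (CommRingCat.of k) ∧
          Nonempty ((Scheme.Modules.pullback i).obj (_root_.Twist.twistProjSpace m k 1) ≅ L) := by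
  classical
  haveI := CohFound.isNoetherian_of_isProper (X ↘ Spec (CommRingCat.of k))
  have hfin : (genericPoints (X : Type u)).Finite := genericPoints.finite NoetherianSpace.finite_irreducibleComponents
  choose pt hpc hpr hps hpu using fun η : genericPoints (X : Type u) => exists_point (k := k) hdim η.2
  haveI := hfin.fintype
  let s : Finset X := Finset.univ.image pt
  obtain ⟨P, hP, hPd⟩ := exists_divisor (k := k) hdim s fun x hx => by
    obtain ⟨η, -, rfl⟩ := Finset.mem_image.1 hx
    exact ⟨hpc η, hpr η⟩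
  let L := CohB1.tensorPow P (2 * g + 1)
  have hL : PicF.IsInvertible L := M2.isInvertible_tensorPow hP _
  have hd : ∀ (T : Set X) (hT : IsClosed T), GenClosed T →
      TFOne27.delta k L 1 (TFOne27.OT T hT) = ((2 * g + 1 : ℕ) : ℤ) * (((↑s : Set X) ∩ T).ncard : ℤ) :=
    fun T hT hTg => by rw [CurveH1Min27.degOn_pow hP hdim.le hT, hPd T hT hTg]
  have hD : CurveVA1.DegVA k L := fun T hT hc h1 => by
    have hTg := CurveH1Min27.genClosed_of_dim_one hdim.le hT hc h1
    rw [hd T hT hTg]
    obtain ⟨y⟩ := hc.toNonempty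
    obtain ⟨η, hη, hηT, -⟩ := hTg _ ((TFOne27.range_sub T hT).le ⟨y, rfl⟩)
    have hmem : pt ⟨η, hη⟩ ∈ (↑s : Set X) ∩ T :=
      ⟨Finset.mem_coe.2 (Finset.mem_image.2 ⟨_, Finset.mem_univ _, rfl⟩), (hps ⟨η, hη⟩).mem_closed hT hηT⟩
    have h2 : (1 : ℤ) ≤ (((↑s : Set X) ∩ T).ncard : ℤ) := by
      exact_mod_cast (Set.ncard_pos (s.finite_toSet.inter_of_left T)).2 ⟨_, hmem⟩
    have h3 : (CurveH1Min27.genusOn k (CurveH1Min27.vI T hT) : ℤ) ≤ g := by
      have h : CurveH1Min27.genusOn k (CurveH1Min27.vI T hT) ≤ Curv2.genus k X :=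
        CurveH1Min27.h1_OT_le hdim.le T hT
      exact_mod_cast h.trans hg.le
    have h4 := le_mul_of_one_le_right (Nat.cast_nonneg (2 * g + 1) : (0 : ℤ) ≤ ((2 * g + 1 : ℕ) : ℤ)) h2
    push_cast at h4 ⊢
    linarith
  refine ⟨L, hL, ?_, CurveVA1.subsingleton_h1_of_degVA hdim hL hD, exists_closedImmersion_of_degVA hdim hL hD⟩
  rw [← TFOne27.delta_univ (k := k) L 1, hd _ isClosed_univ fun z _ => ?_]
  · have hcard : s.card ≤ e := by
      refine Finset.card_image_le.trans (le_trans (le_of_eq ?_) he)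
      rw [Finset.card_univ, ← Nat.card_eq_fintype_card, Nat.card_coe_set_eq]
      refine Set.ncard_congr (fun η _ => closure {η}) (fun η hη => ?_) (fun a b ha hb h => ?_) (fun Z hZ => ?_)
      · exact hη
      · exact TFOne27.mem_genericPoints.mp hb a (specializes_iff_mem_closure.mpr (h ▸ subset_closure rfl))
      · obtain ⟨η, hη, hgen⟩ := TFOne27.exists_generic_of_component hZ
        exact ⟨η, hη, hgen⟩
    rw [Set.inter_univ, Set.ncard_coe_finset]
    exact_mod_cast Nat.mul_le_mul_left (2 * g + 1) hcard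
  · obtain ⟨η, hηz, hη⟩ := CurveCoh17.exists_maximal_generization z
    exact ⟨η, TFOne27.mem_genericPoints.mpr hη, trivial, hηz⟩

end Groth.Agent.UnifVA1
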