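import Groth.Agent.Lib.WeakNorm12.Basic
import Groth.Agent.Lib.Hens.Reduced
import Mathlib.RingTheory.Smooth.IntegralClosure
import Mathlib.RingTheory.Smooth.Flat
import Mathlib.RingTheory.LocalProperties.Reduced
import Mathlib.RingTheory.Localization.BaseChange
import Mathlib.RingTheory.Flat.Localization

/-! Weak subintegral closure commutes with localisation and étale base change. -/

set_option autoImplicit false
universe u

open TensorProduct CategoryTheory AlgebraicGeometry

namespace Groth.Agent.WeakNormBC3

theorem isReduced_baseChange {A A' R : Type u} [CommRing A] [CommRing A'] [CommRing R] [Algebra A A']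
    [Algebra A R] [_root_.IsReduced R] (h : (∃ M : Submonoid A, IsLocalization M A') ∨ Algebra.Etale A A') :
    _root_.IsReduced (A' ⊗[A] R) := by
  suffices _root_.IsReduced (R ⊗[A] A') by
    exact isReduced_of_injective (Algebra.TensorProduct.comm A A' R).toRingHom
      (Algebra.TensorProduct.comm A A' R).injective
  rcases h with ⟨M, hM⟩ | he
  · exact isReduced_localizationPreserves (Algebra.algebraMapSubmonoid R M) (R ⊗[A] A') inferInstance
  · exact Hens.isReduced_of_etale R (R ⊗[A] A')

theorem flat {A A' : Type u} [CommRing A] [CommRing A'] [Algebra A A']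
    (h : (∃ M : Submonoid A, IsLocalization M A') ∨ Algebra.Etale A A') : Module.Flat A A' := by
  rcases h with ⟨M, hM⟩ | he
  · exact IsLocalization.flat A' M
  · infer_instance

theorem toIntegralClosure_bijective {A B A' : Type u} [CommRing A] [CommRing B] [CommRing A'] [Algebra A B]
    [Algebra A A'] (h : (∃ M : Submonoid A, IsLocalization M A') ∨ Algebra.Etale A A') :
    Function.Bijective (TensorProduct.toIntegralClosure A A' B) := by
  rcases h with ⟨M, hM⟩ | he
  · exact TensorProduct.toIntegralClosure_bijective_of_isLocalization M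
  · exact TensorProduct.toIntegralClosure_bijective_of_smooth

/-- Points determined by the base land in the equaliser of two maps to a reduced ring. -/
theorem mem_range_ker {A A' Bi R W : Type u} [CommRing A] [CommRing A'] [CommRing Bi] [CommRing R] [CommRing W]
    [Algebra A A'] [Algebra A Bi] [Algebra A R] [Algebra A' W] [_root_.IsReduced R]
    (hA' : (∃ M : Submonoid A, IsLocalization M A') ∨ Algebra.Etale A A')
    (l r : Bi →ₐ[A] R) (y : W →ₐ[A'] A' ⊗[A] Bi) (hW : WeakNorm12.Pts A' W) (w : W) :
    ∃ z, (LinearMap.ker (l.toLinearMap - r.toLinearMap)).subtype.lTensor A' z = y w := by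
  haveI := flat hA'
  haveI : _root_.IsReduced (A' ⊗[A] R) := isReduced_baseChange hA'
  refine (Module.Flat.lTensor_exact A' (LinearMap.exact_subtype_ker_map _) _).1 ?_
  rw [LinearMap.lTensor_sub, LinearMap.sub_apply, sub_eq_zero]
  show Algebra.TensorProduct.map (AlgHom.id A' A') l (y w) = Algebra.TensorProduct.map (AlgHom.id A' A') r (y w)
  refine sub_eq_zero.1 (IsReduced.eq_zero _ (nilpotent_iff_mem_prime.2 fun P hP => ?_))
  haveI := hP
  refine Ideal.algebraMap_residueField_eq_zero.1 ?_
  rw [map_sub, sub_eq_zero]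
  exact RingHom.congr_fun (hW P.ResidueField
    ((algebraMap _ P.ResidueField).comp ((Algebra.TensorProduct.map (AlgHom.id A' A') l).comp y).toRingHom)
    ((algebraMap _ P.ResidueField).comp ((Algebra.TensorProduct.map (AlgHom.id A' A') r).comp y).toRingHom)
    (RingHom.ext fun a => congrArg (algebraMap _ P.ResidueField)
      ((AlgHom.commutes _ a).trans (AlgHom.commutes _ a).symm))) w

/-- Points determined by the base come from the weak normalisation. -/
theorem mem_range_map {A A' Bi B W : Type u} [CommRing A] [CommRing A'] [CommRing Bi] [CommRing B] [CommRing W]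
    [Algebra A A'] [Algebra A Bi] [Algebra A B] [Algebra A' W]
    (hA' : (∃ M : Submonoid A, IsLocalization M A') ∨ Algebra.Etale A A')
    (ι : Bi →ₐ[A] B) (C : Subalgebra A B) (hwn : (UnivHomeoRing26.wn A Bi).map ι ≤ C)
    (y : W →ₐ[A'] A' ⊗[A] Bi) (hW : WeakNorm12.Pts A' W) (w : W) :
    Algebra.TensorProduct.map (AlgHom.id A' A') ι (y w) ∈
      (Algebra.TensorProduct.map (AlgHom.id A' A') C.val).range := by
  let R := (Bi ⊗[A] Bi) ⧸ nilradical (Bi ⊗[A] Bi)
  haveI : _root_.IsReduced R := (Ideal.isRadical_iff_quotient_reduced _).1 (Ideal.radical_isRadical _)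
  let l : Bi →ₐ[A] R := (Ideal.Quotient.mkₐ A _).comp Algebra.TensorProduct.includeLeft
  let r : Bi →ₐ[A] R := (Ideal.Quotient.mkₐ A _).comp Algebra.TensorProduct.includeRight
  obtain ⟨z, hz⟩ := mem_range_ker (R := R) hA' l r y hW w
  have hker : ∀ b : LinearMap.ker (l.toLinearMap - r.toLinearMap), ι b ∈ C := by
    intro b
    refine hwn ⟨b.1, UnivHomeoRing26.mem_wn.2 ?_, rfl⟩
    rw [← mem_nilradical, ← Ideal.Quotient.eq_zero_iff_mem, map_sub]
    exact b.2
  let κ : LinearMap.ker (l.toLinearMap - r.toLinearMap) →ₗ[A] C :=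
    (ι.toLinearMap ∘ₗ (LinearMap.ker (l.toLinearMap - r.toLinearMap)).subtype).codRestrict C.toSubmodule hker
  refine ⟨κ.lTensor A' z, ?_⟩
  rw [← hz]
  clear hz
  induction z with
  | zero => simp
  | add a b ha hb => simp only [map_add, ha, hb]
  | tmul a b => rfl

theorem coe_eq_range {A B A' : Type u} [CommRing A] [CommRing B] [CommRing A'] [Algebra A B] [Algebra A A']
    (hinj : Function.Injective (algebraMap A B))
    (hA' : (∃ M : Submonoid A, IsLocalization M A') ∨ Algebra.Etale A A')
    (C : Subalgebra A B) (hC : FlatMor.IsUnivHomeo (Spec.map (CommRingCat.ofHom (algebraMap A C))))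
    (hmax : ∀ D : Subalgebra A B, FlatMor.IsUnivHomeo (Spec.map (CommRingCat.ofHom (algebraMap A D))) → D ≤ C)
    (C' : Subalgebra A' (A' ⊗[A] B))
    (hC' : FlatMor.IsUnivHomeo (Spec.map (CommRingCat.ofHom (algebraMap A' C'))))
    (hmax' : ∀ D : Subalgebra A' (A' ⊗[A] B),
      FlatMor.IsUnivHomeo (Spec.map (CommRingCat.ofHom (algebraMap A' D))) → D ≤ C') :
    (C' : Set (A' ⊗[A] B)) = Set.range (Algebra.TensorProduct.map (AlgHom.id A A') C.val) := by
  haveI := flat hA'
  let ψ : A' ⊗[A] C →ₐ[A'] A' ⊗[A] B := Algebra.TensorProduct.map (AlgHom.id A' A') C.val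
  have hψ : Function.Injective ψ :=
    Module.Flat.lTensor_preserves_injective_linearMap (M := A') C.val.toLinearMap Subtype.val_injective
  suffices C' = ψ.range by rw [this]; rfl
  haveI : Algebra.IsIntegral A C := ⟨UnivHomeoRing26.isIntegral_of hC⟩
  refine le_antisymm ?_ (hmax' _ ?_)
  · haveI : IsDominant (Spec.map (CommRingCat.ofHom (algebraMap A B))) := by
      refine ⟨(PrimeSpectrum.denseRange_comap_iff_ker_le_nilRadical (algebraMap A B)).2 ?_⟩
      rw [(RingHom.injective_iff_ker_eq_bot _).1 hinj]
      exact bot_le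
    have hwn : (UnivHomeoRing26.wn A (integralClosure A B)).map (integralClosure A B).val ≤ C :=
      hmax _ (WeakNorm12.isUnivHomeo_map _ le_rfl)
    obtain ⟨g, hg⟩ := WeakNorm12.exists_factor C'.val hC'
    let e := AlgEquiv.ofBijective _ (toIntegralClosure_bijective (B := B) hA')
    intro x hx
    have h := mem_range_map hA' (integralClosure A B).val C hwn (e.symm.toAlgHom.comp g)
      (WeakNorm12.pts_of_univHomeo hC') ⟨x, hx⟩
    have h2 : Algebra.TensorProduct.map (AlgHom.id A' A') (integralClosure A B).val (e.symm (g ⟨x, hx⟩)) = x :=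
      (congrArg Subtype.val (e.apply_symm_apply (g ⟨x, hx⟩))).trans (AlgHom.congr_fun hg ⟨x, hx⟩)
    exact h2 ▸ h
  · let E : A' ⊗[A] C ≃ₐ[A'] ψ.range := AlgEquiv.ofInjective ψ hψ
    haveI : Algebra.IsIntegral A' (A' ⊗[A] C) := Algebra.IsIntegral.tensorProduct ..
    haveI : Algebra.IsIntegral A' ψ.range := Algebra.IsIntegral.of_surjective E.toAlgHom E.surjective
    refine WeakNorm12.isUnivHomeo_of_pts (WeakNorm12.pts_of_equiv E fun L _ g g' hgg' => ?_) ?_
    · have hC0 := WeakNorm12.pts_of_univHomeo hC L (g.comp Algebra.TensorProduct.includeRight.toRingHom)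
        (g'.comp Algebra.TensorProduct.includeRight.toRingHom) (RingHom.ext fun a => by
          show g ((1 : A') ⊗ₜ[A] algebraMap A C a) = g' ((1 : A') ⊗ₜ[A] algebraMap A C a)
          rw [Algebra.algebraMap_eq_smul_one, TensorProduct.tmul_smul, TensorProduct.smul_tmul']
          exact RingHom.congr_fun hgg' (a • (1 : A')))
      refine RingHom.ext fun w => ?_
      induction w with
      | zero => simp
      | add a b ha hb => simp only [map_add, ha, hb]
      | tmul a c =>
        rw [show a ⊗ₜ[A] c = (a ⊗ₜ[A] (1 : C)) * ((1 : A') ⊗ₜ[A] c) by simp, map_mul, map_mul]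
        exact congrArg₂ (· * ·) (RingHom.congr_fun hgg' a) (RingHom.congr_fun hC0 c)
    · intro a ha
      have h0 : ψ (a ⊗ₜ[A] (1 : C)) = 0 := congrArg Subtype.val (RingHom.mem_ker.1 ha)
      have h1 : Function.Injective ((Algebra.linearMap A C).lTensor A') :=
        Module.Flat.lTensor_preserves_injective_linearMap (M := A') _
          (fun p q hpq => hinj (congrArg Subtype.val hpq))
      have h2 : a ⊗ₜ[A] (1 : A) = 0 := h1 (by
        rw [map_zero, LinearMap.lTensor_tmul, Algebra.linearMap_apply, map_one]
        exact hψ (h0.trans (map_zero ψ).symm))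
      have h3 := congrArg (TensorProduct.rid A A') h2
      rw [TensorProduct.rid_tmul, one_smul, map_zero] at h3
      rw [h3]
      exact zero_mem _

end Groth.Agent.WeakNormBC3
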